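import Mathlib
import Cfsg.Prelude.Def_ConjugacyFunctors
import Cfsg.Agent.Lib.Helper29.GroupFusion

set_option autoImplicit false

namespace Cfsg.Agent.Lib.Helper1

open Cfsg.Agent.Lib.Helper29

variable {G : Type*} [Group G]

/-- Right conjugation of a set: `A ↦ g⁻¹ A g`. -/
def rcs (g : G) (A : Set G) : Set G := (fun a => g⁻¹ * a * g) '' A

theorem rcs_one (A : Set G) : rcs 1 A = A := by
  unfold rcs; simp

theorem rcs_mul (g h : G) (A : Set G) : rcs (g * h) A = rcs h (rcs g A) := by
  unfold rcs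
  rw [Set.image_image]
  congr 1
  funext a
  group

theorem rcs_mono (g : G) {A B : Set G} (h : A ⊆ B) : rcs g A ⊆ rcs g B := Set.image_mono h

theorem rcs_inv_rcs (g : G) (A : Set G) : rcs g⁻¹ (rcs g A) = A := by
  rw [← rcs_mul, mul_inv_cancel, rcs_one]

theorem rcs_coe (g : G) (T : Subgroup G) : rcs g (T : Set G) = ((cj g⁻¹ T : Subgroup G) : Set G) := by
  unfold rcs
  ext x
  simp only [Set.mem_image, SetLike.mem_coe, Subgroup.mem_map, MulEquiv.coe_toMonoidHom,
    MulAut.conj_apply, inv_inv]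

/-- Chains of conjugations inside normalizers of members of `𝓕`. -/
inductive FChain (𝓕 : Set (Subgroup G)) : Set G → G → Prop
  | nil (A : Set G) : FChain 𝓕 A 1
  | cons (A : Set G) (T : Subgroup G) (x g : G) (hT : T ∈ 𝓕)
      (hx : x ∈ Subgroup.normalizer (T : Set G)) (hA : A ⊆ (T : Set G))
      (h : FChain 𝓕 (rcs x A) g) : FChain 𝓕 A (x * g)

theorem FChain.mono {𝓕 : Set (Subgroup G)} {A : Set G} {g : G} (h : FChain 𝓕 A g) :
    ∀ B : Set G, B ⊆ A → FChain 𝓕 B g := by
  induction h with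
  | nil A => intro B _; exact FChain.nil B
  | cons A T x g hT hx hA _ ih =>
    intro B hB
    exact FChain.cons B T x g hT hx (hB.trans hA) (ih _ (rcs_mono x hB))

theorem FChain.trans {𝓕 : Set (Subgroup G)} {A : Set G} {g : G} (h : FChain 𝓕 A g) :
    ∀ k : G, FChain 𝓕 (rcs g A) k → FChain 𝓕 A (g * k) := by
  induction h with
  | nil A => intro k hk; rw [rcs_one] at hk; rwa [one_mul]
  | cons A T x g hT hx hA _ ih =>
    intro k hk
    rw [rcs_mul] at hk
    rw [mul_assoc]
    exact FChain.cons A T x (g * k) hT hx hA (ih k hk)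

theorem FChain.single {𝓕 : Set (Subgroup G)} {A : Set G} {T : Subgroup G} {x : G} (hT : T ∈ 𝓕)
    (hx : x ∈ Subgroup.normalizer (T : Set G)) (hA : A ⊆ (T : Set G)) : FChain 𝓕 A x := by
  have := FChain.cons A T x 1 hT hx hA (FChain.nil _)
  rwa [mul_one] at this

theorem rcs_subset_of_mem_normalizer {A : Set G} {T : Subgroup G} {x : G}
    (hx : x ∈ Subgroup.normalizer (T : Set G)) (hA : A ⊆ (T : Set G)) : rcs x A ⊆ (T : Set G) := by
  rintro _ ⟨a, ha, rfl⟩
  have := (Subgroup.mem_normalizer_iff.mp (inv_mem hx) a).mp (hA ha)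
  simpa using this

theorem FChain.symm {𝓕 : Set (Subgroup G)} {A : Set G} {g : G} (h : FChain 𝓕 A g) :
    FChain 𝓕 (rcs g A) g⁻¹ := by
  induction h with
  | nil A => rw [inv_one]; exact FChain.nil _
  | cons A T x g hT hx hA _ ih =>
    rw [mul_inv_rev, rcs_mul]
    apply FChain.trans ih
    rw [rcs_inv_rcs]
    exact FChain.single hT (inv_mem hx) (rcs_subset_of_mem_normalizer hx hA)

/-- Unpacking a chain into the data required by `Cfsg.IsConjugationFamily`. -/
theorem FChain.exists_data {𝓕 : Set (Subgroup G)} {A : Set G} {g : G} (h : FChain 𝓕 A g) :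
    ∃ (n : ℕ) (T : Fin n → Subgroup G) (x : Fin n → G), (List.ofFn x).prod = g ∧
      (∀ i, T i ∈ 𝓕) ∧ (∀ i, x i ∈ Subgroup.normalizer ((T i : Subgroup G) : Set G)) ∧
      (∀ h : 0 < n, A ⊆ T ⟨0, h⟩) ∧
      ∀ (i : Fin n) (h : i.val + 1 < n),
        (fun a => (((List.ofFn x).take (i.val + 1)).prod)⁻¹ * a *
          ((List.ofFn x).take (i.val + 1)).prod) '' A ⊆ T ⟨i.val + 1, h⟩ := by
  induction h with
  | nil A =>
    refine ⟨0, Fin.elim0, Fin.elim0, by simp, fun i => i.elim0, fun i => i.elim0,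
      fun h => absurd h (lt_irrefl 0), fun i => i.elim0⟩
  | cons A T₀ x₀ g hT hx hA _ ih =>
    obtain ⟨n, T, x, hprod, hTF, hxN, h0, hstep⟩ := ih
    refine ⟨n + 1, Fin.cons T₀ T, Fin.cons x₀ x, ?_, ?_, ?_, ?_, ?_⟩
    · rw [List.ofFn_cons, List.prod_cons, hprod]
    · intro i
      refine Fin.cases ?_ (fun j => ?_) i
      · simpa using hT
      · simpa using hTF j
    · intro i
      refine Fin.cases ?_ (fun j => ?_) i
      · simpa using hx
      · simpa using hxN j
    · intro _
      have : (⟨0, by omega⟩ : Fin (n + 1)) = 0 := rfl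
      rw [this, Fin.cons_zero]
      exact hA
    · intro i hi
      have hlt : i.val < n := by omega
      have hT' : (Fin.cons T₀ T : Fin (n + 1) → Subgroup G) ⟨i.val + 1, hi⟩ = T ⟨i.val, hlt⟩ := by
        have : (⟨i.val + 1, hi⟩ : Fin (n + 1)) = Fin.succ ⟨i.val, hlt⟩ := rfl
        rw [this, Fin.cons_succ]
      rw [hT', List.ofFn_cons, List.take_succ_cons, List.prod_cons]
      have himg : (fun a => (x₀ * ((List.ofFn x).take i.val).prod)⁻¹ * a *
          (x₀ * ((List.ofFn x).take i.val).prod)) '' A =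
          (fun a => (((List.ofFn x).take i.val).prod)⁻¹ * a *
            ((List.ofFn x).take i.val).prod) '' (rcs x₀ A) := by
        unfold rcs
        rw [Set.image_image]
        congr 1
        funext a
        group
      rw [himg]
      rcases Nat.eq_zero_or_pos i.val with hz | hpos
      · have h1 := h0 (by omega)
        have e : (⟨i.val, hlt⟩ : Fin n) = ⟨0, by omega⟩ := Fin.ext hz
        rw [e]
        rw [hz, List.take_zero, List.prod_nil]
        simpa using h1
      · obtain ⟨j, hj⟩ : ∃ j, i.val = j + 1 := ⟨i.val - 1, by omega⟩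
        have h1 := hstep ⟨j, by omega⟩ (by simp; omega)
        have e : (⟨i.val, hlt⟩ : Fin n) = ⟨j + 1, by omega⟩ := Fin.ext hj
        rw [e, hj]
        exact h1

end Cfsg.Agent.Lib.Helper1
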