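import Mathlib
import Cfsg.Agent.Lib.Helper1.ConjFamily

set_option autoImplicit false

namespace Cfsg.Agent.Lib.Helper1

open Cfsg.Agent.Lib.Helper29

variable {G : Type*} [Group G]

theorem isSylowSub_of_not_dvd_relIndex [Finite G] {p : ℕ} [Fact p.Prime] {H K : Subgroup G}
    (hHK : H ≤ K) (hp : IsPGroup p H) (h : ¬ p ∣ H.relIndex K) : IsSylowSub p H K := by
  have hp' : IsPGroup p (H.subgroupOf K) := (isPGroup_subgroupOf_iff_of_le hHK).2 hp
  exact ⟨hp'.toSylow h, IsPGroup.toSylow_coe hp' h⟩

/-- In a finite `p`-group `S`, a proper subgroup is properly contained in its normalizer. -/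
theorem lt_inf_normalizer_of_lt [Finite G] {p : ℕ} [Fact p.Prime] {S T : Subgroup G}
    (hS : IsPGroup p S) (hlt : T < S) : T < S ⊓ Subgroup.normalizer (T : Set G) := by
  have hnil : Group.IsNilpotent S := hS.isNilpotent
  have hlt' : T.subgroupOf S < ⊤ := by
    rw [lt_top_iff_ne_top]
    intro h
    exact hlt.not_ge (Subgroup.subgroupOf_eq_top.mp h)
  have hnc := Group.normalizerCondition_of_isNilpotent (G := S) _ hlt'
  rw [← Subgroup.subgroupOf_normalizer_eq hlt.le] at hnc
  obtain ⟨y, hyN, hyT⟩ := SetLike.exists_of_lt hnc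
  refine lt_of_le_of_ne (le_inf hlt.le Subgroup.le_normalizer) ?_
  intro heq
  apply hyT
  rw [Subgroup.mem_subgroupOf] at hyN ⊢
  rw [heq]
  exact ⟨y.2, hyN⟩

/-- Sublemma: if `R ≤ S` is conjugate to `U` and `N_S(U)` is Sylow in `N_G(U)`, the conjugating
element can be chosen to carry `N_S(R)` into `N_S(U)`. -/
theorem exists_cj_normalizer_le [Finite G] {p : ℕ} [Fact p.Prime] (S : Sylow p G)
    (R U : Subgroup G) (c : G) (hc : cj c R = U)
    (hU : ¬ p ∣ ((S : Subgroup G) ⊓ Subgroup.normalizer ((U : Subgroup G) : Set G)).relIndex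
      (Subgroup.normalizer ((U : Subgroup G) : Set G))) :
    ∃ c' : G, cj c' R = U ∧
      cj c' ((S : Subgroup G) ⊓ Subgroup.normalizer (R : Set G)) ≤
        (S : Subgroup G) ⊓ Subgroup.normalizer (U : Set G) := by
  have hpS : IsPGroup p ((S : Subgroup G) ⊓ Subgroup.normalizer (U : Set G) : Subgroup G) :=
    S.isPGroup'.to_le inf_le_left
  have hsyl : IsSylowSub p ((S : Subgroup G) ⊓ Subgroup.normalizer (U : Set G))
      (Subgroup.normalizer (U : Set G)) :=
    isSylowSub_of_not_dvd_relIndex inf_le_right hpS hU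
  set Q := cj c ((S : Subgroup G) ⊓ Subgroup.normalizer (R : Set G)) with hQ
  have hQp : IsPGroup p Q := isPGroup_cj (S.isPGroup'.to_le inf_le_left)
  have hQN : Q ≤ Subgroup.normalizer (U : Set G) := by
    rw [hQ, cj_inf, ← hc, ← cj_normalizer]
    exact inf_le_right
  obtain ⟨m, hm, hmQ⟩ := exists_cj_le_of_isSylowSub hsyl hQN hQp
  refine ⟨m * c, ?_, ?_⟩
  · rw [← cj_cj, hc]
    ext x
    rw [mem_cj]
    have := (Subgroup.mem_normalizer_iff.mp (inv_mem hm) x)
    rw [inv_inv] at this
    exact this.symm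
  · rw [← cj_cj]
    exact hmQ

/-- The Alperin–Goldschmidt conjugation family criterion, in chain form. -/
theorem alperin_goldschmidt_chain [Finite G] {p : ℕ} [Fact p.Prime] (S : Sylow p G)
    (𝓕 : Set (Subgroup G)) (h𝓕 : ∀ U ∈ 𝓕, U ≤ (S : Subgroup G))
    (h : ∀ T : Subgroup G, T ≤ (S : Subgroup G) → ∃ U ∈ 𝓕,
      (∃ g : G, T.map (MulAut.conj g).toMonoidHom = U) ∧
      ¬ p ∣ ((S : Subgroup G) ⊓ Subgroup.normalizer ((U : Subgroup G) : Set G)).relIndex
        (Subgroup.normalizer ((U : Subgroup G) : Set G))) :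
    ∀ (k : ℕ) (T : Subgroup G), T ≤ (S : Subgroup G) → Nat.card S - Nat.card T = k →
      ∀ g : G, cj g⁻¹ T ≤ (S : Subgroup G) → FChain 𝓕 (T : Set G) g := by
  intro k
  induction k using Nat.strong_induction_on with
  | _ k ih =>
    intro T hTS hk g hg
    have hcardT : Nat.card T ≤ Nat.card S := Subgroup.card_le_of_le hTS
    by_cases hTeq : T = (S : Subgroup G)
    · -- `T = S`
      have hSmem : (S : Subgroup G) ∈ 𝓕 := by
        obtain ⟨U, hU, ⟨g₀, hg₀⟩, -⟩ := h S le_rfl
        have hUS := h𝓕 U hU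
        have hcard : Nat.card U = Nat.card S := by
          rw [← hg₀]; exact card_cj g₀ _
        have : U = (S : Subgroup G) := Subgroup.eq_of_le_of_card_ge hUS hcard.ge
        rwa [this] at hU
      have hgN : g ∈ Subgroup.normalizer ((S : Subgroup G) : Set G) := by
        have heq : cj g⁻¹ (S : Subgroup G) = S := by
          apply Subgroup.eq_of_le_of_card_ge (hTeq ▸ hg)
          rw [card_cj]
        have hinv : g⁻¹ ∈ Subgroup.normalizer ((S : Subgroup G) : Set G) := by
          rw [Subgroup.mem_normalizer_iff]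
          intro x
          constructor
          · intro hx
            rw [← heq]
            exact ⟨x, hx, rfl⟩
          · intro hx
            rw [← heq] at hx
            obtain ⟨y, hy, hyx⟩ := hx
            have : y = x := by
              have h1 : g⁻¹ * y * g⁻¹⁻¹ = g⁻¹ * x * g⁻¹⁻¹ := hyx
              have h2 := congrArg (fun z => g * z * g⁻¹) h1
              simpa [mul_assoc] using h2
            rw [← this]; exact hy
        simpa using inv_mem hinv
      rw [hTeq]
      exact FChain.single hSmem hgN (le_refl _)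
    · -- `T < S`
      have hlt : T < (S : Subgroup G) := lt_of_le_of_ne hTS hTeq
      obtain ⟨U, hU, ⟨g₀, hg₀⟩, hUsyl⟩ := h T hTS
      have hUS := h𝓕 U hU
      -- first conjugation
      obtain ⟨c₁, hc₁U, hc₁N⟩ := exists_cj_normalizer_le S T U g₀ hg₀ hUsyl
      -- second conjugation, for `T^g`
      set Tg := cj g⁻¹ T with hTg
      have hg₀g : cj (g₀ * g) Tg = U := by
        rw [hTg, cj_cj, mul_assoc, mul_inv_cancel, mul_one]; exact hg₀
      obtain ⟨c₂, hc₂U, hc₂N⟩ := exists_cj_normalizer_le S Tg U (g₀ * g) hg₀g hUsyl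
      have hTglt : Tg < (S : Subgroup G) := by
        refine lt_of_le_of_ne hg ?_
        intro heq
        have : Nat.card T = Nat.card S := by rw [← card_cj g⁻¹ T, ← hTg, heq]
        exact hTeq (Subgroup.eq_of_le_of_card_ge hTS this.ge)
      -- normalizers grow
      have hN1 := lt_inf_normalizer_of_lt S.isPGroup' hlt
      have hN2 := lt_inf_normalizer_of_lt S.isPGroup' hTglt
      have hcard1 : Nat.card T < Nat.card ((S : Subgroup G) ⊓ Subgroup.normalizer (T : Set G) : Subgroup G) := by
        by_contra hcon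
        exact hN1.ne (Subgroup.eq_of_le_of_card_ge hN1.le (not_lt.mp hcon))
      have hcard2 : Nat.card T < Nat.card ((S : Subgroup G) ⊓ Subgroup.normalizer (Tg : Set G) : Subgroup G) := by
        have e : Nat.card Tg = Nat.card T := card_cj g⁻¹ T
        rw [← e]
        by_contra hcon
        exact hN2.ne (Subgroup.eq_of_le_of_card_ge hN2.le (not_lt.mp hcon))
      have hle1 : Nat.card ((S : Subgroup G) ⊓ Subgroup.normalizer (T : Set G) : Subgroup G) ≤ Nat.card S :=
        Subgroup.card_le_of_le inf_le_left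
      have hle2 : Nat.card ((S : Subgroup G) ⊓ Subgroup.normalizer (Tg : Set G) : Subgroup G) ≤ Nat.card S :=
        Subgroup.card_le_of_le inf_le_left
      -- chains from the induction hypothesis
      have ch1 : FChain 𝓕 (T : Set G) c₁⁻¹ := by
        have := ih (Nat.card S - Nat.card ((S : Subgroup G) ⊓ Subgroup.normalizer (T : Set G) : Subgroup G))
          (by omega) _ inf_le_left rfl c₁⁻¹ (by rw [inv_inv]; exact hc₁N.trans inf_le_left)
        exact this.mono _ (SetLike.coe_subset_coe.mpr hN1.le)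
      have ch2 : FChain 𝓕 (Tg : Set G) c₂⁻¹ := by
        have := ih (Nat.card S - Nat.card ((S : Subgroup G) ⊓ Subgroup.normalizer (Tg : Set G) : Subgroup G))
          (by omega) _ inf_le_left rfl c₂⁻¹ (by rw [inv_inv]; exact hc₂N.trans inf_le_left)
        exact this.mono _ (SetLike.coe_subset_coe.mpr hN2.le)
      have ch2' : FChain 𝓕 (U : Set G) c₂ := by
        have := ch2.symm
        rw [rcs_coe, inv_inv, hc₂U] at this
        exact this
      -- the middle step
      set m := c₁ * g * c₂⁻¹ with hm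
      have hmU : cj m⁻¹ U = U := by
        have : m⁻¹ = c₂ * (g⁻¹ * c₁⁻¹) := by rw [hm]; group
        rw [this, ← cj_cj, ← cj_cj, ← hc₁U, cj_inv_cj, ← hTg, hc₂U, hc₁U]
      have hmN : m ∈ Subgroup.normalizer (U : Set G) := by
        have hinv : m⁻¹ ∈ Subgroup.normalizer (U : Set G) := by
          rw [Subgroup.mem_normalizer_iff]
          intro x
          constructor
          · intro hx
            rw [← hmU]
            exact ⟨x, hx, rfl⟩
          · intro hx
            rw [← hmU] at hx
            obtain ⟨y, hy, hyx⟩ := hx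
            have : y = x := by
              have h1 : m⁻¹ * y * m⁻¹⁻¹ = m⁻¹ * x * m⁻¹⁻¹ := hyx
              have h2 := congrArg (fun z => m * z * m⁻¹) h1
              simpa [mul_assoc] using h2
            rw [← this]; exact hy
        simpa using inv_mem hinv
      have chm : FChain 𝓕 (U : Set G) m := FChain.single hU hmN (le_refl _)
      have e1 : rcs c₁⁻¹ (T : Set G) = (U : Set G) := by rw [rcs_coe, inv_inv, hc₁U]
      have e2 : rcs m (U : Set G) = (U : Set G) := by rw [rcs_coe, hmU]
      have ch12 : FChain 𝓕 (T : Set G) (c₁⁻¹ * m) := ch1.trans m (e1 ▸ chm)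
      have e3 : rcs (c₁⁻¹ * m) (T : Set G) = (U : Set G) := by rw [rcs_mul, e1, e2]
      have ch123 : FChain 𝓕 (T : Set G) (c₁⁻¹ * m * c₂) := ch12.trans c₂ (e3 ▸ ch2')
      have : c₁⁻¹ * m * c₂ = g := by rw [hm]; group
      rwa [this] at ch123

end Cfsg.Agent.Lib.Helper1
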