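import Mathlib

set_option autoImplicit false

namespace Cfsg.Agent.Lib.Helper1

section

variable {G : Type*} [Group G]

theorem card_eq_card_inf_mul_relIndex [Finite G] (H K : Subgroup G) :
    Nat.card H = Nat.card (H ⊓ K : Subgroup G) * K.relIndex H := by
  have h1 := Subgroup.card_mul_index (K.subgroupOf H)
  have h2 : Nat.card (K.subgroupOf H) = Nat.card (H ⊓ K : Subgroup G) := by
    rw [← Subgroup.inf_subgroupOf_left K H]
    exact Nat.card_congr (Subgroup.subgroupOfEquivOfLe (inf_le_left : H ⊓ K ≤ H)).toEquiv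
  rw [← h1, h2]
  rfl

theorem card_eq_card_mul_relIndex_of_le [Finite G] {K L : Subgroup G} (h : K ≤ L) :
    Nat.card L = Nat.card K * K.relIndex L := by
  have := card_eq_card_inf_mul_relIndex L K
  rwa [inf_eq_right.mpr h] at this

/-- Product inequality `|H| |K| ≤ |H ⊓ K| |H ⊔ K|`. -/
theorem card_mul_card_le [Finite G] (H K : Subgroup G) :
    Nat.card H * Nat.card K ≤ Nat.card (H ⊓ K : Subgroup G) * Nat.card (H ⊔ K : Subgroup G) := by
  have a := card_eq_card_inf_mul_relIndex H K
  have b := card_eq_card_mul_relIndex_of_le (le_sup_right : K ≤ H ⊔ K)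
  have hne : K.relIndex (H ⊔ K) ≠ 0 := by
    intro h0
    rw [h0, mul_zero] at b
    exact (Nat.card_pos (α := (H ⊔ K : Subgroup G))).ne' b
  have c : K.relIndex H ≤ K.relIndex (H ⊔ K) := Subgroup.relIndex_le_of_le_right le_sup_left hne
  calc Nat.card H * Nat.card K
      = Nat.card (H ⊓ K : Subgroup G) * K.relIndex H * Nat.card K := by rw [← a]
    _ ≤ Nat.card (H ⊓ K : Subgroup G) * K.relIndex (H ⊔ K) * Nat.card K :=
        Nat.mul_le_mul_right _ (Nat.mul_le_mul_left _ c)
    _ = Nat.card (H ⊓ K : Subgroup G) * Nat.card (H ⊔ K : Subgroup G) := by rw [b]; ring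

/-- Equality in the product inequality forces `H ⊔ K = H K`. -/
theorem exists_mul_of_card_mul_card_eq [Finite G] (H K : Subgroup G)
    (heq : Nat.card H * Nat.card K =
      Nat.card (H ⊓ K : Subgroup G) * Nat.card (H ⊔ K : Subgroup G)) :
    ∀ x ∈ H ⊔ K, ∃ h ∈ H, ∃ k ∈ K, x = h * k := by
  have a := card_eq_card_inf_mul_relIndex H K
  have b := card_eq_card_mul_relIndex_of_le (le_sup_right : K ≤ H ⊔ K)
  have hrel : K.relIndex H = K.relIndex (H ⊔ K) := by
    have h1 : Nat.card (H ⊓ K : Subgroup G) * K.relIndex H * Nat.card K =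
        Nat.card (H ⊓ K : Subgroup G) * K.relIndex (H ⊔ K) * Nat.card K := by
      rw [← a, heq, b]; ring
    have hp1 : 0 < Nat.card (H ⊓ K : Subgroup G) := Nat.card_pos
    have hp2 : 0 < Nat.card K := Nat.card_pos
    have h2 := Nat.eq_of_mul_eq_mul_right hp2 h1
    exact Nat.eq_of_mul_eq_mul_left hp1 h2
  set ι := Subgroup.quotientSubgroupOfEmbeddingOfLE K (le_sup_left : H ≤ H ⊔ K) with hι
  have hsurj : Function.Surjective ι := by
    have hfin : Finite ((H ⊔ K : Subgroup G) ⧸ K.subgroupOf (H ⊔ K)) := inferInstance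
    have hc : Nat.card ((H ⊔ K : Subgroup G) ⧸ K.subgroupOf (H ⊔ K)) ≤
        Nat.card (H ⧸ K.subgroupOf H) := by
      change K.relIndex (H ⊔ K) ≤ K.relIndex H
      rw [hrel]
    exact (ι.injective.bijective_of_nat_card_le hc).surjective
  intro x hx
  obtain ⟨q, hq⟩ := hsurj (QuotientGroup.mk (⟨x, hx⟩ : (H ⊔ K : Subgroup G)))
  obtain ⟨h, rfl⟩ := QuotientGroup.mk_surjective q
  rw [hι, Subgroup.quotientSubgroupOfEmbeddingOfLE_apply_mk, QuotientGroup.eq] at hq
  rw [Subgroup.mem_subgroupOf] at hq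
  refine ⟨(h : G), h.2, _, hq, ?_⟩
  simp

/-- The Chermak–Delgado measure `|H| |C_G(H)|`. -/
noncomputable def cdMeasure (H : Subgroup G) : ℕ :=
  Nat.card H * Nat.card (Subgroup.centralizer (H : Set G))

theorem centralizer_sup_eq (H K : Subgroup G) :
    Subgroup.centralizer ((H ⊔ K : Subgroup G) : Set G) =
      Subgroup.centralizer (H : Set G) ⊓ Subgroup.centralizer (K : Set G) := by
  apply le_antisymm
  · exact le_inf (Subgroup.centralizer_le (SetLike.coe_subset_coe.mpr le_sup_left))
      (Subgroup.centralizer_le (SetLike.coe_subset_coe.mpr le_sup_right))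
  · rw [Subgroup.le_centralizer_iff]
    refine sup_le ?_ ?_
    · rw [Subgroup.le_centralizer_iff]; exact inf_le_left
    · rw [Subgroup.le_centralizer_iff]; exact inf_le_right

theorem centralizer_sup_le_centralizer_inf (H K : Subgroup G) :
    Subgroup.centralizer (H : Set G) ⊔ Subgroup.centralizer (K : Set G) ≤
      Subgroup.centralizer ((H ⊓ K : Subgroup G) : Set G) :=
  sup_le (Subgroup.centralizer_le (SetLike.coe_subset_coe.mpr inf_le_left))
    (Subgroup.centralizer_le (SetLike.coe_subset_coe.mpr inf_le_right))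

theorem cdMeasure_pos [Finite G] (H : Subgroup G) : 0 < cdMeasure H :=
  Nat.mul_pos Nat.card_pos Nat.card_pos

/-- The two factor inequalities behind the Chermak–Delgado inequality. -/
theorem cd_factor_ineqs [Finite G] (H K : Subgroup G) :
    Nat.card H * Nat.card K ≤ Nat.card (H ⊓ K : Subgroup G) * Nat.card (H ⊔ K : Subgroup G) ∧
    Nat.card (Subgroup.centralizer (H : Set G)) * Nat.card (Subgroup.centralizer (K : Set G)) ≤
      Nat.card (Subgroup.centralizer ((H ⊔ K : Subgroup G) : Set G)) *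
        Nat.card (Subgroup.centralizer ((H ⊓ K : Subgroup G) : Set G)) := by
  refine ⟨card_mul_card_le H K, ?_⟩
  have h1 := card_mul_card_le (Subgroup.centralizer (H : Set G)) (Subgroup.centralizer (K : Set G))
  rw [← centralizer_sup_eq] at h1
  exact h1.trans (Nat.mul_le_mul_left _
    (Subgroup.card_le_of_le (centralizer_sup_le_centralizer_inf H K)))

/-- The Chermak–Delgado inequality. -/
theorem cdMeasure_mul_le [Finite G] (H K : Subgroup G) :
    cdMeasure H * cdMeasure K ≤ cdMeasure (H ⊓ K) * cdMeasure (H ⊔ K) := by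
  obtain ⟨h1, h2⟩ := cd_factor_ineqs H K
  unfold cdMeasure
  calc Nat.card H * Nat.card (Subgroup.centralizer (H : Set G)) *
        (Nat.card K * Nat.card (Subgroup.centralizer (K : Set G)))
      = (Nat.card H * Nat.card K) * (Nat.card (Subgroup.centralizer (H : Set G)) *
          Nat.card (Subgroup.centralizer (K : Set G))) := by ring
    _ ≤ (Nat.card (H ⊓ K : Subgroup G) * Nat.card (H ⊔ K : Subgroup G)) *
          (Nat.card (Subgroup.centralizer ((H ⊔ K : Subgroup G) : Set G)) *
            Nat.card (Subgroup.centralizer ((H ⊓ K : Subgroup G) : Set G))) :=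
        Nat.mul_le_mul h1 h2
    _ = _ := by ring

/-- If `H`, `K` have maximal measure `m`, so do `H ⊓ K` and `H ⊔ K`, and `H ⊔ K = H K`. -/
theorem cd_lattice [Finite G] (m : ℕ) (hm : ∀ L : Subgroup G, cdMeasure L ≤ m) (H K : Subgroup G)
    (hH : cdMeasure H = m) (hK : cdMeasure K = m) :
    cdMeasure (H ⊓ K) = m ∧ cdMeasure (H ⊔ K) = m ∧
      ∀ x ∈ H ⊔ K, ∃ h ∈ H, ∃ k ∈ K, x = h * k := by
  have hmpos : 0 < m := hH ▸ cdMeasure_pos H
  have hineq := cdMeasure_mul_le H K
  rw [hH, hK] at hineq
  have h1 := hm (H ⊓ K)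
  have h2 := hm (H ⊔ K)
  have e1 : cdMeasure (H ⊓ K) = m := by
    by_contra hne
    have hlt : cdMeasure (H ⊓ K) < m := lt_of_le_of_ne h1 hne
    have : cdMeasure (H ⊓ K) * cdMeasure (H ⊔ K) < m * m :=
      calc cdMeasure (H ⊓ K) * cdMeasure (H ⊔ K) ≤ cdMeasure (H ⊓ K) * m :=
            Nat.mul_le_mul_left _ h2
        _ < m * m := Nat.mul_lt_mul_of_pos_right hlt hmpos
    omega
  have e2 : cdMeasure (H ⊔ K) = m := by
    by_contra hne
    have hlt : cdMeasure (H ⊔ K) < m := lt_of_le_of_ne h2 hne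
    have : cdMeasure (H ⊓ K) * cdMeasure (H ⊔ K) < m * m := by
      rw [e1]; exact Nat.mul_lt_mul_of_pos_left hlt hmpos
    omega
  refine ⟨e1, e2, ?_⟩
  apply exists_mul_of_card_mul_card_eq
  obtain ⟨f1, f2⟩ := cd_factor_ineqs H K
  by_contra hne
  have hlt := lt_of_le_of_ne f1 hne
  have hpos : 0 < Nat.card (Subgroup.centralizer (H : Set G)) *
      Nat.card (Subgroup.centralizer (K : Set G)) := Nat.mul_pos Nat.card_pos Nat.card_pos
  have : cdMeasure H * cdMeasure K < cdMeasure (H ⊓ K) * cdMeasure (H ⊔ K) := by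
    unfold cdMeasure
    calc Nat.card H * Nat.card (Subgroup.centralizer (H : Set G)) *
          (Nat.card K * Nat.card (Subgroup.centralizer (K : Set G)))
        = (Nat.card H * Nat.card K) * (Nat.card (Subgroup.centralizer (H : Set G)) *
            Nat.card (Subgroup.centralizer (K : Set G))) := by ring
      _ < (Nat.card (H ⊓ K : Subgroup G) * Nat.card (H ⊔ K : Subgroup G)) *
            (Nat.card (Subgroup.centralizer (H : Set G)) *
              Nat.card (Subgroup.centralizer (K : Set G))) :=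
          Nat.mul_lt_mul_of_pos_right hlt hpos
      _ ≤ (Nat.card (H ⊓ K : Subgroup G) * Nat.card (H ⊔ K : Subgroup G)) *
            (Nat.card (Subgroup.centralizer ((H ⊔ K : Subgroup G) : Set G)) *
              Nat.card (Subgroup.centralizer ((H ⊓ K : Subgroup G) : Set G))) :=
          Nat.mul_le_mul_left _ f2
      _ = _ := by ring
  rw [hH, hK, e1, e2] at this
  exact lt_irrefl _ this

/-- Conjugation does not decrease the measure. -/
theorem cdMeasure_le_map_conj [Finite G] (H : Subgroup G) (g : G) :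
    cdMeasure H ≤ cdMeasure (H.map (MulAut.conj g).toMonoidHom) := by
  unfold cdMeasure
  have h1 : Nat.card (H.map (MulAut.conj g).toMonoidHom) = Nat.card H :=
    Subgroup.card_map_of_injective (MulAut.conj g).injective
  have h2 : (Subgroup.centralizer (H : Set G)).map (MulAut.conj g).toMonoidHom ≤
      Subgroup.centralizer ((H.map (MulAut.conj g).toMonoidHom : Subgroup G) : Set G) := by
    rintro _ ⟨c, hc, rfl⟩
    rw [Subgroup.mem_centralizer_iff]
    rintro _ ⟨h, hh, rfl⟩
    have := (Subgroup.mem_centralizer_iff.mp hc) h hh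
    simp only [MulEquiv.coe_toMonoidHom, MulAut.conj_apply]
    calc g * h * g⁻¹ * (g * c * g⁻¹) = g * (h * c) * g⁻¹ := by group
      _ = g * (c * h) * g⁻¹ := by rw [this]
      _ = g * c * g⁻¹ * (g * h * g⁻¹) := by group
  have h3 : Nat.card (Subgroup.centralizer (H : Set G)) ≤
      Nat.card (Subgroup.centralizer ((H.map (MulAut.conj g).toMonoidHom : Subgroup G) : Set G)) := by
    have h4 : Nat.card ((Subgroup.centralizer (H : Set G)).map (MulAut.conj g).toMonoidHom) =
        Nat.card (Subgroup.centralizer (H : Set G)) :=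
      Subgroup.card_map_of_injective (MulAut.conj g).injective
    rw [← h4]
    exact Subgroup.card_le_of_le h2
  rw [h1]
  exact Nat.mul_le_mul_left _ h3

end

end Cfsg.Agent.Lib.Helper1
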