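import Mathlib

set_option autoImplicit false

namespace Cfsg.Agent.Lib.Helper1

/-- If `x ^ m = 1`, `z` commutes with `x`, `h x h⁻¹ = z x` and `z` has order prime
to `m`, then `z = 1`. -/
theorem eq_one_of_conj_eq_mul {G : Type*} [Group G] (m : ℕ) (x h z : G) (hx : x ^ m = 1)
    (hzx : Commute z x) (hconj : h * x * h⁻¹ = z * x) (hz : (orderOf z).Coprime m) : z = 1 := by
  have h1 : (z * x) ^ m = 1 := by
    rw [← hconj, conj_pow, hx, mul_one, mul_inv_cancel]
  rw [hzx.mul_pow, hx, mul_one] at h1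
  have h2 : orderOf z ∣ m := orderOf_dvd_of_pow_eq_one h1
  have h4 : orderOf z = 1 := Nat.Coprime.eq_one_of_dvd hz h2
  exact orderOf_eq_one_iff.mp h4

/-- Orders of elements of subgroups of coprime orders are coprime. -/
theorem orderOf_coprime_of_mem {G : Type*} [Group G] [Finite G] (H A : Subgroup G)
    (hcop : (Nat.card A).Coprime (Nat.card H)) {z a : G} (hz : z ∈ H) (ha : a ∈ A) :
    (orderOf z).Coprime (orderOf a) := by
  have h1 : orderOf z ∣ Nat.card H := by
    have := orderOf_dvd_natCard (⟨z, hz⟩ : H)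
    rwa [Subgroup.orderOf_mk] at this
  have h2 : orderOf a ∣ Nat.card A := by
    have := orderOf_dvd_natCard (⟨a, ha⟩ : A)
    rwa [Subgroup.orderOf_mk] at this
  exact Nat.Coprime.coprime_dvd_left h1 (Nat.Coprime.coprime_dvd_right h2 hcop.symm)

end Cfsg.Agent.Lib.Helper1
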