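import Mathlib
import Cfsg.Agent.Lib.Helper1.CoprimeStab

set_option autoImplicit false

namespace Cfsg.Agent.Lib.Helper1

open scoped commutatorElement

/-- Coprime action: if `[P, A, A] = 1` then `[P, A] = 1`. -/
theorem commutator_eq_bot_of_commutator_commutator_eq_bot {G : Type*} [Group G] [Finite G]
    (P A : Subgroup G) (hA : A ≤ Subgroup.normalizer (P : Set G))
    (hcop : (Nat.card A).Coprime (Nat.card P)) (h : ⁅⁅P, A⁆, A⁆ = ⊥) : ⁅P, A⁆ = ⊥ := by
  rw [Subgroup.commutator_eq_bot_iff_le_centralizer] at h ⊢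
  intro x hx
  rw [Subgroup.mem_centralizer_iff]
  intro a ha
  set z : G := ⁅x, a⁆ with hz
  have hzmem : z ∈ ⁅P, A⁆ := Subgroup.commutator_mem_commutator hx ha
  have hza : Commute z a := by
    have := h hzmem
    rw [Subgroup.mem_centralizer_iff] at this
    exact (this a ha).symm
  have hzP : z ∈ P := by
    have h1 : a * x⁻¹ * a⁻¹ ∈ P :=
      ((Subgroup.mem_normalizer_iff.mp (hA ha)) (x⁻¹)).mp (inv_mem hx)
    have : z = x * (a * x⁻¹ * a⁻¹) := by rw [hz, commutatorElement_def]; group
    rw [this]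
    exact mul_mem hx h1
  have hconj : x * a * x⁻¹ = z * a := by rw [hz, commutatorElement_def]; group
  have hz1 := eq_one_of_conj_eq_mul (orderOf a) a x z (pow_orderOf_eq_one a) hza hconj
    (orderOf_coprime_of_mem P A hcop hzP ha)
  rw [hz1, one_mul] at hconj
  have : a * x = (x * a * x⁻¹)⁻¹⁻¹ * x := by rw [hconj]; group
  rw [this]; group

/-- In a nilpotent subgroup `N`, a subgroup `X ≤ N` with `X ≤ [X, Y]`, `Y ≤ N`, is trivial. -/
theorem eq_bot_of_le_commutator_of_isNilpotent {G : Type*} [Group G] (N X Y : Subgroup G)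
    (hN : Group.IsNilpotent N) (hX : X ≤ N) (hY : Y ≤ N) (h : X ≤ ⁅X, Y⁆) : X = ⊥ := by
  obtain ⟨n, hn⟩ := (Subgroup.isNilpotent_iff_lowerCentralSeries N).mp hN
  have key : ∀ k, X ≤ N.lowerCentralSeries k := by
    intro k
    induction k with
    | zero => simpa using hX
    | succ k ih =>
      rw [Subgroup.lowerCentralSeries_succ]
      exact h.trans (Subgroup.commutator_mono ih hY)
  rw [eq_bot_iff, ← hn]
  exact key n

/-- For `p`-subgroups `P ≠ 1`, `B` with `B` normalizing `P`, we have `[P, B] < P`. -/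
theorem commutator_lt_of_isPGroup {G : Type*} [Group G] [Finite G] (p : ℕ) [Fact p.Prime]
    (P B : Subgroup G) (hP : IsPGroup p P) (hB : IsPGroup p B)
    (hBP : B ≤ Subgroup.normalizer (P : Set G)) (hne : P ≠ ⊥) : ⁅P, B⁆ < P := by
  have hle : ⁅P, B⁆ ≤ P := Subgroup.le_normalizer_iff_commutator_le_left.mp hBP
  refine lt_of_le_of_ne hle ?_
  intro heq
  apply hne
  have hN : IsPGroup p (P ⊔ B : Subgroup G) := IsPGroup.to_sup_of_normal_left' hP hB hBP
  have hnil : Group.IsNilpotent (P ⊔ B : Subgroup G) := hN.isNilpotent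
  exact eq_bot_of_le_commutator_of_isNilpotent (P ⊔ B) P B hnil le_sup_left le_sup_right heq.ge

/-- Elements normalizing both `P` and `B` normalize `[P, B]`. -/
theorem mem_normalizer_commutator {G : Type*} [Group G] (P B : Subgroup G) (g : G)
    (hP : g ∈ Subgroup.normalizer (P : Set G)) (hB : g ∈ Subgroup.normalizer (B : Set G)) :
    g ∈ Subgroup.normalizer ((⁅P, B⁆ : Subgroup G) : Set G) := by
  have hmapP : P.map (MulAut.conj g).toMonoidHom = P := by
    ext x
    rw [Subgroup.mem_map]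
    constructor
    · rintro ⟨y, hy, rfl⟩
      exact (Subgroup.mem_normalizer_iff.mp hP y).mp hy
    · intro hx
      refine ⟨g⁻¹ * x * g, ?_, ?_⟩
      · have := (Subgroup.mem_normalizer_iff.mp (inv_mem hP) x).mp hx
        simpa using this
      · simp [MulAut.conj_apply]; group
  have hmapB : B.map (MulAut.conj g).toMonoidHom = B := by
    ext x
    rw [Subgroup.mem_map]
    constructor
    · rintro ⟨y, hy, rfl⟩
      exact (Subgroup.mem_normalizer_iff.mp hB y).mp hy
    · intro hx
      refine ⟨g⁻¹ * x * g, ?_, ?_⟩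
      · have := (Subgroup.mem_normalizer_iff.mp (inv_mem hB) x).mp hx
        simpa using this
      · simp [MulAut.conj_apply]; group
  have hmap : (⁅P, B⁆).map (MulAut.conj g).toMonoidHom = ⁅P, B⁆ := by
    rw [Subgroup.map_commutator, hmapP, hmapB]
  rw [Subgroup.mem_normalizer_iff]
  intro x
  constructor
  · intro hx
    rw [← hmap]
    exact ⟨x, hx, rfl⟩
  · intro hx
    rw [← hmap] at hx
    obtain ⟨y, hy, hyx⟩ := hx
    have : y = x := by
      have h1 : g * y * g⁻¹ = g * x * g⁻¹ := hyx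
      have h2 : g⁻¹ * (g * y * g⁻¹) * g = g⁻¹ * (g * x * g⁻¹) * g := by rw [h1]
      simpa [mul_assoc] using h2
    rw [← this]; exact hy

end Cfsg.Agent.Lib.Helper1
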