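import Mathlib

set_option autoImplicit false

namespace Cfsg.Agent.Lib.Helper1.CoxA

open Equiv

theorem swap_mul_swap_pow_three {α : Type*} [DecidableEq α] [Fintype α] {a b c : α} (hab : a ≠ b)
    (hac : a ≠ c) (hbc : b ≠ c) : (swap a b * swap b c) ^ 3 = 1 := by
  have h := Equiv.Perm.isThreeCycle_swap_mul_swap_same (a := b) (b := a) (c := c) hab.symm hbc hac
  rw [swap_comm a b]
  have := h.orderOf
  rw [← this]; exact pow_orderOf_eq_one _

theorem swap_mul_swap_pow_two {α : Type*} [DecidableEq α] {a b c d : α} (hac : a ≠ c) (had : a ≠ d)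
    (hbc : b ≠ c) (hbd : b ≠ d) : (swap a b * swap c d) ^ 2 = 1 := by
  have hd : Equiv.Perm.Disjoint (swap a b) (swap c d) := by
    intro x
    by_cases hxa : x = a
    · right; subst hxa; exact swap_apply_of_ne_of_ne hac had
    · by_cases hxb : x = b
      · right; subst hxb; exact swap_apply_of_ne_of_ne hbc hbd
      · left; exact swap_apply_of_ne_of_ne hxa hxb
  have hc : swap c d * swap a b = swap a b * swap c d := hd.commute.eq.symm
  calc (swap a b * swap c d) ^ 2 = swap a b * (swap c d * swap a b) * swap c d := by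
        rw [pow_two]; group
    _ = swap a b * (swap a b * swap c d) * swap c d := by rw [hc]
    _ = (swap a b * swap a b) * (swap c d * swap c d) := by group
    _ = 1 := by simp

theorem A_apply (n : ℕ) (i j : Fin n) : CoxeterMatrix.A n i j =
    if i = j then 1 else if (j : ℕ) + 1 = i ∨ (i : ℕ) + 1 = j then 3 else 2 := rfl

theorem swap_liftable (n : ℕ) : (CoxeterMatrix.A n).IsLiftable
    (fun i : Fin n => (swap i.castSucc i.succ : Perm (Fin (n + 1)))) := by
  intro i j
  show (swap i.castSucc i.succ * swap j.castSucc j.succ) ^ (CoxeterMatrix.A n i j) = 1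
  rw [A_apply]
  by_cases hij : i = j
  · subst hij; simp
  · rw [if_neg hij]
    have hne : (i : ℕ) ≠ j := fun h => hij (Fin.ext h)
    by_cases hadj : (j : ℕ) + 1 = i ∨ (i : ℕ) + 1 = j
    · rw [if_pos hadj]
      rcases hadj with h | h
      · have e : i.castSucc = j.succ := by ext; simp; omega
        rw [e, swap_comm j.succ i.succ]
        have := swap_mul_swap_pow_three (a := i.succ) (b := j.succ) (c := j.castSucc)
          (by intro h'; have := congrArg Fin.val h'; simp at this; omega)
          (by intro h'; have := congrArg Fin.val h'; simp at this; omega)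
          (by intro h'; have := congrArg Fin.val h'; simp at this)
        rw [swap_comm j.succ j.castSucc] at this
        exact this
      · have e : j.castSucc = i.succ := by ext; simp; omega
        rw [e]
        exact swap_mul_swap_pow_three
          (by intro h'; have := congrArg Fin.val h'; simp at this)
          (by intro h'; have := congrArg Fin.val h'; simp at this; omega)
          (by intro h'; have := congrArg Fin.val h'; simp at this; omega)
    · rw [if_neg hadj]
      rw [not_or] at hadj
      exact swap_mul_swap_pow_two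
        (by intro h'; have := congrArg Fin.val h'; simp at this; omega)
        (by intro h'; have := congrArg Fin.val h'; simp at this; omega)
        (by intro h'; have := congrArg Fin.val h'; simp at this; omega)
        (by intro h'; have := congrArg Fin.val h'; simp at this; omega)

/-- Simple reflections of `W(A_n)` indexed by `ℕ` (junk value `1`). -/
noncomputable def sN (n : ℕ) (j : ℕ) : (CoxeterMatrix.A n).Group :=
  if h : j < n then (CoxeterMatrix.A n).simple ⟨j, h⟩ else 1

theorem sN_of_lt {n j : ℕ} (h : j < n) : sN n j = (CoxeterMatrix.A n).simple ⟨j, h⟩ := by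
  unfold sN; rw [dif_pos h]

theorem sN_of_ge {n j : ℕ} (h : n ≤ j) : sN n j = 1 := by
  unfold sN; rw [dif_neg (by omega)]

theorem sN_mul_self (n j : ℕ) : sN n j * sN n j = 1 := by
  by_cases h : j < n
  · rw [sN_of_lt h]
    have := (CoxeterMatrix.A n).toCoxeterSystem.simple_mul_simple_self ⟨j, h⟩
    rwa [CoxeterMatrix.toCoxeterSystem_simple] at this
  · rw [sN_of_ge (by omega)]; simp

theorem sN_inv (n j : ℕ) : (sN n j)⁻¹ = sN n j :=
  inv_eq_of_mul_eq_one_right (sN_mul_self n j)

theorem sN_comm (n : ℕ) {i j : ℕ} (h : i + 2 ≤ j) : sN n i * sN n j = sN n j * sN n i := by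
  by_cases hj : j < n
  · have hi : i < n := by omega
    rw [sN_of_lt hj, sN_of_lt hi]
    have h2 := (CoxeterMatrix.A n).toCoxeterSystem.simple_mul_simple_pow ⟨i, hi⟩ ⟨j, hj⟩
    rw [CoxeterMatrix.toCoxeterSystem_simple, A_apply] at h2
    have hne : (⟨i, hi⟩ : Fin n) ≠ ⟨j, hj⟩ := by intro e; have := congrArg Fin.val e; simp at this; omega
    rw [if_neg hne, if_neg (by simp; omega)] at h2
    have hi2 := sN_mul_self n i
    have hj2 := sN_mul_self n j
    rw [sN_of_lt hi] at hi2
    rw [sN_of_lt hj] at hj2
    set a := (CoxeterMatrix.A n).simple ⟨i, hi⟩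
    set b := (CoxeterMatrix.A n).simple ⟨j, hj⟩
    rw [pow_two] at h2
    calc a * b = a * b * (a * b * (b * a)) := by
          have : a * b * (b * a) = 1 := by
            calc a * b * (b * a) = a * (b * b) * a := by group
              _ = 1 := by rw [hj2, mul_one, hi2]
          rw [this, mul_one]
      _ = (a * b * (a * b)) * (b * a) := by group
      _ = b * a := by rw [h2, one_mul]
  · rw [sN_of_ge (by omega : n ≤ j)]; simp

theorem sN_braid (n : ℕ) {j : ℕ} (h : j + 1 < n) :
    sN n j * sN n (j + 1) * sN n j = sN n (j + 1) * sN n j * sN n (j + 1) := by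
  have hj : j < n := by omega
  have h3 := (CoxeterMatrix.A n).toCoxeterSystem.simple_mul_simple_pow ⟨j, hj⟩ ⟨j + 1, h⟩
  rw [CoxeterMatrix.toCoxeterSystem_simple, A_apply] at h3
  have hne : (⟨j, hj⟩ : Fin n) ≠ ⟨j + 1, h⟩ := by intro e; have := congrArg Fin.val e; simp at this
  rw [if_neg hne, if_pos (by simp)] at h3
  have hi2 := sN_mul_self n j
  have hj2 := sN_mul_self n (j + 1)
  rw [sN_of_lt hj] at hi2 ⊢
  rw [sN_of_lt h] at hj2 ⊢
  set a := (CoxeterMatrix.A n).simple ⟨j, hj⟩
  set b := (CoxeterMatrix.A n).simple ⟨j + 1, h⟩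
  have e1 : a * b * a * (b * a * b) = 1 := by
    calc a * b * a * (b * a * b) = (a * b) ^ 3 := by rw [pow_succ, pow_two]; group
      _ = 1 := h3
  have e2 : (b * a * b) * (b * a * b) = 1 := by
    calc (b * a * b) * (b * a * b) = b * a * (b * b) * a * b := by group
      _ = b * (a * a) * b := by rw [hj2]; group
      _ = 1 := by rw [hi2, mul_one, hj2]
  calc a * b * a = a * b * a * ((b * a * b) * (b * a * b)) := by rw [e2, mul_one]
    _ = (a * b * a * (b * a * b)) * (b * a * b) := by group
    _ = b * a * b := by rw [e1, one_mul]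

/-- Coset representatives `u m = s_0 s_1 ⋯ s_{m-1}`. -/
noncomputable def u (n : ℕ) : ℕ → (CoxeterMatrix.A n).Group
  | 0 => 1
  | m + 1 => u n m * sN n m

theorem u_succ (n m : ℕ) : u n (m + 1) = u n m * sN n m := rfl

theorem sN_mul_u (n : ℕ) : ∀ m j : ℕ, m < j → sN n j * u n m = u n m * sN n j := by
  intro m
  induction m with
  | zero => intro j _; simp [u]
  | succ m ih =>
    intro j hj
    rw [u_succ]
    calc sN n j * (u n m * sN n m) = (sN n j * u n m) * sN n m := by group
      _ = (u n m * sN n j) * sN n m := by rw [ih j (by omega)]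
      _ = u n m * (sN n j * sN n m) := by group
      _ = u n m * (sN n m * sN n j) := by rw [← sN_comm n (by omega : m + 2 ≤ j)]
      _ = u n m * sN n m * sN n j := by group

theorem u_mul_sN (n : ℕ) : ∀ m j : ℕ, j + 1 < m → m ≤ n →
    u n m * sN n j = sN n (j + 1) * u n m := by
  intro m
  induction m with
  | zero => intro j hj; omega
  | succ m ih =>
    intro j hj hm
    rcases Nat.lt_or_ge (j + 1) m with hlt | hge
    · rw [u_succ]
      calc u n m * sN n m * sN n j = u n m * (sN n m * sN n j) := by group
        _ = u n m * (sN n j * sN n m) := by rw [sN_comm n (by omega : j + 2 ≤ m)]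
        _ = (u n m * sN n j) * sN n m := by group
        _ = (sN n (j + 1) * u n m) * sN n m := by rw [ih j hlt (by omega)]
        _ = sN n (j + 1) * (u n m * sN n m) := by group
    · have hm' : m = j + 1 := by omega
      subst hm'
      rw [u_succ, u_succ]
      calc u n j * sN n j * sN n (j + 1) * sN n j
          = u n j * (sN n j * sN n (j + 1) * sN n j) := by group
        _ = u n j * (sN n (j + 1) * sN n j * sN n (j + 1)) := by rw [sN_braid n (by omega)]
        _ = (u n j * sN n (j + 1)) * sN n j * sN n (j + 1) := by group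
        _ = (sN n (j + 1) * u n j) * sN n j * sN n (j + 1) := by
            rw [sN_mul_u n j (j + 1) (by omega)]
        _ = sN n (j + 1) * (u n j * sN n j * sN n (j + 1)) := by group

theorem succ_liftable (n : ℕ) : (CoxeterMatrix.A n).IsLiftable
    (fun i : Fin n => (CoxeterMatrix.A (n + 1)).simple i.succ) := by
  intro i j
  have h := (CoxeterMatrix.A (n + 1)).toCoxeterSystem.simple_mul_simple_pow i.succ j.succ
  rw [CoxeterMatrix.toCoxeterSystem_simple] at h
  have e : CoxeterMatrix.A (n + 1) i.succ j.succ = CoxeterMatrix.A n i j := by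
    rw [A_apply, A_apply]
    simp only [Fin.succ_inj, Fin.val_succ, add_left_inj]
  rw [e] at h
  exact h

/-- The embedding `W(A_n) → W(A_{n+1})` shifting indices by one. -/
noncomputable def iota (n : ℕ) : (CoxeterMatrix.A n).Group →* (CoxeterMatrix.A (n + 1)).Group :=
  (CoxeterMatrix.A n).toCoxeterSystem.lift ⟨_, succ_liftable n⟩

theorem iota_simple (n : ℕ) (i : Fin n) :
    iota n ((CoxeterMatrix.A n).simple i) = (CoxeterMatrix.A (n + 1)).simple i.succ := by
  have := (CoxeterMatrix.A n).toCoxeterSystem.lift_apply_simple (succ_liftable n) i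
  rw [CoxeterMatrix.toCoxeterSystem_simple] at this
  exact this

theorem sN_succ_mem_range (n : ℕ) {j : ℕ} (hj : j + 1 < n + 1) :
    sN (n + 1) (j + 1) ∈ (iota n).range := by
  refine ⟨(CoxeterMatrix.A n).simple ⟨j, by omega⟩, ?_⟩
  rw [iota_simple, sN_of_lt hj]
  rfl

theorem exists_rep (n : ℕ) (w : (CoxeterMatrix.A (n + 1)).Group) :
    ∃ m : ℕ, m ≤ n + 1 ∧ ∃ h : (CoxeterMatrix.A n).Group, w = iota n h * u (n + 1) m := by
  induction w using (CoxeterMatrix.A (n + 1)).toCoxeterSystem.simple_induction_right with
  | one => exact ⟨0, by omega, 1, by simp [u]⟩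
  | mul_simple_right w i ih =>
    obtain ⟨m, hm, h, rfl⟩ := ih
    rw [CoxeterMatrix.toCoxeterSystem_simple]
    have hs : (CoxeterMatrix.A (n + 1)).simple i = sN (n + 1) i := by
      rw [sN_of_lt i.2]
    rw [hs]
    rcases Nat.lt_trichotomy (i : ℕ) m with hlt | heq | hgt
    · rcases Nat.lt_or_ge ((i : ℕ) + 1) m with hlt2 | hge2
      · -- i + 1 < m
        obtain ⟨h', hh'⟩ := sN_succ_mem_range n (j := i) (by omega)
        refine ⟨m, hm, h * h', ?_⟩
        rw [map_mul, hh']
        calc iota n h * u (n + 1) m * sN (n + 1) i = iota n h * (u (n + 1) m * sN (n + 1) i) := by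
              group
          _ = iota n h * (sN (n + 1) (i + 1) * u (n + 1) m) := by
              rw [u_mul_sN (n + 1) m i hlt2 hm]
          _ = iota n h * sN (n + 1) (i + 1) * u (n + 1) m := by group
      · -- i + 1 = m
        have hm' : m = (i : ℕ) + 1 := by omega
        refine ⟨i, by omega, h, ?_⟩
        rw [hm', u_succ]
        calc iota n h * (u (n + 1) i * sN (n + 1) i) * sN (n + 1) i
            = iota n h * u (n + 1) i * (sN (n + 1) i * sN (n + 1) i) := by group
          _ = iota n h * u (n + 1) i := by rw [sN_mul_self, mul_one]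
    · refine ⟨m + 1, by omega, h, ?_⟩
      rw [u_succ, heq]; group
    · -- m < i
      have hi1 : 1 ≤ (i : ℕ) := by omega
      obtain ⟨k, hk⟩ : ∃ k : ℕ, (i : ℕ) = k + 1 := ⟨(i : ℕ) - 1, by omega⟩
      obtain ⟨h', hh'⟩ := sN_succ_mem_range n (j := k) (by omega)
      refine ⟨m, hm, h * h', ?_⟩
      rw [map_mul, hh', ← hk]
      calc iota n h * u (n + 1) m * sN (n + 1) i = iota n h * (u (n + 1) m * sN (n + 1) i) := by
            group
        _ = iota n h * (sN (n + 1) i * u (n + 1) m) := by rw [sN_mul_u (n + 1) m i hgt]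
        _ = iota n h * sN (n + 1) i * u (n + 1) m := by group

theorem finite_and_card_le (n : ℕ) :
    Finite (CoxeterMatrix.A n).Group ∧ Nat.card (CoxeterMatrix.A n).Group ≤ (n + 1).factorial := by
  induction n with
  | zero =>
    have hsub : Subsingleton (CoxeterMatrix.A 0).Group := by
      refine ⟨fun a b => ?_⟩
      have h1 : ∀ w : (CoxeterMatrix.A 0).Group, w = 1 := by
        intro w
        induction w using (CoxeterMatrix.A 0).toCoxeterSystem.simple_induction_right with
        | one => rfl
        | mul_simple_right w i ih => exact i.elim0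
      rw [h1 a, h1 b]
    refine ⟨inferInstance, ?_⟩
    rw [Nat.card_of_subsingleton (1 : (CoxeterMatrix.A 0).Group)]
    simp
  | succ n ih =>
    obtain ⟨hfin, hcard⟩ := ih
    have hsurj : Function.Surjective
        (fun x : Fin (n + 2) × (CoxeterMatrix.A n).Group => iota n x.2 * u (n + 1) x.1) := by
      intro w
      obtain ⟨m, hm, h, rfl⟩ := exists_rep n w
      exact ⟨(⟨m, by omega⟩, h), rfl⟩
    have hfin' : Finite (CoxeterMatrix.A (n + 1)).Group := Finite.of_surjective _ hsurj
    refine ⟨hfin', ?_⟩
    have h1 := Nat.card_le_card_of_surjective _ hsurj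
    rw [Nat.card_prod, Nat.card_fin] at h1
    calc Nat.card (CoxeterMatrix.A (n + 1)).Group ≤ (n + 2) * Nat.card (CoxeterMatrix.A n).Group := h1
      _ ≤ (n + 2) * (n + 1).factorial := Nat.mul_le_mul_left _ hcard
      _ = (n + 1 + 1).factorial := by rw [Nat.factorial_succ (n + 1)]

/-- The homomorphism `W(A_n) → S_{n+1}`. -/
noncomputable def toPerm (n : ℕ) : (CoxeterMatrix.A n).Group →* Perm (Fin (n + 1)) :=
  (CoxeterMatrix.A n).toCoxeterSystem.lift ⟨_, swap_liftable n⟩

theorem toPerm_simple (n : ℕ) (i : Fin n) :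
    toPerm n ((CoxeterMatrix.A n).simple i) = swap i.castSucc i.succ := by
  have := (CoxeterMatrix.A n).toCoxeterSystem.lift_apply_simple (swap_liftable n) i
  rw [CoxeterMatrix.toCoxeterSystem_simple] at this
  exact this

theorem toPerm_bijective (n : ℕ) : Function.Bijective (toPerm n) := by
  obtain ⟨hfin, hcard⟩ := finite_and_card_le n
  have hsurj : Function.Surjective (toPerm n) := by
    rw [← MonoidHom.mrange_eq_top, eq_top_iff, ← Equiv.Perm.mclosure_swap_castSucc_succ n,
      Submonoid.closure_le]
    rintro _ ⟨i, rfl⟩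
    exact ⟨(CoxeterMatrix.A n).simple i, toPerm_simple n i⟩
  apply hsurj.bijective_of_nat_card_le
  rw [Nat.card_perm, Nat.card_fin]
  exact hcard

/-- The Coxeter system of type `A_n` on `S_{n+1}`. -/
noncomputable def coxeterSystemPerm (n : ℕ) :
    CoxeterSystem (CoxeterMatrix.A n) (Perm (Fin (n + 1))) :=
  ⟨(MulEquiv.ofBijective (toPerm n) (toPerm_bijective n)).symm⟩

theorem coxeterSystemPerm_simple (n : ℕ) (i : Fin n) :
    (coxeterSystemPerm n).simple i = swap i.castSucc i.succ := by
  show (MulEquiv.ofBijective (toPerm n) (toPerm_bijective n)).symm.symm (PresentedGroup.of i) = _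
  rw [MulEquiv.symm_symm]
  exact toPerm_simple n i

end Cfsg.Agent.Lib.Helper1.CoxA
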