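import Mathlib
import Cfsg.Prelude.Def_PLocal
import Cfsg.Prelude.Def_LocalEven

set_option autoImplicit false

/-! Stability-group arguments: if `g` acts nilpotently of degree `a` on `A` and `b` on `B` and `D`
acts on `A` through homomorphisms into `B`, then `g` acts nilpotently of degree `a + b - 1` on
`D / C_D(A)`.  Reduction of statements about chief factors to normal series. -/

namespace Cfsg.Agent.Lib.Helper1.StabAct

open Cfsg
open scoped commutatorElement Pointwise

variable {Γ : Type*} [Group Γ]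

/-- `X` is invariant under conjugation by `K`. -/
def KInv (K X : Subgroup Γ) : Prop := ∀ k ∈ K, ∀ x ∈ X, k * x * k⁻¹ ∈ X

theorem kinv_of_normal (K X : Subgroup Γ) [hX : X.Normal] : KInv K X :=
  fun k _ x hx => hX.conj_mem x hx k

theorem kinv_commutator (H K : Subgroup Γ) : KInv K ⁅H, K⁆ := by
  intro k hk w hw
  have : ⁅H, K⁆ ≤ (⁅H, K⁆).comap (MulAut.conj k).toMonoidHom := by
    rw [Subgroup.commutator_le]
    intro h hh k₁ hk₁
    rw [Subgroup.mem_comap]
    have e : (MulAut.conj k).toMonoidHom ⁅h, k₁⁆ = ⁅h, k⁆⁻¹ * ⁅h, k * k₁⁆ := by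
      simp only [MulEquiv.coe_toMonoidHom, MulAut.conj_apply, commutatorElement_def]
      group
    rw [e]
    exact mul_mem (inv_mem (Subgroup.commutator_mem_commutator hh hk))
      (Subgroup.commutator_mem_commutator hh (mul_mem hk hk₁))
  have h2 := this hw
  rw [Subgroup.mem_comap] at h2
  simpa using h2

theorem commutator_le_of_kinv {K X : Subgroup Γ} (h : KInv K X) : ⁅X, K⁆ ≤ X := by
  rw [Subgroup.commutator_le]
  intro x hx k hk
  have : ⁅x, k⁆ = x * (k * x⁻¹ * k⁻¹) := by simp only [commutatorElement_def]; group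
  rw [this]
  exact mul_mem hx (h k hk _ (inv_mem hx))

theorem iter_kinv {K X : Subgroup Γ} (h : KInv K X) : ∀ n, KInv K (iterCommutator X K n)
  | 0 => h
  | _ + 1 => kinv_commutator _ K

theorem iter_succ_le {K X : Subgroup Γ} (h : KInv K X) (n : ℕ) :
    iterCommutator X K (n + 1) ≤ iterCommutator X K n :=
  commutator_le_of_kinv (iter_kinv h n)

theorem iter_antitone {K X : Subgroup Γ} (h : KInv K X) {m n : ℕ} (hmn : m ≤ n) :
    iterCommutator X K n ≤ iterCommutator X K m := by
  induction hmn with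
  | refl => exact le_rfl
  | step _ ih => exact (iter_succ_le h _).trans ih

theorem iter_le_self {K X : Subgroup Γ} (h : KInv K X) (n : ℕ) : iterCommutator X K n ≤ X :=
  iter_antitone h (Nat.zero_le n)

theorem iter_mono_left {X X' : Subgroup Γ} (K : Subgroup Γ) (h : X ≤ X') :
    ∀ n, iterCommutator X K n ≤ iterCommutator X' K n
  | 0 => h
  | n + 1 => Subgroup.commutator_mono (iter_mono_left K h n) le_rfl

theorem iter_eq_bot_of_le {K X : Subgroup Γ} {m n : ℕ} (hmn : m ≤ n)
    (h : iterCommutator X K m = ⊥) : iterCommutator X K n = ⊥ := by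
  induction hmn with
  | refl => exact h
  | step _ ih =>
    show ⁅iterCommutator X K _, K⁆ = ⊥
    rw [ih]
    exact Subgroup.commutator_bot_left _

/-- Elements centralizing `B` whose commutators with `X` lie in `N ≤ B`. -/
def relCent (B N X : Subgroup Γ) (hNB : N ≤ B) : Subgroup Γ where
  carrier := {w | w ∈ Subgroup.centralizer (B : Set Γ) ∧ ∀ x ∈ X, ⁅x, w⁆ ∈ N}
  one_mem' := ⟨one_mem _, fun x _ => by simp⟩
  mul_mem' := by
    rintro w₁ w₂ ⟨hc₁, h₁⟩ ⟨hc₂, h₂⟩
    refine ⟨mul_mem hc₁ hc₂, fun x hx => ?_⟩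
    have e : ⁅x, w₁ * w₂⁆ = ⁅x, w₁⁆ * (w₁ * ⁅x, w₂⁆ * w₁⁻¹) := by
      simp only [commutatorElement_def]; group
    have e2 : w₁ * ⁅x, w₂⁆ * w₁⁻¹ = ⁅x, w₂⁆ := by
      have := Subgroup.mem_centralizer_iff.1 hc₁ _ (hNB (h₂ x hx))
      rw [← this]; group
    rw [e, e2]
    exact mul_mem (h₁ x hx) (h₂ x hx)
  inv_mem' := by
    rintro w ⟨hc, h⟩
    refine ⟨inv_mem hc, fun x hx => ?_⟩
    have e : ⁅x, w⁻¹⁆ = w⁻¹ * (⁅x, w⁆⁻¹ * w) := by
      simp only [commutatorElement_def]; group
    have hb := hNB (inv_mem (h x hx))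
    have := Subgroup.mem_centralizer_iff.1 hc _ hb
    rw [e, this, ← mul_assoc, inv_mul_cancel, one_mul]
    exact inv_mem (h x hx)

/-- The stability lemma (three subgroups lemma version). -/
theorem ghl (K A B D : Subgroup Γ) (hA : KInv K A) (hB : KInv K B) (hD : KInv K D)
    (hBA : A ≤ Subgroup.centralizer (B : Set Γ)) (hBD : D ≤ Subgroup.centralizer (B : Set Γ))
    (hAD : ⁅A, D⁆ ≤ B) (a b : ℕ) (ha : iterCommutator A K a = ⊥) (hb : iterCommutator B K b = ⊥)
    (k : ℕ) (hk : a + b ≤ k + 1) :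
    iterCommutator D K k ≤ Subgroup.centralizer (A : Set Γ) := by
  have main : ∀ n i : ℕ, ⁅iterCommutator A K i, iterCommutator D K n⁆ ≤
      iterCommutator B K (n + i + 1 - a) := by
    intro n
    induction n with
    | zero =>
      intro i
      by_cases hi : i + 1 ≤ a
      · have : 0 + i + 1 - a = 0 := by omega
        rw [this]
        exact (Subgroup.commutator_mono (iter_le_self hA i) le_rfl).trans hAD
      · have : iterCommutator A K i = ⊥ := iter_eq_bot_of_le (by omega) ha
        rw [this, Subgroup.commutator_bot_left]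
        exact bot_le
    | succ n ih =>
      intro i
      set N := iterCommutator B K (n + 1 + i + 1 - a) with hN
      have hNB : N ≤ B := iter_le_self hB _
      have hNK : KInv K N := iter_kinv hB _
      have h1 : iterCommutator B K (n + i + 1 - a + 1) ≤ N := iter_antitone hB (by omega)
      have h2 : ⁅iterCommutator A K (i + 1), iterCommutator D K n⁆ ≤ N := by
        have := ih (i + 1)
        have e : n + (i + 1) + 1 - a = n + 1 + i + 1 - a := by omega
        rwa [e] at this
      have hDn : iterCommutator D K n ≤ D := iter_le_self hD n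
      have hAi : iterCommutator A K i ≤ A := iter_le_self hA i
      have key : ⁅iterCommutator D K n, K⁆ ≤ relCent B N (iterCommutator A K i) hNB := by
        rw [Subgroup.commutator_le]
        intro d hd k' hk'
        refine ⟨?_, ?_⟩
        · have : ⁅d, k'⁆ = d * (k' * d⁻¹ * k'⁻¹) := by
            simp only [commutatorElement_def]; group
          rw [this]
          exact mul_mem (hBD (hDn hd)) (hBD (hD k' hk' _ (inv_mem (hDn hd))))
        · intro x hx
          have hn₁N : ⁅k', ⁅x⁻¹, d⁻¹⁆⁆ ∈ N := by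
            apply h1
            have hβ : ⁅x⁻¹, d⁻¹⁆ ∈ iterCommutator B K (n + i + 1 - a) :=
              ih i (Subgroup.commutator_mem_commutator (inv_mem hx) (inv_mem hd))
            rw [← commutatorElement_inv]
            exact inv_mem (Subgroup.commutator_mem_commutator hβ hk')
          have hn₂N : ⁅d⁻¹, ⁅k'⁻¹, x⁆⁆ ∈ N := by
            apply h2
            have hα : ⁅k'⁻¹, x⁆ ∈ iterCommutator A K (i + 1) := by
              rw [← commutatorElement_inv]
              exact inv_mem (Subgroup.commutator_mem_commutator hx (inv_mem hk'))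
            rw [← commutatorElement_inv]
            exact inv_mem (Subgroup.commutator_mem_commutator hα (inv_mem hd))
          set n₁ := ⁅k', ⁅x⁻¹, d⁻¹⁆⁆ with hn₁
          set n₂ := ⁅d⁻¹, ⁅k'⁻¹, x⁆⁆ with hn₂
          have hw : ⁅x, ⁅d, k'⁆⁆ = d * ((x * n₁⁻¹ * x⁻¹) * (k' * n₂⁻¹ * k'⁻¹)) * d⁻¹ := by
            simp only [hn₁, hn₂, commutatorElement_def]; group
          have hx1 : x * n₁⁻¹ * x⁻¹ = n₁⁻¹ := by
            have := Subgroup.mem_centralizer_iff.1 (hBA (hAi hx)) _ (hNB (inv_mem hn₁N))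
            rw [← this]; group
          have hk2 : k' * n₂⁻¹ * k'⁻¹ ∈ N := hNK k' hk' _ (inv_mem hn₂N)
          have hprod : n₁⁻¹ * (k' * n₂⁻¹ * k'⁻¹) ∈ N := mul_mem (inv_mem hn₁N) hk2
          have hd1 : d * (n₁⁻¹ * (k' * n₂⁻¹ * k'⁻¹)) * d⁻¹ = n₁⁻¹ * (k' * n₂⁻¹ * k'⁻¹) := by
            have := Subgroup.mem_centralizer_iff.1 (hBD (hDn hd)) _ (hNB hprod)
            rw [← this]; group
          rw [hw, hx1, hd1]
          exact hprod
      show ⁅iterCommutator A K i, ⁅iterCommutator D K n, K⁆⁆ ≤ N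
      rw [Subgroup.commutator_le]
      intro x hx w hw
      exact (key hw).2 x hx
  have hfin := main k 0
  have hbot : iterCommutator B K (k + 0 + 1 - a) = ⊥ := iter_eq_bot_of_le (by omega) hb
  rw [hbot] at hfin
  have : ⁅iterCommutator D K k, A⁆ = ⊥ := by
    rw [Subgroup.commutator_comm]
    exact le_bot_iff.1 hfin
  exact Subgroup.commutator_eq_bot_iff_le_centralizer.1 this

/-! ### Chief factors and normal series -/

/-- Every chief factor below `N` is killed by `k` commutations with `K`. -/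
def Good (K : Subgroup Γ) (k : ℕ) (N : Subgroup Γ) : Prop :=
  ∀ X Y : Subgroup Γ, IsChiefFactor X Y → X ≤ N → iterCommutator X K k ≤ Y

theorem good_bot (K : Subgroup Γ) (k : ℕ) : Good K k (⊥ : Subgroup Γ) := by
  intro X Y h hX
  have hX' : X = ⊥ := le_bot_iff.1 hX
  have := h.1
  rw [hX'] at this
  exact absurd this (not_lt_bot)

theorem commutator_sup_normal_le (U Y K : Subgroup Γ) [hY : Y.Normal] :
    ⁅U ⊔ Y, K⁆ ≤ ⁅U, K⁆ ⊔ Y := by
  rw [Subgroup.commutator_le]
  intro g₁ hg₁ k hk
  have : g₁ ∈ (U : Set Γ) * (Y : Set Γ) := by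
    rw [← Subgroup.mul_normal]; exact hg₁
  obtain ⟨u, hu, y, hy, rfl⟩ := Set.mem_mul.1 this
  have e : ⁅u * y, k⁆ = (u * ⁅y, k⁆ * u⁻¹) * ⁅u, k⁆ := by
    simp only [commutatorElement_def]; group
  rw [e]
  have hyk : ⁅y, k⁆ ∈ Y := by
    have : ⁅y, k⁆ = y * (k * y⁻¹ * k⁻¹) := by simp only [commutatorElement_def]; group
    rw [this]
    exact mul_mem hy (hY.conj_mem _ (inv_mem hy) k)
  exact mul_mem (Subgroup.mem_sup_right (hY.conj_mem _ hyk u))
    (Subgroup.mem_sup_left (Subgroup.commutator_mem_commutator hu hk))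

theorem iter_sup_normal_le (U Y K : Subgroup Γ) [Y.Normal] :
    ∀ n, iterCommutator (U ⊔ Y) K n ≤ iterCommutator U K n ⊔ Y
  | 0 => le_rfl
  | n + 1 => (Subgroup.commutator_mono (iter_sup_normal_le U Y K n) le_rfl).trans
      (commutator_sup_normal_le _ Y K)

theorem good_step (K : Subgroup Γ) (k : ℕ) (N' N : Subgroup Γ) [hN'n : N'.Normal]
    (hN' : Good K k N') (hstep : iterCommutator N K k ≤ N') : Good K k N := by
  intro X Y hch hXN
  obtain ⟨hYX, hXn, hYn, hmax⟩ := hch
  haveI := hXn
  haveI := hYn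
  have hnorm : ((X ⊓ N') ⊔ Y).Normal := inferInstance
  rcases hmax ((X ⊓ N') ⊔ Y) hnorm le_sup_right (sup_le inf_le_left hYX.le) with h | h
  · have h1 : X ⊓ N' ≤ Y := by rw [← h]; exact le_sup_left
    have h2 : iterCommutator X K k ≤ X := iter_le_self (kinv_of_normal K X) k
    have h3 : iterCommutator X K k ≤ N' := (iter_mono_left K hXN k).trans hstep
    exact (le_inf h2 h3).trans h1
  · have hch' : IsChiefFactor (X ⊓ N') (Y ⊓ N') := by
      refine ⟨?_, inferInstance, inferInstance, ?_⟩
      · refine lt_of_le_of_ne (inf_le_inf_right _ hYX.le) ?_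
        intro heq
        have h1 : X ⊓ N' ≤ Y := by rw [← heq]; exact inf_le_left
        have h2 : X ≤ Y := by rw [← h]; exact sup_le h1 le_rfl
        exact absurd hYX (not_lt_of_ge h2)
      · intro L hLn hYL hLX
        haveI := hLn
        have hLn' : (L ⊔ Y).Normal := inferInstance
        rcases hmax (L ⊔ Y) hLn' le_sup_right (sup_le (hLX.trans inf_le_left) hYX.le) with h' | h'
        · left
          apply le_antisymm _ hYL
          have : L ≤ Y := by rw [← h']; exact le_sup_left
          exact le_inf this (hLX.trans inf_le_right)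
        · right
          apply le_antisymm hLX
          intro x hx
          have hxX : x ∈ L ⊔ Y := by rw [h']; exact (Subgroup.mem_inf.1 hx).1
          have : x ∈ (L : Set Γ) * (Y : Set Γ) := by
            rw [← Subgroup.mul_normal]; exact hxX
          obtain ⟨l, hl, y, hy, rfl⟩ := Set.mem_mul.1 this
          have hlN : l ∈ N' := (Subgroup.mem_inf.1 (hLX hl)).2
          have hyN : y ∈ N' := by
            have : y = l⁻¹ * (l * y) := by group
            rw [this]
            exact mul_mem (inv_mem hlN) (Subgroup.mem_inf.1 hx).2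
          exact mul_mem hl (hYL (Subgroup.mem_inf.2 ⟨hy, hyN⟩))
    have h1 := hN' _ _ hch' inf_le_right
    have h2 := iter_sup_normal_le (X ⊓ N') Y K k
    rw [h] at h2
    exact h2.trans (sup_le (h1.trans inf_le_left) le_rfl)

end Cfsg.Agent.Lib.Helper1.StabAct
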