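import Mathlib
import Cfsg.Agent.Lib.Helper1.StableAction

set_option autoImplicit false

/-! A "critical pair" `M ≤ A` in a normal `p`-subgroup `T` of a finite group: if `g` acts cubically on
`A` and quadratically on `M` then `g` acts with degree at most four on every chief factor inside `T`. -/

namespace Cfsg.Agent.Lib.Helper1.QC

open Cfsg Cfsg.Agent.Lib.Helper1.StabAct
open scoped commutatorElement Pointwise

variable {X : Type*} [Group X]

theorem iter_le_lowerCentralSeries (T Y : Subgroup X) (hY : Y ≤ T) :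
    ∀ n, iterCommutator Y T n ≤ T.lowerCentralSeries n
  | 0 => hY
  | n + 1 => Subgroup.commutator_mono (iter_le_lowerCentralSeries T Y hY n) le_rfl

theorem iter_eq_bot_of_pgroup [Finite X] {p : ℕ} [Fact p.Prime] (T : Subgroup X) (hT : IsPGroup p ↥T)
    (Y : Subgroup X) (hY : Y ≤ T) : ∃ n, iterCommutator Y T n = ⊥ := by
  have hnil : Group.IsNilpotent ↥T := hT.isNilpotent
  obtain ⟨n, hn⟩ := (Subgroup.isNilpotent_iff_lowerCentralSeries (S := T)).1 hnil
  refine ⟨n, le_bot_iff.1 ?_⟩
  rw [← hn]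
  exact iter_le_lowerCentralSeries T Y hY n

theorem commutator_lt_of_pgroup [Finite X] {p : ℕ} [Fact p.Prime] (T : Subgroup X) (hT : IsPGroup p ↥T)
    (Y : Subgroup X) [hYn : Y.Normal] (hY : Y ≤ T) (hne : Y ≠ ⊥) : ⁅Y, T⁆ < Y := by
  have hle : ⁅Y, T⁆ ≤ Y := commutator_le_of_kinv (kinv_of_normal T Y)
  refine lt_of_le_of_ne hle ?_
  intro heq
  obtain ⟨n, hn⟩ := iter_eq_bot_of_pgroup T hT Y hY
  have : ∀ i, iterCommutator Y T i = Y := by
    intro i
    induction i with
    | zero => rfl
    | succ i ih =>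
      show ⁅iterCommutator Y T i, T⁆ = Y
      rw [ih, heq]
  rw [this n] at hn
  exact hne hn

/-- The subgroup of `C_T(M)` of elements acting trivially on `T / M`. -/
def critA (T M : Subgroup X) [hM : M.Normal] : Subgroup X where
  carrier := {x | x ∈ T ⊓ Subgroup.centralizer (M : Set X) ∧ ∀ t ∈ T, ⁅x, t⁆ ∈ M}
  one_mem' := ⟨one_mem _, fun t _ => by simp⟩
  mul_mem' := by
    rintro x y ⟨hx, hx'⟩ ⟨hy, hy'⟩
    refine ⟨mul_mem hx hy, fun t ht => ?_⟩
    have e : ⁅x * y, t⁆ = (x * ⁅y, t⁆ * x⁻¹) * ⁅x, t⁆ := by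
      simp only [commutatorElement_def]; group
    rw [e]
    exact mul_mem (hM.conj_mem _ (hy' t ht) x) (hx' t ht)
  inv_mem' := by
    rintro x ⟨hx, hx'⟩
    refine ⟨inv_mem hx, fun t ht => ?_⟩
    have e : ⁅x⁻¹, t⁆ = x⁻¹ * (⁅x, t⁆)⁻¹ * x⁻¹⁻¹ := by
      simp only [commutatorElement_def]; group
    rw [e]
    exact hM.conj_mem _ (inv_mem (hx' t ht)) x⁻¹

theorem mem_critA {T M : Subgroup X} [M.Normal] {x : X} :
    x ∈ critA T M ↔ x ∈ T ⊓ Subgroup.centralizer (M : Set X) ∧ ∀ t ∈ T, ⁅x, t⁆ ∈ M := Iff.rfl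

instance critA_normal (T M : Subgroup X) [hT : T.Normal] [hM : M.Normal] : (critA T M).Normal := by
  constructor
  intro x hx g
  obtain ⟨hx1, hx2⟩ := hx
  haveI : (Subgroup.centralizer (M : Set X)).Normal := Subgroup.normal_centralizer
  have hCn : (T ⊓ Subgroup.centralizer (M : Set X)).Normal := inferInstance
  refine ⟨hCn.conj_mem x hx1 g, fun t ht => ?_⟩
  have e : ⁅g * x * g⁻¹, t⁆ = g * ⁅x, g⁻¹ * t * g⁻¹⁻¹⁆ * g⁻¹ := by
    simp only [commutatorElement_def]; group
  rw [e]
  exact hM.conj_mem _ (hx2 _ (hT.conj_mem t ht g⁻¹)) g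

section critical

variable [Finite X] {p : ℕ} [Fact p.Prime] (T : Subgroup X) [hTn : T.Normal] (hT : IsPGroup p ↥T)
  (M : Subgroup X) [hMn : M.Normal] (hMT : M ≤ T) (hMab : ∀ a ∈ M, ∀ b ∈ M, a * b = b * a)
  (hMmax : ∀ M' : Subgroup X, M'.Normal → M' ≤ T → (∀ a ∈ M', ∀ b ∈ M', a * b = b * a) → M ≤ M' → M' ≤ M)

include hMT hMab in
theorem le_critA : M ≤ critA T M := by
  intro m hm
  refine ⟨Subgroup.mem_inf.2 ⟨hMT hm, ?_⟩, fun t _ => ?_⟩
  · rw [Subgroup.mem_centralizer_iff]
    intro b hb
    exact hMab b hb m hm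
  · have : ⁅m, t⁆ = m * (t * m⁻¹ * t⁻¹) := by simp only [commutatorElement_def]; group
    rw [this]
    exact mul_mem hm (hMn.conj_mem _ (inv_mem hm) t)

omit [Finite X] hTn in
theorem critA_le : critA T M ≤ T ⊓ Subgroup.centralizer (M : Set X) := fun _ hx => hx.1

omit [Finite X] hTn in
theorem critA_commutator_le : ⁅critA T M, T⁆ ≤ M := by
  rw [Subgroup.commutator_le]
  intro x hx t ht
  exact hx.2 t ht

include hT hMT hMab hMmax in
/-- The kernel of the action of `C_T(M)` on `A` is `M`. -/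
theorem centralizer_critA_le :
    (T ⊓ Subgroup.centralizer (M : Set X)) ⊓ Subgroup.centralizer ((critA T M : Subgroup X) : Set X) ≤ M := by
  by_contra hcon
  haveI hCMn : (Subgroup.centralizer (M : Set X)).Normal := Subgroup.normal_centralizer
  haveI hCAn : (Subgroup.centralizer ((critA T M : Subgroup X) : Set X)).Normal :=
    Subgroup.normal_centralizer
  set C := T ⊓ Subgroup.centralizer (M : Set X) with hC
  set A := critA T M with hA
  set N₀ := C ⊓ Subgroup.centralizer (A : Set X) with hN₀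
  haveI hN₀n : N₀.Normal := inferInstance
  set N₁ := N₀ ⊔ M with hN₁
  haveI hN₁n : N₁.Normal := inferInstance
  have hMA : M ≤ A := le_critA T M hMT hMab
  have hMC : M ≤ C := hMA.trans (critA_le T M)
  have hN₁C : N₁ ≤ C := sup_le inf_le_left hMC
  have hN₁T : N₁ ≤ T := hN₁C.trans inf_le_left
  obtain ⟨n, hn⟩ := iter_eq_bot_of_pgroup T hT N₁ hN₁T
  have hex : ∃ i, iterCommutator N₁ T i ≤ M := ⟨n, by rw [hn]; exact bot_le⟩
  classical
  set i₀ := Nat.find hex with hi₀
  have hi₀M : iterCommutator N₁ T i₀ ≤ M := Nat.find_spec hex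
  have hi₀ne : i₀ ≠ 0 := by
    intro h0
    rw [h0] at hi₀M
    exact hcon (le_sup_left.trans hi₀M)
  obtain ⟨j, hj⟩ := Nat.exists_eq_succ_of_ne_zero hi₀ne
  have hjM : ¬ iterCommutator N₁ T j ≤ M := Nat.find_min hex (by omega)
  obtain ⟨x, hxj, hxM⟩ := SetLike.not_le_iff_exists.1 hjM
  have hxN₁ : x ∈ N₁ := iter_le_self (kinv_of_normal T N₁) j hxj
  have hxA : x ∈ A := by
    refine ⟨hN₁C hxN₁, fun t ht => ?_⟩
    apply hi₀M
    rw [hj]
    exact Subgroup.commutator_mem_commutator hxj ht
  have hx' : x ∈ (N₀ : Set X) * (M : Set X) := by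
    rw [← Subgroup.mul_normal]; exact hxN₁
  obtain ⟨n₀, hn₀, m, hm, rfl⟩ := Set.mem_mul.1 hx'
  have hn₀A : n₀ ∈ A := by
    have : n₀ = n₀ * m * m⁻¹ := by group
    rw [this]
    exact mul_mem hxA (inv_mem (hMA hm))
  -- the centre of `A`
  haveI hAn : A.Normal := critA_normal T M
  set Z := A ⊓ Subgroup.centralizer (A : Set X) with hZ
  have hZn : Z.Normal := inferInstance
  have hZT : Z ≤ T := inf_le_left.trans ((critA_le T M).trans inf_le_left)
  have hZab : ∀ a ∈ Z, ∀ b ∈ Z, a * b = b * a := by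
    intro a ha b hb
    exact Subgroup.mem_centralizer_iff.1 (Subgroup.mem_inf.1 hb).2 a (Subgroup.mem_inf.1 ha).1
  have hMZ : M ≤ Z := by
    intro m' hm'
    refine Subgroup.mem_inf.2 ⟨hMA hm', ?_⟩
    rw [Subgroup.mem_centralizer_iff]
    intro a ha
    have := Subgroup.mem_centralizer_iff.1 (Subgroup.mem_inf.1 ((critA_le T M) ha)).2 m' hm'
    exact this.symm
  have hZM : Z ≤ M := hMmax Z hZn hZT hZab hMZ
  have hn₀M : n₀ ∈ M := hZM (Subgroup.mem_inf.2 ⟨hn₀A, (Subgroup.mem_inf.1 hn₀).2⟩)
  exact hxM (mul_mem hn₀M hm)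

include hT hMT hMab hMmax in
/-- Key lemma: cubic on `A`, quadratic on `M` implies quartic on all chief factors inside `T`. -/
theorem good_of_cubic (K : Subgroup X) (k : ℕ) (hk : 4 ≤ k)
    (hA3 : iterCommutator (critA T M) K 3 = ⊥) (hM2 : iterCommutator M K 2 = ⊥) :
    Good K k T := by
  haveI hCMn : (Subgroup.centralizer (M : Set X)).Normal := Subgroup.normal_centralizer
  set C := T ⊓ Subgroup.centralizer (M : Set X) with hC
  haveI hCn : C.Normal := inferInstance
  set A := critA T M with hA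
  haveI hAn : A.Normal := critA_normal T M
  have hMA : M ≤ A := le_critA T M hMT hMab
  have hAC : A ≤ C := critA_le T M
  -- bottom layer
  have good_M : Good K k M := by
    haveI : (⊥ : Subgroup X).Normal := Subgroup.normal_bot
    apply good_step K k ⊥ M (good_bot K k)
    rw [iter_eq_bot_of_le (by omega) hM2]
  -- middle layer
  have good_C : Good K k C := by
    apply good_step K k M C good_M
    have h1 : iterCommutator C K k ≤ Subgroup.centralizer (A : Set X) := by
      apply ghl K A M C (kinv_of_normal K A) (kinv_of_normal K M) (kinv_of_normal K C)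
        (hAC.trans inf_le_right) inf_le_right _ 3 2 hA3 hM2 k (by omega)
      exact (Subgroup.commutator_mono le_rfl inf_le_left).trans (critA_commutator_le T M)
    have h2 : iterCommutator C K k ≤ C := iter_le_self (kinv_of_normal K C) k
    exact (le_inf h2 h1).trans (centralizer_critA_le T hT M hMT hMab hMmax)
  -- top layers
  have key : ∀ M' : Subgroup X, M'.Normal → M' ≤ M →
      Good K k (T ⊓ Subgroup.centralizer (M' : Set X)) → Good K k T := by
    intro M'
    induction M' using WellFoundedLT.induction with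
    | _ M' ih =>
      intro hM'n hM'M hgood
      by_cases hbot : M' = ⊥
      · have : T ⊓ Subgroup.centralizer ((M' : Subgroup X) : Set X) = T := by
          rw [hbot]
          apply inf_eq_left.2
          intro t _
          rw [Subgroup.mem_centralizer_iff]
          intro b hb
          have : b = 1 := hb
          rw [this, one_mul, mul_one]
        rwa [this] at hgood
      · haveI := hM'n
        have hM'T : M' ≤ T := hM'M.trans hMT
        set M'' := ⁅M', T⁆ with hM''
        have hlt : M'' < M' := commutator_lt_of_pgroup T hT M' hM'T hbot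
        haveI hM''n : M''.Normal := inferInstance
        apply ih M'' hlt hM''n (hlt.le.trans hM'M)
        haveI hc' : (Subgroup.centralizer ((M' : Subgroup X) : Set X)).Normal :=
          Subgroup.normal_centralizer
        haveI hc'' : (Subgroup.centralizer ((M'' : Subgroup X) : Set X)).Normal :=
          Subgroup.normal_centralizer
        haveI : (T ⊓ Subgroup.centralizer ((M' : Subgroup X) : Set X)).Normal := inferInstance
        haveI : (T ⊓ Subgroup.centralizer ((M'' : Subgroup X) : Set X)).Normal := inferInstance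
        apply good_step K k (T ⊓ Subgroup.centralizer ((M' : Subgroup X) : Set X)) _ hgood
        set D := T ⊓ Subgroup.centralizer ((M'' : Subgroup X) : Set X) with hD
        have hab : ∀ Y : Subgroup X, Y ≤ M → iterCommutator Y K 2 = ⊥ := by
          intro Y hY
          exact le_bot_iff.1 (hM2 ▸ iter_mono_left K hY 2)
        have h1 : iterCommutator D K k ≤ Subgroup.centralizer ((M' : Subgroup X) : Set X) := by
          apply ghl K M' M'' D (kinv_of_normal K M') (kinv_of_normal K M'') (kinv_of_normal K D)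
            _ inf_le_right _ 2 2 (hab M' hM'M) (hab M'' (hlt.le.trans hM'M)) k (by omega)
          · intro a ha
            rw [Subgroup.mem_centralizer_iff]
            intro b hb
            exact hMab b (hM'M (hlt.le hb)) a (hM'M ha)
          · exact Subgroup.commutator_mono le_rfl inf_le_left
        have h2 : iterCommutator D K k ≤ D := iter_le_self (kinv_of_normal K D) k
        exact le_inf (h2.trans inf_le_left) h1
  exact key M hMn le_rfl good_C

end critical

/-- Existence of a maximal abelian normal subgroup of `X` inside `T`. -/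
theorem exists_max_abelian_normal [Finite X] (T : Subgroup X) :
    ∃ M : Subgroup X, M.Normal ∧ M ≤ T ∧ (∀ a ∈ M, ∀ b ∈ M, a * b = b * a) ∧
      ∀ M' : Subgroup X, M'.Normal → M' ≤ T → (∀ a ∈ M', ∀ b ∈ M', a * b = b * a) → M ≤ M' → M' ≤ M := by
  set 𝒜 : Set (Subgroup X) := {M | M.Normal ∧ M ≤ T ∧ ∀ a ∈ M, ∀ b ∈ M, a * b = b * a} with h𝒜
  have hne : 𝒜.Nonempty := ⟨⊥, Subgroup.normal_bot, bot_le, by
    intro a ha b hb
    rw [Subgroup.mem_bot] at ha hb
    rw [ha, hb]⟩
  obtain ⟨M, hM⟩ := (Set.toFinite 𝒜).exists_maximal hne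
  refine ⟨M, hM.1.1, hM.1.2.1, hM.1.2.2, fun M' h1 h2 h3 h4 => hM.2 ⟨h1, h2, h3⟩ h4⟩

end Cfsg.Agent.Lib.Helper1.QC
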