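import Mathlib
import Cfsg.Agent.Lib.Helper1.QuarticChief

set_option autoImplicit false

/-! Degree bounds for the action of an element on the chief factors inside a normal `p`-subgroup,
from the bounds on the chief factors inside a critical subgroup and its centre. -/

namespace Cfsg.Agent.Lib.Helper1.CritDeg

open Cfsg Cfsg.Agent.Lib.Helper1.StabAct Cfsg.Agent.Lib.Helper1.QC
open scoped commutatorElement Pointwise

variable {Γ : Type*} [Group Γ]

/-- The stability lemma (three subgroups lemma version). -/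
theorem ghl' (K A B D : Subgroup Γ) (hA : KInv K A) (hB : KInv K B) (hD : KInv K D)
    (hBA : A ≤ Subgroup.centralizer (B : Set Γ)) (hBD : D ≤ Subgroup.centralizer (B : Set Γ))
    (hAD : ⁅A, D⁆ ≤ B) (a b : ℕ) (ha : ⁅iterCommutator A K a, D⁆ = ⊥) (hb : iterCommutator B K b = ⊥)
    (k : ℕ) (hk : a + b ≤ k + 1) :
    iterCommutator D K k ≤ Subgroup.centralizer (A : Set Γ) := by
  have main : ∀ n i : ℕ, ⁅iterCommutator A K i, iterCommutator D K n⁆ ≤
      iterCommutator B K (n + i + 1 - a) := by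
    intro n
    induction n with
    | zero =>
      intro i
      by_cases hi : i + 1 ≤ a
      · have : 0 + i + 1 - a = 0 := by omega
        rw [this]
        exact (Subgroup.commutator_mono (iter_le_self hA i) le_rfl).trans hAD
      · have h1 : iterCommutator A K i ≤ iterCommutator A K a := iter_antitone hA (by omega)
        have h2 : ⁅iterCommutator A K i, iterCommutator D K 0⁆ ≤ ⁅iterCommutator A K a, D⁆ :=
          Subgroup.commutator_mono h1 le_rfl
        rw [ha] at h2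
        exact h2.trans bot_le
    | succ n ih =>
      intro i
      set N := iterCommutator B K (n + 1 + i + 1 - a) with hN
      have hNB : N ≤ B := iter_le_self hB _
      have hNK : KInv K N := iter_kinv hB _
      have h1 : iterCommutator B K (n + i + 1 - a + 1) ≤ N := iter_antitone hB (by omega)
      have h2 : ⁅iterCommutator A K (i + 1), iterCommutator D K n⁆ ≤ N := by
        have := ih (i + 1)
        have e : n + (i + 1) + 1 - a = n + 1 + i + 1 - a := by omega
        rwa [e] at this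
      have hDn : iterCommutator D K n ≤ D := iter_le_self hD n
      have hAi : iterCommutator A K i ≤ A := iter_le_self hA i
      have key : ⁅iterCommutator D K n, K⁆ ≤ relCent B N (iterCommutator A K i) hNB := by
        rw [Subgroup.commutator_le]
        intro d hd k' hk'
        refine ⟨?_, ?_⟩
        · have : ⁅d, k'⁆ = d * (k' * d⁻¹ * k'⁻¹) := by
            simp only [commutatorElement_def]; group
          rw [this]
          exact mul_mem (hBD (hDn hd)) (hBD (hD k' hk' _ (inv_mem (hDn hd))))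
        · intro x hx
          have hn₁N : ⁅k', ⁅x⁻¹, d⁻¹⁆⁆ ∈ N := by
            apply h1
            have hβ : ⁅x⁻¹, d⁻¹⁆ ∈ iterCommutator B K (n + i + 1 - a) :=
              ih i (Subgroup.commutator_mem_commutator (inv_mem hx) (inv_mem hd))
            rw [← commutatorElement_inv]
            exact inv_mem (Subgroup.commutator_mem_commutator hβ hk')
          have hn₂N : ⁅d⁻¹, ⁅k'⁻¹, x⁆⁆ ∈ N := by
            apply h2
            have hα : ⁅k'⁻¹, x⁆ ∈ iterCommutator A K (i + 1) := by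
              rw [← commutatorElement_inv]
              exact inv_mem (Subgroup.commutator_mem_commutator hx (inv_mem hk'))
            rw [← commutatorElement_inv]
            exact inv_mem (Subgroup.commutator_mem_commutator hα (inv_mem hd))
          set n₁ := ⁅k', ⁅x⁻¹, d⁻¹⁆⁆ with hn₁
          set n₂ := ⁅d⁻¹, ⁅k'⁻¹, x⁆⁆ with hn₂
          have hw : ⁅x, ⁅d, k'⁆⁆ = d * ((x * n₁⁻¹ * x⁻¹) * (k' * n₂⁻¹ * k'⁻¹)) * d⁻¹ := by
            simp only [hn₁, hn₂, commutatorElement_def]; group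
          have hx1 : x * n₁⁻¹ * x⁻¹ = n₁⁻¹ := by
            have := Subgroup.mem_centralizer_iff.1 (hBA (hAi hx)) _ (hNB (inv_mem hn₁N))
            rw [← this]; group
          have hk2 : k' * n₂⁻¹ * k'⁻¹ ∈ N := hNK k' hk' _ (inv_mem hn₂N)
          have hprod : n₁⁻¹ * (k' * n₂⁻¹ * k'⁻¹) ∈ N := mul_mem (inv_mem hn₁N) hk2
          have hd1 : d * (n₁⁻¹ * (k' * n₂⁻¹ * k'⁻¹)) * d⁻¹ = n₁⁻¹ * (k' * n₂⁻¹ * k'⁻¹) := by
            have := Subgroup.mem_centralizer_iff.1 (hBD (hDn hd)) _ (hNB hprod)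
            rw [← this]; group
          rw [hw, hx1, hd1]
          exact hprod
      show ⁅iterCommutator A K i, ⁅iterCommutator D K n, K⁆⁆ ≤ N
      rw [Subgroup.commutator_le]
      intro x hx w hw
      exact (key hw).2 x hx
  have hfin := main k 0
  have hbot : iterCommutator B K (k + 0 + 1 - a) = ⊥ := iter_eq_bot_of_le (by omega) hb
  rw [hbot] at hfin
  have : ⁅iterCommutator D K k, A⁆ = ⊥ := by
    rw [Subgroup.commutator_comm]
    exact le_bot_iff.1 hfin
  exact Subgroup.commutator_eq_bot_iff_le_centralizer.1 this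


theorem iter_map {Γ' : Type*} [Group Γ'] (f : Γ →* Γ') (N K : Subgroup Γ) :
    ∀ n, iterCommutator (N.map f) (K.map f) n = (iterCommutator N K n).map f
  | 0 => rfl
  | n + 1 => by
    show ⁅iterCommutator (N.map f) (K.map f) n, K.map f⁆ = (⁅iterCommutator N K n, K⁆).map f
    rw [iter_map f N K n, Subgroup.map_commutator]

/-- Elements of `P` whose commutators with `U` lie in the normal subgroup `W`. -/
def CC (P U W : Subgroup Γ) [hW : W.Normal] : Subgroup Γ where
  carrier := {x | x ∈ P ∧ ∀ u ∈ U, ⁅u, x⁆ ∈ W}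
  one_mem' := ⟨one_mem _, fun u _ => by simp⟩
  mul_mem' := by
    rintro x y ⟨hx, hx'⟩ ⟨hy, hy'⟩
    refine ⟨mul_mem hx hy, fun u hu => ?_⟩
    have e : ⁅u, x * y⁆ = ⁅u, x⁆ * (x * ⁅u, y⁆ * x⁻¹) := by
      simp only [commutatorElement_def]; group
    rw [e]
    exact mul_mem (hx' u hu) (hW.conj_mem _ (hy' u hu) x)
  inv_mem' := by
    rintro x ⟨hx, hx'⟩
    refine ⟨inv_mem hx, fun u hu => ?_⟩
    have e : ⁅u, x⁻¹⁆ = x⁻¹ * ⁅u, x⁆⁻¹ * x⁻¹⁻¹ := by
      simp only [commutatorElement_def]; group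
    rw [e]
    exact hW.conj_mem _ (inv_mem (hx' u hu)) x⁻¹

theorem mem_CC {P U W : Subgroup Γ} [W.Normal] {x : Γ} :
    x ∈ CC P U W ↔ x ∈ P ∧ ∀ u ∈ U, ⁅u, x⁆ ∈ W := Iff.rfl

instance CC_normal (P U W : Subgroup Γ) [hP : P.Normal] [hU : U.Normal] [hW : W.Normal] :
    (CC P U W).Normal := by
  constructor
  rintro x ⟨hx, hx'⟩ g
  refine ⟨hP.conj_mem x hx g, fun u hu => ?_⟩
  have e : ⁅u, g * x * g⁻¹⁆ = g * ⁅g⁻¹ * u * g, x⁆ * g⁻¹ := by
    simp only [commutatorElement_def]; group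
  rw [e]
  apply hW.conj_mem
  apply hx'
  have := hU.conj_mem u hu g⁻¹
  simpa using this

theorem CC_le (P U W : Subgroup Γ) [W.Normal] : CC P U W ≤ P := fun _ h => h.1

theorem comm_CC_le (P U W : Subgroup Γ) [W.Normal] : ⁅U, CC P U W⁆ ≤ W := by
  rw [Subgroup.commutator_le]
  intro u hu x hx
  exact hx.2 u hu

theorem good_mono {K : Subgroup Γ} {k : ℕ} {N N' : Subgroup Γ} (h : Good K k N) (hle : N' ≤ N) :
    Good K k N' := fun X Y hch hX => h X Y hch (hX.trans hle)

/-- The key step. -/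
theorem step (K P Q W W' U U₂ : Subgroup Γ) [hPn : P.Normal] [hQn : Q.Normal] [hWn : W.Normal]
    [hW'n : W'.Normal] [hUn : U.Normal] [hU₂n : U₂.Normal]
    (hU₂Q : U₂ ≤ Q) (hUU₂ : U ≤ U₂) (hW'W : W' ≤ W)
    (hWP : ⁅W, P⁆ ≤ W') (hQW : Q ≤ Subgroup.centralizer (W : Set Γ))
    (i j k : ℕ) (hi : iterCommutator U₂ K i ≤ U) (hj : iterCommutator W K j ≤ W')
    (hk : i + j ≤ k + 1) :
    iterCommutator (CC P Q W ⊓ CC P U W') K k ≤ CC P Q W ⊓ CC P U₂ W' := by
  set L := CC P Q W ⊓ CC P U W' with hL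
  haveI hLn : L.Normal := inferInstance
  set π := QuotientGroup.mk' W' with hπ
  have hsurj : Function.Surjective π := QuotientGroup.mk'_surjective W'
  have hW'bot : W'.map π = ⊥ := by
    rw [Subgroup.map_eq_bot_iff, hπ, QuotientGroup.ker_mk']
  have hbot : ∀ H : Subgroup Γ, H ≤ W' → H.map π = ⊥ := fun H hH =>
    le_bot_iff.1 (hW'bot ▸ Subgroup.map_mono hH)
  haveI : (U₂.map π).Normal := hU₂n.map π hsurj
  haveI : (W.map π).Normal := hWn.map π hsurj
  haveI : (L.map π).Normal := hLn.map π hsurj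
  have hLP : L ≤ P := inf_le_left.trans (CC_le P Q W)
  have key := ghl' (K.map π) (U₂.map π) (W.map π) (L.map π) (kinv_of_normal _ _) (kinv_of_normal _ _)
    (kinv_of_normal _ _)
    (by
      rw [← Subgroup.commutator_eq_bot_iff_le_centralizer, ← Subgroup.map_commutator]
      have : ⁅U₂, W⁆ = ⊥ := Subgroup.commutator_eq_bot_iff_le_centralizer.2 (hU₂Q.trans hQW)
      rw [this, Subgroup.map_bot])
    (by
      rw [← Subgroup.commutator_eq_bot_iff_le_centralizer, ← Subgroup.map_commutator]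
      apply hbot
      rw [Subgroup.commutator_comm]
      exact (Subgroup.commutator_mono le_rfl hLP).trans hWP)
    (by
      rw [← Subgroup.map_commutator]
      apply Subgroup.map_mono
      exact (Subgroup.commutator_mono hU₂Q inf_le_left).trans (comm_CC_le P Q W))
    i j
    (by
      rw [iter_map, ← Subgroup.map_commutator]
      apply hbot
      exact (Subgroup.commutator_mono hi inf_le_right).trans (comm_CC_le P U W'))
    (by
      rw [iter_map]
      exact hbot _ hj)
    k hk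
  rw [iter_map, ← Subgroup.commutator_eq_bot_iff_le_centralizer, Subgroup.commutator_comm,
    ← Subgroup.map_commutator, Subgroup.map_eq_bot_iff, hπ, QuotientGroup.ker_mk'] at key
  intro x hx
  have hxL : x ∈ L := iter_le_self (kinv_of_normal K L) k hx
  refine Subgroup.mem_inf.2 ⟨(Subgroup.mem_inf.1 hxL).1, ?_⟩
  refine ⟨hLP hxL, fun u hu => ?_⟩
  exact key (Subgroup.commutator_mem_commutator hu hx)


/-- A normal `p`-subgroup centralizes every chief factor below it. -/
theorem chief_comm_le [Finite Γ] {p : ℕ} [Fact p.Prime] (P : Subgroup Γ) [hPn : P.Normal]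
    (hP : IsPGroup p ↥P) (W W' : Subgroup Γ) (hch : IsChiefFactor W W') (hWP : W ≤ P) :
    ⁅W, P⁆ ≤ W' := by
  obtain ⟨hlt, hWn, hW'n, hmax⟩ := hch
  haveI := hWn
  haveI := hW'n
  have hcW : ⁅W, P⁆ ≤ W := commutator_le_of_kinv (kinv_of_normal P W)
  rcases hmax (⁅W, P⁆ ⊔ W') inferInstance le_sup_right (sup_le hcW hlt.le) with h | h
  · rw [← h]; exact le_sup_left
  · exfalso
    obtain ⟨n, hn⟩ := iter_eq_bot_of_pgroup P hP W hWP
    have hall : ∀ m, W ≤ iterCommutator W P m ⊔ W' := by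
      intro m
      induction m with
      | zero => exact le_sup_left
      | succ m ih =>
        calc W = ⁅W, P⁆ ⊔ W' := h.symm
          _ ≤ ⁅iterCommutator W P m ⊔ W', P⁆ ⊔ W' :=
            sup_le_sup_right (Subgroup.commutator_mono ih le_rfl) _
          _ ≤ (⁅iterCommutator W P m, P⁆ ⊔ W') ⊔ W' :=
            sup_le_sup_right (commutator_sup_normal_le _ W' P) _
          _ = iterCommutator W P (m + 1) ⊔ W' := by rw [sup_assoc, sup_idem]; rfl
    have h2 := hall n
    rw [hn, bot_sup_eq] at h2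
    exact absurd hlt (not_lt_of_ge h2)

theorem inner [Finite Γ] (K P Q W W' : Subgroup Γ) [hPn : P.Normal] [hQn : Q.Normal] [hWn : W.Normal]
    [hW'n : W'.Normal] (hW'W : W' ≤ W) (hWP : ⁅W, P⁆ ≤ W')
    (hQW : Q ≤ Subgroup.centralizer (W : Set Γ)) (i j k : ℕ)
    (hQi : ∀ U V : Subgroup Γ, IsChiefFactor U V → U ≤ Q → iterCommutator U K i ≤ V)
    (hj : iterCommutator W K j ≤ W') (hk : i + j ≤ k + 1)
    (hbase : Good K k (CC P Q W')) :
    ∀ U : Subgroup Γ, U.Normal → U ≤ Q → Good K k (CC P Q W ⊓ CC P U W') := by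
  intro U
  induction U using WellFoundedGT.induction with
  | ind U ih =>
    intro hUn hUQ
    haveI := hUn
    by_cases hUeq : U = Q
    · rw [hUeq]
      exact good_mono hbase inf_le_right
    · have hlt : U < Q := lt_of_le_of_ne hUQ hUeq
      set 𝒜 : Set (Subgroup Γ) := {U₂ | U₂.Normal ∧ U < U₂ ∧ U₂ ≤ Q} with h𝒜
      have hne : 𝒜.Nonempty := ⟨Q, hQn, hlt, le_rfl⟩
      obtain ⟨U₂, hU₂⟩ := (Set.toFinite 𝒜).exists_minimal hne
      obtain ⟨hU₂n, hUU₂, hU₂Q⟩ := hU₂.1
      haveI := hU₂n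
      have hch : IsChiefFactor U₂ U := ⟨hUU₂, hU₂n, hUn, fun N hNn hUN hNU₂ => by
        by_cases hN : N = U
        · left; exact hN
        · right
          have hmem : N ∈ 𝒜 := ⟨hNn, lt_of_le_of_ne hUN (Ne.symm hN), hNU₂.trans hU₂Q⟩
          exact le_antisymm hNU₂ (hU₂.2 hmem hNU₂)⟩
      have hstep := step K P Q W W' U U₂ hU₂Q hUU₂.le hW'W hWP hQW i j k (hQi U₂ U hch hU₂Q) hj hk
      exact good_step K k (CC P Q W ⊓ CC P U₂ W') _ (ih U₂ hUU₂ hU₂n hU₂Q) hstep

theorem outer [Finite Γ] {p : ℕ} [Fact p.Prime] (K P Q : Subgroup Γ) [hPn : P.Normal] [hQn : Q.Normal]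
    (hP : IsPGroup p ↥P) (hQP : Q ≤ P) (i j k : ℕ)
    (hQi : ∀ U V : Subgroup Γ, IsChiefFactor U V → U ≤ Q → iterCommutator U K i ≤ V)
    (hZj : ∀ U V : Subgroup Γ, IsChiefFactor U V → U ≤ Q ⊓ Subgroup.centralizer (Q : Set Γ) →
      iterCommutator U K j ≤ V)
    (hk : i + j ≤ k + 1) (hjk : j ≤ k)
    (hQ4 : P ⊓ Subgroup.centralizer (Q : Set Γ) = Q ⊓ Subgroup.centralizer (Q : Set Γ)) :
    ∀ W : Subgroup Γ, ∀ hW : W.Normal, W ≤ Q ⊓ Subgroup.centralizer (Q : Set Γ) →
      Good K k (@CC _ _ P Q W hW) := by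
  intro W
  induction W using WellFoundedLT.induction with
  | ind W ih =>
    intro hWn hWZ
    haveI := hWn
    have hZgood : Good K k (Q ⊓ Subgroup.centralizer (Q : Set Γ)) := by
      intro X Y hch hX
      haveI := hch.2.1
      exact (iter_antitone (kinv_of_normal K X) hjk).trans (hZj X Y hch hX)
    by_cases hWbot : W = ⊥
    · apply good_mono hZgood
      intro x hx
      rw [← hQ4]
      refine Subgroup.mem_inf.2 ⟨hx.1, ?_⟩
      rw [Subgroup.mem_centralizer_iff]
      intro u hu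
      have h1 := hx.2 u hu
      rw [hWbot, Subgroup.mem_bot] at h1
      exact (commutatorElement_eq_one_iff_mul_comm.1 h1)
    · set 𝒜 : Set (Subgroup Γ) := {W' | W'.Normal ∧ W' < W} with h𝒜
      have hne : 𝒜.Nonempty := ⟨⊥, Subgroup.normal_bot, bot_lt_iff_ne_bot.2 hWbot⟩
      obtain ⟨W', hW'⟩ := (Set.toFinite 𝒜).exists_maximal hne
      obtain ⟨hW'n, hW'W⟩ := hW'.1
      haveI := hW'n
      have hch : IsChiefFactor W W' := ⟨hW'W, hWn, hW'n, fun N hNn hW'N hNW => by
        by_cases hN : N = W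
        · right; exact hN
        · left
          have hmem : N ∈ 𝒜 := ⟨hNn, lt_of_le_of_ne hNW hN⟩
          exact le_antisymm (hW'.2 hmem hW'N) hW'N⟩
      have hWP' : W ≤ P := (hWZ.trans inf_le_left).trans hQP
      have hbase := ih W' hW'W hW'n (hW'W.le.trans hWZ)
      have hin := inner K P Q W W' hW'W.le (chief_comm_le P hP W W' hch hWP')
        (Subgroup.le_centralizer_iff.1 (hWZ.trans inf_le_right)) i j k hQi (hZj W W' hch hWZ) hk hbase
        ⊥ Subgroup.normal_bot bot_le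
      apply good_mono hin
      intro x hx
      refine Subgroup.mem_inf.2 ⟨hx, hx.1, fun u hu => ?_⟩
      rw [Subgroup.mem_bot] at hu
      rw [hu]
      simp

/-- The degree bound. -/
theorem good_of_critical [Finite Γ] {p : ℕ} [Fact p.Prime] (K P Q : Subgroup Γ) [hPn : P.Normal]
    [hQn : Q.Normal] (hP : IsPGroup p ↥P) (hQP : Q ≤ P) (i j k : ℕ)
    (hQi : ∀ U V : Subgroup Γ, IsChiefFactor U V → U ≤ Q → iterCommutator U K i ≤ V)
    (hZj : ∀ U V : Subgroup Γ, IsChiefFactor U V → U ≤ Q ⊓ Subgroup.centralizer (Q : Set Γ) →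
      iterCommutator U K j ≤ V)
    (hk : i + j ≤ k + 1) (hjk : j ≤ k)
    (hQ3 : ⁅P, Q⁆ ≤ Q ⊓ Subgroup.centralizer (Q : Set Γ))
    (hQ4 : P ⊓ Subgroup.centralizer (Q : Set Γ) = Q ⊓ Subgroup.centralizer (Q : Set Γ)) :
    Good K k P := by
  haveI : (Subgroup.centralizer (Q : Set Γ)).Normal := Subgroup.normal_centralizer
  haveI hZn : (Q ⊓ Subgroup.centralizer (Q : Set Γ)).Normal := inferInstance
  have h := outer K P Q hP hQP i j k hQi hZj hk hjk hQ4 _ hZn le_rfl
  apply good_mono h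
  intro x hx
  refine ⟨hx, fun u hu => ?_⟩
  have h1 : ⁅x, u⁆ ∈ ⁅P, Q⁆ := Subgroup.commutator_mem_commutator hx hu
  have h2 := hQ3 h1
  rw [← commutatorElement_inv]
  exact inv_mem h2

/-- A characteristic subgroup of a normal subgroup is normal. -/
theorem normal_of_char_subgroupOf (P Q : Subgroup Γ) [hPn : P.Normal] (hQP : Q ≤ P)
    (hchar : (Q.subgroupOf P).Characteristic) : Q.Normal := by
  constructor
  intro q hq g
  have h1 := hchar.fixed (MulAut.conjNormal g : MulAut ↥P)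
  have hqP : q ∈ P := hQP hq
  have h2 : (⟨q, hqP⟩ : ↥P) ∈ (Q.subgroupOf P).comap (MulAut.conjNormal g : MulAut ↥P).toMonoidHom := by
    rw [h1]
    exact hq
  rw [Subgroup.mem_comap] at h2
  have h3 : (((MulAut.conjNormal g : MulAut ↥P) ⟨q, hqP⟩ : ↥P) : Γ) = g * q * g⁻¹ :=
    MulAut.conjNormal_apply g ⟨q, hqP⟩
  have h4 : (((MulAut.conjNormal g : MulAut ↥P) ⟨q, hqP⟩ : ↥P) : Γ) ∈ Q := h2
  rw [h3] at h4
  exact h4

end Cfsg.Agent.Lib.Helper1.CritDeg
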