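import Mathlib
import Cfsg.Prelude.Def_LocalEven
import Cfsg.Agent.Lib.Helper14.S3Sec1
import Cfsg.Agent.Lib.Lead.GlaubermanRepl

/-!
# Producing a section `S₄` (helper1)

If `W ⊴ L` has order `4`, `Q = C_L(W)` is a `2`-group containing `W` and `|L : Q| = 6`, then `S₄`
is involved in `L`: for a Sylow `3`-subgroup `X` and `R = N_L(X)` one has `L = R Q` (Frattini),
`R ∩ W = 1`, and `W R` acts on the four cosets of `R` as the full symmetric group.
-/

set_option autoImplicit false

namespace Cfsg.Agent.Lib.Helper1.ThompsonA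

open Subgroup

/-- a subgroup of index `4` whose core has index at least `24`: the coset action is onto `S₄` -/
theorem perm4_of_coset_action {K : Type*} [Group K] [Finite K] (R : Subgroup K)
    (hidx : R.index = 4) (hcore : 24 * Nat.card R.normalCore ≤ Nat.card K) :
    Nonempty (K ⧸ R.normalCore ≃* Equiv.Perm (Fin 4)) := by
  have hker : R.normalCore = (MulAction.toPermHom K (K ⧸ R)).ker := Subgroup.normalCore_eq_ker R
  have hcardQ : Nat.card (K ⧸ R) = 4 := by rw [← Subgroup.index_eq_card]; exact hidx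
  have hperm : Nat.card (Equiv.Perm (K ⧸ R)) = 24 := by rw [Nat.card_perm, hcardQ]; rfl
  have hrange : Nat.card (MulAction.toPermHom K (K ⧸ R)).range *
      Nat.card (MulAction.toPermHom K (K ⧸ R)).ker = Nat.card K := by
    have e := QuotientGroup.quotientKerEquivRange (MulAction.toPermHom K (K ⧸ R))
    rw [← Nat.card_congr e.toEquiv]
    exact (Subgroup.card_eq_card_quotient_mul_card_subgroup _).symm
  have hge : 24 ≤ Nat.card (MulAction.toPermHom K (K ⧸ R)).range := by
    rw [hker, ← hrange] at hcore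
    have hpos : 0 < Nat.card (MulAction.toPermHom K (K ⧸ R)).ker := Nat.card_pos
    exact Nat.le_of_mul_le_mul_right hcore hpos
  have htop : (MulAction.toPermHom K (K ⧸ R)).range = ⊤ := by
    apply (Subgroup.card_eq_iff_eq_top _).mp
    apply le_antisymm (Subgroup.card_le_card_group _)
    rw [hperm]
    exact hge
  have e1 : K ⧸ R.normalCore ≃* K ⧸ (MulAction.toPermHom K (K ⧸ R)).ker :=
    QuotientGroup.quotientMulEquivOfEq hker
  have e2 : K ⧸ (MulAction.toPermHom K (K ⧸ R)).ker ≃* (MulAction.toPermHom K (K ⧸ R)).range :=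
    QuotientGroup.quotientKerEquivRange _
  have e3 : (MulAction.toPermHom K (K ⧸ R)).range ≃* Equiv.Perm (K ⧸ R) :=
    (MulEquiv.subgroupCongr htop).trans Subgroup.topEquiv
  have e4 : Equiv.Perm (K ⧸ R) ≃* Equiv.Perm (Fin 4) :=
    Equiv.permCongrHom ((Finite.equivFin _).trans (finCongr hcardQ))
  exact ⟨e1.trans (e2.trans (e3.trans e4))⟩

/-- **`S₄` from a faithful `S₃` on a four-group.** -/
theorem involves_perm4 {L : Type*} [Group L] [Finite L] (W Q : Subgroup L) [hWn : W.Normal]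
    [hQn : Q.Normal] (hWQ : W ≤ Q) (hQ2 : IsPGroup 2 Q) (hW4 : Nat.card W = 4)
    (hC : centralizer (W : Set L) = Q) (hidx : Q.index = 6) :
    Cfsg.Involves (Equiv.Perm (Fin 4)) L := by
  haveI : Fact (Nat.Prime 3) := ⟨Nat.prime_three⟩
  obtain ⟨k, hk⟩ := hQ2.exists_card_eq
  have hL : Nat.card L = 6 * Nat.card Q := by rw [← hidx]; exact (Subgroup.index_mul_card Q).symm
  obtain ⟨X⟩ : Nonempty (Sylow 3 L) := inferInstance
  have hX3 : IsPGroup 3 (X : Subgroup L) := X.isPGroup'
  obtain ⟨j, hj⟩ := hX3.exists_card_eq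
  have hXQ : (X : Subgroup L) ⊓ Q = ⊥ := by
    apply (Subgroup.disjoint_of_coprime_natCard _).eq_bot
    rw [hj, hk]
    exact Nat.Coprime.pow _ _ (by norm_num)
  have htopn : ∀ (A B : Subgroup L) [B.Normal], A ≤ normalizer (B : Set L) := by
    intro A B _
    rw [Subgroup.normalizer_eq_top]; exact le_top
  have hprod := Cfsg.Agent.Lib.Lead.GlaubermanRepl.card_sup_mul_card_inf (X : Subgroup L) Q
    (htopn _ Q)
  rw [hXQ, Subgroup.card_bot, mul_one] at hprod
  have hXcard : Nat.card (X : Subgroup L) = 3 := by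
    have h3 : 3 ∣ Nat.card L := by rw [hL]; exact Dvd.intro (2 * Nat.card Q) (by ring)
    have hdvd := X.dvd_card_of_dvd_card h3
    have h1 : Nat.card ((X : Subgroup L) ⊔ Q : Subgroup L) ∣ Nat.card L :=
      Subgroup.card_subgroup_dvd_card _
    rw [hprod, hL] at h1
    have h2 : Nat.card (X : Subgroup L) ∣ 6 := Nat.dvd_of_mul_dvd_mul_right Nat.card_pos h1
    have hle : Nat.card (X : Subgroup L) ≤ 6 := Nat.le_of_dvd (by norm_num) h2
    rcases Nat.lt_or_ge j 2 with hj2 | hj2
    · interval_cases j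
      · rw [hj] at hdvd; norm_num at hdvd
      · rw [hj]; norm_num
    · exfalso
      have : 3 ^ 2 ≤ 3 ^ j := Nat.pow_le_pow_right (by norm_num) hj2
      rw [hj] at hle
      omega
  obtain ⟨M, hM⟩ : ∃ M : Subgroup L, M = (X : Subgroup L) ⊔ Q := ⟨_, rfl⟩
  have hMcard : Nat.card M = 3 * Nat.card Q := by rw [hM, hprod, hXcard]
  have hMidx : M.index = 2 := by
    have h := Subgroup.index_mul_card M
    rw [hMcard, hL] at h
    have hpos : 0 < 3 * Nat.card Q := Nat.mul_pos (by norm_num) Nat.card_pos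
    apply Nat.eq_of_mul_eq_mul_right hpos
    rw [h]; ring
  haveI hMn : M.Normal := Subgroup.normal_of_index_eq_two hMidx
  have hXM : (X : Subgroup L) ≤ M := by rw [hM]; exact le_sup_left
  have hfrat := Sylow.normalizer_sup_eq_top' (N := M) X hXM
  obtain ⟨R, hR⟩ : ∃ R : Subgroup L, R = normalizer ((X : Subgroup L) : Set L) := ⟨_, rfl⟩
  have hXR : (X : Subgroup L) ≤ R := by rw [hR]; exact Subgroup.le_normalizer
  have hfrat' : R ⊔ M = ⊤ := by rw [hR]; exact hfrat
  have hRQ : R ⊔ Q = ⊤ := by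
    rw [← hfrat', hM, ← sup_assoc, sup_eq_left.mpr hXR]
  have hRQc : R ⊓ Q ≤ centralizer ((X : Subgroup L) : Set L) := by
    intro r hr
    obtain ⟨hrR, hrQ⟩ := Subgroup.mem_inf.mp hr
    rw [hR] at hrR
    rw [Subgroup.mem_centralizer_iff]
    intro y hy
    have h1 : r * y * r⁻¹ ∈ (X : Subgroup L) := (Subgroup.mem_normalizer_iff.mp hrR y).mp hy
    have h2 : r * y * r⁻¹ * y⁻¹ ∈ (X : Subgroup L) ⊓ Q := by
      refine Subgroup.mem_inf.mpr ⟨mul_mem h1 (inv_mem hy), ?_⟩
      have e : r * y * r⁻¹ * y⁻¹ = r * (y * r⁻¹ * y⁻¹) := by group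
      rw [e]
      exact mul_mem hrQ (hQn.conj_mem _ (inv_mem hrQ) y)
    rw [hXQ, Subgroup.mem_bot] at h2
    calc y * r = (r * y * r⁻¹ * y⁻¹) * (y * r) := by rw [h2, one_mul]
      _ = r * y := by group
  have hWX : W ⊓ centralizer ((X : Subgroup L) : Set L) = ⊥ := by
    have hmod := Cfsg.Agent.Lib.Helper14.S3Sec.card_modEq_card_inf_centralizer (X : Subgroup L) W
      (htopn _ W) hX3
    rw [hW4] at hmod
    have hdvd : Nat.card (W ⊓ centralizer ((X : Subgroup L) : Set L) : Subgroup L) ∣ 4 := by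
      rw [← hW4]; exact Subgroup.card_dvd_of_le inf_le_left
    have hle := Nat.le_of_dvd (by norm_num) hdvd
    have hc : Nat.card (W ⊓ centralizer ((X : Subgroup L) : Set L) : Subgroup L) = 1 ∨
        Nat.card (W ⊓ centralizer ((X : Subgroup L) : Set L) : Subgroup L) = 4 := by
      unfold Nat.ModEq at hmod
      have hpos : 0 < Nat.card (W ⊓ centralizer ((X : Subgroup L) : Set L) : Subgroup L) :=
        Nat.card_pos
      obtain ⟨c, hcdef⟩ : ∃ c : ℕ, c =
        Nat.card (W ⊓ centralizer ((X : Subgroup L) : Set L) : Subgroup L) := ⟨_, rfl⟩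
      rw [← hcdef] at hmod hdvd hle hpos ⊢
      interval_cases c
      · exact Or.inl rfl
      · omega
      · omega
      · exact Or.inr rfl
    rcases hc with h1 | h4
    · exact Subgroup.card_eq_one.mp h1
    · exfalso
      have hWle : W ≤ centralizer ((X : Subgroup L) : Set L) := by
        have : W ⊓ centralizer ((X : Subgroup L) : Set L) = W :=
          Subgroup.eq_of_le_of_card_ge inf_le_left (by rw [h4, hW4])
        rw [← this]; exact inf_le_right
      have hXC : (X : Subgroup L) ≤ centralizer (W : Set L) := Subgroup.le_centralizer_iff.mp hWle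
      rw [hC] at hXC
      have hbot : (X : Subgroup L) ≤ (X : Subgroup L) ⊓ Q := le_inf le_rfl hXC
      rw [hXQ] at hbot
      have hXb : (X : Subgroup L) = ⊥ := eq_bot_iff.mpr hbot
      rw [hXb, Subgroup.card_bot] at hXcard
      norm_num at hXcard
  have hRW : R ⊓ W = ⊥ := by
    rw [eq_bot_iff, ← hWX]
    intro x hx
    obtain ⟨hxR, hxW⟩ := Subgroup.mem_inf.mp hx
    exact Subgroup.mem_inf.mpr ⟨hxW, hRQc (Subgroup.mem_inf.mpr ⟨hxR, hWQ hxW⟩)⟩
  obtain ⟨K, hK⟩ : ∃ K : Subgroup L, K = W ⊔ R := ⟨_, rfl⟩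
  have hWK : W ≤ K := by rw [hK]; exact le_sup_left
  have hRK : R ≤ K := by rw [hK]; exact le_sup_right
  have hKcard : Nat.card K = Nat.card R * 4 := by
    have h := Cfsg.Agent.Lib.Lead.GlaubermanRepl.card_sup_mul_card_inf R W (htopn _ W)
    rw [hRW, Subgroup.card_bot, mul_one, hW4, sup_comm] at h
    rw [hK]; exact h
  have hRcard : Nat.card R = 6 * Nat.card (R ⊓ Q : Subgroup L) := by
    have h := Cfsg.Agent.Lib.Lead.GlaubermanRepl.card_sup_mul_card_inf R Q (htopn _ Q)
    rw [hRQ, Subgroup.card_top, hL] at h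
    have hpos : 0 < Nat.card Q := Nat.card_pos
    apply Nat.eq_of_mul_eq_mul_right hpos
    rw [← h]; ring
  -- the coset action
  have hidx4 : (R.subgroupOf K).index = 4 := by
    have h := Cfsg.Agent.S0598.card_mul_relIndex hRK
    rw [hKcard] at h
    have hpos : 0 < Nat.card R := Nat.card_pos
    exact Nat.eq_of_mul_eq_mul_left hpos h
  have hCQ : ((R.subgroupOf K).normalCore).map K.subtype ≤ R ⊓ Q := by
    rintro _ ⟨c, hc, rfl⟩
    have hcR : (c : L) ∈ R := Subgroup.mem_subgroupOf.mp (Subgroup.normalCore_le _ hc)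
    refine Subgroup.mem_inf.mpr ⟨hcR, ?_⟩
    rw [← hC, Subgroup.mem_centralizer_iff]
    intro w hw
    have hn : ((R.subgroupOf K).normalCore).Normal := inferInstance
    have h1 : (⟨w, hWK hw⟩ : K) * c⁻¹ * (⟨w, hWK hw⟩ : K)⁻¹ ∈ (R.subgroupOf K).normalCore :=
      hn.conj_mem _ (inv_mem hc) _
    have h2 : c * ((⟨w, hWK hw⟩ : K) * c⁻¹ * (⟨w, hWK hw⟩ : K)⁻¹) ∈ (R.subgroupOf K).normalCore :=
      mul_mem hc h1
    have h3 : (c : L) * (w * (c : L)⁻¹ * w⁻¹) ∈ R :=
      Subgroup.mem_subgroupOf.mp (Subgroup.normalCore_le _ h2)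
    have h4 : (c : L) * (w * (c : L)⁻¹ * w⁻¹) ∈ W := by
      have e : (c : L) * (w * (c : L)⁻¹ * w⁻¹) = ((c : L) * w * (c : L)⁻¹) * w⁻¹ := by group
      rw [e]
      exact mul_mem (hWn.conj_mem w hw _) (inv_mem hw)
    have h5 : (c : L) * (w * (c : L)⁻¹ * w⁻¹) ∈ R ⊓ W := Subgroup.mem_inf.mpr ⟨h3, h4⟩
    rw [hRW, Subgroup.mem_bot] at h5
    calc w * (c : L) = ((c : L) * (w * (c : L)⁻¹ * w⁻¹)) * (w * (c : L)) := by rw [h5, one_mul]
      _ = (c : L) * w := by group
  have hcore : 24 * Nat.card (R.subgroupOf K).normalCore ≤ Nat.card K := by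
    have h1 : Nat.card (R.subgroupOf K).normalCore ≤ Nat.card (R ⊓ Q : Subgroup L) := by
      rw [← Subgroup.card_map_of_injective K.subtype_injective]
      exact Subgroup.card_le_of_le hCQ
    rw [hKcard, hRcard]
    omega
  obtain ⟨e⟩ := perm4_of_coset_action (R.subgroupOf K) hidx4 hcore
  have heq : (((R.subgroupOf K).normalCore).map K.subtype).subgroupOf K =
      (R.subgroupOf K).normalCore :=
    Subgroup.comap_map_eq_self_of_injective K.subtype_injective _
  have hn : ((((R.subgroupOf K).normalCore).map K.subtype).subgroupOf K).Normal := by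
    rw [heq]; infer_instance
  exact ⟨K, ((R.subgroupOf K).normalCore).map K.subtype, hn,
    ⟨(QuotientGroup.quotientMulEquivOfEq heq).trans e⟩⟩

end Cfsg.Agent.Lib.Helper1.ThompsonA
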