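import Mathlib
import Cfsg.Agent.Lib.Helper14.ThompsonV1
import Cfsg.Agent.Lib.Helper14.Offender3
import Cfsg.Agent.Lib.Helper14.Offender8

/-!
# A faithful `S₃` on a plane of `V`, in the holomorph (helper1)

`G` a `2`-soluble group, `V ⊴ G` elementary abelian `2`-group with `O_2(G / C_G(V)) = 1`, and `B`
a best offender on `V` not centralizing `V`.  In the holomorph of `V` the image of `G` contains a
subgroup `E` of order `6` acting faithfully on `[V, E]`, of order `4` (helper14's offender theory).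
-/

set_option autoImplicit false

namespace Cfsg.Agent.Lib.Helper1.ThompsonA

open Subgroup
open scoped commutatorElement
open Cfsg.Agent.S0598 (cv mm)
open Cfsg.Agent.Lib.Helper14.Hol Cfsg.Agent.Lib.Helper14.Off

theorem card_SL2_two : Nat.card (Matrix.SpecialLinearGroup (Fin 2) (ZMod 2)) = 6 := by
  rw [Nat.card_eq_fintype_card]
  decide

variable {G : Type*} [Group G] [Finite G]

theorem exists_S3_plane (V : Subgroup G) [hVn : V.Normal] (hV : Cfsg.IsElementaryAbelian 2 V)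
    (hsep : Cfsg.IsPSolvable 2 G) (hO : Cfsg.pCore 2 (G ⧸ centralizer (V : Set G)) = ⊥)
    (B : Subgroup G) (hB : Cfsg.IsBestOffenderOn 2 V B) (hBV : ¬ B ≤ centralizer (V : Set G)) :
    ∃ E : Subgroup (Hl V), E ≤ hat V ⊤ ∧ Nat.card E = 6 ∧
      Nat.card (⁅Vh V, E⁆ : Subgroup (Hl V)) = 4 ∧
      E ⊓ centralizer ((⁅Vh V, E⁆ : Subgroup (Hl V)) : Set (Hl V)) = ⊥ ∧
      ⁅Vh V, E⁆ ≤ Vh V ∧ E ≤ normalizer ((⁅Vh V, E⁆ : Subgroup (Hl V)) : Set (Hl V)) := by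
  haveI : Fact (Nat.Prime 2) := ⟨Nat.prime_two⟩
  have hVh := Vh_ea V hV
  have hVp : IsPGroup 2 (Vh V) := Cfsg.Agent.Lib.Helper17.ea_isPGroup hVh
  have hHV := hat_le_normalizer V (⊤ : Subgroup G)
  have hf := hat_inf_centralizer V (⊤ : Subgroup G)
  have hS1 := Cfsg.Agent.Lib.Helper14.ThV.hS1_hat hsep V hO ⊤
  have hS1' := kk_self_centralizing 2 (hat V ⊤) hS1
  have hB' := bestOffender_hat V hB
  have hBH : hat V B ≤ hat V ⊤ := hat_mono V le_top
  obtain ⟨hBab, hBe⟩ := ea_of_bestOffender (Vh V) (hat V ⊤) (hat V B) hf hBH hB'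
  have hBmm := mm_eq_of_bestOffender (Vh V) (hat V ⊤) hVp hHV hf hS1' (hat V B) hBH hB'
  have hB1 : hat V B ≠ ⊥ := fun h => hBV ((hat_eq_bot_iff V B).mp h)
  obtain ⟨A₁, hA₁B, hA₁bo, hA₁V, hA₁min⟩ :=
    exists_atom (Vh V) (hat V ⊤) hVp hHV hf hS1' (hat V B) hBH hBab hBe hBmm hB1
  have hA₁H : A₁ ≤ hat V ⊤ := hA₁B.trans hBH
  have hA₁1 : A₁ ≠ ⊥ := by
    intro h
    apply hA₁V
    rw [h, Subgroup.commutator_bot_right]
  have hcard : Nat.card A₁ = 2 :=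
    card_eq_p_of_minimal (Vh V) (hat V ⊤) hVp hHV hf hS1' A₁ hA₁H hA₁bo hA₁1 hA₁min
  have hmm := mm_eq_of_bestOffender (Vh V) (hat V ⊤) hVp hHV hf hS1' A₁ hA₁H hA₁bo
  have hcvpos : 0 < Nat.card ↥(Vh V ⊓ Subgroup.centralizer (A₁ : Set (Hl V))) := Nat.card_pos
  have hL : Nat.card (⁅Vh V, A₁⁆ : Subgroup (Hl V)) = 2 := by
    obtain ⟨a, haA, ha1⟩ : ∃ a ∈ A₁, a ≠ 1 := by
      by_contra hcon
      push Not at hcon
      apply hA₁1
      rw [eq_bot_iff]
      intro x hx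
      exact Subgroup.mem_bot.mpr (hcon x hx)
    have hea := ea_of_bestOffender (Vh V) (hat V ⊤) A₁ hf hA₁H hA₁bo
    have hord : orderOf a = 2 := by
      have hdvd : orderOf a ∣ 2 := orderOf_dvd_of_pow_eq_one (hea.2 a haA)
      rcases (Nat.dvd_prime Nat.prime_two).mp hdvd with h | h
      · exact absurd (orderOf_eq_one_iff.mp h) ha1
      · exact h
    have hAz : Subgroup.zpowers a = A₁ := by
      apply Subgroup.eq_of_le_of_card_ge
      · rw [Subgroup.zpowers_le]; exact haA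
      · rw [Nat.card_zpowers, hord, hcard]
    have hVab : Vh V ≤ Subgroup.centralizer (Vh V : Set (Hl V)) :=
      (Cfsg.Agent.Lib.Helper17.ea_iff.mp hVh).1
    have h3 := card_commutator_zpowers_mul (Vh V) hVab a (hHV (hA₁H haA))
    rw [hAz] at h3
    have h2 : 2 * Nat.card ↥(Vh V ⊓ Subgroup.centralizer (A₁ : Set (Hl V))) = Nat.card (Vh V) := by
      rw [← hcard]; exact hmm
    rw [← h2] at h3
    exact Nat.eq_of_mul_eq_mul_right hcvpos h3
  have hTv : Tv 2 (Vh V) (hat V ⊤) A₁ := ⟨hA₁H, hcard, hL⟩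
  obtain ⟨-, ⟨φ⟩, hW4, hbot⟩ := hTv.EE_facts (Vh V) (hat V ⊤) hVh hHV hf hS1'
  have hEH := hTv.EE_le (Vh V) (hat V ⊤) hVh hHV hf hS1'
  refine ⟨EE 2 (hat V ⊤) A₁, hEH, ?_, ?_, hbot,
    hTv.commutator_EE_le (Vh V) (hat V ⊤) hVh hHV hf hS1', ?_⟩
  · rw [Nat.card_congr φ.toEquiv]
    exact card_SL2_two
  · rw [hW4]; norm_num
  · exact (le_inf (hEH.trans hHV) Subgroup.le_normalizer).trans
      (Cfsg.Agent.Lib.Helper16.inf_normalizer_le_normalizer_commutator (Vh V) _)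

end Cfsg.Agent.Lib.Helper1.ThompsonA
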