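import Mathlib
import Cfsg.Agent.Lib.Helper1.ThompsonA3
import Cfsg.Agent.Lib.Helper1.ThompsonA5
import Cfsg.Agent.Lib.Helper11.QuadFree

/-!
# Back from the holomorph: a section `S₄` of `G` (helper1)
-/

set_option autoImplicit false

namespace Cfsg.Agent.Lib.Helper1.ThompsonA

open Subgroup
open scoped commutatorElement
open Cfsg.Agent.Lib.Helper14.Hol

variable {G : Type*} [Group G] [Finite G]

theorem involves_perm4_of_plane (V : Subgroup G) [hVn : V.Normal]
    (hVab : V ≤ centralizer (V : Set G)) (hQ2 : IsPGroup 2 ↥(centralizer (V : Set G)))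
    (E : Subgroup (Hl V)) (hEH : E ≤ hat V ⊤) (hE6 : Nat.card E = 6)
    (hW4 : Nat.card (⁅Vh V, E⁆ : Subgroup (Hl V)) = 4)
    (hbot : E ⊓ centralizer ((⁅Vh V, E⁆ : Subgroup (Hl V)) : Set (Hl V)) = ⊥)
    (hWV : ⁅Vh V, E⁆ ≤ Vh V)
    (hEW : E ≤ normalizer ((⁅Vh V, E⁆ : Subgroup (Hl V)) : Set (Hl V))) :
    Cfsg.Involves (Equiv.Perm (Fin 4)) G := by
  obtain ⟨W, hW⟩ : ∃ W : Subgroup (Hl V), W = ⁅Vh V, E⁆ := ⟨_, rfl⟩
  rw [← hW] at hW4 hbot hWV hEW
  obtain ⟨L, hL⟩ : ∃ L : Subgroup G, L = E.comap (rho' V) := ⟨_, rfl⟩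
  obtain ⟨W₀, hW₀⟩ : ∃ W₀ : Subgroup G, W₀ = (W.comap (iV V)).map V.subtype := ⟨_, rfl⟩
  haveI hQn : (centralizer (V : Set G)).Normal := Subgroup.normal_centralizer
  have hmemL : ∀ g : G, g ∈ L ↔ rho' V g ∈ E := by
    intro g; rw [hL, Subgroup.mem_comap]
  have hQL : centralizer (V : Set G) ≤ L := by
    intro x hx
    rw [hmemL]
    have : x ∈ (rho' V).ker := by rw [rho'_ker]; exact hx
    rw [MonoidHom.mem_ker.mp this]
    exact E.one_mem
  have hmemW₀ : ∀ w : G, w ∈ W₀ ↔ ∃ v : ↥V, iV V v ∈ W ∧ (v : G) = w := by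
    intro w
    rw [hW₀, Subgroup.mem_map]
    constructor
    · rintro ⟨v, hv, rfl⟩
      exact ⟨v, Subgroup.mem_comap.mp hv, rfl⟩
    · rintro ⟨v, hv, rfl⟩
      exact ⟨v, Subgroup.mem_comap.mpr hv, rfl⟩
  have hW₀V : W₀ ≤ V := by rw [hW₀]; exact Subgroup.map_subtype_le _
  have hW₀L : W₀ ≤ L := hW₀V.trans (hVab.trans hQL)
  have hW₀card : Nat.card W₀ = 4 := by
    rw [hW₀, Subgroup.card_map_of_injective V.subtype_injective, ← hW4]
    have h1 : (W.comap (iV V)).map (iV V) = W := by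
      apply Subgroup.map_comap_eq_self
      exact hWV
    conv_rhs => rw [← h1]
    rw [Subgroup.card_map_of_injective (iV_injective V)]
  -- conjugation
  have hconj : ∀ g ∈ L, ∀ w ∈ W₀, g * w * g⁻¹ ∈ W₀ := by
    intro g hg w hw
    obtain ⟨v, hv, rfl⟩ := (hmemW₀ w).mp hw
    rw [hmemW₀]
    refine ⟨rho V g v, ?_, rho_apply V g v⟩
    rw [← conj_rho'_iV]
    exact (Subgroup.mem_normalizer_iff.mp (hEW ((hmemL g).mp hg)) _).mp hv
  -- the centralizer of `W₀` in `L`
  have hcentL : ∀ g ∈ L, (∀ w ∈ W₀, w * g = g * w) → g ∈ centralizer (V : Set G) := by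
    intro g hg hc
    have h1 : rho' V g ∈ E ⊓ centralizer (W : Set (Hl V)) := by
      refine Subgroup.mem_inf.mpr ⟨(hmemL g).mp hg, ?_⟩
      rw [Subgroup.mem_centralizer_iff]
      intro y hy
      obtain ⟨v, rfl⟩ := hWV hy
      have hvW₀ : (v : G) ∈ W₀ := (hmemW₀ _).mpr ⟨v, hy, rfl⟩
      have h2 := conj_rho'_iV V g v
      have h3 : rho V g v = v := by
        apply Subtype.ext
        rw [rho_apply, ← hc _ hvW₀, mul_inv_cancel_right]
      rw [h3] at h2
      calc iV V v * rho' V g = (rho' V g * iV V v * (rho' V g)⁻¹) * rho' V g := by rw [h2]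
        _ = rho' V g * iV V v := by group
    rw [hbot, Subgroup.mem_bot] at h1
    rw [← rho'_ker]
    exact MonoidHom.mem_ker.mpr h1
  -- pass to the group `L`
  haveI hWn' : (W₀.subgroupOf L).Normal := by
    constructor
    intro w hw g
    rw [Subgroup.mem_subgroupOf] at hw ⊢
    exact hconj g g.2 w hw
  haveI hQn' : ((centralizer (V : Set G)).subgroupOf L).Normal := hQn.subgroupOf L
  have h1 : W₀.subgroupOf L ≤ (centralizer (V : Set G)).subgroupOf L := by
    intro w hw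
    rw [Subgroup.mem_subgroupOf] at hw ⊢
    exact hVab (hW₀V hw)
  have h2 : IsPGroup 2 ↥((centralizer (V : Set G)).subgroupOf L) := hQ2.comap_subtype
  have h3 : Nat.card ↥(W₀.subgroupOf L) = 4 := by
    rw [← hW₀card]
    exact Nat.card_congr (Subgroup.subgroupOfEquivOfLe hW₀L).toEquiv
  have h4 : centralizer ((W₀.subgroupOf L : Subgroup L) : Set L) =
      (centralizer (V : Set G)).subgroupOf L := by
    ext g
    rw [Subgroup.mem_subgroupOf, Subgroup.mem_centralizer_iff]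
    constructor
    · intro h
      apply hcentL g g.2
      intro w hw
      have := h ⟨w, hW₀L hw⟩ (Subgroup.mem_subgroupOf.mpr hw)
      exact congrArg Subtype.val this
    · intro h w hw
      apply Subtype.ext
      exact (Subgroup.mem_centralizer_iff.mp h) _ (hW₀V (Subgroup.mem_subgroupOf.mp hw))
  have h5 : ((centralizer (V : Set G)).subgroupOf L).index = 6 := by
    have e1 : L.map (rho' V) = E := by
      rw [hL]
      apply Subgroup.map_comap_eq_self
      refine hEH.trans ?_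
      unfold hat
      rw [← MonoidHom.range_eq_map]
    have e2 := Subgroup.relIndex_ker L (rho' V)
    rw [rho'_ker, e1, hE6] at e2
    exact e2
  have hinv := involves_perm4 (W₀.subgroupOf L) ((centralizer (V : Set G)).subgroupOf L) h1 h2 h3 h4 h5
  exact Cfsg.Agent.Lib.Helper11.QuadFree.involves_of_subgroup L hinv

end Cfsg.Agent.Lib.Helper1.ThompsonA
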