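import Mathlib
import Cfsg.Agent.Lib.Helper1.ThompsonA6
import Cfsg.Agent.Lib.Helper3.QuatSylow
import Cfsg.Agent.Lib.Helper13.RankThree

/-!
# Cyclic normal subgroups of a Sylow subgroup: transport to the holomorph (helper1)
-/

set_option autoImplicit false

namespace Cfsg.Agent.Lib.Helper1.CyclicNormal

open Subgroup
open scoped commutatorElement
open Cfsg.Agent.Lib.Helper14.Hol Cfsg.Agent.Lib.Helper14.Off

/-- the cube map in a group of class two with commutator of order three -/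
theorem cube_eq {G : Type*} [Group G] (a u c : G) (hc : c = a * u * a⁻¹ * u⁻¹)
    (hca : c * a = a * c) (hcu : c * u = u * c) (hc3 : c ^ 3 = 1) (hu3 : u ^ 3 = 1) :
    (u * a) ^ 3 = a ^ 3 := by
  have h1 : a * u * a⁻¹ = c * u := by rw [hc]; group
  have h0 : a * c * a⁻¹ = c := by rw [← hca]; group
  have h2 : a * a * u * a⁻¹ * a⁻¹ = c * (c * u) := by
    calc a * a * u * a⁻¹ * a⁻¹ = a * (a * u * a⁻¹) * a⁻¹ := by group
      _ = a * (c * u) * a⁻¹ := by rw [h1]
      _ = (a * c * a⁻¹) * (a * u * a⁻¹) := by group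
      _ = c * (c * u) := by rw [h0, h1]
  have h3 : (u * a) ^ 3 = u * (a * u * a⁻¹) * (a * a * u * a⁻¹ * a⁻¹) * a ^ 3 := by
    simp only [pow_succ, pow_zero, one_mul]
    group
  rw [h3, h1, h2]
  have hcu' : Commute c u := hcu
  have h4 : u * (c * u) * (c * (c * u)) = (c * u) ^ 3 := by
    have e1 : u * c = c * u := hcu.symm
    simp only [pow_succ, pow_zero, one_mul, mul_assoc]
    rw [← mul_assoc u c, e1, mul_assoc c u, ← mul_assoc u c, e1, mul_assoc c u]
  rw [h4, hcu'.mul_pow, hc3, hu3, one_mul, one_mul]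

variable {G : Type*} [Group G]

/-- commutators with `V` are carried to the holomorph -/
theorem iV_commutator_mem (V : Subgroup G) [hVn : V.Normal] (X : Subgroup G) (v : G)
    (hv : v ∈ ⁅V, X⁆) (hvV : v ∈ V) : iV V ⟨v, hvV⟩ ∈ ⁅Vh V, hat V X⁆ := by
  have hle : ⁅V, X⁆ ≤ ((⁅Vh V, hat V X⁆ : Subgroup (Hl V)).comap (iV V)).map V.subtype := by
    rw [Subgroup.commutator_le]
    intro w hw x hx
    have hxw : x * w⁻¹ * x⁻¹ ∈ V := hVn.conj_mem _ (V.inv_mem hw) x
    refine ⟨⟨w, hw⟩ * ⟨x * w⁻¹ * x⁻¹, hxw⟩, ?_, ?_⟩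
    · rw [SetLike.mem_coe, Subgroup.mem_comap, map_mul]
      have h1 : (⟨x * w⁻¹ * x⁻¹, hxw⟩ : ↥V) = rho V x (⟨w, hw⟩⁻¹) := by
        apply Subtype.ext
        rw [rho_apply]
        rfl
      rw [h1, ← conj_rho'_iV, map_inv]
      have h2 : iV V ⟨w, hw⟩ * (rho' V x * (iV V ⟨w, hw⟩)⁻¹ * (rho' V x)⁻¹) =
          ⁅iV V ⟨w, hw⟩, rho' V x⁆ := by
        rw [commutatorElement_def]; group
      rw [h2]
      exact Subgroup.commutator_mem_commutator ⟨⟨w, hw⟩, rfl⟩ ⟨x, hx, rfl⟩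
    · rw [commutatorElement_def]
      simp [mul_assoc]
  obtain ⟨w, hw, hwv⟩ := hle hv
  have : w = ⟨v, hvV⟩ := Subtype.ext hwv
  rw [← this]
  exact hw

/-- `|[V̂, ⟨â⟩]| = |[V, ⟨a⟩]|` -/
theorem card_commutator_hat_zpowers [Finite G] (V : Subgroup G) [hVn : V.Normal]
    (hVab : V ≤ centralizer (V : Set G)) (a : G) :
    Nat.card (⁅Vh V, hat V (zpowers a)⁆ : Subgroup (Hl V)) =
      Nat.card (⁅V, zpowers a⁆ : Subgroup G) := by
  have haN : a ∈ normalizer (V : Set G) := by rw [Subgroup.normalizer_eq_top]; exact mem_top a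
  have h1 := card_commutator_zpowers_mul V hVab a haN
  have hVhab : Vh V ≤ centralizer (Vh V : Set (Hl V)) := by
    rintro _ ⟨v, rfl⟩
    rw [Subgroup.mem_centralizer_iff]
    rintro _ ⟨w, rfl⟩
    rw [← map_mul, ← map_mul]
    congr 1
    apply Subtype.ext
    exact (Subgroup.mem_centralizer_iff.mp (hVab v.2) w w.2)
  have haN' : rho' V a ∈ normalizer (Vh V : Set (Hl V)) := by
    rw [Subgroup.normalizer_eq_top]; exact mem_top _
  have h2 := card_commutator_zpowers_mul (Vh V) hVhab (rho' V a) haN'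
  have h3 : hat V (zpowers a) = zpowers (rho' V a) := by
    unfold hat; rw [MonoidHom.map_zpowers]
  have h4 := card_cv_hat V (zpowers a)
  rw [h3] at h4 ⊢
  rw [h4, card_Vh, ← h1] at h2
  have hpos : 0 < Nat.card (V ⊓ centralizer (zpowers a : Set G) : Subgroup G) := Nat.card_pos
  exact Nat.eq_of_mul_eq_mul_right hpos h2


variable [Finite G] {p : ℕ} [hp : Fact p.Prime]

open Cfsg.Agent.Lib.Helper17 in
/-- the configuration on the Frattini quotient is impossible -/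
theorem core_V (hsep : Cfsg.IsPSolvable p G) (V : Subgroup G) [hVn : V.Normal]
    (hV : Cfsg.IsElementaryAbelian p V) (hCV : centralizer (V : Set G) ≤ V)
    (hO : Cfsg.pCore p (G ⧸ centralizer (V : Set G)) = ⊥)
    (h : p ≠ 2 ∨ ¬ Cfsg.Involves (Equiv.Perm (Fin 4)) G)
    (A : Subgroup G) (hA : IsCyclic A) (a : G) (haA : a ∈ A) (haV : a ∉ V) (hap : a ^ p ∈ V)
    (hcomm : ⁅V, zpowers a⁆ ≤ A) : False := by
  have hpp : p.Prime := hp.out
  have hVab : V ≤ centralizer (V : Set G) := (ea_iff.mp hV).1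
  have hVexp : ∀ v ∈ V, v ^ p = 1 := (ea_iff.mp hV).2
  have hker : ∀ g : G, rho' V g = 1 ↔ g ∈ centralizer (V : Set G) := by
    intro g; rw [← rho'_ker, MonoidHom.mem_ker]
  obtain ⟨L, hL⟩ : ∃ L : Subgroup G, L = ⁅V, zpowers a⁆ := ⟨_, rfl⟩
  have hLV : L ≤ V := by rw [hL]; exact Subgroup.commutator_le_left V _
  have hLA : L ≤ A := by rw [hL]; exact hcomm
  have hLne : L ≠ ⊥ := by
    intro h0
    rw [hL, Subgroup.commutator_eq_bot_iff_le_centralizer] at h0
    apply haV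
    apply hCV
    exact (Subgroup.le_centralizer_iff.mp h0) (mem_zpowers a)
  haveI hAVc : IsCyclic ↥(A ⊓ V : Subgroup G) := Subgroup.isCyclic_of_le (inf_le_left : A ⊓ V ≤ A)
  have hAVdvd : Nat.card ↥(A ⊓ V : Subgroup G) ∣ p := by
    apply Cfsg.Agent.Lib.Helper13.card_dvd_of_isCyclic_exp p hAVc
    rintro ⟨x, hx⟩
    apply Subtype.ext
    exact hVexp x (Subgroup.mem_inf.mp hx).2
  have hLcard : Nat.card L = p := by
    have h1 : Nat.card L ∣ p := (Subgroup.card_dvd_of_le (le_inf hLA hLV)).trans hAVdvd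
    rcases (Nat.dvd_prime hpp).mp h1 with h2 | h2
    · exact absurd (Subgroup.card_eq_one.mp h2) hLne
    · exact h2
  have hLeq : L = A ⊓ V := by
    apply Subgroup.eq_of_le_of_card_ge (le_inf hLA hLV)
    rw [hLcard]
    exact Nat.le_of_dvd hpp.pos hAVdvd
  -- the holomorph
  have hVh := Vh_ea V hV
  have hHV := hat_le_normalizer V (⊤ : Subgroup G)
  have hf := hat_inf_centralizer V (⊤ : Subgroup G)
  have hS1' := kk_self_centralizing p (hat V ⊤) (Cfsg.Agent.Lib.Helper14.ThV.hS1_hat hsep V hO ⊤)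
  have hzp : hat V (zpowers a) = zpowers (rho' V a) := by
    unfold hat; rw [MonoidHom.map_zpowers]
  have hA₁H : hat V (zpowers a) ≤ hat V ⊤ := hat_mono V le_top
  have hρa1 : rho' V a ≠ 1 := by
    intro h0
    exact haV (hCV ((hker a).mp h0))
  have hρap : rho' V a ^ p = 1 := by
    rw [← map_pow, hker]
    exact hVab hap
  have hcard : Nat.card (hat V (zpowers a)) = p := by
    rw [hzp, Nat.card_zpowers]
    exact orderOf_eq_prime hρap hρa1
  have hL' : Nat.card (⁅Vh V, hat V (zpowers a)⁆ : Subgroup (Hl V)) = p := by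
    rw [card_commutator_hat_zpowers V hVab a, ← hL, hLcard]
  have hTv : Tv p (Vh V) (hat V ⊤) (hat V (zpowers a)) := ⟨hA₁H, hcard, hL'⟩
  have hQ : IsPGroup p ↥(centralizer (V : Set G)) := (ea_isPGroup hV).to_le hCV
  obtain ⟨hp23, ⟨φ₀⟩, hW4, hbot⟩ := hTv.EE_facts (Vh V) (hat V ⊤) hVh hHV hf hS1'
  have hEH := hTv.EE_le (Vh V) (hat V ⊤) hVh hHV hf hS1'
  have hWV := hTv.commutator_EE_le (Vh V) (hat V ⊤) hVh hHV hf hS1'
  have hEN : EE p (hat V ⊤) (hat V (zpowers a)) ≤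
      normalizer ((⁅Vh V, EE p (hat V ⊤) (hat V (zpowers a))⁆ : Subgroup (Hl V)) : Set (Hl V)) :=
    (le_inf (hEH.trans hHV) Subgroup.le_normalizer).trans
      (Cfsg.Agent.Lib.Helper16.inf_normalizer_le_normalizer_commutator (Vh V) _)
  rcases hp23 with hp2 | hp3
  · -- p = 2
    subst hp2
    rcases h with h | h
    · exact h rfl
    · apply h
      apply Cfsg.Agent.Lib.Helper1.ThompsonA.involves_perm4_of_plane V hVab hQ _ hEH ?_ ?_ hbot hWV hEN
      · rw [Nat.card_congr φ₀.toEquiv]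
        exact Cfsg.Agent.Lib.Helper1.ThompsonA.card_SL2_two
      · rw [hW4]; norm_num
  · -- p = 3
    subst hp3
    obtain ⟨x, hx, hxA⟩ := hTv.exists_not_mem (Vh V) (hat V ⊤) hS1'
    have hNH := kk_le 3 (hat V ⊤)
    have hN := kk_coprime 3 (hat V ⊤)
    have hAN : hat V (zpowers a) ≤ normalizer (kk 3 (hat V ⊤) : Set (Hl V)) :=
      hA₁H.trans (kk_normal 3 (hat V ⊤))
    have key : ∀ E : Subgroup (Hl V), E = hat V (zpowers a) ⊔ cjs x (hat V (zpowers a)) →
        ∃ (c : ↥(⁅Vh V, E⁆ : Subgroup (Hl V)) → (Fin 2 → ZMod 3))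
          (φ : ↥E ≃* Matrix.SpecialLinearGroup (Fin 2) (ZMod 3)),
          Function.Bijective c ∧ (∀ w₁ w₂, c (w₁ * w₂) = c w₁ + c w₂) ∧
          (∀ (g : ↥E) (w : ↥(⁅Vh V, E⁆ : Subgroup (Hl V)))
            (h : (g : Hl V) * w * (g : Hl V)⁻¹ ∈ (⁅Vh V, E⁆ : Subgroup (Hl V))),
            c ⟨(g : Hl V) * w * (g : Hl V)⁻¹, h⟩ = Matrix.mulVec (φ g).1 (c w)) := by
      intro E hE
      subst hE
      obtain ⟨c, φ, e₁, he₁, hcb, hcadd, -, -, hact, -⟩ :=
        pair_rep (Vh V) (hat V ⊤) _ (hat V (zpowers a)) x hVh hHV hf hNH hA₁H hAN hN hcard hL'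
          hx hxA
      exact ⟨c, φ, hcb, hcadd, hact⟩
    obtain ⟨E, hE⟩ : ∃ E : Subgroup (Hl V), E = hat V (zpowers a) ⊔ cjs x (hat V (zpowers a)) :=
      ⟨_, rfl⟩
    obtain ⟨c, φ, hcb, hcadd, hact⟩ := key E hE
    have hEH' : E ≤ hat V ⊤ := by
      rw [hE]; exact pair_le (Vh V) (hat V ⊤) _ (hat V (zpowers a)) x hHV hNH hA₁H hx
    have hWV' : ⁅Vh V, E⁆ ≤ Vh V := Subgroup.commutator_le_left _ _
    have hEN' : E ≤ normalizer ((⁅Vh V, E⁆ : Subgroup (Hl V)) : Set (Hl V)) :=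
      (le_inf (hEH'.trans hHV) Subgroup.le_normalizer).trans
        (Cfsg.Agent.Lib.Helper16.inf_normalizer_le_normalizer_commutator (Vh V) _)
    -- the central involution
    obtain ⟨z, hz⟩ : ∃ z : ↥E, φ z = -1 := ⟨φ.symm (-1), φ.apply_symm_apply _⟩
    have hzc : ∀ g : ↥E, z * g = g * z := by
      intro g
      apply φ.injective
      rw [map_mul, map_mul, hz]
      simp
    have hc1 : c 1 = 0 := by
      have := hcadd 1 1
      rw [mul_one] at this
      have h2 : c 1 + 0 = c 1 + c 1 := by rw [add_zero]; exact this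
      exact (add_left_cancel h2).symm
    have hcinv : ∀ w, c w⁻¹ = - c w := by
      intro w
      have := hcadd w w⁻¹
      rw [mul_inv_cancel, hc1] at this
      exact (neg_eq_of_add_eq_zero_right this.symm).symm
    have hzinv : ∀ w : Hl V, w ∈ (⁅Vh V, E⁆ : Subgroup (Hl V)) →
        (z : Hl V) * w * (z : Hl V)⁻¹ = w⁻¹ := by
      intro w hw
      have hmem : (z : Hl V) * w * (z : Hl V)⁻¹ ∈ (⁅Vh V, E⁆ : Subgroup (Hl V)) :=
        (Subgroup.mem_normalizer_iff.mp (hEN' z.2) w).mp hw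
      have h1 := hact z ⟨w, hw⟩ hmem
      rw [hz] at h1
      have h2 : ((-1 : Matrix.SpecialLinearGroup (Fin 2) (ZMod 3)) : Matrix (Fin 2) (Fin 2) (ZMod 3))
          = -1 := by simp
      rw [h2, Matrix.neg_mulVec, Matrix.one_mulVec, ← hcinv] at h1
      have h3 := hcb.1 h1
      exact congrArg Subtype.val h3
    -- pull `z` back to `G`
    obtain ⟨t, -, ht⟩ := hEH' z.2
    have haE : rho' V a ∈ E := by
      rw [hE]
      apply Subgroup.mem_sup_left
      rw [hzp]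
      exact mem_zpowers _
    have hcomm' : rho' V t * rho' V a = rho' V a * rho' V t := by
      have := hzc ⟨rho' V a, haE⟩
      have h2 := congrArg Subtype.val this
      rw [ht]
      exact h2
    obtain ⟨u, hu⟩ : ∃ u : G, u = t * a * t⁻¹ * a⁻¹ := ⟨_, rfl⟩
    have huV : u ∈ V := by
      apply hCV
      rw [← hker, hu, map_mul, map_mul, map_mul, map_inv, map_inv, hcomm']
      group
    have htat : t * a * t⁻¹ = u * a := by rw [hu]; group
    -- the cube identity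
    obtain ⟨c₁, hc₁⟩ : ∃ c₁ : G, c₁ = a * u * a⁻¹ * u⁻¹ := ⟨_, rfl⟩
    have hc₁L : c₁ ∈ L := by
      rw [hL, hc₁, Subgroup.commutator_comm]
      have : a * u * a⁻¹ * u⁻¹ = ⁅a, u⁆ := by rw [commutatorElement_def]
      rw [this]
      exact Subgroup.commutator_mem_commutator (mem_zpowers a) huV
    have hAcomm : ∀ x ∈ A, ∀ y ∈ A, x * y = y * x := by
      intro x hx y hy
      haveI := hA
      have := (IsCyclic.commGroup (α := ↥A)).mul_comm ⟨x, hx⟩ ⟨y, hy⟩
      exact congrArg Subtype.val this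
    have hcube : (u * a) ^ 3 = a ^ 3 := by
      apply cube_eq a u c₁ hc₁
      · exact hAcomm _ (hLA hc₁L) _ haA
      · exact (Subgroup.mem_centralizer_iff.mp (hVab huV) c₁ (hLV hc₁L))
      · exact hVexp _ (hLV hc₁L)
      · exact hVexp _ huV
    have hconj3 : t * a ^ 3 * t⁻¹ = a ^ 3 := by
      have : t * a ^ 3 * t⁻¹ = (t * a * t⁻¹) ^ 3 := by
        rw [conj_pow]
      rw [this, htat, hcube]
    -- `a ^ 3` lies in `L`
    have ha3L : a ^ 3 ∈ L := by
      rw [hLeq]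
      exact Subgroup.mem_inf.mpr ⟨A.pow_mem haA 3, hap⟩
    have ha3W : iV V ⟨a ^ 3, hap⟩ ∈ (⁅Vh V, E⁆ : Subgroup (Hl V)) := by
      have h1 := iV_commutator_mem V (zpowers a) (a ^ 3) (hL ▸ ha3L) hap
      refine Subgroup.commutator_mono le_rfl ?_ h1
      rw [hE]
      exact le_sup_left
    have hinv3 : t * a ^ 3 * t⁻¹ = (a ^ 3)⁻¹ := by
      have h1 := hzinv _ ha3W
      rw [← ht, conj_rho'_iV, ← map_inv] at h1
      have h2 := iV_injective V h1
      have h3 := congrArg Subtype.val h2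
      rw [rho_apply] at h3
      exact h3
    have ha6 : a ^ 3 * a ^ 3 = 1 := by
      have : a ^ 3 = (a ^ 3)⁻¹ := hconj3.symm.trans hinv3
      calc a ^ 3 * a ^ 3 = a ^ 3 * (a ^ 3)⁻¹ := by rw [← this]
        _ = 1 := mul_inv_cancel _
    have ha9 : (a ^ 3) ^ 3 = 1 := hVexp _ hap
    have ha3 : a ^ 3 = 1 := by
      calc a ^ 3 = (a ^ 3) ^ 3 * (a ^ 3 * a ^ 3)⁻¹ := by
            rw [pow_succ (a ^ 3) 2, pow_two]; group
        _ = 1 := by rw [ha9, ha6]; simp
    -- now `⟨a⟩` has order three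
    have ha1 : a ≠ 1 := fun h0 => haV (h0 ▸ V.one_mem)
    have hza : Nat.card (zpowers a) = 3 := by
      rw [Nat.card_zpowers]
      exact orderOf_eq_prime ha3 ha1
    have hle : zpowers a ≤ L :=
      Cfsg.Agent.Lib.Helper3.le_of_card_dvd_of_le_isCyclic A (zpowers a) L hA
        (by rw [zpowers_le]; exact haA) hLA (by rw [hza, hLcard])
    exact haV (hLV (hle (mem_zpowers a)))

end Cfsg.Agent.Lib.Helper1.CyclicNormal
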