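import Mathlib
import Cfsg.Prelude.Def_LocalEven
import Cfsg.Agent.Lib.Helper2.Cores
import Cfsg.Agent.Lib.Helper1.QuarticChief

set_option autoImplicit false

/-! Tools for exploiting `p`-stability in the normalizer form: the subgroup `DN p P` of the normalizer of a
`p`-subgroup `P` mapping onto `O_p(N(P)/C(P))`, fixed points, complements in minimal normal subgroups
(Clifford), and two structural lemmas. -/

namespace Cfsg.Agent.Lib.Helper1.PST

open Cfsg Cfsg.Agent.Lib.Helper1.StabAct Cfsg.Agent.Lib.Helper1.QC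
open scoped commutatorElement Pointwise

variable {Γ : Type*} [Group Γ] {p : ℕ}

/-- `E` acts on `P` as a `p`-group. -/
def PAct (p : ℕ) (E P : Subgroup Γ) : Prop :=
  ∀ e ∈ E, ∃ k : ℕ, e ^ (p ^ k) ∈ Subgroup.centralizer (P : Set Γ)

theorem PAct.mono {E E' P P' : Subgroup Γ} (h : PAct p E P) (hE : E' ≤ E) (hP : P' ≤ P) : PAct p E' P' := by
  intro e he
  obtain ⟨k, hk⟩ := h e (hE he)
  exact ⟨k, Subgroup.centralizer_le (by exact_mod_cast hP) hk⟩

/-- The preimage in `N(P)` of `O_p(N(P)/C(P))`, as a subgroup of the ambient group. -/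
noncomputable def DN (p : ℕ) (P : Subgroup Γ) : Subgroup Γ :=
  ((pCore p (↥(Subgroup.normalizer (P : Set Γ)) ⧸
      (Subgroup.centralizer (P : Set Γ)).subgroupOf (Subgroup.normalizer (P : Set Γ)))).comap
    (QuotientGroup.mk' ((Subgroup.centralizer (P : Set Γ)).subgroupOf
      (Subgroup.normalizer (P : Set Γ))))).map (Subgroup.normalizer (P : Set Γ)).subtype

theorem DN_le (P : Subgroup Γ) : DN p P ≤ Subgroup.normalizer (P : Set Γ) := by
  unfold DN
  exact Subgroup.map_subtype_le _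

theorem map_subtype_normal_le_normalizer (K : Subgroup Γ) (D' : Subgroup ↥K) [hD : D'.Normal] :
    K ≤ Subgroup.normalizer ((D'.map K.subtype : Subgroup Γ) : Set Γ) := by
  intro x hx
  rw [Subgroup.mem_normalizer_iff]
  intro h
  constructor
  · rintro ⟨d, hd, rfl⟩
    refine ⟨⟨x, hx⟩ * d * ⟨x, hx⟩⁻¹, hD.conj_mem d hd _, ?_⟩
    simp
  · rintro ⟨d, hd, hdeq⟩
    refine ⟨⟨x, hx⟩⁻¹ * d * ⟨x, hx⟩, ?_, ?_⟩
    · have := hD.conj_mem d hd ⟨x, hx⟩⁻¹
      simpa using this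
    · simp only [Subgroup.subtype_apply, Subgroup.coe_mul, Subgroup.coe_inv] at hdeq ⊢
      rw [hdeq]
      group

theorem normalizer_le_normalizer_DN (P : Subgroup Γ) :
    Subgroup.normalizer (P : Set Γ) ≤ Subgroup.normalizer ((DN p P : Subgroup Γ) : Set Γ) := by
  unfold DN
  exact map_subtype_normal_le_normalizer _ _

theorem DN_pact (P : Subgroup Γ) : PAct p (DN p P) P := by
  rintro e ⟨d, hd, rfl⟩
  rw [SetLike.mem_coe, Subgroup.mem_comap] at hd
  obtain ⟨k, hk⟩ := (Cfsg.Agent.Lib.Helper2.pCore_isPGroup p) ⟨_, hd⟩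
  refine ⟨k, ?_⟩
  have h1 := congrArg Subtype.val hk
  simp only [SubgroupClass.coe_pow, Subgroup.coe_one] at h1
  rw [QuotientGroup.mk'_apply, ← QuotientGroup.mk_pow, QuotientGroup.eq_one_iff] at h1
  rw [Subgroup.mem_subgroupOf] at h1
  simpa using h1

theorem mem_DN_of_stable (hst : IsNormalizerPStable p Γ) (P : Subgroup Γ) (hP : IsPGroup p ↥P) (g : Γ)
    (hg : g ∈ Subgroup.normalizer (P : Set Γ))
    (hq : ⁅⁅P, Subgroup.zpowers g⁆, Subgroup.zpowers g⁆ = ⊥) : g ∈ DN p P := by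
  have h := hst P hP g hg hq
  exact ⟨⟨g, hg⟩, h, rfl⟩


/-! ### Covering by a `p`-subgroup -/

theorem exists_pgroup_cover [Finite Γ] [Fact p.Prime] (E C : Subgroup Γ) (hCE : C ≤ E)
    (hCn : E ≤ Subgroup.normalizer (C : Set Γ)) (hp : ∀ e ∈ E, ∃ k : ℕ, e ^ (p ^ k) ∈ C) :
    ∃ Ep : Subgroup Γ, Ep ≤ E ∧ IsPGroup p ↥Ep ∧ ∀ e ∈ E, ∃ c ∈ C, ∃ s ∈ Ep, e = c * s := by
  haveI hC'n : (C.subgroupOf E).Normal := (Subgroup.normal_subgroupOf_iff_le_normalizer hCE).2 hCn
  set C' := C.subgroupOf E with hC'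
  have hquot : IsPGroup p (↥E ⧸ C') := by
    intro x
    induction x using QuotientGroup.induction_on with
    | H e =>
      obtain ⟨k, hk⟩ := hp (e : Γ) e.2
      refine ⟨k, ?_⟩
      rw [← QuotientGroup.mk_pow, QuotientGroup.eq_one_iff, hC', Subgroup.mem_subgroupOf]
      simpa using hk
  obtain ⟨n, hn⟩ := IsPGroup.iff_card.1 hquot
  have hidx : C'.index = p ^ n := by rw [Subgroup.index_eq_card]; exact hn
  let P : Sylow p ↥E := default
  have htop : C' ⊔ (P : Subgroup ↥E) = ⊤ := by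
    rw [← Subgroup.index_eq_one]
    have h1 : (C' ⊔ (P : Subgroup ↥E)).index ∣ p ^ n := by
      rw [← hidx]; exact Subgroup.index_dvd_of_le le_sup_left
    have h2 : (C' ⊔ (P : Subgroup ↥E)).index ∣ (P : Subgroup ↥E).index :=
      Subgroup.index_dvd_of_le le_sup_right
    obtain ⟨m, -, hm⟩ := (Nat.dvd_prime_pow (Fact.out : p.Prime)).1 h1
    rcases Nat.eq_zero_or_pos m with rfl | hmpos
    · simpa using hm
    · exfalso
      apply P.not_dvd_index
      apply dvd_trans _ h2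
      rw [hm]
      exact dvd_pow_self p hmpos.ne'
  refine ⟨(P : Subgroup ↥E).map E.subtype, Subgroup.map_subtype_le _, ?_, ?_⟩
  · exact P.isPGroup'.map E.subtype
  · intro e he
    have hmem : (⟨e, he⟩ : ↥E) ∈ C' ⊔ (P : Subgroup ↥E) := by rw [htop]; trivial
    have hset : (⟨e, he⟩ : ↥E) ∈ ((C' ⊔ (P : Subgroup ↥E) : Subgroup ↥E) : Set ↥E) := hmem
    rw [Subgroup.normal_mul] at hset
    obtain ⟨c, hc, s, hs, hcs⟩ := Set.mem_mul.1 hset
    refine ⟨(c : Γ), ?_, (s : Γ), ⟨s, hs, rfl⟩, ?_⟩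
    · exact Subgroup.mem_subgroupOf.1 hc
    · have := congrArg Subtype.val hcs
      simpa using this.symm

/-! ### Fixed points -/

theorem le_normalizer_of_kinv {K X : Subgroup Γ} (h : KInv K X) : K ≤ Subgroup.normalizer (X : Set Γ) := by
  intro k hk
  rw [Subgroup.mem_normalizer_iff]
  intro x
  constructor
  · intro hx; exact h k hk x hx
  · intro hx
    have := h k⁻¹ (inv_mem hk) _ hx
    simpa [mul_assoc] using this

theorem kinv_of_le_normalizer {K X : Subgroup Γ} (h : K ≤ Subgroup.normalizer (X : Set Γ)) : KInv K X := by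
  intro k hk x hx
  exact (Subgroup.mem_normalizer_iff.1 (h hk) x).1 hx

theorem kinv_centralizer {K X : Subgroup Γ} (h : KInv K X) : KInv K (Subgroup.centralizer (X : Set Γ)) := by
  intro k hk c hc
  rw [Subgroup.mem_centralizer_iff] at hc ⊢
  intro x hx
  have h1 := h k⁻¹ (inv_mem hk) x hx
  have h2 := hc _ h1
  simp only [inv_inv] at h2
  have e1 : x * (k * c * k⁻¹) = k * ((k⁻¹ * x * k) * c) * k⁻¹ := by group
  have e2 : k * c * k⁻¹ * x = k * (c * (k⁻¹ * x * k)) * k⁻¹ := by group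
  rw [e1, e2, h2]

theorem kinv_inf {K X Y : Subgroup Γ} (hX : KInv K X) (hY : KInv K Y) : KInv K (X ⊓ Y) :=
  fun k hk x hx => ⟨hX k hk x hx.1, hY k hk x hx.2⟩

theorem kinv_sup {K X Y : Subgroup Γ} (hX : KInv K X) (hY : KInv K Y) : KInv K (X ⊔ Y) := by
  intro k hk w hw
  have : X ⊔ Y ≤ (X ⊔ Y).comap (MulAut.conj k).toMonoidHom := by
    apply sup_le
    · intro x hx
      rw [Subgroup.mem_comap]
      exact (le_sup_left : X ≤ X ⊔ Y) (by simpa using hX k hk x hx)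
    · intro y hy
      rw [Subgroup.mem_comap]
      exact (le_sup_right : Y ≤ X ⊔ Y) (by simpa using hY k hk y hy)
  have h2 := this hw
  rw [Subgroup.mem_comap] at h2
  simpa using h2

theorem kinv_comm {K X Y : Subgroup Γ} (hX : KInv K X) (hY : KInv K Y) : KInv K ⁅X, Y⁆ := by
  intro k hk w hw
  have : ⁅X, Y⁆ ≤ (⁅X, Y⁆).comap (MulAut.conj k).toMonoidHom := by
    rw [Subgroup.commutator_le]
    intro x hx y hy
    rw [Subgroup.mem_comap]
    have e : (MulAut.conj k).toMonoidHom ⁅x, y⁆ = ⁅k * x * k⁻¹, k * y * k⁻¹⁆ := by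
      simp only [MulEquiv.coe_toMonoidHom, MulAut.conj_apply, commutatorElement_def]
      group
    rw [e]
    exact Subgroup.commutator_mem_commutator (hX k hk x hx) (hY k hk y hy)
  have h2 := this hw
  rw [Subgroup.mem_comap] at h2
  simpa using h2

theorem kinv_mono {K K' X : Subgroup Γ} (h : KInv K X) (hK : K' ≤ K) : KInv K' X :=
  fun k hk x hx => h k (hK hk) x hx

theorem exists_fixed [Finite Γ] [Fact p.Prime] (P₂ Q : Subgroup Γ) (hP₂ : IsPGroup p ↥P₂) (hne : P₂ ≠ ⊥)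
    (hQ : Q ≤ Subgroup.normalizer (P₂ : Set Γ)) (hact : PAct p Q P₂) :
    ∃ a ∈ P₂, a ≠ 1 ∧ a ∈ Subgroup.centralizer (Q : Set Γ) := by
  set C := Q ⊓ Subgroup.centralizer (P₂ : Set Γ) with hC
  have hQinv : KInv Q P₂ := kinv_of_le_normalizer hQ
  have hCn : Q ≤ Subgroup.normalizer (C : Set Γ) := by
    apply le_normalizer_of_kinv
    apply kinv_inf
    · intro k hk x hx; exact mul_mem (mul_mem hk hx) (inv_mem hk)
    · exact kinv_centralizer hQinv
  obtain ⟨Qp, hQpQ, hQpp, hcover⟩ := exists_pgroup_cover (p := p) Q C inf_le_left hCn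
    (fun e he => by
      obtain ⟨k, hk⟩ := hact e he
      exact ⟨k, pow_mem he _, hk⟩)
  set P₃ := P₂ ⊔ Qp with hP₃
  have hP₃p : IsPGroup p ↥P₃ := IsPGroup.to_sup_of_normal_left' hP₂ hQpp (hQpQ.trans hQ)
  have hP₃n : P₃ ≤ Subgroup.normalizer (P₂ : Set Γ) := sup_le Subgroup.le_normalizer (hQpQ.trans hQ)
  have hinv : KInv P₃ P₂ := kinv_of_le_normalizer hP₃n
  have hex : ∃ n, iterCommutator P₂ P₃ n = ⊥ := iter_eq_bot_of_pgroup P₃ hP₃p P₂ le_sup_left
  classical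
  set n := Nat.find hex with hn
  have hn0 : n ≠ 0 := by
    intro h0
    have := Nat.find_spec hex
    rw [← hn, h0] at this
    exact hne this
  obtain ⟨m, hm⟩ := Nat.exists_eq_succ_of_ne_zero hn0
  have hMne : iterCommutator P₂ P₃ m ≠ ⊥ := by
    intro h
    have := Nat.find_min' hex h
    omega
  have hMcomm : ⁅iterCommutator P₂ P₃ m, P₃⁆ = ⊥ := by
    have := Nat.find_spec hex
    rw [← hn, hm] at this
    exact this
  obtain ⟨a, ha1⟩ := (Subgroup.ne_bot_iff_exists_ne_one).1 hMne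
  have haP₂ : (a : Γ) ∈ P₂ := iter_le_self hinv m a.2
  refine ⟨a, haP₂, fun h => ha1 (Subtype.ext h), ?_⟩
  rw [Subgroup.mem_centralizer_iff]
  intro e he
  obtain ⟨c, hc, s, hs, rfl⟩ := hcover e he
  have h1 : c * (a : Γ) = (a : Γ) * c := by
    have := Subgroup.mem_centralizer_iff.1 hc.2 (a : Γ) haP₂
    exact this.symm
  have h2 : s * (a : Γ) = (a : Γ) * s := by
    have hcm : ⁅(a : Γ), s⁆ ∈ ⁅iterCommutator P₂ P₃ m, P₃⁆ :=
      Subgroup.commutator_mem_commutator a.2 ((le_sup_right : Qp ≤ P₃) hs)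
    rw [hMcomm, Subgroup.mem_bot] at hcm
    have := commutatorElement_eq_one_iff_mul_comm.1 hcm
    exact this.symm
  calc c * s * (a : Γ) = c * ((a : Γ) * s) := by rw [mul_assoc, h2]
    _ = (a : Γ) * (c * s) := by rw [← mul_assoc, h1, mul_assoc]

/-- A normal subgroup acting as a `p`-group on a minimal normal `p`-subgroup centralizes it. -/
theorem le_centralizer_of_minimal [Finite Γ] [Fact p.Prime] (V D : Subgroup Γ) [hVn : V.Normal] [hDn : D.Normal]
    (hVp : IsPGroup p ↥V) (hVne : V ≠ ⊥)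
    (hmin : ∀ M : Subgroup Γ, M.Normal → M ≤ V → M = ⊥ ∨ M = V)
    (hact : PAct p D V) : D ≤ Subgroup.centralizer (V : Set Γ) := by
  haveI : (Subgroup.centralizer (D : Set Γ)).Normal := Subgroup.normal_centralizer
  set F := V ⊓ Subgroup.centralizer (D : Set Γ) with hF
  have hFn : F.Normal := inferInstance
  obtain ⟨a, haV, ha1, haD⟩ := exists_fixed (p := p) V D hVp hVne Subgroup.le_normalizer_of_normal hact
  have hFne : F ≠ ⊥ := by
    intro h
    have : a ∈ F := ⟨haV, haD⟩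
    rw [h, Subgroup.mem_bot] at this
    exact ha1 this
  rcases hmin F hFn inf_le_left with h | h
  · exact absurd h hFne
  · rw [Subgroup.le_centralizer_iff]
    rw [← h]
    exact inf_le_right

/-- Stability: an element centralizing `N₀` and `N / N₀` acts on the `p`-group `N` as a `p`-element. -/
theorem pact_of_stab [Finite Γ] [Fact p.Prime] (N N₀ : Subgroup Γ) (hN : IsPGroup p ↥N) (hN₀ : N₀ ≤ N) (h : Γ)
    (h0 : h ∈ Subgroup.centralizer (N₀ : Set Γ)) (h1 : ∀ a ∈ N, ⁅a, h⁆ ∈ N₀) :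
    ∃ k : ℕ, h ^ (p ^ k) ∈ Subgroup.centralizer (N : Set Γ) := by
  have hpos : 0 < orderOf h := orderOf_pos h
  obtain ⟨k, m, hm, hkm⟩ := Nat.exists_eq_pow_mul_and_not_dvd hpos.ne' p (Fact.out : p.Prime).ne_one
  refine ⟨k, ?_⟩
  set g := h ^ (p ^ k) with hg
  have hgR : g ∈ relCent N₀ N₀ N le_rfl := pow_mem (show h ∈ relCent N₀ N₀ N le_rfl from ⟨h0, h1⟩) _
  have hgm : g ^ m = 1 := by
    rw [hg, ← pow_mul, ← hkm]
    exact pow_orderOf_eq_one h
  rw [Subgroup.mem_centralizer_iff]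
  intro a ha
  set z := ⁅a⁻¹, g⁆ with hz
  have hzN₀ : z ∈ N₀ := hgR.2 _ (inv_mem ha)
  have hconj : g * a * g⁻¹ = a * z := by
    rw [hz]; simp only [commutatorElement_def]; group
  have hgz : g * z = z * g := (Subgroup.mem_centralizer_iff.1 hgR.1 z hzN₀).symm
  have hpow : ∀ j : ℕ, g ^ j * a * (g ^ j)⁻¹ = a * z ^ j := by
    intro j
    induction j with
    | zero => simp
    | succ j ih =>
      have hgzj : g * z ^ j = z ^ j * g := by
        have : Commute g z := hgz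
        exact (this.pow_right j).eq
      calc g ^ (j + 1) * a * (g ^ (j + 1))⁻¹ = g * (g ^ j * a * (g ^ j)⁻¹) * g⁻¹ := by
            rw [pow_succ']; group
        _ = g * (a * z ^ j) * g⁻¹ := by rw [ih]
        _ = (g * a * g⁻¹) * (g * z ^ j * g⁻¹) := by group
        _ = a * z * z ^ j := by rw [hconj, hgzj]; group
        _ = a * z ^ (j + 1) := by rw [mul_assoc, ← pow_succ']
  have hzm : z ^ m = 1 := by
    have := hpow m
    rw [hgm] at this
    simpa using this.symm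
  obtain ⟨j, hj⟩ := hN ⟨z, hN₀ hzN₀⟩
  have hzj : z ^ (p ^ j) = 1 := by
    have := congrArg Subtype.val hj
    simpa using this
  have hcop : Nat.Coprime (p ^ j) m := by
    apply Nat.Coprime.pow_left
    exact ((Fact.out : p.Prime).coprime_iff_not_dvd).2 hm
  have hz1 : z = 1 := by
    have h1' : orderOf z ∣ p ^ j := orderOf_dvd_of_pow_eq_one hzj
    have h2' : orderOf z ∣ m := orderOf_dvd_of_pow_eq_one hzm
    have : orderOf z ∣ 1 := by
      have := Nat.dvd_gcd h1' h2'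
      rwa [hcop] at this
    exact orderOf_eq_one_iff.1 (Nat.dvd_one.1 this)
  rw [hz1, mul_one] at hconj
  have : g * a = a * g := by
    calc g * a = g * a * g⁻¹ * g := by group
      _ = a * g := by rw [hconj]
  exact this.symm


/-! ### Complements (Clifford) -/

theorem mem_sup_abelian (V A B : Subgroup Γ) (hVab : ∀ a ∈ V, ∀ b ∈ V, a * b = b * a)
    (hA : A ≤ V) (hB : B ≤ V) {z : Γ} (hz : z ∈ A ⊔ B) : ∃ x ∈ A, ∃ y ∈ B, z = x * y := by
  have hBn : A ≤ Subgroup.normalizer (B : Set Γ) := by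
    intro a ha
    rw [Subgroup.mem_normalizer_iff]
    intro b
    constructor
    · intro hb
      have : a * b * a⁻¹ = b := by
        rw [hVab a (hA ha) b (hB hb)]; group
      rw [this]; exact hb
    · intro hb
      have hc : a⁻¹ * (a * b * a⁻¹) * a⁻¹⁻¹ = a * b * a⁻¹ := by
        have h1 := hVab a⁻¹ (inv_mem (hA ha)) (a * b * a⁻¹) (hB hb)
        rw [h1]; group
      have : b = a⁻¹ * (a * b * a⁻¹) * a⁻¹⁻¹ := by group
      rw [this, hc]; exact hb
  have hset : z ∈ ((A ⊔ B : Subgroup Γ) : Set Γ) := hz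
  rw [Subgroup.coe_mul_of_left_le_normalizer_right A B hBn] at hset
  obtain ⟨x, hx, y, hy, rfl⟩ := Set.mem_mul.1 hset
  exact ⟨x, hx, y, hy, rfl⟩

/-- `A` is a minimal nontrivial `H`-invariant subgroup of `V`. -/
def IsAtomInv (H V A : Subgroup Γ) : Prop :=
  A ≤ V ∧ KInv H A ∧ A ≠ ⊥ ∧ ∀ A' : Subgroup Γ, A' ≤ A → KInv H A' → A' = ⊥ ∨ A' = A

theorem exists_atom_le [Finite Γ] (H V M : Subgroup Γ) (hMV : M ≤ V) (hM : KInv H M) (hne : M ≠ ⊥) :
    ∃ A, IsAtomInv H V A ∧ A ≤ M := by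
  set 𝒜 : Set (Subgroup Γ) := {A | A ≤ M ∧ KInv H A ∧ A ≠ ⊥} with h𝒜
  have hne' : 𝒜.Nonempty := ⟨M, le_rfl, hM, hne⟩
  obtain ⟨A, hA⟩ := (Set.toFinite 𝒜).exists_minimal hne'
  refine ⟨A, ⟨hA.1.1.trans hMV, hA.1.2.1, hA.1.2.2, fun A' hA'A hA'i => ?_⟩, hA.1.1⟩
  by_cases h : A' = ⊥
  · exact Or.inl h
  · right
    exact le_antisymm hA'A (hA.2 ⟨hA'A.trans hA.1.1, hA'i, h⟩ hA'A)

/-- Clifford: in a minimal normal subgroup `V`, for `H` normal, every proper `H`-invariant subgroup misses some atom. -/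
theorem exists_atom_not_le [Finite Γ] (V H : Subgroup Γ) [hVn : V.Normal] [hHn : H.Normal] (hVne : V ≠ ⊥)
    (hmin : ∀ M : Subgroup Γ, M.Normal → M ≤ V → M = ⊥ ∨ M = V)
    (M : Subgroup Γ) (hMV : M ≤ V) (hMne : M ≠ V) : ∃ A, IsAtomInv H V A ∧ ¬ A ≤ M := by
  by_contra hcon
  push Not at hcon
  set J := sSup {A | IsAtomInv H V A} with hJ
  have hJM : J ≤ M := sSup_le (fun A hA => hcon A hA)
  have hJn : J.Normal := by
    constructor
    intro n hn g
    have : J ≤ J.comap (MulAut.conj g).toMonoidHom := by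
      apply sSup_le
      intro A hA a ha
      rw [Subgroup.mem_comap]
      have hAg : IsAtomInv H V (A.map (MulAut.conj g).toMonoidHom) := by
        refine ⟨?_, ?_, ?_, ?_⟩
        · rintro _ ⟨x, hx, rfl⟩
          exact hVn.conj_mem x (hA.1 hx) g
        · rintro h hh _ ⟨x, hx, rfl⟩
          refine ⟨(g⁻¹ * h * g) * x * (g⁻¹ * h * g)⁻¹, ?_, ?_⟩
          · apply hA.2.1 _ _ x hx
            have := hHn.conj_mem h hh g⁻¹
            simpa using this
          · simp only [MulEquiv.coe_toMonoidHom, MulAut.conj_apply]; group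
        · intro h
          apply hA.2.2.1
          rw [eq_bot_iff] at h ⊢
          intro x hx
          have : (MulAut.conj g).toMonoidHom x ∈ (⊥ : Subgroup Γ) := h ⟨x, hx, rfl⟩
          rw [Subgroup.mem_bot] at this ⊢
          simpa using this
        · intro A' hA'le hA'i
          have hA'' : A'.comap (MulAut.conj g).toMonoidHom ⊓ A ≤ A := inf_le_right
          have hcomapA : A'.comap (MulAut.conj g).toMonoidHom ≤ A := by
            intro x hx
            rw [Subgroup.mem_comap] at hx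
            obtain ⟨y, hy, hyx⟩ := hA'le hx
            have : y = x := (MulAut.conj g).injective (by simpa using hyx)
            rw [← this]; exact hy
          have hinv : KInv H (A'.comap (MulAut.conj g).toMonoidHom) := by
            intro h hh x hx
            rw [Subgroup.mem_comap] at hx ⊢
            have h1 : g * h * g⁻¹ ∈ H := hHn.conj_mem h hh g
            have h2 := hA'i _ h1 _ hx
            have e : (MulAut.conj g).toMonoidHom (h * x * h⁻¹) =
                g * h * g⁻¹ * (MulAut.conj g).toMonoidHom x * (g * h * g⁻¹)⁻¹ := by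
              simp only [MulEquiv.coe_toMonoidHom, MulAut.conj_apply]; group
            rw [e]; exact h2
          rcases hA.2.2.2 _ hcomapA hinv with h | h
          · left
            rw [eq_bot_iff]
            intro x hx
            obtain ⟨y, hy, hyx⟩ := hA'le hx
            have hy' : y ∈ A'.comap (MulAut.conj g).toMonoidHom := by
              rw [Subgroup.mem_comap, hyx]; exact hx
            rw [h, Subgroup.mem_bot] at hy'
            rw [Subgroup.mem_bot, ← hyx, hy']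
            simp
          · right
            apply le_antisymm hA'le
            rintro _ ⟨x, hx, rfl⟩
            rw [← h] at hx
            exact hx
      exact le_sSup (a := A.map (MulAut.conj g).toMonoidHom) hAg ⟨a, ha, rfl⟩
    have h2 := this hn
    rw [Subgroup.mem_comap] at h2
    simpa using h2
  obtain ⟨A, hA, -⟩ := exists_atom_le H V V le_rfl (kinv_of_normal H V) hVne
  have hJne : J ≠ ⊥ := by
    intro h
    apply hA.2.2.1
    rw [eq_bot_iff, ← h]
    exact le_sSup hA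
  rcases hmin J hJn (hJM.trans hMV) with h | h
  · exact hJne h
  · apply hMne
    exact le_antisymm hMV (h ▸ hJM)

theorem exists_complement [Finite Γ] (V H : Subgroup Γ) (hVab : ∀ a ∈ V, ∀ b ∈ V, a * b = b * a)
    (hSS : ∀ M : Subgroup Γ, M ≤ V → M ≠ V → ∃ A, IsAtomInv H V A ∧ ¬ A ≤ M)
    (M : Subgroup Γ) (hMV : M ≤ V) (hMi : KInv H M) :
    ∃ C, C ≤ V ∧ KInv H C ∧ M ⊓ C = ⊥ ∧ M ⊔ C = V := by
  set 𝒞 : Set (Subgroup Γ) := {C | C ≤ V ∧ KInv H C ∧ M ⊓ C = ⊥} with h𝒞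
  have hne : 𝒞.Nonempty := ⟨⊥, bot_le, fun k _ x hx => by
    rw [Subgroup.mem_bot] at hx ⊢; rw [hx]; group, inf_bot_eq _⟩
  obtain ⟨C, hC⟩ := (Set.toFinite 𝒞).exists_maximal hne
  refine ⟨C, hC.1.1, hC.1.2.1, hC.1.2.2, ?_⟩
  by_contra hMC
  have hMCV : M ⊔ C ≤ V := sup_le hMV hC.1.1
  obtain ⟨A, hA, hAn⟩ := hSS (M ⊔ C) hMCV hMC
  have hAinf : A ⊓ (M ⊔ C) = ⊥ := by
    rcases hA.2.2.2 (A ⊓ (M ⊔ C)) inf_le_left (kinv_inf hA.2.1 (kinv_sup hMi hC.1.2.1)) with h | h
    · exact h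
    · exfalso; apply hAn; rw [← h]; exact inf_le_right
  have hC₁ : C ⊔ A ∈ 𝒞 := by
    refine ⟨sup_le hC.1.1 hA.1, kinv_sup hC.1.2.1 hA.2.1, ?_⟩
    rw [eq_bot_iff]
    intro x hx
    obtain ⟨c, hc, a, ha, hxca⟩ := mem_sup_abelian V C A hVab hC.1.1 hA.1 hx.2
    have ha' : a ∈ A ⊓ (M ⊔ C) := by
      refine ⟨ha, ?_⟩
      have : a = c⁻¹ * x := by rw [hxca]; group
      rw [this]
      exact mul_mem ((le_sup_right : C ≤ M ⊔ C) (inv_mem hc)) ((le_sup_left : M ≤ M ⊔ C) hx.1)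
    rw [hAinf, Subgroup.mem_bot] at ha'
    rw [ha', mul_one] at hxca
    have : x ∈ M ⊓ C := ⟨hx.1, hxca ▸ hc⟩
    rw [hC.1.2.2] at this
    exact this
  have hle : C ⊔ A ≤ C := hC.2 hC₁ le_sup_left
  exact hAn ((le_sup_right.trans hle).trans le_sup_right)

/-- `Q`, normal in `H` and acting as a `p`-group on the `H`-invariant subgroup `P` of `V`, centralizes `P`. -/
theorem le_centralizer_of_pact [Finite Γ] [Fact p.Prime] (V H P Q : Subgroup Γ)
    (hVab : ∀ a ∈ V, ∀ b ∈ V, a * b = b * a) (hVp : IsPGroup p ↥V)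
    (hcomp : ∀ M : Subgroup Γ, M ≤ V → KInv H M → ∃ C, C ≤ V ∧ KInv H C ∧ M ⊓ C = ⊥ ∧ M ⊔ C = V)
    (hPV : P ≤ V) (hPi : KInv H P) (hQH : Q ≤ H) (hQn : KInv H Q) (hact : PAct p Q P) :
    P ≤ Subgroup.centralizer (Q : Set Γ) := by
  set P₁ := P ⊓ Subgroup.centralizer (Q : Set Γ) with hP₁
  have hP₁i : KInv H P₁ := kinv_inf hPi (kinv_centralizer hQn)
  obtain ⟨C', hC'V, hC'i, hinf, hsup⟩ := hcomp P₁ (inf_le_left.trans hPV) hP₁i
  set P₂ := P ⊓ C' with hP₂
  by_cases hP₂b : P₂ = ⊥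
  · intro x hx
    have hxV : x ∈ P₁ ⊔ C' := by rw [hsup]; exact hPV hx
    obtain ⟨y, hy, c, hc, hxyc⟩ := mem_sup_abelian V P₁ C' hVab (inf_le_left.trans hPV) hC'V hxV
    have hc' : c ∈ P₂ := by
      refine Subgroup.mem_inf.2 ⟨?_, hc⟩
      have : c = y⁻¹ * x := by rw [hxyc]; group
      rw [this]
      exact mul_mem (inv_mem (Subgroup.mem_inf.1 hy).1) hx
    rw [hP₂b, Subgroup.mem_bot] at hc'
    rw [hc', mul_one] at hxyc
    rw [hxyc]; exact (Subgroup.mem_inf.1 hy).2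
  · exfalso
    have hP₂i : KInv H P₂ := kinv_inf hPi hC'i
    have hQP₂ : Q ≤ Subgroup.normalizer (P₂ : Set Γ) := le_normalizer_of_kinv (kinv_mono hP₂i hQH)
    have hP₂p : IsPGroup p ↥P₂ := hVp.to_le (inf_le_left.trans hPV)
    obtain ⟨a, haP₂, ha1, haQ⟩ := exists_fixed (p := p) P₂ Q hP₂p hP₂b hQP₂ (hact.mono le_rfl inf_le_left)
    have : a ∈ P₁ ⊓ C' := ⟨⟨haP₂.1, haQ⟩, haP₂.2⟩
    rw [hinf, Subgroup.mem_bot] at this
    exact ha1 this

theorem comm_inf_cent_eq_bot [Finite Γ] (V H Q : Subgroup Γ) [hVn : V.Normal]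
    (hVab : ∀ a ∈ V, ∀ b ∈ V, a * b = b * a)
    (hcomp : ∀ M : Subgroup Γ, M ≤ V → KInv H M → ∃ C, C ≤ V ∧ KInv H C ∧ M ⊓ C = ⊥ ∧ M ⊔ C = V)
    (hQH : Q ≤ H) (hQn : KInv H Q) :
    ⁅V, Q⁆ ⊓ (V ⊓ Subgroup.centralizer (Q : Set Γ)) = ⊥ := by
  set M := V ⊓ Subgroup.centralizer (Q : Set Γ) with hM
  have hMi : KInv H M := kinv_inf (kinv_of_normal H V) (kinv_centralizer hQn)
  obtain ⟨C, hCV, hCi, hinf, hsup⟩ := hcomp M inf_le_left hMi
  have hle : ⁅V, Q⁆ ≤ C := by
    rw [Subgroup.commutator_le]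
    intro v hv q hq
    have hvV : v ∈ M ⊔ C := by rw [hsup]; exact hv
    obtain ⟨m, hm, c, hc, rfl⟩ := mem_sup_abelian V M C hVab inf_le_left hCV hvV
    have hmq : m * q = q * m := by
      have := Subgroup.mem_centralizer_iff.1 hm.2 q hq
      exact this.symm
    have hcq : ⁅c, q⁆ ∈ C := by
      have : ⁅c, q⁆ = c * (q * c⁻¹ * q⁻¹) := by simp only [commutatorElement_def]; group
      rw [this]
      exact mul_mem hc (hCi q (hQH hq) _ (inv_mem hc))
    have e : ⁅m * c, q⁆ = m * ⁅c, q⁆ * m⁻¹ := by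
      have h1 : m⁻¹ * q⁻¹ = q⁻¹ * m⁻¹ := by
        have : (q * m)⁻¹ = (m * q)⁻¹ := by rw [hmq]
        simpa using this
      simp only [commutatorElement_def]
      calc m * c * q * (m * c)⁻¹ * q⁻¹ = m * c * q * c⁻¹ * (m⁻¹ * q⁻¹) := by group
        _ = m * c * q * c⁻¹ * (q⁻¹ * m⁻¹) := by rw [h1]
        _ = m * (c * q * c⁻¹ * q⁻¹) * m⁻¹ := by group
    rw [e]
    have hcqV : ⁅c, q⁆ ∈ V := hCV hcq
    have : m * ⁅c, q⁆ * m⁻¹ = ⁅c, q⁆ := by
      rw [hVab m hm.1 _ hcqV]; group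
    rw [this]; exact hcq
  rw [eq_bot_iff, ← hinf]
  exact le_inf inf_le_right (inf_le_left.trans hle)


/-! ### The two structural lemmas -/

theorem comm_le_of_kinv_right {K X : Subgroup Γ} (h : KInv K X) : ⁅X, K⁆ ≤ X := commutator_le_of_kinv h

/-- Lemma Q. -/
theorem lemmaQ [Finite Γ] [Fact p.Prime] (hst : IsNormalizerPStable p Γ) (V H B Vm : Subgroup Γ)
    [hVn : V.Normal] [hHn : H.Normal]
    (hVab : ∀ a ∈ V, ∀ b ∈ V, a * b = b * a) (hVp : IsPGroup p ↥V) (hVne : V ≠ ⊥)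
    (hmin : ∀ M : Subgroup Γ, M.Normal → M ≤ V → M = ⊥ ∨ M = V)
    (hVm : Vm ≤ V) (hHVm : KInv H Vm) (hBVm : KInv B Vm)
    (h1 : ⁅⁅V, B⁆, B⁆ ≤ Vm) (h2 : ⁅⁅Vm, B⁆, B⁆ = ⊥) :
    ⁅H, B⁆ ≤ Subgroup.centralizer (V : Set Γ) := by
  have hcomp : ∀ M : Subgroup Γ, M ≤ V → KInv H M → ∃ C, C ≤ V ∧ KInv H C ∧ M ⊓ C = ⊥ ∧ M ⊔ C = V :=
    fun M hM hMi => exists_complement V H hVab
      (fun M' hM' hne => exists_atom_not_le V H hVne hmin M' hM' hne) M hM hMi
  have hHH : KInv H H := fun k hk x hx => mul_mem (mul_mem hk hx) (inv_mem hk)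
  have hBH : KInv B H := kinv_of_normal B H
  -- a general step
  have step : ∀ P : Subgroup Γ, P ≤ V → KInv H P → KInv B P → ⁅⁅P, B⁆, B⁆ = ⊥ →
      ∃ Q : Subgroup Γ, Q ≤ H ∧ KInv H Q ∧ KInv B Q ∧ ⁅H, B⁆ ≤ Q ∧
        P ≤ Subgroup.centralizer (Q : Set Γ) := by
    intro P hPV hHP hBP hquad
    have hPp : IsPGroup p ↥P := hVp.to_le hPV
    have hHN : H ≤ Subgroup.normalizer (P : Set Γ) := le_normalizer_of_kinv hHP
    have hBN : B ≤ Subgroup.normalizer (P : Set Γ) := le_normalizer_of_kinv hBP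
    have hBD : B ≤ DN p P := by
      intro b hb
      apply mem_DN_of_stable hst P hPp b (hBN hb)
      rw [eq_bot_iff, ← hquad]
      have hzb : Subgroup.zpowers b ≤ B := Subgroup.zpowers_le.2 hb
      exact Subgroup.commutator_mono (Subgroup.commutator_mono le_rfl hzb) hzb
    have hHD : KInv H (DN p P) := kinv_of_le_normalizer (hHN.trans (normalizer_le_normalizer_DN P))
    have hBDi : KInv B (DN p P) := kinv_of_le_normalizer (hBN.trans (normalizer_le_normalizer_DN P))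
    refine ⟨H ⊓ DN p P, inf_le_left, kinv_inf hHH hHD, kinv_inf hBH hBDi, ?_, ?_⟩
    · rw [Subgroup.commutator_le]
      intro h hh b hb
      refine Subgroup.mem_inf.2 ⟨?_, ?_⟩
      · have : ⁅h, b⁆ = h * (b * h⁻¹ * b⁻¹) := by simp only [commutatorElement_def]; group
        rw [this]
        exact mul_mem hh (hHn.conj_mem _ (inv_mem hh) b)
      · have : ⁅h, b⁆ = (h * b * h⁻¹) * b⁻¹ := by simp only [commutatorElement_def]
        rw [this]
        exact mul_mem (hHD h hh b (hBD hb)) (inv_mem (hBD hb))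
    · exact le_centralizer_of_pact V H P (H ⊓ DN p P) hVab hVp hcomp hPV hHP inf_le_left
        (kinv_inf hHH hHD) ((DN_pact P).mono inf_le_right le_rfl)
  obtain ⟨Q₁, hQ₁H, hQ₁i, hQ₁B, hQ₁c, hQ₁cent⟩ := step Vm hVm hHVm hBVm h2
  set Vp := ⁅V, Q₁⁆ with hVp'
  have hVpV : Vp ≤ V := Subgroup.commutator_le_left V Q₁
  have hHVp : KInv H Vp := kinv_comm (kinv_of_normal H V) hQ₁i
  have hBVp : KInv B Vp := kinv_comm (kinv_of_normal B V) hQ₁B
  have hinf := comm_inf_cent_eq_bot V H Q₁ hVab hcomp hQ₁H hQ₁i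
  have hVpquad : ⁅⁅Vp, B⁆, B⁆ = ⊥ := by
    rw [eq_bot_iff, ← hinf]
    apply le_inf
    · exact (Subgroup.commutator_mono (commutator_le_of_kinv hBVp) le_rfl).trans
        (commutator_le_of_kinv hBVp)
    · refine (Subgroup.commutator_mono (Subgroup.commutator_mono hVpV le_rfl) le_rfl).trans ?_
      exact h1.trans (le_inf hVm hQ₁cent)
  obtain ⟨Q₂, hQ₂H, hQ₂i, hQ₂B, hQ₂c, hQ₂cent⟩ := step Vp hVpV hHVp hBVp hVpquad
  set Q₃ := Q₁ ⊓ Q₂ with hQ₃
  have hQ₃H : Q₃ ≤ H := inf_le_left.trans hQ₁H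
  have hQ₃i : KInv H Q₃ := kinv_inf hQ₁i hQ₂i
  have hinf3 := comm_inf_cent_eq_bot V H Q₃ hVab hcomp hQ₃H hQ₃i
  have hVQ₃ : ⁅V, Q₃⁆ = ⊥ := by
    rw [eq_bot_iff, ← hinf3]
    apply le_inf le_rfl
    apply le_inf (Subgroup.commutator_le_left V Q₃)
    refine (Subgroup.commutator_mono le_rfl (inf_le_left : Q₃ ≤ Q₁)).trans ?_
    exact hQ₂cent.trans (Subgroup.centralizer_le (by exact_mod_cast (inf_le_right : Q₃ ≤ Q₂)))
  have hQ₃cent : Q₃ ≤ Subgroup.centralizer (V : Set Γ) := by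
    rw [← Subgroup.commutator_eq_bot_iff_le_centralizer, Subgroup.commutator_comm]
    exact hVQ₃
  exact (le_inf hQ₁c hQ₂c).trans hQ₃cent

/-- Lemma R. -/
theorem lemmaR [Finite Γ] [Fact p.Prime] (hO : pCore p Γ = ⊥) (H K B : Subgroup Γ) [hHn : H.Normal]
    [hKn : K.Normal] (hKH : ∀ x ∈ K, ∃ k : ℕ, x ^ (p ^ k) ∈ H) (hBK : B ≤ K) (hB : IsPGroup p ↥B)
    (hcomm : ⁅H, B⁆ = ⊥) : B = ⊥ := by
  haveI : (Subgroup.centralizer (H : Set Γ)).Normal := Subgroup.normal_centralizer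
  set C := K ⊓ Subgroup.centralizer (H : Set Γ) with hC
  haveI hCn : C.Normal := inferInstance
  have hBC : B ≤ C := by
    apply le_inf hBK
    rw [← Subgroup.commutator_eq_bot_iff_le_centralizer, Subgroup.commutator_comm]
    exact hcomm
  -- `C` is nilpotent
  let f : ↥C →* Γ ⧸ H := (QuotientGroup.mk' H).comp C.subtype
  have hker : f.ker ≤ Subgroup.center ↥C := by
    intro x hx
    rw [MonoidHom.mem_ker] at hx
    have hxH : (x : Γ) ∈ H := by
      have : (QuotientGroup.mk' H) (x : Γ) = 1 := hx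
      rwa [QuotientGroup.mk'_apply, QuotientGroup.eq_one_iff] at this
    rw [Subgroup.mem_center_iff]
    intro y
    apply Subtype.ext
    have := Subgroup.mem_centralizer_iff.1 y.2.2 (x : Γ) hxH
    simpa using this.symm
  have hrange : IsPGroup p ↥f.range := by
    rintro ⟨_, x, rfl⟩
    obtain ⟨k, hk⟩ := hKH (x : Γ) x.2.1
    refine ⟨k, ?_⟩
    apply Subtype.ext
    show f x ^ p ^ k = 1
    rw [← map_pow]
    show (QuotientGroup.mk' H) (((x ^ p ^ k : ↥C)) : Γ) = 1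
    rw [QuotientGroup.mk'_apply, QuotientGroup.eq_one_iff]
    simpa using hk
  have hnilr : Group.IsNilpotent ↥f.range := hrange.isNilpotent
  have hnil : Group.IsNilpotent ↥C := by
    haveI := hnilr
    exact Subgroup.isNilpotent_of_ker_le_center f.rangeRestrict
      (by rw [MonoidHom.ker_rangeRestrict]; exact hker)
  let P₁ : Sylow p ↥C := default
  have hP₁n : (P₁ : Subgroup ↥C).Normal := by
    have := ((Group.isNilpotent_of_finite_tfae (G := ↥C)).out 0 3).1 hnil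
    exact this p inferInstance P₁
  haveI := hP₁n
  haveI hchar : (P₁ : Subgroup ↥C).Characteristic := Sylow.characteristic_of_normal P₁ hP₁n
  have hmapn : ((P₁ : Subgroup ↥C).map C.subtype).Normal := inferInstance
  have hle : (P₁ : Subgroup ↥C).map C.subtype ≤ pCore p Γ :=
    Cfsg.Agent.Lib.Helper2.le_pCore hmapn (P₁.isPGroup'.map C.subtype)
  rw [hO, le_bot_iff] at hle
  have hP₁bot : (P₁ : Subgroup ↥C) = ⊥ := by
    rw [eq_bot_iff]
    intro x hx
    have : (x : Γ) ∈ (P₁ : Subgroup ↥C).map C.subtype := ⟨x, hx, rfl⟩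
    rw [hle, Subgroup.mem_bot] at this
    rw [Subgroup.mem_bot]
    exact Subtype.ext this
  have hnd : ¬ p ∣ Nat.card ↥C := fun h => P₁.ne_bot_of_dvd_card h hP₁bot
  obtain ⟨n, hn⟩ := IsPGroup.iff_card.1 hB
  have hdvd : Nat.card ↥B ∣ Nat.card ↥C := Subgroup.card_dvd_of_le hBC
  rcases Nat.eq_zero_or_pos n with rfl | hnpos
  · rw [pow_zero] at hn
    exact Subgroup.card_eq_one.1 hn
  · exfalso
    apply hnd
    apply dvd_trans _ hdvd
    rw [hn]
    exact dvd_pow_self p hnpos.ne'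

end Cfsg.Agent.Lib.Helper1.PST
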