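import Mathlib
import Cfsg.Prelude.Def_ConjugacyFunctors
import Cfsg.Agent.Lib.Helper1.AlperinGoldschmidt

set_option autoImplicit false

namespace Cfsg.Agent.Lib.Helper1

open Cfsg Cfsg.Agent.Lib.Helper29

variable {G : Type*} [Group G]

/-- `N_S(V)`. -/
def nS (S V : Subgroup G) : Subgroup G := S ⊓ Subgroup.normalizer (V : Set G)

/-- `N_S(V)` is a Sylow `p`-subgroup of `N_G(V)`, in cardinality form. -/
def SylCond (p : ℕ) (S V : Subgroup G) : Prop :=
  Nat.card (nS S V) = p ^ (Nat.card (Subgroup.normalizer (V : Set G))).factorization p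

theorem sylCond_iff [Finite G] {p : ℕ} [Fact p.Prime] (S : Sylow p G) (V : Subgroup G) :
    SylCond p (S : Subgroup G) V ↔
      ¬ p ∣ ((S : Subgroup G) ⊓ Subgroup.normalizer (V : Set G)).relIndex
        (Subgroup.normalizer (V : Set G)) := by
  have hp : IsPGroup p ((S : Subgroup G) ⊓ Subgroup.normalizer (V : Set G) : Subgroup G) :=
    S.isPGroup'.to_le inf_le_left
  have hle : (S : Subgroup G) ⊓ Subgroup.normalizer (V : Set G) ≤ Subgroup.normalizer (V : Set G) :=
    inf_le_right
  constructor
  · intro h
    have hs : IsSylowSub p ((S : Subgroup G) ⊓ Subgroup.normalizer (V : Set G))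
        (Subgroup.normalizer (V : Set G)) := (isSylowSub_iff hle).mpr ⟨hp, h⟩
    obtain ⟨R, hR⟩ := hs
    have := R.not_dvd_index
    rw [hR] at this
    exact this
  · intro h
    exact ((isSylowSub_iff hle).mp (isSylowSub_of_not_dvd_relIndex hle hp h)).2

theorem mem_normalizer_of_cj_eq {x : G} {V : Subgroup G} (h : cj x V = V) :
    x ∈ Subgroup.normalizer (V : Set G) := by
  rw [Subgroup.mem_normalizer_iff]
  intro y
  constructor
  · intro hy
    rw [← h]; exact ⟨y, hy, rfl⟩
  · intro hy
    rw [← h, mem_cj] at hy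
    have e : x⁻¹ * (x * y * x⁻¹) * x = y := by group
    rwa [e] at hy

theorem cj_eq_of_mem_normalizer {x : G} {V : Subgroup G}
    (h : x ∈ Subgroup.normalizer (V : Set G)) : cj x V = V := by
  ext y
  rw [mem_cj]
  have := Subgroup.mem_normalizer_iff.mp (inv_mem h) y
  rw [inv_inv] at this
  exact this.symm

/-- L1: a `p`-subgroup `Q` of `N_G(V)` can be conjugated into `S` so that the conjugate of `V`
satisfies the Sylow condition. -/
theorem exists_cj_sylCond [Finite G] {p : ℕ} [Fact p.Prime] (S : Sylow p G) (V Q : Subgroup G)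
    (hQV : Q ≤ Subgroup.normalizer (V : Set G)) (hQ : IsPGroup p Q) :
    ∃ g : G, cj g Q ≤ (S : Subgroup G) ∧ SylCond p (S : Subgroup G) (cj g V) := by
  have hQ' : IsPGroup p (Q.subgroupOf (Subgroup.normalizer (V : Set G))) :=
    (isPGroup_subgroupOf_iff_of_le hQV).2 hQ
  obtain ⟨R, hR⟩ := hQ'.exists_le_sylow
  set R' : Subgroup G := (R : Subgroup _).map (Subgroup.normalizer (V : Set G)).subtype with hR'
  have hR'N : R' ≤ Subgroup.normalizer (V : Set G) := Subgroup.map_subtype_le _
  have hR'p : IsPGroup p R' := R.isPGroup'.map _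
  have hQR' : Q ≤ R' := by
    intro q hq
    exact ⟨⟨q, hQV hq⟩, hR (Subgroup.mem_subgroupOf.mpr hq), rfl⟩
  have hcardR' : Nat.card R' =
      p ^ (Nat.card (Subgroup.normalizer (V : Set G))).factorization p := by
    rw [hR', Subgroup.card_map_of_injective (Subgroup.subtype_injective _)]
    exact R.card_eq_multiplicity
  obtain ⟨g, hg⟩ := exists_cj_le_sylow S hR'p
  refine ⟨g, (cj_mono hQR').trans hg, ?_⟩
  unfold SylCond nS
  have hNcard : Nat.card (Subgroup.normalizer ((cj g V : Subgroup G) : Set G)) =
      Nat.card (Subgroup.normalizer (V : Set G)) := by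
    rw [← cj_normalizer, card_cj]
  have hle1 : cj g R' ≤ (S : Subgroup G) ⊓ Subgroup.normalizer ((cj g V : Subgroup G) : Set G) := by
    refine le_inf hg ?_
    rw [← cj_normalizer]
    exact cj_mono hR'N
  have hp2 : IsPGroup p ((S : Subgroup G) ⊓
      Subgroup.normalizer ((cj g V : Subgroup G) : Set G) : Subgroup G) :=
    S.isPGroup'.to_le inf_le_left
  have hle2 := IsPGroup_card_le (inf_le_right : (S : Subgroup G) ⊓
      Subgroup.normalizer ((cj g V : Subgroup G) : Set G) ≤ _) hp2
  rw [hNcard] at hle2 ⊢
  apply le_antisymm hle2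
  rw [← hcardR', ← card_cj g R']
  exact Subgroup.card_le_of_le hle1

/-- Transport of the Sylow condition along a conjugation keeping `N_S(V)` inside `S`. -/
theorem nS_cj_eq [Finite G] {p : ℕ} [Fact p.Prime] (S : Sylow p G) (V : Subgroup G) (h : G)
    (hV : SylCond p (S : Subgroup G) V) (hle : cj h (nS (S : Subgroup G) V) ≤ (S : Subgroup G)) :
    nS (S : Subgroup G) (cj h V) = cj h (nS (S : Subgroup G) V) ∧
      SylCond p (S : Subgroup G) (cj h V) := by
  have hNcard : Nat.card (Subgroup.normalizer ((cj h V : Subgroup G) : Set G)) =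
      Nat.card (Subgroup.normalizer (V : Set G)) := by
    rw [← cj_normalizer, card_cj]
  have hle1 : cj h (nS (S : Subgroup G) V) ≤ nS (S : Subgroup G) (cj h V) := by
    unfold nS at hle ⊢
    refine le_inf hle ?_
    rw [← cj_normalizer]
    exact cj_mono inf_le_right
  have hp2 : IsPGroup p (nS (S : Subgroup G) (cj h V)) := S.isPGroup'.to_le inf_le_left
  have hle2 := IsPGroup_card_le (inf_le_right : nS (S : Subgroup G) (cj h V) ≤
      Subgroup.normalizer ((cj h V : Subgroup G) : Set G)) hp2
  rw [hNcard] at hle2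
  unfold SylCond at hV ⊢
  have hcard : Nat.card (nS (S : Subgroup G) (cj h V)) ≤ Nat.card (cj h (nS (S : Subgroup G) V)) := by
    rw [card_cj, hV]; exact hle2
  have heq := Subgroup.eq_of_le_of_card_ge hle1 hcard
  refine ⟨heq.symm, ?_⟩
  rw [hNcard, ← heq, card_cj, hV]

section Tower

variable [Finite G] {p : ℕ} [Fact p.Prime] (S : Sylow p G) (W : Subgroup G → Subgroup G)
  (hW : IsConjugacyFunctor p W)

omit [Finite G] [Fact p.Prime] in
theorem functorTower_succ (S' T : Subgroup G) (i : ℕ) :
    functorTower W S' T (i + 1) = W (nS S' (functorTower W S' T i)) := rfl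

include hW in
/-- `N_S(τ_i) ≤ N_S(τ_{i+1})`. -/
theorem nS_tower_le_succ (T : Subgroup G) (i : ℕ) :
    nS (S : Subgroup G) (functorTower W S T i) ≤ nS (S : Subgroup G) (functorTower W S T (i + 1)) := by
  intro x hx
  refine ⟨hx.1, ?_⟩
  rw [functorTower_succ]
  set P := nS (S : Subgroup G) (functorTower W S T i) with hP
  have hPp : IsPGroup p P := S.isPGroup'.to_le inf_le_left
  have h1 : cj x P = P := cj_eq_of_mem_normalizer (Subgroup.le_normalizer hx)
  have h2 := (hW P hPp).2.2 x
  apply mem_normalizer_of_cj_eq
  change (W P).map (MulAut.conj x).toMonoidHom = W P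
  rw [← h2]
  change W (cj x P) = W P
  rw [h1]

include hW in
theorem nS_tower_mono (T : Subgroup G) {i j : ℕ} (hij : i ≤ j) :
    nS (S : Subgroup G) (functorTower W S T i) ≤ nS (S : Subgroup G) (functorTower W S T j) := by
  induction hij with
  | refl => exact le_rfl
  | step _ ih => exact ih.trans (nS_tower_le_succ S W hW T _)

include hW in
/-- Conjugating a tower whose first `k` levels satisfy the Sylow condition. -/
theorem tower_cj (T : Subgroup G) (h : G) (k : ℕ)
    (hsyl : ∀ i, i < k → SylCond p (S : Subgroup G) (functorTower W S T i))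
    (hle : ∀ i, i < k → cj h (nS (S : Subgroup G) (functorTower W S T i)) ≤ (S : Subgroup G)) :
    ∀ i, i ≤ k → functorTower W S (cj h T) i = cj h (functorTower W S T i) := by
  intro i
  induction i with
  | zero => intro _; rfl
  | succ i ih =>
    intro hi
    have hi' : i < k := hi
    have e := ih hi'.le
    rw [functorTower_succ, functorTower_succ, e]
    have h1 := (nS_cj_eq S (functorTower W S T i) h (hsyl i hi') (hle i hi')).1
    rw [h1]
    have hPp : IsPGroup p (nS (S : Subgroup G) (functorTower W S T i)) :=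
      S.isPGroup'.to_le inf_le_left
    exact (hW _ hPp).2.2 h

include hW in
/-- For every `k` some conjugate of `T` in `S` has the Sylow condition at the first `k + 1`
levels of its tower. -/
theorem exists_cj_sylCond_upto (T : Subgroup G) (hT : T ≤ (S : Subgroup G)) (k : ℕ) :
    ∃ g : G, cj g T ≤ (S : Subgroup G) ∧
      ∀ i, i ≤ k → SylCond p (S : Subgroup G) (functorTower W S (cj g T) i) := by
  induction k with
  | zero =>
    obtain ⟨g, hg, hs⟩ := exists_cj_sylCond S T T Subgroup.le_normalizer (S.isPGroup'.to_le hT)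
    refine ⟨g, hg, ?_⟩
    intro i hi
    have : i = 0 := by omega
    rw [this]
    exact hs
  | succ k ih =>
    obtain ⟨g, hg, hs⟩ := ih
    set T' := cj g T with hT'
    set V := functorTower W S T' (k + 1) with hV
    set Q := nS (S : Subgroup G) V with hQ
    obtain ⟨h, hhQ, hhs⟩ := exists_cj_sylCond S V Q inf_le_right (S.isPGroup'.to_le inf_le_left)
    have hle : ∀ i, i < k + 1 → cj h (nS (S : Subgroup G) (functorTower W S T' i)) ≤ (S : Subgroup G) := by
      intro i hi
      exact (cj_mono (nS_tower_mono S W hW T' (by omega : i ≤ k + 1))).trans hhQ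
    have hsyl : ∀ i, i < k + 1 → SylCond p (S : Subgroup G) (functorTower W S T' i) :=
      fun i hi => hs i (by omega)
    have htow := tower_cj S W hW T' h (k + 1) hsyl hle
    refine ⟨h * g, ?_, ?_⟩
    · rw [← cj_cj]
      have h0 : T' ≤ nS (S : Subgroup G) (functorTower W S T' 0) := le_inf hg Subgroup.le_normalizer
      exact (cj_mono (h0.trans (nS_tower_mono S W hW T' (Nat.zero_le _)))).trans hhQ
    · intro i hi
      rw [← cj_cj]
      rw [htow i hi]
      rcases Nat.lt_or_ge i (k + 1) with hlt | hge
      · exact (nS_cj_eq S _ h (hsyl i hlt) (hle i hlt)).2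
      · have : i = k + 1 := by omega
        rw [this]
        exact hhs

include hW in
/-- The tower stabilizes once two consecutive normalizers agree. -/
theorem tower_stable (T : Subgroup G) (j : ℕ)
    (hj : nS (S : Subgroup G) (functorTower W S T j) = nS (S : Subgroup G) (functorTower W S T (j + 1))) :
    ∀ i, j + 1 ≤ i → functorTower W S T i = functorTower W S T (j + 1) := by
  intro i hi
  induction hi with
  | refl => rfl
  | step _ ih =>
    rw [functorTower_succ, ih, ← hj]
    rfl

include hW in
/-- Some conjugate of `T` is well placed. -/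
theorem exists_wellPlaced_cj (T : Subgroup G) (hT : T ≤ (S : Subgroup G)) :
    ∃ g : G, IsWellPlaced p W (S : Subgroup G) (cj g T) := by
  set K := Nat.card S with hK
  obtain ⟨g, hg, hs⟩ := exists_cj_sylCond_upto S W hW T hT K
  refine ⟨g, hg, ?_⟩
  set T' := cj g T with hT'
  -- a repetition in the chain of normalizers
  have hrep : ∃ j, j < K ∧ nS (S : Subgroup G) (functorTower W S T' j) =
      nS (S : Subgroup G) (functorTower W S T' (j + 1)) := by
    by_contra hcon
    push Not at hcon
    have hgrow : ∀ j, j ≤ K → j + 1 ≤ Nat.card (nS (S : Subgroup G) (functorTower W S T' j)) := by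
      intro j
      induction j with
      | zero => intro _; exact Nat.card_pos
      | succ j ih =>
        intro hj
        have h1 := ih (by omega)
        have hle := nS_tower_le_succ S W hW T' j
        have hne := hcon j (by omega)
        have hlt : Nat.card (nS (S : Subgroup G) (functorTower W S T' j)) <
            Nat.card (nS (S : Subgroup G) (functorTower W S T' (j + 1))) := by
          by_contra hc
          exact hne (Subgroup.eq_of_le_of_card_ge hle (not_lt.mp hc))
        omega
    have h1 := hgrow K le_rfl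
    have h2 : Nat.card (nS (S : Subgroup G) (functorTower W S T' K)) ≤ K :=
      Subgroup.card_le_of_le inf_le_left
    omega
  obtain ⟨j, hjK, hj⟩ := hrep
  intro i
  rw [← sylCond_iff]
  rcases Nat.lt_or_ge i (j + 1) with hlt | hge
  · exact hs i (by omega)
  · rw [tower_stable S W hW T' j hj i hge]
    exact hs (j + 1) (by omega)

end Tower

end Cfsg.Agent.Lib.Helper1
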