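import Mathlib
import Cfsg.Prelude.Def_ConjugacyFunctors
import Cfsg.Agent.Lib.Helper1.WellPlaced

set_option autoImplicit false

namespace Cfsg.Agent.Lib.Helper1

open Cfsg Cfsg.Agent.Lib.Helper29

variable {G : Type*} [Group G]

/-- The tower of the first tower term is the shifted tower. -/
theorem functorTower_shift (W : Subgroup G → Subgroup G) (S T : Subgroup G) (i : ℕ) :
    functorTower W S (functorTower W S T 1) i = functorTower W S T (i + 1) := by
  induction i with
  | zero => rfl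
  | succ i ih =>
    change W (S ⊓ Subgroup.normalizer ((functorTower W S (functorTower W S T 1) i : Subgroup G) : Set G)) = _
    rw [ih]
    rfl

/-- The first tower term of a well-placed subgroup is well placed. -/
theorem isWellPlaced_tower_one [Finite G] {p : ℕ} [Fact p.Prime] (S : Sylow p G)
    (W : Subgroup G → Subgroup G) (hW : IsConjugacyFunctor p W) (T : Subgroup G)
    (hT : IsWellPlaced p W (S : Subgroup G) T) :
    IsWellPlaced p W (S : Subgroup G) (functorTower W S T 1) := by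
  refine ⟨?_, ?_⟩
  · change W ((S : Subgroup G) ⊓ Subgroup.normalizer (T : Set G)) ≤ _
    have hPp : IsPGroup p ((S : Subgroup G) ⊓ Subgroup.normalizer (T : Set G) : Subgroup G) :=
      S.isPGroup'.to_le inf_le_left
    exact (hW _ hPp).1.trans inf_le_left
  · intro i
    rw [functorTower_shift]
    exact hT.2 (i + 1)

/-- Control of strong fusion holds with respect to every Sylow `p`-subgroup of `H`. -/
theorem controls_transport [Finite G] {p : ℕ} [Fact p.Prime] (W : Subgroup G → Subgroup G)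
    (hW : IsConjugacyFunctor p W) (H P : Subgroup G) (hPH : P ≤ H) (hPp : IsPGroup p P)
    (hPs : ¬ p ∣ P.relIndex H) (hc : ControlsStrongFusionIn p W H) :
    ∀ (A : Set G) (h : G), h ∈ H → A ⊆ P → (fun a => h * a * h⁻¹) '' A ⊆ P →
      ∃ x ∈ H ⊓ Subgroup.normalizer ((W P : Subgroup G) : Set G),
        ∀ a ∈ A, x * a * x⁻¹ = h * a * h⁻¹ := by
  obtain ⟨T₀, hT₀H, hT₀p, hT₀s, hctl⟩ := hc
  have hsyl₀ : IsSylowSub p T₀ H := isSylowSub_of_not_dvd_relIndex hT₀H hT₀p hT₀s
  have hsylP : IsSylowSub p P H := isSylowSub_of_not_dvd_relIndex hPH hPp hPs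
  obtain ⟨m, hmH, hmle⟩ := exists_cj_le_of_isSylowSub hsyl₀ hPH hPp
  have hcard : Nat.card T₀ = Nat.card P := by
    rw [((isSylowSub_iff hT₀H).mp hsyl₀).2, ((isSylowSub_iff hPH).mp hsylP).2]
  have hmeq : cj m P = T₀ := by
    apply Subgroup.eq_of_le_of_card_ge hmle
    rw [card_cj, hcard]
  intro A h hh hAP hAh
  -- transport to T₀
  have hA' : (fun a => m * a * m⁻¹) '' A ⊆ (T₀ : Set G) := by
    rintro _ ⟨a, ha, rfl⟩
    rw [← hmeq]
    exact ⟨a, hAP ha, rfl⟩
  have hh' : m * h * m⁻¹ ∈ H := mul_mem (mul_mem hmH hh) (inv_mem hmH)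
  have hA'h : (fun a => (m * h * m⁻¹) * a * (m * h * m⁻¹)⁻¹) '' ((fun a => m * a * m⁻¹) '' A) ⊆
      (T₀ : Set G) := by
    rintro _ ⟨_, ⟨a, ha, rfl⟩, rfl⟩
    rw [← hmeq]
    refine ⟨h * a * h⁻¹, hAh ⟨a, ha, rfl⟩, ?_⟩
    simp only [MulEquiv.coe_toMonoidHom, MulAut.conj_apply]
    group
  obtain ⟨x', hx'mem, hx'⟩ := hctl _ (m * h * m⁻¹) hh' hA' hA'h
  have hx'H : x' ∈ H := hx'mem.1
  have hx'N : x' ∈ Subgroup.normalizer ((W T₀ : Subgroup G) : Set G) := hx'mem.2
  refine ⟨m⁻¹ * x' * m, Subgroup.mem_inf.mpr ⟨mul_mem (mul_mem (inv_mem hmH) hx'H) hmH, ?_⟩, ?_⟩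
  · -- `m⁻¹ x' m` normalizes `W P`
    have hWeq : W T₀ = cj m (W P) := by
      rw [← hmeq]; exact (hW P hPp).2.2 m
    rw [hWeq, ← cj_normalizer, mem_cj] at hx'N
    exact hx'N
  · intro a ha
    have := hx' (m * a * m⁻¹) ⟨a, ha, rfl⟩
    calc m⁻¹ * x' * m * a * (m⁻¹ * x' * m)⁻¹
        = m⁻¹ * (x' * (m * a * m⁻¹) * x'⁻¹) * m := by group
      _ = m⁻¹ * ((m * h * m⁻¹) * (m * a * m⁻¹) * (m * h * m⁻¹)⁻¹) * m := by rw [this]
      _ = h * a * h⁻¹ := by group

/-- For a conjugacy functor, `N_G(P) ≤ N_G(W P)`. -/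
theorem normalizer_le_normalizer_functor {p : ℕ} (W : Subgroup G → Subgroup G)
    (hW : IsConjugacyFunctor p W) (P : Subgroup G) (hPp : IsPGroup p P) :
    Subgroup.normalizer (P : Set G) ≤ Subgroup.normalizer ((W P : Subgroup G) : Set G) := by
  intro g hg
  apply mem_normalizer_of_cj_eq
  have h1 : cj g P = P := cj_eq_of_mem_normalizer hg
  have h2 := (hW P hPp).2.2 g
  change (W P).map (MulAut.conj g).toMonoidHom = W P
  rw [← h2]
  change W (cj g P) = W P
  rw [h1]

/-- Key induction for the local-to-global theorem for strong fusion. -/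
theorem wp_control [Finite G] {p : ℕ} [Fact p.Prime] (S : Sylow p G)
    (W : Subgroup G → Subgroup G) (hW : IsConjugacyFunctor p W)
    (hloc : ∀ T : Subgroup G, T ≠ ⊥ → IsWellPlaced p W (S : Subgroup G) T →
      ControlsStrongFusionIn p W (Subgroup.normalizer ((T : Subgroup G) : Set G))) :
    ∀ (k : ℕ) (T : Subgroup G), T ≠ ⊥ → IsWellPlaced p W (S : Subgroup G) T →
      Nat.card S - Nat.card (nS (S : Subgroup G) T) = k →
      ∀ (B : Set G) (x : G), x ∈ Subgroup.normalizer (T : Set G) →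
        B ⊆ (nS (S : Subgroup G) T : Set G) →
        (fun a => x * a * x⁻¹) '' B ⊆ (nS (S : Subgroup G) T : Set G) →
        ∃ y ∈ Subgroup.normalizer ((W (S : Subgroup G) : Subgroup G) : Set G),
          ∀ b ∈ B, y * b * y⁻¹ = x * b * x⁻¹ := by
  intro k
  induction k using Nat.strong_induction_on with
  | _ k ih =>
    intro T hTne hT hk B x hx hB hBx
    set P := nS (S : Subgroup G) T with hP
    have hPp : IsPGroup p P := S.isPGroup'.to_le inf_le_left
    have hPN : P ≤ Subgroup.normalizer (T : Set G) := inf_le_right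
    have hPs : ¬ p ∣ P.relIndex (Subgroup.normalizer (T : Set G)) := hT.2 0
    obtain ⟨x', hx'mem, hx'⟩ :=
      controls_transport W hW _ P hPN hPp hPs (hloc T hTne hT) B x hx hB hBx
    have hx'N : x' ∈ Subgroup.normalizer ((W P : Subgroup G) : Set G) := hx'mem.2
    by_cases hPS : P = (S : Subgroup G)
    · refine ⟨x', ?_, hx'⟩
      rw [← hPS]; exact hx'N
    · have hPlt : P < (S : Subgroup G) := lt_of_le_of_ne inf_le_left hPS
      set U := functorTower W (S : Subgroup G) T 1 with hU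
      have hUeq : U = W P := rfl
      have hTP : T ≤ P := le_inf hT.1 Subgroup.le_normalizer
      have hPne : P ≠ ⊥ := fun h => hTne (le_bot_iff.mp (h ▸ hTP))
      have hUne : U ≠ ⊥ := (hW P hPp).2.1 hPne
      have hUwp := isWellPlaced_tower_one S W hW T hT
      have hgrow := lt_inf_normalizer_of_lt S.isPGroup' hPlt
      have hle : (S : Subgroup G) ⊓ Subgroup.normalizer (P : Set G) ≤ nS (S : Subgroup G) U :=
        inf_le_inf_left _ (normalizer_le_normalizer_functor W hW P hPp)
      have hPU : P ≤ nS (S : Subgroup G) U := hgrow.le.trans hle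
      have hcard : Nat.card P < Nat.card (nS (S : Subgroup G) U) := by
        by_contra hc
        have h1 : Nat.card (nS (S : Subgroup G) U) ≤ Nat.card P := not_lt.mp hc
        have h2 := Subgroup.card_le_of_le hle
        have h3 : P = (S : Subgroup G) ⊓ Subgroup.normalizer (P : Set G) :=
          Subgroup.eq_of_le_of_card_ge hgrow.le (h2.trans h1)
        exact hgrow.ne h3
      have hcardS : Nat.card (nS (S : Subgroup G) U) ≤ Nat.card S :=
        Subgroup.card_le_of_le inf_le_left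
      have hBx' : (fun a => x' * a * x'⁻¹) '' B ⊆ (nS (S : Subgroup G) U : Set G) := by
        rintro _ ⟨b, hb, rfl⟩
        change x' * b * x'⁻¹ ∈ _
        rw [hx' b hb]
        exact hPU (hBx ⟨b, hb, rfl⟩)
      obtain ⟨y, hy, hyB⟩ := ih (Nat.card S - Nat.card (nS (S : Subgroup G) U)) (by omega) U hUne
        hUwp rfl B x' hx'N (fun b hb => hPU (hB hb)) hBx'
      exact ⟨y, hy, fun b hb => (hyB b hb).trans (hx' b hb)⟩

/-- Local-to-global control of strong fusion through well-placed subgroups. -/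
theorem controls_strong_fusion_of_local [Finite G] {p : ℕ} [Fact p.Prime] (S : Sylow p G)
    (W : Subgroup G → Subgroup G) (hW : IsConjugacyFunctor p W)
    (hloc : ∀ T : Subgroup G, T ≠ ⊥ → IsWellPlaced p W (S : Subgroup G) T →
      ControlsStrongFusionIn p W (Subgroup.normalizer ((T : Subgroup G) : Set G))) :
    ControlsStrongFusionIn p W ⊤ := by
  refine ⟨S, le_top, S.isPGroup', ?_, ?_⟩
  · rw [Subgroup.relIndex_top_right]; exact S.not_dvd_index
  -- chains give elements of `N_G(W S)`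
  have hchain : ∀ (A : Set G) (g : G),
      FChain {T : Subgroup G | IsWellPlaced p W (S : Subgroup G) T} A g →
      ∃ y ∈ Subgroup.normalizer ((W (S : Subgroup G) : Subgroup G) : Set G),
        ∀ a ∈ A, y⁻¹ * a * y = g⁻¹ * a * g := by
    intro A g hch
    induction hch with
    | nil A => exact ⟨1, one_mem _, fun a _ => by simp⟩
    | cons A T x g' hT hxN hAT _ ih =>
      obtain ⟨y₂, hy₂, hy₂A⟩ := ih
      have hT' : IsWellPlaced p W (S : Subgroup G) T := hT
      -- first step
      have hstep : ∃ y₁ ∈ Subgroup.normalizer ((W (S : Subgroup G) : Subgroup G) : Set G),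
          ∀ a ∈ A, y₁⁻¹ * a * y₁ = x⁻¹ * a * x := by
        by_cases hTne : T = ⊥
        · refine ⟨1, one_mem _, ?_⟩
          intro a ha
          have : a = 1 := by
            have := hAT ha
            rw [hTne] at this
            simpa using this
          rw [this]; simp
        · have hTP : T ≤ nS (S : Subgroup G) T := le_inf hT'.1 Subgroup.le_normalizer
          have hAP : A ⊆ (nS (S : Subgroup G) T : Set G) := fun a ha => hTP (hAT ha)
          have hAx : (fun a => x⁻¹ * a * x⁻¹⁻¹) '' A ⊆ (nS (S : Subgroup G) T : Set G) := by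
            rintro _ ⟨a, ha, rfl⟩
            apply hTP
            exact (Subgroup.mem_normalizer_iff.mp (inv_mem hxN) a).mp (hAT ha)
          obtain ⟨y, hy, hyA⟩ := wp_control S W hW hloc _ T hTne hT' rfl A x⁻¹ (inv_mem hxN) hAP hAx
          refine ⟨y⁻¹, inv_mem hy, ?_⟩
          intro a ha
          have := hyA a ha
          rw [inv_inv] at this ⊢
          exact this
      obtain ⟨y₁, hy₁, hy₁A⟩ := hstep
      refine ⟨y₁ * y₂, mul_mem hy₁ hy₂, ?_⟩
      intro a ha
      have h1 := hy₁A a ha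
      have h2 := hy₂A (x⁻¹ * a * x) ⟨a, ha, rfl⟩
      calc (y₁ * y₂)⁻¹ * a * (y₁ * y₂) = y₂⁻¹ * (y₁⁻¹ * a * y₁) * y₂ := by group
        _ = y₂⁻¹ * (x⁻¹ * a * x) * y₂ := by rw [h1]
        _ = g'⁻¹ * (x⁻¹ * a * x) * g' := h2
        _ = (x * g')⁻¹ * a * (x * g') := by group
  intro A h _ hAS hAh
  -- the family of well-placed subgroups satisfies the Alperin–Goldschmidt criterion
  have hfam : ∀ T : Subgroup G, T ≤ (S : Subgroup G) →
      ∃ U ∈ {T : Subgroup G | IsWellPlaced p W (S : Subgroup G) T},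
        (∃ g : G, T.map (MulAut.conj g).toMonoidHom = U) ∧
        ¬ p ∣ ((S : Subgroup G) ⊓ Subgroup.normalizer ((U : Subgroup G) : Set G)).relIndex
          (Subgroup.normalizer ((U : Subgroup G) : Set G)) := by
    intro T hT
    obtain ⟨g, hg⟩ := exists_wellPlaced_cj S W hW T hT
    exact ⟨cj g T, hg, ⟨g, rfl⟩, hg.2 0⟩
  set T := Subgroup.closure A with hT
  have hTS : T ≤ (S : Subgroup G) := (Subgroup.closure_le _).mpr hAS
  have hTg : cj h⁻¹⁻¹ T ≤ (S : Subgroup G) := by
    rw [hT, inv_inv]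
    change (Subgroup.closure A).map (MulAut.conj h).toMonoidHom ≤ _
    rw [MonoidHom.map_closure, Subgroup.closure_le]
    rintro _ ⟨a, ha, rfl⟩
    exact hAh ⟨a, ha, rfl⟩
  have hch := alperin_goldschmidt_chain S _ (fun U hU => hU.1) hfam _ T hTS rfl h⁻¹ hTg
  obtain ⟨y, hy, hyA⟩ := hchain A h⁻¹ (hch.mono A Subgroup.subset_closure)
  refine ⟨y⁻¹, Subgroup.mem_inf.mpr ⟨Subgroup.mem_top _, inv_mem hy⟩, ?_⟩
  intro a ha
  have := hyA a ha
  rw [inv_inv] at this ⊢
  exact this

end Cfsg.Agent.Lib.Helper1
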