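import Mathlib
import Cfsg.Prelude.Def_ConjugacyFunctors
import Cfsg.Agent.Lib.Helper1.LocalToGlobal

set_option autoImplicit false

namespace Cfsg.Agent.Lib.Helper1

open Cfsg Cfsg.Agent.Lib.Helper29
open scoped commutatorElement

variable {G : Type*} [Group G]

theorem cj_commutator (g : G) (H K : Subgroup G) : cj g ⁅H, K⁆ = ⁅cj g H, cj g K⁆ :=
  Subgroup.map_commutator H K _

theorem cj_eq_self_of_mem {H : Subgroup G} {m : G} (hm : m ∈ H) : cj m H = H :=
  cj_eq_of_mem_normalizer (Subgroup.le_normalizer hm)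

/-- Control of transfer holds with respect to every Sylow `p`-subgroup of `H`. -/
theorem transfer_transport [Finite G] {p : ℕ} [Fact p.Prime] (W : Subgroup G → Subgroup G)
    (hW : IsConjugacyFunctor p W) (H P : Subgroup G) (hPH : P ≤ H) (hPp : IsPGroup p P)
    (hPs : ¬ p ∣ P.relIndex H) (hc : ControlsTransferIn p W H) :
    P ⊓ ⁅H, H⁆ = P ⊓ ⁅H ⊓ Subgroup.normalizer ((W P : Subgroup G) : Set G),
      H ⊓ Subgroup.normalizer ((W P : Subgroup G) : Set G)⁆ := by
  obtain ⟨T₀, hT₀H, hT₀p, hT₀s, hctl⟩ := hc
  have hsyl₀ : IsSylowSub p T₀ H := isSylowSub_of_not_dvd_relIndex hT₀H hT₀p hT₀s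
  have hsylP : IsSylowSub p P H := isSylowSub_of_not_dvd_relIndex hPH hPp hPs
  obtain ⟨m, hmH, hmle⟩ := exists_cj_le_of_isSylowSub hsylP hT₀H hT₀p
  have hcard : Nat.card T₀ = Nat.card P := by
    rw [((isSylowSub_iff hT₀H).mp hsyl₀).2, ((isSylowSub_iff hPH).mp hsylP).2]
  have hmeq : cj m T₀ = P := by
    apply Subgroup.eq_of_le_of_card_ge hmle
    rw [card_cj, hcard]
  have hWeq : W P = cj m (W T₀) := by
    rw [← hmeq]; exact (hW T₀ hT₀p).2.2 m
  have h1 := congrArg (cj m) hctl
  rw [cj_inf, cj_inf, cj_commutator, cj_commutator, cj_inf, cj_normalizer, hmeq,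
    cj_eq_self_of_mem hmH, ← hWeq] at h1
  exact h1

/-- Key induction for the local-to-global theorem for transfer. -/
theorem wp_transfer [Finite G] {p : ℕ} [Fact p.Prime] (S : Sylow p G)
    (W : Subgroup G → Subgroup G) (hW : IsConjugacyFunctor p W)
    (hloc : ∀ T : Subgroup G, T ≠ ⊥ → IsWellPlaced p W (S : Subgroup G) T →
      ControlsTransferIn p W (Subgroup.normalizer ((T : Subgroup G) : Set G))) :
    ∀ (k : ℕ) (T : Subgroup G), T ≠ ⊥ → IsWellPlaced p W (S : Subgroup G) T →
      Nat.card S - Nat.card (nS (S : Subgroup G) T) = k →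
      nS (S : Subgroup G) T ⊓ ⁅Subgroup.normalizer (T : Set G), Subgroup.normalizer (T : Set G)⁆ ≤
        (S : Subgroup G) ⊓ ⁅Subgroup.normalizer ((W (S : Subgroup G) : Subgroup G) : Set G),
          Subgroup.normalizer ((W (S : Subgroup G) : Subgroup G) : Set G)⁆ := by
  intro k
  induction k using Nat.strong_induction_on with
  | _ k ih =>
    intro T hTne hT hk
    set P := nS (S : Subgroup G) T with hP
    have hPp : IsPGroup p P := S.isPGroup'.to_le inf_le_left
    have hPN : P ≤ Subgroup.normalizer (T : Set G) := inf_le_right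
    have hPs : ¬ p ∣ P.relIndex (Subgroup.normalizer (T : Set G)) := hT.2 0
    have htr := transfer_transport W hW _ P hPN hPp hPs (hloc T hTne hT)
    rw [htr]
    by_cases hPS : P = (S : Subgroup G)
    · rw [hPS]
      exact inf_le_inf_left _ (Subgroup.commutator_mono inf_le_right inf_le_right)
    · have hPlt : P < (S : Subgroup G) := lt_of_le_of_ne inf_le_left hPS
      set U := functorTower W (S : Subgroup G) T 1 with hU
      have hUeq : U = W P := rfl
      have hTP : T ≤ P := le_inf hT.1 Subgroup.le_normalizer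
      have hPne : P ≠ ⊥ := fun h => hTne (le_bot_iff.mp (h ▸ hTP))
      have hUne : U ≠ ⊥ := (hW P hPp).2.1 hPne
      have hUwp := isWellPlaced_tower_one S W hW T hT
      have hgrow := lt_inf_normalizer_of_lt S.isPGroup' hPlt
      have hle : (S : Subgroup G) ⊓ Subgroup.normalizer (P : Set G) ≤ nS (S : Subgroup G) U :=
        inf_le_inf_left _ (normalizer_le_normalizer_functor W hW P hPp)
      have hPU : P ≤ nS (S : Subgroup G) U := hgrow.le.trans hle
      have hcard : Nat.card P < Nat.card (nS (S : Subgroup G) U) := by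
        by_contra hc
        have h1 : Nat.card (nS (S : Subgroup G) U) ≤ Nat.card P := not_lt.mp hc
        have h2 := Subgroup.card_le_of_le hle
        have h3 : P = (S : Subgroup G) ⊓ Subgroup.normalizer (P : Set G) :=
          Subgroup.eq_of_le_of_card_ge hgrow.le (h2.trans h1)
        exact hgrow.ne h3
      have hcardS : Nat.card (nS (S : Subgroup G) U) ≤ Nat.card S :=
        Subgroup.card_le_of_le inf_le_left
      have hIH := ih (Nat.card S - Nat.card (nS (S : Subgroup G) U)) (by omega) U hUne hUwp rfl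
      refine le_trans ?_ hIH
      exact inf_le_inf hPU (Subgroup.commutator_mono inf_le_right inf_le_right)

/-- Local-to-global control of transfer through well-placed subgroups. -/
theorem controls_transfer_of_local [Finite G] {p : ℕ} [Fact p.Prime] (S : Sylow p G)
    (W : Subgroup G → Subgroup G) (hW : IsConjugacyFunctor p W)
    (hloc : ∀ T : Subgroup G, T ≠ ⊥ → IsWellPlaced p W (S : Subgroup G) T →
      ControlsTransferIn p W (Subgroup.normalizer ((T : Subgroup G) : Set G))) :
    ControlsTransferIn p W ⊤ := by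
  refine ⟨S, le_top, S.isPGroup', ?_, ?_⟩
  · rw [Subgroup.relIndex_top_right]; exact S.not_dvd_index
  set F := (S : Subgroup G) ⊓ ⁅Subgroup.normalizer ((W (S : Subgroup G) : Subgroup G) : Set G),
    Subgroup.normalizer ((W (S : Subgroup G) : Subgroup G) : Set G)⁆ with hF
  rw [top_inf_eq]
  apply le_antisymm
  · -- the hard direction, through the focal subgroup theorem
    have hchain : ∀ (A : Set G) (g : G),
        FChain {T : Subgroup G | IsWellPlaced p W (S : Subgroup G) T} A g →
        ∀ a ∈ A, a * (g⁻¹ * a * g)⁻¹ ∈ F := by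
      intro A g hch
      induction hch with
      | nil A => intro a _; simp
      | cons A T x g' hT hxN hAT _ ih =>
        intro a ha
        have hT' : IsWellPlaced p W (S : Subgroup G) T := hT
        have h2 := ih (x⁻¹ * a * x) ⟨a, ha, rfl⟩
        have h1 : a * (x⁻¹ * a * x)⁻¹ ∈ F := by
          by_cases hTne : T = ⊥
          · have : a = 1 := by
              have := hAT ha
              rw [hTne] at this
              simpa using this
            rw [this]; simp
          · apply wp_transfer S W hW hloc _ T hTne hT' rfl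
            have haT : a ∈ T := hAT ha
            have hxa : x⁻¹ * a * x ∈ T := by
              have := (Subgroup.mem_normalizer_iff.mp (inv_mem hxN) a).mp haT
              simpa using this
            refine ⟨le_inf hT'.1 Subgroup.le_normalizer (mul_mem haT (inv_mem hxa)), ?_⟩
            have : a * (x⁻¹ * a * x)⁻¹ = ⁅a, x⁻¹⁆ := by
              rw [commutatorElement_def]; group
            rw [this]
            exact Subgroup.commutator_mem_commutator (Subgroup.le_normalizer haT) (inv_mem hxN)
        have : a * ((x * g')⁻¹ * a * (x * g'))⁻¹ =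
            (a * (x⁻¹ * a * x)⁻¹) * ((x⁻¹ * a * x) * (g'⁻¹ * (x⁻¹ * a * x) * g')⁻¹) := by group
        rw [this]
        exact mul_mem h1 h2
    have hfam : ∀ T : Subgroup G, T ≤ (S : Subgroup G) →
        ∃ U ∈ {T : Subgroup G | IsWellPlaced p W (S : Subgroup G) T},
          (∃ g : G, T.map (MulAut.conj g).toMonoidHom = U) ∧
          ¬ p ∣ ((S : Subgroup G) ⊓ Subgroup.normalizer ((U : Subgroup G) : Set G)).relIndex
            (Subgroup.normalizer ((U : Subgroup G) : Set G)) := by
      intro T hT
      obtain ⟨g, hg⟩ := exists_wellPlaced_cj S W hW T hT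
      exact ⟨cj g T, hg, ⟨g, rfl⟩, hg.2 0⟩
    have hfoc : (S : Subgroup G) ⊓ ⁅(⊤ : Subgroup G), ⊤⁆ = (S : Subgroup G).focalSubgroup := by
      rw [inf_comm]
      exact Subgroup.commutator_inf_eq_focalSubgroup S
    rw [hfoc, Subgroup.focalSubgroup_def, Subgroup.closure_le]
    rintro _ ⟨hgS, x, hxS, u, rfl⟩
    -- `u x u⁻¹ ∈ S`
    have huS : u * x * u⁻¹ ∈ (S : Subgroup G) := by
      have h1 : (⁅x, u⁆)⁻¹ * x ∈ (S : Subgroup G) := mul_mem (inv_mem hgS) hxS
      have : (⁅x, u⁆)⁻¹ * x = u * x * u⁻¹ := by rw [commutatorElement_def]; group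
      rwa [this] at h1
    set T := Subgroup.zpowers x with hT
    have hTS : T ≤ (S : Subgroup G) := by
      rw [hT, Subgroup.zpowers_le]; exact hxS
    have hTg : cj u⁻¹⁻¹ T ≤ (S : Subgroup G) := by
      rw [inv_inv, hT]
      change (Subgroup.zpowers x).map (MulAut.conj u).toMonoidHom ≤ _
      rw [MonoidHom.map_zpowers, Subgroup.zpowers_le]
      exact huS
    have hch := alperin_goldschmidt_chain S _ (fun U hU => hU.1) hfam _ T hTS rfl u⁻¹ hTg
    have := hchain _ _ hch x (Subgroup.mem_zpowers x)
    have e : x * (u⁻¹⁻¹ * x * u⁻¹)⁻¹ = ⁅x, u⁆ := by rw [commutatorElement_def]; group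
    rw [e] at this
    exact this
  · exact inf_le_inf_left _ (Subgroup.commutator_mono le_top le_top)

end Cfsg.Agent.Lib.Helper1
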