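import Mathlib
import Cfsg.Prelude.Def_ConjugacyFunctors
import Cfsg.Agent.Lib.Helper1.LocalToGlobalTransfer

set_option autoImplicit false

namespace Cfsg.Agent.Lib.Helper1

open Cfsg Cfsg.Agent.Lib.Helper29
open scoped commutatorElement

variable {G : Type*} [Group G]

/-- Family control of transfer holds with respect to every Sylow `p`-subgroup of `H`. -/
theorem family_transfer_transport [Finite G] {p : ℕ} [Fact p.Prime]
    (𝓦 : Set (Subgroup G → Subgroup G)) (h𝓦 : ∀ W ∈ 𝓦, IsConjugacyFunctor p W)
    (H P : Subgroup G) (hPH : P ≤ H) (hPp : IsPGroup p P)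
    (hPs : ¬ p ∣ P.relIndex H) (hc : FamilyControlsTransferIn p 𝓦 H) :
    P ⊓ ⁅H, H⁆ = ⨆ W ∈ 𝓦, P ⊓ ⁅H ⊓ Subgroup.normalizer ((W P : Subgroup G) : Set G),
      H ⊓ Subgroup.normalizer ((W P : Subgroup G) : Set G)⁆ := by
  obtain ⟨T₀, hT₀H, hT₀p, hT₀s, hctl⟩ := hc
  have hsyl₀ : IsSylowSub p T₀ H := isSylowSub_of_not_dvd_relIndex hT₀H hT₀p hT₀s
  have hsylP : IsSylowSub p P H := isSylowSub_of_not_dvd_relIndex hPH hPp hPs
  obtain ⟨m, hmH, hmle⟩ := exists_cj_le_of_isSylowSub hsylP hT₀H hT₀p
  have hcard : Nat.card T₀ = Nat.card P := by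
    rw [((isSylowSub_iff hT₀H).mp hsyl₀).2, ((isSylowSub_iff hPH).mp hsylP).2]
  have hmeq : cj m T₀ = P := by
    apply Subgroup.eq_of_le_of_card_ge hmle
    rw [card_cj, hcard]
  have h1 := congrArg (cj m) hctl
  rw [cj_inf, cj_commutator, hmeq, cj_eq_self_of_mem hmH] at h1
  rw [h1]
  change Subgroup.map _ (⨆ W ∈ 𝓦, _) = _
  rw [Subgroup.map_iSup]
  congr 1
  funext W
  rw [Subgroup.map_iSup]
  congr 1
  funext hWmem
  have hWeq : W P = cj m (W T₀) := by
    rw [← hmeq]; exact (h𝓦 W hWmem T₀ hT₀p).2.2 m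
  change cj m _ = _
  rw [cj_inf, cj_commutator, cj_inf, cj_normalizer, hmeq, cj_eq_self_of_mem hmH, ← hWeq]

theorem rcs_ncard (g : G) (A : Set G) : (rcs g A).ncard = A.ncard := by
  unfold rcs
  apply Set.ncard_image_of_injective
  intro a b h
  have h' : g⁻¹ * a * g = g⁻¹ * b * g := h
  have := congrArg (fun z => g * z * g⁻¹) h'
  simpa [mul_assoc] using this

/-- The chain lemma for transfer: along a chain all "commutator increments" lie in `F`,
provided the members of the family met along the way satisfy the local statement. -/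
theorem chain_increments_mem [Finite G] (𝓕 : Set (Subgroup G)) (S F : Subgroup G) (m : ℕ)
    (h𝓕 : ∀ T ∈ 𝓕, T ≤ S)
    (hSt : ∀ T ∈ 𝓕, T ≠ ⊥ → m ≤ Nat.card (nS S T) →
      nS S T ⊓ ⁅Subgroup.normalizer (T : Set G), Subgroup.normalizer (T : Set G)⁆ ≤ F) :
    ∀ (A : Set G) (g : G), FChain 𝓕 A g → m ≤ A.ncard → ∀ a ∈ A, a * (g⁻¹ * a * g)⁻¹ ∈ F := by
  intro A g hch
  induction hch with
  | nil A => intro _ a _; simp
  | cons A T x g' hT hxN hAT _ ih =>
    intro hm a ha
    have h2 := ih (by rw [rcs_ncard]; exact hm) (x⁻¹ * a * x) ⟨a, ha, rfl⟩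
    have h1 : a * (x⁻¹ * a * x)⁻¹ ∈ F := by
      by_cases hTne : T = ⊥
      · have : a = 1 := by
          have := hAT ha
          rw [hTne] at this
          simpa using this
        rw [this]; simp
      · have hTS := h𝓕 T hT
        have hcardT : m ≤ Nat.card (nS S T) := by
          have h3 : A.ncard ≤ (T : Set G).ncard := Set.ncard_le_ncard hAT (Set.toFinite _)
          have h4 : (T : Set G).ncard = Nat.card T := (Nat.card_coe_set_eq (T : Set G)).symm
          have h5 : Nat.card T ≤ Nat.card (nS S T) :=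
            Subgroup.card_le_of_le (le_inf hTS Subgroup.le_normalizer)
          omega
        apply hSt T hT hTne hcardT
        have haT : a ∈ T := hAT ha
        have hxa : x⁻¹ * a * x ∈ T := by
          have := (Subgroup.mem_normalizer_iff.mp (inv_mem hxN) a).mp haT
          simpa using this
        refine ⟨le_inf hTS Subgroup.le_normalizer (mul_mem haT (inv_mem hxa)), ?_⟩
        have : a * (x⁻¹ * a * x)⁻¹ = ⁅a, x⁻¹⁆ := by
          rw [commutatorElement_def]; group
        rw [this]
        exact Subgroup.commutator_mem_commutator (Subgroup.le_normalizer haT) (inv_mem hxN)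
    have : a * ((x * g')⁻¹ * a * (x * g'))⁻¹ =
        (a * (x⁻¹ * a * x)⁻¹) * ((x⁻¹ * a * x) * (g'⁻¹ * (x⁻¹ * a * x) * g')⁻¹) := by group
    rw [this]
    exact mul_mem h1 h2

/-- The family of subgroups `T ≤ S` with `N_S(T)` Sylow in `N_G(T)`. -/
def sylFamily (p : ℕ) (S : Subgroup G) : Set (Subgroup G) :=
  {T | T ≤ S ∧ ¬ p ∣ (S ⊓ Subgroup.normalizer (T : Set G)).relIndex
    (Subgroup.normalizer (T : Set G))}

theorem sylFamily_criterion [Finite G] {p : ℕ} [Fact p.Prime] (S : Sylow p G) :
    ∀ T : Subgroup G, T ≤ (S : Subgroup G) → ∃ U ∈ sylFamily p (S : Subgroup G),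
      (∃ g : G, T.map (MulAut.conj g).toMonoidHom = U) ∧
      ¬ p ∣ ((S : Subgroup G) ⊓ Subgroup.normalizer ((U : Subgroup G) : Set G)).relIndex
        (Subgroup.normalizer ((U : Subgroup G) : Set G)) := by
  intro T hT
  obtain ⟨g, hg, hs⟩ := exists_cj_sylCond S T T Subgroup.le_normalizer (S.isPGroup'.to_le hT)
  rw [sylCond_iff] at hs
  exact ⟨cj g T, ⟨hg, hs⟩, ⟨g, rfl⟩, hs⟩

/-- Key induction for the family version of local-to-global transfer. -/
theorem family_wp_transfer [Finite G] {p : ℕ} [Fact p.Prime] (S : Sylow p G)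
    (𝓦 : Set (Subgroup G → Subgroup G)) (h𝓦 : ∀ W ∈ 𝓦, IsConjugacyFunctor p W)
    (hloc : ∀ T : Subgroup G, T ≤ (S : Subgroup G) → T ≠ ⊥ →
      ¬ p ∣ ((S : Subgroup G) ⊓ Subgroup.normalizer ((T : Subgroup G) : Set G)).relIndex
        (Subgroup.normalizer ((T : Subgroup G) : Set G)) →
      FamilyControlsTransferIn p 𝓦 (Subgroup.normalizer ((T : Subgroup G) : Set G)))
    (F : Subgroup G)
    (hF : ∀ W ∈ 𝓦, (S : Subgroup G) ⊓
      ⁅Subgroup.normalizer ((W (S : Subgroup G) : Subgroup G) : Set G),
        Subgroup.normalizer ((W (S : Subgroup G) : Subgroup G) : Set G)⁆ ≤ F) :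
    ∀ (k : ℕ) (T : Subgroup G), T ∈ sylFamily p (S : Subgroup G) → T ≠ ⊥ →
      Nat.card S - Nat.card (nS (S : Subgroup G) T) = k →
      nS (S : Subgroup G) T ⊓
        ⁅Subgroup.normalizer (T : Set G), Subgroup.normalizer (T : Set G)⁆ ≤ F := by
  intro k
  induction k using Nat.strong_induction_on with
  | _ k ih =>
    intro T hT hTne hk
    set P := nS (S : Subgroup G) T with hP
    have hPp : IsPGroup p P := S.isPGroup'.to_le inf_le_left
    have hPN : P ≤ Subgroup.normalizer (T : Set G) := inf_le_right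
    have htr := family_transfer_transport 𝓦 h𝓦 _ P hPN hPp hT.2 (hloc T hT.1 hTne hT.2)
    rw [htr]
    apply iSup₂_le
    intro W hW
    by_cases hPS : P = (S : Subgroup G)
    · rw [hPS]
      exact le_trans (inf_le_inf_left _ (Subgroup.commutator_mono inf_le_right inf_le_right))
        (hF W hW)
    · have hPlt : P < (S : Subgroup G) := lt_of_le_of_ne inf_le_left hPS
      set V := W P with hV
      have hTP : T ≤ P := le_inf hT.1 Subgroup.le_normalizer
      have hPne : P ≠ ⊥ := fun h => hTne (le_bot_iff.mp (h ▸ hTP))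
      have hVne : V ≠ ⊥ := (h𝓦 W hW P hPp).2.1 hPne
      have hgrow := lt_inf_normalizer_of_lt S.isPGroup' hPlt
      set R := nS (S : Subgroup G) V with hR
      have hle : (S : Subgroup G) ⊓ Subgroup.normalizer (P : Set G) ≤ R :=
        inf_le_inf_left _ (normalizer_le_normalizer_functor W (h𝓦 W hW) P hPp)
      have hPR : P ≤ R := hgrow.le.trans hle
      have hcardPR : Nat.card P < Nat.card R := by
        by_contra hc
        have h1 : Nat.card R ≤ Nat.card P := not_lt.mp hc
        have h2 := Subgroup.card_le_of_le hle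
        have h3 : P = (S : Subgroup G) ⊓ Subgroup.normalizer (P : Set G) :=
          Subgroup.eq_of_le_of_card_ge hgrow.le (h2.trans h1)
        exact hgrow.ne h3
      have hRp : IsPGroup p R := S.isPGroup'.to_le inf_le_left
      have hRS : R ≤ (S : Subgroup G) := inf_le_left
      -- conjugate `V` into good position
      obtain ⟨c, hcR, hcs⟩ := exists_cj_sylCond S V R inf_le_right hRp
      set V' := cj c V with hV'
      have hV'ne : V' ≠ ⊥ := by
        intro h
        apply hVne
        have : Nat.card V = 1 := by rw [← card_cj c V, ← hV', h, Subgroup.card_bot]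
        exact Subgroup.card_eq_one.mp this
      have hcRle : cj c R ≤ nS (S : Subgroup G) V' := by
        refine le_inf hcR ?_
        rw [hV', ← cj_normalizer]
        exact cj_mono inf_le_right
      have hV'S : V' ≤ (S : Subgroup G) := by
        have hVR : V ≤ R := by
          refine le_inf ((h𝓦 W hW P hPp).1.trans inf_le_left) Subgroup.le_normalizer
        exact (cj_mono hVR).trans hcR
      have hV'mem : V' ∈ sylFamily p (S : Subgroup G) := ⟨hV'S, (sylCond_iff S V').mp hcs⟩
      have hcardR' : Nat.card R ≤ Nat.card (nS (S : Subgroup G) V') := by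
        rw [← card_cj c R]; exact Subgroup.card_le_of_le hcRle
      have hcardS' : Nat.card (nS (S : Subgroup G) V') ≤ Nat.card S :=
        Subgroup.card_le_of_le inf_le_left
      have hIHV' := ih (Nat.card S - Nat.card (nS (S : Subgroup G) V')) (by omega) V' hV'mem
        hV'ne rfl
      -- the statement for members with large normalizers
      have hSt : ∀ T' ∈ sylFamily p (S : Subgroup G), T' ≠ ⊥ →
          Nat.card R ≤ Nat.card (nS (S : Subgroup G) T') →
          nS (S : Subgroup G) T' ⊓
            ⁅Subgroup.normalizer (T' : Set G), Subgroup.normalizer (T' : Set G)⁆ ≤ F := by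
        intro T' hT' hT'ne hcard
        have hc2 : Nat.card (nS (S : Subgroup G) T') ≤ Nat.card S :=
          Subgroup.card_le_of_le inf_le_left
        exact ih (Nat.card S - Nat.card (nS (S : Subgroup G) T')) (by omega) T' hT' hT'ne rfl
      -- the chain for `R` and `c⁻¹`
      have hch := alperin_goldschmidt_chain S (sylFamily p (S : Subgroup G)) (fun U hU => hU.1)
        (sylFamily_criterion S) _ R hRS rfl c⁻¹ (by rw [inv_inv]; exact hcR)
      have hinc := chain_increments_mem (sylFamily p (S : Subgroup G)) (S : Subgroup G) F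
        (Nat.card R) (fun U hU => hU.1) hSt _ _ hch
        (by rw [← Nat.card_coe_set_eq]; exact le_rfl)
      intro z hz
      have hzP : z ∈ P := hz.1
      have hzR : z ∈ R := hPR hzP
      have hzc : z ∈ ⁅Subgroup.normalizer (V : Set G), Subgroup.normalizer (V : Set G)⁆ :=
        Subgroup.commutator_mono inf_le_right inf_le_right hz.2
      have h1 := hinc z hzR
      rw [inv_inv] at h1
      have h2 : c * z * c⁻¹ ∈ F := by
        apply hIHV'
        refine ⟨hcRle ⟨z, hzR, rfl⟩, ?_⟩
        have : c * z * c⁻¹ ∈ cj c ⁅Subgroup.normalizer (V : Set G),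
            Subgroup.normalizer (V : Set G)⁆ := ⟨z, hzc, rfl⟩
        rw [cj_commutator, cj_normalizer] at this
        exact this
      have : z = (z * (c * z * c⁻¹)⁻¹) * (c * z * c⁻¹) := by group
      rw [this]
      exact mul_mem h1 h2

end Cfsg.Agent.Lib.Helper1
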