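import Mathlib
import Cfsg.Agent.Lib.Helper1.CoprimeAction

set_option autoImplicit false

namespace Cfsg.Agent.Lib.Helper1

theorem natCard_lt_of_lt {G : Type*} [Group G] [Finite G] {Q P : Subgroup G} (h : Q < P) :
    Nat.card Q < Nat.card P := by
  have h1 : (Q : Set G) ⊂ (P : Set G) := SetLike.coe_ssubset_coe.mpr h
  have h2 := Set.ncard_lt_ncard h1 (Set.toFinite _)
  have e1 : Nat.card Q = (Q : Set G).ncard := Nat.card_coe_set_eq (Q : Set G)
  have e2 : Nat.card P = (P : Set G).ncard := Nat.card_coe_set_eq (P : Set G)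
  rw [e1, e2]; exact h2

theorem coprime_card_of_isPGroup {G : Type*} [Group G] [Finite G] (p : ℕ) [Fact p.Prime]
    (A P : Subgroup G) (hP : IsPGroup p P) (hA : (Nat.card A).Coprime p) :
    (Nat.card A).Coprime (Nat.card P) := by
  obtain ⟨k, hk⟩ := hP.exists_card_eq
  rw [hk]
  exact hA.pow_right k

/-- Thompson's `A × B` lemma, internal version. -/
theorem thompson_AxB {G : Type*} [Group G] [Finite G] (p : ℕ) [Fact p.Prime] (A B : Subgroup G)
    (hB : IsPGroup p B) (hAcop : (Nat.card A).Coprime p)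
    (hAB : A ≤ Subgroup.centralizer (B : Set G)) :
    ∀ (n : ℕ) (P : Subgroup G), Nat.card P = n → IsPGroup p P →
      A ≤ Subgroup.normalizer (P : Set G) → B ≤ Subgroup.normalizer (P : Set G) →
      A ≤ Subgroup.centralizer ((P ⊓ Subgroup.centralizer (B : Set G) : Subgroup G) : Set G) →
      A ≤ Subgroup.centralizer (P : Set G) := by
  intro n
  induction n using Nat.strong_induction_on with
  | _ n ih =>
    intro P hn hP hAP hBP hcent
    by_cases hne : P = ⊥
    · rw [hne]
      intro a _
      rw [Subgroup.mem_centralizer_iff]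
      intro h hh
      have : h = 1 := by simpa using hh
      rw [this, one_mul, mul_one]
    · have hlt : ⁅P, B⁆ < P := commutator_lt_of_isPGroup p P B hP hB hBP hne
      have hQP : IsPGroup p (⁅P, B⁆ : Subgroup G) := hP.to_le hlt.le
      have hAQ : A ≤ Subgroup.normalizer ((⁅P, B⁆ : Subgroup G) : Set G) := fun a ha =>
        mem_normalizer_commutator P B a (hAP ha) (Subgroup.centralizer_le_normalizer (B : Set G) (hAB ha))
      have hBQ : B ≤ Subgroup.normalizer ((⁅P, B⁆ : Subgroup G) : Set G) :=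
        Subgroup.normalizer_commutator_ge_right P B
      have hcentQ : A ≤ Subgroup.centralizer
          ((⁅P, B⁆ ⊓ Subgroup.centralizer (B : Set G) : Subgroup G) : Set G) := by
        refine hcent.trans (Subgroup.centralizer_le ?_)
        exact SetLike.coe_subset_coe.mpr (inf_le_inf_right _ hlt.le)
      have hAQc : A ≤ Subgroup.centralizer ((⁅P, B⁆ : Subgroup G) : Set G) :=
        ih _ (hn ▸ natCard_lt_of_lt hlt) ⁅P, B⁆ rfl hQP hAQ hBQ hcentQ
      have h1 : ⁅⁅P, B⁆, A⁆ = ⊥ := by
        rw [Subgroup.commutator_eq_bot_iff_le_centralizer]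
        exact Subgroup.le_centralizer_iff.mp hAQc
      have h2 : ⁅⁅B, A⁆, P⁆ = ⊥ := by
        have : ⁅B, A⁆ = ⊥ := by
          rw [Subgroup.commutator_eq_bot_iff_le_centralizer]
          exact Subgroup.le_centralizer_iff.mp hAB
        rw [this, Subgroup.commutator_bot_left]
      have h3 : ⁅⁅A, P⁆, B⁆ = ⊥ := Subgroup.commutator_commutator_eq_bot_of_rotate h1 h2
      rw [Subgroup.commutator_comm A P, Subgroup.commutator_eq_bot_iff_le_centralizer] at h3
      have hPA : ⁅P, A⁆ ≤ P := Subgroup.le_normalizer_iff_commutator_le_left.mp hAP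
      have h4 : ⁅P, A⁆ ≤ P ⊓ Subgroup.centralizer (B : Set G) := le_inf hPA h3
      have h5 : A ≤ Subgroup.centralizer ((⁅P, A⁆ : Subgroup G) : Set G) :=
        hcent.trans (Subgroup.centralizer_le (SetLike.coe_subset_coe.mpr h4))
      have h6 : ⁅⁅P, A⁆, A⁆ = ⊥ := by
        rw [Subgroup.commutator_eq_bot_iff_le_centralizer]
        exact Subgroup.le_centralizer_iff.mp h5
      have h7 : ⁅P, A⁆ = ⊥ := commutator_eq_bot_of_commutator_commutator_eq_bot P A hAP
        (coprime_card_of_isPGroup p A P hP hAcop) h6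
      rw [Subgroup.commutator_eq_bot_iff_le_centralizer] at h7
      exact Subgroup.le_centralizer_iff.mp h7

end Cfsg.Agent.Lib.Helper1
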