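import Mathlib
import Cfsg.Agent.Lib.Helper1.FamilyTransfer
import Cfsg.Agent.Lib.Helper1.ThompsonAxB

set_option autoImplicit false

namespace Cfsg.Agent.Lib.Helper1

open Cfsg.Agent.Lib.Helper29

variable {G : Type*} [Group G]

/-- If `H` normalizes `K`, elements of `H ⊔ K` are products `h * k`. -/
theorem mem_sup_of_le_normalizer {H K : Subgroup G} (hHK : H ≤ Subgroup.normalizer (K : Set G))
    {x : G} (hx : x ∈ H ⊔ K) : ∃ h ∈ H, ∃ k ∈ K, x = h * k := by
  rw [Subgroup.sup_eq_closure] at hx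
  induction hx using Subgroup.closure_induction with
  | mem y hy =>
    rcases hy with hy | hy
    · exact ⟨y, hy, 1, K.one_mem, by simp⟩
    · exact ⟨1, H.one_mem, y, hy, by simp⟩
  | one => exact ⟨1, H.one_mem, 1, K.one_mem, by simp⟩
  | mul a b _ _ iha ihb =>
    obtain ⟨h₁, hh₁, k₁, hk₁, rfl⟩ := iha
    obtain ⟨h₂, hh₂, k₂, hk₂, rfl⟩ := ihb
    refine ⟨h₁ * h₂, H.mul_mem hh₁ hh₂, h₂⁻¹ * k₁ * h₂ * k₂, K.mul_mem ?_ hk₂, by group⟩
    have := (Subgroup.mem_normalizer_iff.mp (hHK (H.inv_mem hh₂)) k₁).mp hk₁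
    simpa using this
  | inv a _ iha =>
    obtain ⟨h₁, hh₁, k₁, hk₁, rfl⟩ := iha
    refine ⟨h₁⁻¹, H.inv_mem hh₁, h₁ * k₁⁻¹ * h₁⁻¹, ?_, by group⟩
    exact (Subgroup.mem_normalizer_iff.mp (hHK hh₁) k₁⁻¹).mp (K.inv_mem hk₁)

/-- Powers of `s * c` with `s` normalizing `C`. -/
theorem mul_pow_mem_of_normalizer {C : Subgroup G} {s c : G}
    (hs : s ∈ Subgroup.normalizer (C : Set G)) (hc : c ∈ C) (m : ℕ) :
    ∃ c' ∈ C, (s * c) ^ m = s ^ m * c' := by
  induction m with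
  | zero => exact ⟨1, C.one_mem, by simp⟩
  | succ m ih =>
    obtain ⟨c', hc', e⟩ := ih
    refine ⟨s⁻¹ * c' * s * c, C.mul_mem ?_ hc, ?_⟩
    · have := (Subgroup.mem_normalizer_iff.mp (inv_mem hs) c').mp hc'
      simpa using this
    · rw [pow_succ, e, pow_succ]; group

/-- Stability: an element centralizing `T₀` and acting trivially on `T/T₀` has its
`|T₀|`-th power centralizing `T`. -/
theorem pow_mem_centralizer_of_stable [Finite G] {T T₀ : Subgroup G} {e : G}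
    (he₀ : e ∈ Subgroup.centralizer (T₀ : Set G))
    (he : ∀ t ∈ T, e * t * e⁻¹ * t⁻¹ ∈ T₀) :
    e ^ Nat.card T₀ ∈ Subgroup.centralizer (T : Set G) := by
  have key : ∀ t ∈ T, ∀ m : ℕ, e ^ m * t * (e ^ m)⁻¹ = (e * t * e⁻¹ * t⁻¹) ^ m * t := by
    intro t ht m
    induction m with
    | zero => simp
    | succ m ih =>
      have hz := he t ht
      have hcomm : (e * t * e⁻¹ * t⁻¹) * e = e * (e * t * e⁻¹ * t⁻¹) :=
        (Subgroup.mem_centralizer_iff.mp he₀ _ hz)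
      have hcommpow : (e * t * e⁻¹ * t⁻¹) ^ m * e = e * (e * t * e⁻¹ * t⁻¹) ^ m := by
        have : Commute (e * t * e⁻¹ * t⁻¹) e := hcomm
        exact (this.pow_left m)
      calc e ^ (m + 1) * t * (e ^ (m + 1))⁻¹ = e * (e ^ m * t * (e ^ m)⁻¹) * e⁻¹ := by
            rw [pow_succ']; group
        _ = e * ((e * t * e⁻¹ * t⁻¹) ^ m * t) * e⁻¹ := by rw [ih]
        _ = (e * (e * t * e⁻¹ * t⁻¹) ^ m) * t * e⁻¹ := by group
        _ = ((e * t * e⁻¹ * t⁻¹) ^ m * e) * t * e⁻¹ := by rw [hcommpow]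
        _ = (e * t * e⁻¹ * t⁻¹) ^ m * (e * t * e⁻¹ * t⁻¹) * t := by group
        _ = (e * t * e⁻¹ * t⁻¹) ^ (m + 1) * t := by rw [pow_succ]
  rw [Subgroup.mem_centralizer_iff]
  intro t ht
  have h1 := key t ht (Nat.card T₀)
  have hz := he t ht
  have h2 : (e * t * e⁻¹ * t⁻¹) ^ Nat.card T₀ = 1 := by
    have h3 : ((⟨_, hz⟩ : T₀)) ^ Nat.card T₀ = 1 := pow_card_eq_one'
    have h4 := congrArg (fun x : T₀ => (x : G)) h3
    simp only [Subgroup.coe_pow, Subgroup.coe_one] at h4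
    exact h4
  rw [h2, one_mul] at h1
  calc t * e ^ Nat.card T₀ = (e ^ Nat.card T₀ * t * (e ^ Nat.card T₀)⁻¹) * e ^ Nat.card T₀ := by
        rw [h1]
    _ = e ^ Nat.card T₀ * t := by group

/-- A `p`-subgroup of `Y` lies in a Sylow `p`-subgroup of `Y`. -/
theorem exists_isSylowSub_ge [Finite G] {p : ℕ} [Fact p.Prime] {B Y : Subgroup G} (hBY : B ≤ Y)
    (hB : IsPGroup p B) : ∃ S₁ : Subgroup G, B ≤ S₁ ∧ S₁ ≤ Y ∧ IsSylowSub p S₁ Y := by
  have hB' : IsPGroup p (B.subgroupOf Y) := (isPGroup_subgroupOf_iff_of_le hBY).2 hB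
  obtain ⟨R, hR⟩ := hB'.exists_le_sylow
  refine ⟨(R : Subgroup Y).map Y.subtype, ?_, Subgroup.map_subtype_le _, ⟨R, ?_⟩⟩
  · intro b hb
    exact ⟨⟨b, hBY hb⟩, hR (Subgroup.mem_subgroupOf.mpr hb), rfl⟩
  · ext y
    rw [Subgroup.mem_subgroupOf]
    constructor
    · intro hy; exact ⟨y, hy, rfl⟩
    · rintro ⟨z, hz, hzy⟩
      have : z = y := Subtype.ext hzy
      rwa [← this]

theorem not_dvd_relIndex_of_isSylowSub [Finite G] {p : ℕ} [Fact p.Prime] {T K : Subgroup G}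
    (h : IsSylowSub p T K) : ¬ p ∣ T.relIndex K := by
  obtain ⟨R, hR⟩ := h
  rw [Subgroup.relIndex, ← hR]
  exact R.not_dvd_index

/-- The intersection of a Sylow subgroup of `L` with a subgroup normalized by `L` is Sylow in it. -/
theorem isSylowSub_inf_of_normalized [Finite G] {p : ℕ} [Fact p.Prime] {L P₁ D₀ : Subgroup G}
    (hP₁ : IsSylowSub p P₁ L) (hP₁L : P₁ ≤ L) (hD₀L : D₀ ≤ L)
    (hnorm : L ≤ Subgroup.normalizer (D₀ : Set G)) : IsSylowSub p (P₁ ⊓ D₀) D₀ := by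
  have hP₁p : IsPGroup p P₁ := hP₁.isPGroup hP₁L
  obtain ⟨R, -, hRD, hR⟩ := exists_isSylowSub_ge (p := p) (bot_le : (⊥ : Subgroup G) ≤ D₀)
    (IsPGroup.of_bot)
  have hRp : IsPGroup p R := hR.isPGroup hRD
  obtain ⟨l, hl, hlR⟩ := exists_cj_le_of_isSylowSub hP₁ (hRD.trans hD₀L) hRp
  have hlD : cj l R ≤ D₀ := by
    have := cj_mono (g := l) hRD
    rwa [cj_eq_of_mem_normalizer (hnorm hl)] at this
  have hle : cj l R ≤ P₁ ⊓ D₀ := le_inf hlR hlD
  have hp : IsPGroup p (P₁ ⊓ D₀ : Subgroup G) := hP₁p.to_le inf_le_left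
  rw [isSylowSub_iff inf_le_right]
  refine ⟨hp, le_antisymm (IsPGroup_card_le inf_le_right hp) ?_⟩
  rw [← ((isSylowSub_iff hRD).mp hR).2, ← card_cj l R]
  exact Subgroup.card_le_of_le hle

/-- If `D₀ / (C ∩ D₀)` is a `p`-group, a Sylow `p`-subgroup of `D₀` covers it. -/
theorem le_sup_of_pow_mem [Finite G] {p : ℕ} [Fact p.Prime] {D₀ T₁ C : Subgroup G}
    (hT₁ : IsSylowSub p T₁ D₀) (hT₁D : T₁ ≤ D₀)
    (hnorm : D₀ ≤ Subgroup.normalizer (C : Set G))
    (hpow : ∀ d ∈ D₀, ∃ a : ℕ, d ^ (p ^ a) ∈ C) : D₀ ≤ T₁ ⊔ (C ⊓ D₀) := by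
  rw [← Subgroup.relIndex_eq_one]
  have h1 : (T₁ ⊔ (C ⊓ D₀)).relIndex D₀ ∣ T₁.relIndex D₀ :=
    Subgroup.relIndex_dvd_of_le_left D₀ le_sup_left
  have h2 : (T₁ ⊔ (C ⊓ D₀)).relIndex D₀ ∣ (C ⊓ D₀).relIndex D₀ :=
    Subgroup.relIndex_dvd_of_le_left D₀ le_sup_right
  rw [Subgroup.inf_relIndex_right] at h2
  have hN : (C.subgroupOf D₀).Normal := Subgroup.normal_subgroupOf_of_le_normalizer hnorm
  have hpq : IsPGroup p (D₀ ⧸ C.subgroupOf D₀) := by
    intro x
    induction x using QuotientGroup.induction_on with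
    | H d =>
      obtain ⟨a, ha⟩ := hpow d.1 d.2
      refine ⟨a, ?_⟩
      rw [← QuotientGroup.mk_pow, QuotientGroup.eq_one_iff, Subgroup.mem_subgroupOf]
      simpa using ha
  obtain ⟨n, hn⟩ := IsPGroup.iff_card.mp hpq
  have h3 : C.relIndex D₀ = p ^ n := by
    rw [Subgroup.relIndex, Subgroup.index, hn]
  rw [h3] at h2
  obtain ⟨j, -, hj⟩ := (Nat.dvd_prime_pow (Fact.out : p.Prime)).mp h2
  rcases Nat.eq_zero_or_pos j with rfl | hjpos
  · simpa using hj
  · exfalso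
    apply not_dvd_relIndex_of_isSylowSub hT₁
    refine dvd_trans ?_ h1
    rw [hj]
    exact dvd_pow_self p hjpos.ne'

theorem le_normalizer_of_forall_cj_le [Finite G] {L D : Subgroup G}
    (h : ∀ l ∈ L, cj l D ≤ D) : L ≤ Subgroup.normalizer (D : Set G) := by
  intro l hl
  apply mem_normalizer_of_cj_eq
  exact Subgroup.eq_of_le_of_card_ge (h l hl) (by rw [card_cj])

theorem le_normalizer_inf {L C D : Subgroup G} (hC : L ≤ Subgroup.normalizer (C : Set G))
    (hD : L ≤ Subgroup.normalizer (D : Set G)) :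
    L ≤ Subgroup.normalizer ((C ⊓ D : Subgroup G) : Set G) := by
  intro l hl
  apply mem_normalizer_of_cj_eq
  rw [cj_inf, cj_eq_of_mem_normalizer (hC hl), cj_eq_of_mem_normalizer (hD hl)]

theorem le_normalizer_sup {L C D : Subgroup G} (hC : L ≤ Subgroup.normalizer (C : Set G))
    (hD : L ≤ Subgroup.normalizer (D : Set G)) :
    L ≤ Subgroup.normalizer ((C ⊔ D : Subgroup G) : Set G) := by
  intro l hl
  apply mem_normalizer_of_cj_eq
  rw [cj_sup, cj_eq_of_mem_normalizer (hC hl), cj_eq_of_mem_normalizer (hD hl)]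

/-- Frattini argument combined with covering of a `p`-quotient. -/
theorem frattini_split [Finite G] {p : ℕ} [Fact p.Prime] {L P₁ D₀ C : Subgroup G}
    (hP₁ : IsSylowSub p P₁ L) (hP₁L : P₁ ≤ L) (hD₀L : D₀ ≤ L)
    (hnorm : L ≤ Subgroup.normalizer (D₀ : Set G))
    (hnormC : L ≤ Subgroup.normalizer (C : Set G))
    (hpow : ∀ d ∈ D₀, ∃ a : ℕ, d ^ (p ^ a) ∈ C) :
    ∀ l ∈ L, ∃ c ∈ C ⊓ D₀, ∃ x ∈ L ⊓ Subgroup.normalizer ((P₁ ⊓ D₀ : Subgroup G) : Set G),
      l = c * x := by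
  have hT₁ : IsSylowSub p (P₁ ⊓ D₀) D₀ := isSylowSub_inf_of_normalized hP₁ hP₁L hD₀L hnorm
  have hT₁p : IsPGroup p (P₁ ⊓ D₀ : Subgroup G) := hT₁.isPGroup inf_le_right
  have hcover : D₀ ≤ (P₁ ⊓ D₀) ⊔ (C ⊓ D₀) :=
    le_sup_of_pow_mem hT₁ inf_le_right (hD₀L.trans hnormC) hpow
  intro l hl
  have hlT : cj l (P₁ ⊓ D₀) ≤ D₀ := by
    have := cj_mono (g := l) (inf_le_right : P₁ ⊓ D₀ ≤ D₀)
    rwa [cj_eq_of_mem_normalizer (hnorm hl)] at this
  obtain ⟨d, hd, hdle⟩ := exists_cj_le_of_isSylowSub hT₁ hlT (isPGroup_cj hT₁p)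
  have heq : cj (d * l) (P₁ ⊓ D₀) = P₁ ⊓ D₀ := by
    rw [← cj_cj]
    exact Subgroup.eq_of_le_of_card_ge hdle (by rw [card_cj, card_cj])
  have hdl : d * l ∈ Subgroup.normalizer ((P₁ ⊓ D₀ : Subgroup G) : Set G) :=
    mem_normalizer_of_cj_eq heq
  have hnn : (P₁ ⊓ D₀ : Subgroup G) ≤ Subgroup.normalizer ((C ⊓ D₀ : Subgroup G) : Set G) :=
    (inf_le_right.trans hD₀L).trans (le_normalizer_inf hnormC hnorm)
  obtain ⟨t, ht, c, hc, hdtc⟩ := mem_sup_of_le_normalizer hnn (hcover hd)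
  have ht1 : t ∈ P₁ := ht.1
  refine ⟨c⁻¹, inv_mem hc, t⁻¹ * (d * l), Subgroup.mem_inf.mpr ⟨?_, ?_⟩, ?_⟩
  · exact L.mul_mem (L.inv_mem (hP₁L ht1)) (L.mul_mem (hD₀L hd) hl)
  · exact Subgroup.mul_mem _ (Subgroup.inv_mem _ (Subgroup.le_normalizer ht)) hdl
  · rw [hdtc]; group

theorem cj_eq_of_mem_centralizer_of_le {c : G} {A U : Subgroup G}
    (hc : c ∈ Subgroup.centralizer (A : Set G)) (hU : U ≤ A) : cj c U = U :=
  cj_eq_of_mem_normalizer (Subgroup.centralizer_le_normalizer _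
    (Subgroup.centralizer_le (SetLike.coe_subset_coe.mpr hU) hc))

section Lift

/-- Control of strong fusion by `N_N(V)` passes to conjugates of `V` under `N_G(Q)`. -/
theorem ctrl_conj (N : Subgroup G) [N.Normal] (Q V : Subgroup G)
    (hctrl : ∀ A : Subgroup G, A ≤ Q → ∀ n ∈ N, cj n A ≤ Q →
      ∃ h ∈ N ⊓ Subgroup.normalizer (V : Set G), ∃ c ∈ N ⊓ Subgroup.centralizer (A : Set G),
        n = h * c)
    (x : G) (hx : x ∈ Subgroup.normalizer (Q : Set G)) :
    ∀ A : Subgroup G, A ≤ Q → ∀ n ∈ N, cj n A ≤ Q →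
      ∃ h ∈ N ⊓ Subgroup.normalizer ((cj x V : Subgroup G) : Set G),
        ∃ c ∈ N ⊓ Subgroup.centralizer (A : Set G), n = h * c := by
  intro A hA n hn hnA
  have hxQ : cj x⁻¹ Q = Q := cj_eq_of_mem_normalizer (inv_mem hx)
  have hA₁ : cj x⁻¹ A ≤ Q := by rw [← hxQ]; exact cj_mono hA
  have hn₁ : x⁻¹ * n * x ∈ N := by
    have := (inferInstance : N.Normal).conj_mem n hn x⁻¹
    simpa using this
  have hnA₁ : cj (x⁻¹ * n * x) (cj x⁻¹ A) ≤ Q := by
    rw [cj_cj]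
    have e : x⁻¹ * n * x * x⁻¹ = x⁻¹ * n := by group
    rw [e, ← cj_cj, ← hxQ]
    exact cj_mono hnA
  obtain ⟨h₁, hh₁, c₁, hc₁, e⟩ := hctrl _ hA₁ _ hn₁ hnA₁
  have hh₁N : h₁ ∈ N := hh₁.1
  have hh₁V : h₁ ∈ Subgroup.normalizer (V : Set G) := hh₁.2
  have hc₁N : c₁ ∈ N := hc₁.1
  have hc₁A : c₁ ∈ Subgroup.centralizer ((cj x⁻¹ A : Subgroup G) : Set G) := hc₁.2
  refine ⟨x * h₁ * x⁻¹, Subgroup.mem_inf.mpr ⟨?_, ?_⟩, x * c₁ * x⁻¹,
    Subgroup.mem_inf.mpr ⟨?_, ?_⟩, ?_⟩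
  · exact (inferInstance : N.Normal).conj_mem h₁ hh₁N x
  · rw [← cj_normalizer]; exact conj_mem_cj hh₁V
  · exact (inferInstance : N.Normal).conj_mem c₁ hc₁N x
  · have := conj_mem_cj (g := x) hc₁A
    rwa [cj_centralizer, cj_cj_inv] at this
  · calc n = x * (x⁻¹ * n * x) * x⁻¹ := by group
      _ = x * (h₁ * c₁) * x⁻¹ := by rw [e]
      _ = x * h₁ * x⁻¹ * (x * c₁ * x⁻¹) := by group

/-- Simultaneous control for finitely many conjugates of `V`. -/
theorem ctrl_all (N : Subgroup G) [N.Normal] (Q V : Subgroup G) (hVQ : V ≤ Q)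
    (hctrl : ∀ A : Subgroup G, A ≤ Q → ∀ n ∈ N, cj n A ≤ Q →
      ∃ h ∈ N ⊓ Subgroup.normalizer (V : Set G), ∃ c ∈ N ⊓ Subgroup.centralizer (A : Set G),
        n = h * c) :
    ∀ s : Finset G, (∀ x ∈ s, x ∈ Subgroup.normalizer (Q : Set G)) →
      ∀ A : Subgroup G, A ≤ Q → ∀ n ∈ N, cj n A ≤ Q →
        ∃ h ∈ N, (∀ x ∈ s, cj h (cj x V) = cj x V) ∧
          ∃ c ∈ N ⊓ Subgroup.centralizer (A : Set G), n = h * c := by
  classical
  intro s
  induction s using Finset.induction_on with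
  | empty =>
    intro _ A _ n hn _
    exact ⟨n, hn, fun x hx => absurd hx (Finset.notMem_empty x), 1, one_mem _, by simp⟩
  | insert x₀ s hx₀ ih =>
    intro hs A hA n hn hnA
    obtain ⟨h, hhN, hh, c, hc, e⟩ :=
      ih (fun x hx => hs x (Finset.mem_insert_of_mem hx)) A hA n hn hnA
    have hcN : c ∈ N := hc.1
    have hcA : c ∈ Subgroup.centralizer (A : Set G) := hc.2
    have hVx : ∀ x ∈ s, cj x V ≤ Q := fun x hx => by
      have := cj_mono (g := x) hVQ
      rwa [cj_eq_of_mem_normalizer (hs x (Finset.mem_insert_of_mem hx))] at this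
    have hhA : cj h A ≤ Q := by
      have : cj n A = cj h A := by
        rw [e, ← cj_cj, cj_eq_of_mem_centralizer_of_le hcA le_rfl]
      rwa [← this]
    have hA' : A ⊔ ⨆ x ∈ s, cj x V ≤ Q := sup_le hA (iSup₂_le hVx)
    have hhA' : cj h (A ⊔ ⨆ x ∈ s, cj x V) ≤ Q := by
      rw [cj_le_iff]
      refine sup_le (cj_le_iff.mp hhA) (iSup₂_le fun x hx => cj_le_iff.mp ?_)
      rw [hh x hx]; exact hVx x hx
    obtain ⟨h', hh', c', hc', e'⟩ := ctrl_conj N Q V hctrl x₀ (hs x₀ (Finset.mem_insert_self _ _))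
      _ hA' h hhN hhA'
    have hh'N : h' ∈ N := hh'.1
    have hh'V : h' ∈ Subgroup.normalizer ((cj x₀ V : Subgroup G) : Set G) := hh'.2
    have hc'N : c' ∈ N := hc'.1
    have hc'A : c' ∈ Subgroup.centralizer ((A ⊔ ⨆ x ∈ s, cj x V : Subgroup G) : Set G) := hc'.2
    refine ⟨h', hh'N, ?_, c' * c, Subgroup.mem_inf.mpr ⟨N.mul_mem hc'N hcN, ?_⟩, ?_⟩
    · intro x hx
      rcases Finset.mem_insert.mp hx with rfl | hx
      · exact cj_eq_of_mem_normalizer hh'V
      · have e2 : h' = h * c'⁻¹ := by rw [e']; group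
        have hle : cj x V ≤ A ⊔ ⨆ x ∈ s, cj x V :=
          le_sup_of_le_right (le_iSup₂_of_le x hx le_rfl)
        rw [e2, ← cj_cj, cj_eq_of_mem_centralizer_of_le (inv_mem hc'A) hle, hh x hx]
    · refine Subgroup.mul_mem _ ?_ hcA
      exact Subgroup.centralizer_le (SetLike.coe_subset_coe.mpr le_sup_left) hc'A
    · rw [e, e']; group

theorem closure_iUnion_cj_eq (Q V W : Subgroup G)
    (hW : W = Subgroup.closure (⋃ x ∈ Subgroup.normalizer (Q : Set G),
      ((cj x V : Subgroup G) : Set G))) :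
    W = ⨆ x ∈ Subgroup.normalizer (Q : Set G), cj x V := by
  rw [hW]
  simp only [Subgroup.closure_iUnion, Subgroup.closure_eq]

theorem W_le (Q V W : Subgroup G) (hVQ : V ≤ Q)
    (hW : W = ⨆ x ∈ Subgroup.normalizer (Q : Set G), cj x V) : W ≤ Q := by
  rw [hW]
  refine iSup₂_le fun x hx => ?_
  have := cj_mono (g := x) hVQ
  rwa [cj_eq_of_mem_normalizer hx] at this

theorem normalizer_le_normalizer_W [Finite G] (Q V W : Subgroup G)
    (hW : W = ⨆ x ∈ Subgroup.normalizer (Q : Set G), cj x V) :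
    Subgroup.normalizer (Q : Set G) ≤ Subgroup.normalizer (W : Set G) := by
  apply le_normalizer_of_forall_cj_le
  intro m hm
  rw [hW]
  simp only [cj, Subgroup.map_iSup]
  refine iSup₂_le fun x hx => ?_
  have e : cj m (cj x V) = cj (m * x) V := cj_cj m x V
  exact e.le.trans (le_iSup₂_of_le (m * x) (Subgroup.mul_mem _ hm hx) le_rfl)

theorem ctrl_W [Finite G] (N : Subgroup G) [N.Normal] (Q V W : Subgroup G) (hVQ : V ≤ Q)
    (hctrl : ∀ A : Subgroup G, A ≤ Q → ∀ n ∈ N, cj n A ≤ Q →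
      ∃ h ∈ N ⊓ Subgroup.normalizer (V : Set G), ∃ c ∈ N ⊓ Subgroup.centralizer (A : Set G),
        n = h * c)
    (hW : W = ⨆ x ∈ Subgroup.normalizer (Q : Set G), cj x V) :
    ∀ A : Subgroup G, A ≤ Q → ∀ n ∈ N, cj n A ≤ Q →
      ∃ h ∈ N ⊓ Subgroup.normalizer (W : Set G),
        ∃ c ∈ N ⊓ Subgroup.centralizer (A : Set G), n = h * c := by
  intro A hA n hn hnA
  obtain ⟨h, hhN, hh, c, hc, e⟩ := ctrl_all N Q V hVQ hctrl
    (Set.toFinite (Subgroup.normalizer (Q : Set G) : Set G)).toFinset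
    (fun x hx => by simpa using hx) A hA n hn hnA
  refine ⟨h, Subgroup.mem_inf.mpr ⟨hhN, ?_⟩, c, hc, e⟩
  apply mem_normalizer_of_cj_eq
  rw [hW]
  simp only [cj, Subgroup.map_iSup]
  refine iSup_congr fun x => iSup_congr fun hx => ?_
  exact hh x (by simpa using hx)

/-- `W` is weakly closed in `Q` with respect to `N`. -/
theorem weakly_closed_N [Finite G] (N : Subgroup G) [N.Normal] (Q V W : Subgroup G) (hVQ : V ≤ Q)
    (hctrl : ∀ A : Subgroup G, A ≤ Q → ∀ n ∈ N, cj n A ≤ Q →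
      ∃ h ∈ N ⊓ Subgroup.normalizer (V : Set G), ∃ c ∈ N ⊓ Subgroup.centralizer (A : Set G),
        n = h * c)
    (hW : W = ⨆ x ∈ Subgroup.normalizer (Q : Set G), cj x V) :
    ∀ n ∈ N, cj n W ≤ Q → n ∈ Subgroup.normalizer (W : Set G) := by
  intro n hn hnW
  obtain ⟨h, hh, c, hc, e⟩ := ctrl_W N Q V W hVQ hctrl hW W (W_le Q V W hVQ hW) n hn hnW
  have hh2 : h ∈ Subgroup.normalizer (W : Set G) := hh.2
  have hc2 : c ∈ Subgroup.centralizer (W : Set G) := hc.2
  rw [e]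
  exact Subgroup.mul_mem _ hh2 (Subgroup.centralizer_le_normalizer _ hc2)

theorem cj_normal (N : Subgroup G) [N.Normal] (l : G) : cj l N = N := by
  ext x
  rw [mem_cj]
  constructor
  · intro h
    have := (inferInstance : N.Normal).conj_mem _ h l
    have e : l * (l⁻¹ * x * l) * l⁻¹ = x := by group
    rwa [e] at this
  · intro h
    have := (inferInstance : N.Normal).conj_mem _ h l⁻¹
    simpa using this

theorem isSylowSub_top [Finite G] {p : ℕ} [Fact p.Prime] (P : Sylow p G) :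
    IsSylowSub p (P : Subgroup G) ⊤ :=
  isSylowSub_of_not_dvd_relIndex le_top P.isPGroup'
    (by rw [Subgroup.relIndex_top_right]; exact P.not_dvd_index)

theorem isSylowSub_inf_normal [Finite G] {p : ℕ} [Fact p.Prime] (P : Sylow p G)
    (N : Subgroup G) [N.Normal] : IsSylowSub p ((P : Subgroup G) ⊓ N) N :=
  isSylowSub_inf_of_normalized (isSylowSub_top P) le_top le_top
    (fun l _ => mem_normalizer_of_cj_eq (cj_normal N l))

/-- Frattini decomposition `G = N_G(P ∩ N) N`. -/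
theorem frattini_decomp [Finite G] {p : ℕ} [Fact p.Prime] (P : Sylow p G)
    (N : Subgroup G) [N.Normal] (g : G) :
    ∃ m ∈ Subgroup.normalizer (((P : Subgroup G) ⊓ N : Subgroup G) : Set G), ∃ n ∈ N,
      g = m * n := by
  have hQ := isSylowSub_inf_normal P N
  have hQp : IsPGroup p ((P : Subgroup G) ⊓ N : Subgroup G) := P.isPGroup'.to_le inf_le_left
  have hle : cj g⁻¹ ((P : Subgroup G) ⊓ N) ≤ N := by
    have := cj_mono (g := g⁻¹) (inf_le_right : (P : Subgroup G) ⊓ N ≤ N)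
    rwa [cj_normal N] at this
  obtain ⟨n, hn, hnle⟩ := exists_cj_le_of_isSylowSub hQ hle (isPGroup_cj hQp)
  have heq : cj (n * g⁻¹) ((P : Subgroup G) ⊓ N) = (P : Subgroup G) ⊓ N := by
    rw [← cj_cj]
    exact Subgroup.eq_of_le_of_card_ge hnle (by rw [card_cj, card_cj])
  have hmem := mem_normalizer_of_cj_eq heq
  refine ⟨(n * g⁻¹)⁻¹, inv_mem hmem, n, hn, by group⟩

/-- `W` is weakly closed in `P` with respect to `G`. -/
theorem weakly_closed_G [Finite G] {p : ℕ} [Fact p.Prime] (N : Subgroup G) [N.Normal]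
    (P : Sylow p G) (V W : Subgroup G) (hV : V ≤ (P : Subgroup G) ⊓ N)
    (hctrl : ∀ A : Subgroup G, A ≤ (P : Subgroup G) ⊓ N → ∀ n ∈ N,
      cj n A ≤ (P : Subgroup G) ⊓ N →
      ∃ h ∈ N ⊓ Subgroup.normalizer (V : Set G), ∃ c ∈ N ⊓ Subgroup.centralizer (A : Set G),
        n = h * c)
    (hW : W = ⨆ x ∈ Subgroup.normalizer (((P : Subgroup G) ⊓ N : Subgroup G) : Set G), cj x V) :
    ∀ g : G, cj g W ≤ (P : Subgroup G) → g ∈ Subgroup.normalizer (W : Set G) := by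
  intro g hg
  have hWQ : W ≤ (P : Subgroup G) ⊓ N := W_le _ V W hV hW
  have hgQ : cj g W ≤ (P : Subgroup G) ⊓ N := by
    refine le_inf hg ?_
    have := cj_mono (g := g) (hWQ.trans inf_le_right)
    rwa [cj_normal N] at this
  obtain ⟨m, hm, n, hn, rfl⟩ := frattini_decomp P N g
  have hnW : cj n W ≤ (P : Subgroup G) ⊓ N := by
    rw [← cj_cj, cj_le_iff, cj_eq_of_mem_normalizer (inv_mem hm)] at hgQ
    exact hgQ
  have h1 := weakly_closed_N N _ V W hV hctrl hW n hn hnW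
  have h2 := normalizer_le_normalizer_W _ V W hW hm
  exact Subgroup.mul_mem _ h2 h1

/-- In a `p`-group, if `N_W(T) ≤ T` and `T` normalizes `W` then `W ≤ T`. -/
theorem le_of_inf_normalizer_le [Finite G] {p : ℕ} [Fact p.Prime] {W T R : Subgroup G}
    (hR : IsPGroup p R) (hWR : W ≤ R) (hTR : T ≤ R)
    (hTW : T ≤ Subgroup.normalizer (W : Set G))
    (h : W ⊓ Subgroup.normalizer (T : Set G) ≤ T) : W ≤ T := by
  by_contra hne
  have hlt : T < T ⊔ W := lt_of_le_of_ne le_sup_left (fun e => hne (e ▸ le_sup_right))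
  have hlt2 := lt_inf_normalizer_of_lt (hR.to_le (sup_le hTR hWR)) hlt
  obtain ⟨r, hr, hrT⟩ := SetLike.exists_of_lt hlt2
  have hr1 : r ∈ T ⊔ W := hr.1
  have hr2 : r ∈ Subgroup.normalizer (T : Set G) := hr.2
  obtain ⟨t, ht, w, hw, rfl⟩ := mem_sup_of_le_normalizer hTW hr1
  apply hrT
  have hwN : w ∈ Subgroup.normalizer (T : Set G) := by
    have := Subgroup.mul_mem _ (Subgroup.inv_mem _ (Subgroup.le_normalizer ht)) hr2
    simpa using this
  exact T.mul_mem ht (h (Subgroup.mem_inf.mpr ⟨hw, hwN⟩))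

/-- All `N_G(T₀)`-conjugates of `N_W(T₀)` act on `T₀` inside a fixed Sylow subgroup. -/
theorem conj_W_le [Finite G] {p : ℕ} [Fact p.Prime] (N : Subgroup G) [N.Normal]
    (Q V W : Subgroup G) (hVQ : V ≤ Q) (hQN : Q ≤ N)
    (hctrl : ∀ A : Subgroup G, A ≤ Q → ∀ n ∈ N, cj n A ≤ Q →
      ∃ h ∈ N ⊓ Subgroup.normalizer (V : Set G), ∃ c ∈ N ⊓ Subgroup.centralizer (A : Set G),
        n = h * c)
    (hW : W = ⨆ x ∈ Subgroup.normalizer (Q : Set G), cj x V)
    (hWp : IsPGroup p W) (T₀ : Subgroup G) (hT₀ : T₀ ≤ Q) (S₁ : Subgroup G)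
    (hS₁ : IsSylowSub p S₁ (N ⊓ Subgroup.normalizer (T₀ : Set G))) :
    ∀ l ∈ Subgroup.normalizer (T₀ : Set G),
      cj l (W ⊓ Subgroup.normalizer (T₀ : Set G)) ≤
        S₁ ⊔ (N ⊓ Subgroup.centralizer (T₀ : Set G)) := by
  have hWN : W ≤ N := (W_le Q V W hVQ hW).trans hQN
  have hΓ : ∀ l ∈ Subgroup.normalizer (T₀ : Set G),
      cj l (Subgroup.normalizer (T₀ : Set G)) = Subgroup.normalizer (T₀ : Set G) := by
    intro l hl
    rw [cj_normalizer, cj_eq_of_mem_normalizer hl]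
  have hΓC : ∀ l ∈ Subgroup.normalizer (T₀ : Set G),
      cj l (N ⊓ Subgroup.centralizer (T₀ : Set G)) = N ⊓ Subgroup.centralizer (T₀ : Set G) := by
    intro l hl
    rw [cj_inf, cj_normal N, cj_centralizer, cj_eq_of_mem_normalizer hl]
  -- (a)
  have hE₀ : ∀ y ∈ N ⊓ Subgroup.normalizer (T₀ : Set G),
      cj y ((W ⊓ Subgroup.normalizer (T₀ : Set G)) ⊔ (N ⊓ Subgroup.centralizer (T₀ : Set G))) =
        (W ⊓ Subgroup.normalizer (T₀ : Set G)) ⊔ (N ⊓ Subgroup.centralizer (T₀ : Set G)) := by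
    intro y hy
    have hyN : y ∈ N := hy.1
    have hyΓ : y ∈ Subgroup.normalizer (T₀ : Set G) := hy.2
    have hyT₀ : cj y T₀ ≤ Q := by rw [cj_eq_of_mem_normalizer hyΓ]; exact hT₀
    obtain ⟨k, hk, c, hc, e⟩ := ctrl_W N Q V W hVQ hctrl hW T₀ hT₀ y hyN hyT₀
    have hkN : k ∈ N := hk.1
    have hkW : k ∈ Subgroup.normalizer (W : Set G) := hk.2
    have hcN : c ∈ N := hc.1
    have hcC : c ∈ Subgroup.centralizer (T₀ : Set G) := hc.2
    have hcΓ : c ∈ Subgroup.normalizer (T₀ : Set G) := Subgroup.centralizer_le_normalizer _ hcC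
    have hkΓ : k ∈ Subgroup.normalizer (T₀ : Set G) := by
      have e2 : k = y * c⁻¹ := by rw [e]; group
      rw [e2]
      exact Subgroup.mul_mem _ hyΓ (Subgroup.inv_mem _ hcΓ)
    have hcE : c ∈ (W ⊓ Subgroup.normalizer (T₀ : Set G)) ⊔
        (N ⊓ Subgroup.centralizer (T₀ : Set G)) :=
      Subgroup.mem_sup_right (Subgroup.mem_inf.mpr ⟨hcN, hcC⟩)
    rw [e, ← cj_cj, cj_eq_of_mem_normalizer (Subgroup.le_normalizer hcE), cj_sup, cj_inf,
      cj_eq_of_mem_normalizer hkW, hΓ k hkΓ, hΓC k hkΓ]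
  intro l hl
  have hBY : cj l (W ⊓ Subgroup.normalizer (T₀ : Set G)) ≤
      N ⊓ Subgroup.normalizer (T₀ : Set G) := by
    refine le_inf ?_ ?_
    · have := cj_mono (g := l) ((inf_le_left : W ⊓ Subgroup.normalizer (T₀ : Set G) ≤ W).trans hWN)
      rwa [cj_normal N] at this
    · have := cj_mono (g := l)
        (inf_le_right : W ⊓ Subgroup.normalizer (T₀ : Set G) ≤ Subgroup.normalizer (T₀ : Set G))
      rwa [hΓ l hl] at this
  have hBp : IsPGroup p (cj l (W ⊓ Subgroup.normalizer (T₀ : Set G)) : Subgroup G) :=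
    isPGroup_cj (hWp.to_le inf_le_left)
  obtain ⟨y, hy, hyle⟩ := exists_cj_le_of_isSylowSub hS₁ hBY hBp
  have hyN : y ∈ N := hy.1
  have hyΓ : y ∈ Subgroup.normalizer (T₀ : Set G) := hy.2
  have hy' : l⁻¹ * y * l ∈ N ⊓ Subgroup.normalizer (T₀ : Set G) := by
    refine Subgroup.mem_inf.mpr ⟨?_, ?_⟩
    · have := (inferInstance : N.Normal).conj_mem y hyN l⁻¹
      simpa using this
    · exact Subgroup.mul_mem _ (Subgroup.mul_mem _ (Subgroup.inv_mem _ hl) hyΓ) hl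
  have hinv : cj y (cj l ((W ⊓ Subgroup.normalizer (T₀ : Set G)) ⊔
      (N ⊓ Subgroup.centralizer (T₀ : Set G)))) =
      cj l ((W ⊓ Subgroup.normalizer (T₀ : Set G)) ⊔
      (N ⊓ Subgroup.centralizer (T₀ : Set G))) := by
    have e : y * l = l * (l⁻¹ * y * l) := by group
    rw [cj_cj, e, ← cj_cj, hE₀ _ hy']
  calc cj l (W ⊓ Subgroup.normalizer (T₀ : Set G))
      ≤ cj l ((W ⊓ Subgroup.normalizer (T₀ : Set G)) ⊔
          (N ⊓ Subgroup.centralizer (T₀ : Set G))) := cj_mono le_sup_left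
    _ = cj y (cj l ((W ⊓ Subgroup.normalizer (T₀ : Set G)) ⊔
          (N ⊓ Subgroup.centralizer (T₀ : Set G)))) := hinv.symm
    _ = cj y (cj l (W ⊓ Subgroup.normalizer (T₀ : Set G))) ⊔
          (N ⊓ Subgroup.centralizer (T₀ : Set G)) := by
        rw [cj_sup, cj_sup, hΓC l hl, hΓC y hyΓ]
    _ ≤ S₁ ⊔ (N ⊓ Subgroup.centralizer (T₀ : Set G)) := sup_le_sup_right hyle _

/-- Elements of `S₁ C_N(T ∩ N)` normalizing `T` inside `N` act on `T` as `p`-elements. -/
theorem pow_mem_centralizer_of_mem_sup [Finite G] {p : ℕ} [Fact p.Prime] (N : Subgroup G)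
    [N.Normal] {T S₁ : Subgroup G} (hTp : IsPGroup p T) (hS₁p : IsPGroup p S₁)
    (hS₁ : S₁ ≤ N ⊓ Subgroup.normalizer ((T ⊓ N : Subgroup G) : Set G)) {d : G}
    (hdS : d ∈ S₁ ⊔ (N ⊓ Subgroup.centralizer ((T ⊓ N : Subgroup G) : Set G)))
    (hdN : d ∈ N) (hdL : d ∈ Subgroup.normalizer (T : Set G)) :
    ∃ a : ℕ, d ^ (p ^ a) ∈ Subgroup.centralizer (T : Set G) := by
  have hnorm : S₁ ≤ Subgroup.normalizer
      ((N ⊓ Subgroup.centralizer ((T ⊓ N : Subgroup G) : Set G) : Subgroup G) : Set G) := by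
    intro l hl
    have hlΓ : l ∈ Subgroup.normalizer ((T ⊓ N : Subgroup G) : Set G) := (hS₁ hl).2
    apply mem_normalizer_of_cj_eq
    rw [cj_inf, cj_normal N, cj_centralizer, cj_eq_of_mem_normalizer hlΓ]
  obtain ⟨s, hs, c, hc, rfl⟩ := mem_sup_of_le_normalizer hnorm hdS
  obtain ⟨a, ha⟩ := hS₁p ⟨s, hs⟩
  have ha' : s ^ (p ^ a) = 1 := by
    have := congrArg (fun x : S₁ => (x : G)) ha
    simpa using this
  obtain ⟨c', hc', e⟩ := mul_pow_mem_of_normalizer (hnorm hs) hc (p ^ a)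
  rw [ha', one_mul] at e
  have hc'C : c' ∈ Subgroup.centralizer ((T ⊓ N : Subgroup G) : Set G) := hc'.2
  obtain ⟨b, hb⟩ := IsPGroup.iff_card.mp (hTp.to_le (inf_le_left : T ⊓ N ≤ T))
  refine ⟨a + b, ?_⟩
  rw [pow_add, pow_mul, e, ← hb]
  apply pow_mem_centralizer_of_stable hc'C
  intro t ht
  have hc'N : c' ∈ N := hc'.1
  have hc'L : c' ∈ Subgroup.normalizer (T : Set G) := by
    rw [← e]; exact Subgroup.pow_mem _ hdL _
  refine Subgroup.mem_inf.mpr ⟨?_, ?_⟩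
  · exact T.mul_mem ((Subgroup.mem_normalizer_iff.mp hc'L t).mp ht) (T.inv_mem ht)
  · have h1 := (inferInstance : N.Normal).conj_mem _ (N.inv_mem hc'N) t
    have e2 : c' * t * c'⁻¹ * t⁻¹ = c' * (t * c'⁻¹ * t⁻¹) := by group
    rw [e2]
    exact N.mul_mem hc'N h1

/-- Chain lemma: local factorizations `N_G(T) = C_G(T) (N_G(T) ∩ M)` propagate along chains. -/
theorem chain_split [Finite G] (M : Subgroup G) (𝓕 : Set (Subgroup G)) (m : ℕ)
    (hSt : ∀ T ∈ 𝓕, m ≤ Nat.card T → ∀ x ∈ Subgroup.normalizer (T : Set G),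
      ∃ c ∈ Subgroup.centralizer (T : Set G), ∃ h ∈ M, x = c * h) :
    ∀ (A : Set G) (g : G), FChain 𝓕 A g → m ≤ A.ncard →
      ∃ c ∈ Subgroup.centralizer A, ∃ h ∈ M, g = c * h := by
  intro A g hch
  induction hch with
  | nil A => intro _; exact ⟨1, one_mem _, 1, one_mem _, by simp⟩
  | cons A T x g' hT hxN hAT _ ih =>
    intro hm
    have hcardT : m ≤ Nat.card T := by
      have h3 : A.ncard ≤ (T : Set G).ncard := Set.ncard_le_ncard hAT (Set.toFinite _)
      have h4 : (T : Set G).ncard = Nat.card T := (Nat.card_coe_set_eq (T : Set G)).symm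
      omega
    obtain ⟨c₁, hc₁, h₁, hh₁, rfl⟩ := hSt T hT hcardT x hxN
    obtain ⟨c', hc', h', hh', rfl⟩ := ih (by rw [rcs_ncard]; exact hm)
    have hc₁A : c₁ ∈ Subgroup.centralizer A := Subgroup.centralizer_le hAT hc₁
    refine ⟨c₁ * (h₁ * c' * h₁⁻¹), Subgroup.mul_mem _ hc₁A ?_, h₁ * h', M.mul_mem hh₁ hh', by group⟩
    rw [Subgroup.mem_centralizer_iff]
    intro a ha
    have hca : a * c₁ = c₁ * a := Subgroup.mem_centralizer_iff.mp hc₁A a ha
    have h2 : ((c₁ * h₁)⁻¹ * a * (c₁ * h₁)) * c' = c' * ((c₁ * h₁)⁻¹ * a * (c₁ * h₁)) :=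
      Subgroup.mem_centralizer_iff.mp hc' _ ⟨a, ha, rfl⟩
    have e3 : (c₁ * h₁)⁻¹ * a * (c₁ * h₁) = h₁⁻¹ * a * h₁ := by
      calc (c₁ * h₁)⁻¹ * a * (c₁ * h₁) = h₁⁻¹ * (c₁⁻¹ * (a * c₁)) * h₁ := by group
        _ = h₁⁻¹ * (c₁⁻¹ * (c₁ * a)) * h₁ := by rw [hca]
        _ = h₁⁻¹ * a * h₁ := by group
    rw [e3] at h2
    calc a * (h₁ * c' * h₁⁻¹) = h₁ * ((h₁⁻¹ * a * h₁) * c') * h₁⁻¹ := by group
      _ = h₁ * (c' * (h₁⁻¹ * a * h₁)) * h₁⁻¹ := by rw [h2]
      _ = h₁ * c' * h₁⁻¹ * a := by group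

/-- Main induction: `N_G(T) = C_G(T) (N_G(T) ∩ N_G(W))` for fully normalized `T ≤ P`. -/
theorem lift_main [Finite G] {p : ℕ} [Fact p.Prime] (N : Subgroup G) [N.Normal]
    (P : Sylow p G) (V W : Subgroup G) (hV : V ≤ (P : Subgroup G) ⊓ N)
    (hctrl : ∀ A : Subgroup G, A ≤ (P : Subgroup G) ⊓ N → ∀ n ∈ N,
      cj n A ≤ (P : Subgroup G) ⊓ N →
      ∃ h ∈ N ⊓ Subgroup.normalizer (V : Set G), ∃ c ∈ N ⊓ Subgroup.centralizer (A : Set G),
        n = h * c)
    (hW : W = ⨆ x ∈ Subgroup.normalizer (((P : Subgroup G) ⊓ N : Subgroup G) : Set G), cj x V) :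
    ∀ (k : ℕ) (T : Subgroup G), T ∈ sylFamily p (P : Subgroup G) →
      Nat.card P - Nat.card T = k →
      ∀ x ∈ Subgroup.normalizer (T : Set G), ∃ c ∈ Subgroup.centralizer (T : Set G),
        ∃ h ∈ Subgroup.normalizer (W : Set G), x = c * h := by
  intro k
  induction k using Nat.strong_induction_on with
  | _ k ih =>
    intro T hT hk x hx
    have hTP : T ≤ (P : Subgroup G) := hT.1
    have hWQ : W ≤ (P : Subgroup G) ⊓ N := W_le _ V W hV hW
    have hWP : W ≤ (P : Subgroup G) := hWQ.trans inf_le_left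
    have hWN : W ≤ N := hWQ.trans inf_le_right
    have hWp : IsPGroup p W := P.isPGroup'.to_le hWP
    have hTp : IsPGroup p T := P.isPGroup'.to_le hTP
    have hNn : ∀ K : Subgroup G, K ≤ Subgroup.normalizer (N : Set G) :=
      fun K l _ => mem_normalizer_of_cj_eq (cj_normal N l)
    have hPM : (P : Subgroup G) ≤ Subgroup.normalizer (W : Set G) := by
      refine le_trans ?_ (normalizer_le_normalizer_W _ V W hW)
      exact le_normalizer_inf Subgroup.le_normalizer (hNn _)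
    by_cases hWT : W ≤ T
    · refine ⟨1, one_mem _, x, ?_, by simp⟩
      apply weakly_closed_G N P V W hV hctrl hW
      have := cj_mono (g := x) hWT
      rw [cj_eq_of_mem_normalizer hx] at this
      exact this.trans hTP
    · have hP₁ : IsSylowSub p ((P : Subgroup G) ⊓ Subgroup.normalizer (T : Set G))
          (Subgroup.normalizer (T : Set G)) :=
        isSylowSub_of_not_dvd_relIndex inf_le_right (P.isPGroup'.to_le inf_le_left) hT.2
      have hLΓ : Subgroup.normalizer (T : Set G) ≤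
          Subgroup.normalizer ((T ⊓ N : Subgroup G) : Set G) :=
        le_normalizer_inf le_rfl (hNn _)
      have hT₀Q : T ⊓ N ≤ (P : Subgroup G) ⊓ N := inf_le_inf_right N hTP
      obtain ⟨S₁, -, hS₁Y, hS₁⟩ := exists_isSylowSub_ge (p := p)
        (bot_le : (⊥ : Subgroup G) ≤ N ⊓ Subgroup.normalizer ((T ⊓ N : Subgroup G) : Set G))
        IsPGroup.of_bot
      have hB := conj_W_le N _ V W hV inf_le_right hctrl hW hWp (T ⊓ N) hT₀Q S₁ hS₁
      have hD₀S : (⨆ l : Subgroup.normalizer (T : Set G),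
          cj (l : G) (W ⊓ Subgroup.normalizer (T : Set G))) ≤
          S₁ ⊔ (N ⊓ Subgroup.centralizer ((T ⊓ N : Subgroup G) : Set G)) := by
        refine iSup_le fun l => ?_
        exact (cj_mono (inf_le_inf_left W hLΓ)).trans (hB l (hLΓ l.2))
      have hD₀N : (⨆ l : Subgroup.normalizer (T : Set G),
          cj (l : G) (W ⊓ Subgroup.normalizer (T : Set G))) ≤ N := iSup_le fun l => by
        have := cj_mono (g := (l : G))
          ((inf_le_left : W ⊓ Subgroup.normalizer (T : Set G) ≤ W).trans hWN)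
        rwa [cj_normal N] at this
      have hD₀L : (⨆ l : Subgroup.normalizer (T : Set G),
          cj (l : G) (W ⊓ Subgroup.normalizer (T : Set G))) ≤ Subgroup.normalizer (T : Set G) :=
        iSup_le fun l => by
          have := cj_mono (g := (l : G))
            (inf_le_right : W ⊓ Subgroup.normalizer (T : Set G) ≤ Subgroup.normalizer (T : Set G))
          rwa [cj_eq_of_mem_normalizer (Subgroup.le_normalizer l.2)] at this
      have hLD₀ : Subgroup.normalizer (T : Set G) ≤ Subgroup.normalizer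
          ((⨆ l : Subgroup.normalizer (T : Set G),
            cj (l : G) (W ⊓ Subgroup.normalizer (T : Set G)) : Subgroup G) : Set G) := by
        apply le_normalizer_of_forall_cj_le
        intro l hl
        simp only [cj, Subgroup.map_iSup]
        refine iSup_le fun l' => ?_
        have e : cj l (cj (l' : G) (W ⊓ Subgroup.normalizer (T : Set G))) =
            cj (l * l') (W ⊓ Subgroup.normalizer (T : Set G)) := cj_cj _ _ _
        exact e.le.trans (le_iSup (fun l'' : Subgroup.normalizer (T : Set G) =>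
          cj (l'' : G) (W ⊓ Subgroup.normalizer (T : Set G)))
          ⟨l * l', Subgroup.mul_mem _ hl l'.2⟩)
      have hWL : W ⊓ Subgroup.normalizer (T : Set G) ≤
          (⨆ l : Subgroup.normalizer (T : Set G),
            cj (l : G) (W ⊓ Subgroup.normalizer (T : Set G))) := by
        have := le_iSup (fun l'' : Subgroup.normalizer (T : Set G) =>
          cj (l'' : G) (W ⊓ Subgroup.normalizer (T : Set G))) 1
        simpa [cj_one] using this
      have hpow : ∀ d ∈ (⨆ l : Subgroup.normalizer (T : Set G),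
            cj (l : G) (W ⊓ Subgroup.normalizer (T : Set G))),
          ∃ a : ℕ, d ^ (p ^ a) ∈ Subgroup.centralizer (T : Set G) := fun d hd =>
        pow_mem_centralizer_of_mem_sup N hTp (hS₁.isPGroup hS₁Y) hS₁Y (hD₀S hd) (hD₀N hd)
          (hD₀L hd)
      have hLC : Subgroup.normalizer (T : Set G) ≤
          Subgroup.normalizer ((Subgroup.centralizer (T : Set G) : Subgroup G) : Set G) := by
        intro l hl
        apply mem_normalizer_of_cj_eq
        rw [cj_centralizer, cj_eq_of_mem_normalizer hl]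
      obtain ⟨c, hc, y, hy, rfl⟩ := frattini_split hP₁ inf_le_right hD₀L hLD₀ hLC hpow x hx
      have hcT : c ∈ Subgroup.centralizer (T : Set G) := hc.1
      have hyL : y ∈ Subgroup.normalizer (T : Set G) := hy.1
      have hyN := hy.2
      have hThatP : T ⊔ (((P : Subgroup G) ⊓ Subgroup.normalizer (T : Set G)) ⊓
          (⨆ l : Subgroup.normalizer (T : Set G),
            cj (l : G) (W ⊓ Subgroup.normalizer (T : Set G)))) ≤ (P : Subgroup G) :=
        sup_le hTP (inf_le_left.trans inf_le_left)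
      have hyThat : y ∈ Subgroup.normalizer ((T ⊔ (((P : Subgroup G) ⊓
          Subgroup.normalizer (T : Set G)) ⊓
          (⨆ l : Subgroup.normalizer (T : Set G),
            cj (l : G) (W ⊓ Subgroup.normalizer (T : Set G)))) : Subgroup G) : Set G) := by
        apply mem_normalizer_of_cj_eq
        rw [cj_sup, cj_eq_of_mem_normalizer hyL, cj_eq_of_mem_normalizer hyN]
      have hlt : T < T ⊔ (((P : Subgroup G) ⊓ Subgroup.normalizer (T : Set G)) ⊓
          (⨆ l : Subgroup.normalizer (T : Set G),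
            cj (l : G) (W ⊓ Subgroup.normalizer (T : Set G)))) := by
        refine lt_of_le_of_ne le_sup_left ?_
        intro e
        apply hWT
        apply le_of_inf_normalizer_le P.isPGroup' hWP hTP (hTP.trans hPM)
        intro w hw
        have hw1 : w ∈ W := hw.1
        have hw2 : w ∈ Subgroup.normalizer (T : Set G) := hw.2
        rw [e]
        exact Subgroup.mem_sup_right (Subgroup.mem_inf.mpr
          ⟨Subgroup.mem_inf.mpr ⟨hWP hw1, hw2⟩, hWL hw⟩)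
      have hcardlt := natCard_lt_of_lt hlt
      have hch := alperin_goldschmidt_chain P (sylFamily p (P : Subgroup G)) (fun U hU => hU.1)
        (sylFamily_criterion P) _ _ hThatP rfl y
        (by rw [cj_eq_of_mem_normalizer (inv_mem hyThat)]; exact hThatP)
      have hSt : ∀ T' ∈ sylFamily p (P : Subgroup G), Nat.card T + 1 ≤ Nat.card T' →
          ∀ x ∈ Subgroup.normalizer (T' : Set G), ∃ c ∈ Subgroup.centralizer (T' : Set G),
            ∃ h ∈ Subgroup.normalizer (W : Set G), x = c * h := by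
        intro T' hT' hcard
        have h1 : Nat.card T' ≤ Nat.card P := Subgroup.card_le_of_le hT'.1
        exact ih (Nat.card P - Nat.card T') (by omega) T' hT' rfl
      obtain ⟨c', hc', h, hh, rfl⟩ := chain_split _ _ _ hSt _ _ hch
        (by rw [← Nat.card_coe_set_eq]; exact hcardlt)
      refine ⟨c * c', Subgroup.mul_mem _ hcT
        (Subgroup.centralizer_le (SetLike.coe_subset_coe.mpr hlt.le) hc'), h, hh, by group⟩

end Lift

end Cfsg.Agent.Lib.Helper1
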