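import Mathlib
import Cfsg.Agent.Lib.Helper1.CyclicNormal1
import Cfsg.Agent.Lib.Helper3.PSolvable
import Cfsg.Agent.Lib.Helper3.BurnsideFrattini
import Cfsg.Agent.Lib.Helper14.FrattiniQuot
import Cfsg.Agent.Lib.Helper11.QuadFree2

/-!
# Cyclic subgroups normalized by `O_p(G)` lie in `O_p(G)` (helper1)

`G` `p`-soluble with `O_{p'}(G) = 1`, `A` a cyclic `p`-subgroup normalized by `O_p(G)`; if `p` is odd
or `G` is `S₄`-free then `A ≤ O_p(G)`.
-/

set_option autoImplicit false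

namespace Cfsg.Agent.Lib.Helper1.CyclicNormal

open Subgroup
open scoped commutatorElement

variable {G : Type*} [Group G] [Finite G] {p : ℕ} [hp : Fact p.Prime]

open Cfsg.Agent.Lib.Helper3 in
theorem le_pCore_of_cyclic (hsep : Cfsg.IsPSolvable p G) (hO' : Cfsg.pPrimeCore p G = ⊥)
    (A : Subgroup G) (hAp : IsPGroup p A) (hA : IsCyclic A)
    (hQA : Cfsg.pCore p G ≤ normalizer (A : Set G))
    (h : p ≠ 2 ∨ ¬ Cfsg.Involves (Equiv.Perm (Fin 4)) G) : A ≤ Cfsg.pCore p G := by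
  have hpp : p.Prime := hp.out
  by_contra hAQ
  obtain ⟨Q, hQ⟩ : ∃ Q : Subgroup G, Q = Cfsg.pCore p G := ⟨_, rfl⟩
  rw [← hQ] at hAQ hQA
  haveI hQn : Q.Normal := by rw [hQ]; exact Cfsg.Agent.Lib.Helper2.pCore_normal p
  have hQp : IsPGroup p Q := by rw [hQ]; exact Cfsg.Agent.Lib.Helper2.pCore_isPGroup p
  have hCQ : centralizer (Q : Set G) ≤ Q := by rw [hQ]; exact centralizer_pCore_le hsep hO'
  have hleQ : ∀ N : Subgroup G, N.Normal → IsPGroup p N → N ≤ Q := by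
    intro N hN hNp; rw [hQ]; exact Cfsg.Agent.Lib.Helper2.le_pCore hN hNp
  -- the element `a`
  obtain ⟨a₀, ha₀A, ha₀Q⟩ := SetLike.not_le_iff_exists.mp hAQ
  have hex : ∃ k : ℕ, a₀ ^ p ^ k ∈ Q := by
    obtain ⟨k, hk⟩ := hAp ⟨a₀, ha₀A⟩
    refine ⟨k, ?_⟩
    have := congrArg Subtype.val hk
    rw [Subgroup.coe_pow, Subgroup.coe_one] at this
    rw [this]; exact Q.one_mem
  classical
  obtain ⟨a, haA, haQ, hap⟩ : ∃ a ∈ A, a ∉ Q ∧ a ^ p ∈ Q := by
    have hk0 : Nat.find hex ≠ 0 := by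
      intro h0
      have := Nat.find_spec hex
      rw [h0, pow_zero, pow_one] at this
      exact ha₀Q this
    obtain ⟨k, hk⟩ := Nat.exists_eq_succ_of_ne_zero hk0
    refine ⟨a₀ ^ p ^ k, A.pow_mem ha₀A _, ?_, ?_⟩
    · exact Nat.find_min hex (by rw [hk]; exact Nat.lt_succ_self k)
    · have := Nat.find_spec hex
      rw [hk, pow_succ, pow_mul] at this
      exact this
  -- the Frattini quotient
  obtain ⟨N, hN⟩ : ∃ N : Subgroup G, N = (frattini ↥Q).map Q.subtype := ⟨_, rfl⟩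
  haveI hNn : N.Normal := by rw [hN]; exact ConjAct.normal_of_characteristic_of_normal
  have hNQ : N ≤ Q := by rw [hN]; exact Subgroup.map_subtype_le _
  have hcommN : ⁅Q, Q⁆ ≤ N := by
    have h1 := Cfsg.Agent.Lib.Helper14.commutator_le_frattini_of_isPGroup' hQp
    have h2 : ⁅Q, Q⁆ = (commutator ↥Q).map Q.subtype := by
      rw [commutator_def, Subgroup.map_commutator, ← MonoidHom.range_eq_map,
        Subgroup.range_subtype]
    rw [h2, hN]
    exact Subgroup.map_mono h1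
  have hexpN : ∀ x ∈ Q, x ^ p ∈ N := by
    intro x hx
    rw [hN]
    exact ⟨⟨x, hx⟩ ^ p, Cfsg.Agent.Lib.Helper14.pow_mem_frattini_of_isPGroup' hQp ⟨x, hx⟩, rfl⟩
  obtain ⟨π, hπ⟩ : ∃ π : G →* G ⧸ N, π = QuotientGroup.mk' N := ⟨_, rfl⟩
  have hπs : Function.Surjective π := by rw [hπ]; exact QuotientGroup.mk'_surjective N
  have hπ1 : ∀ g : G, π g = 1 ↔ g ∈ N := by
    intro g; rw [hπ, QuotientGroup.mk'_apply, QuotientGroup.eq_one_iff]
  have hπQ : ∀ g : G, π g ∈ Q.map π → g ∈ Q := by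
    rintro g ⟨q, hq, hqg⟩
    have h1 : π (q⁻¹ * g) = 1 := by rw [map_mul, map_inv, hqg, inv_mul_cancel]
    have h2 : q⁻¹ * g ∈ Q := hNQ ((hπ1 _).mp h1)
    have : g = q * (q⁻¹ * g) := by group
    rw [this]
    exact Q.mul_mem hq h2
  obtain ⟨V, hVdef⟩ : ∃ V : Subgroup (G ⧸ N), V = Q.map π := ⟨_, rfl⟩
  haveI hVn : V.Normal := by rw [hVdef]; exact hQn.map π hπs
  have hVab : V ≤ centralizer (V : Set (G ⧸ N)) := by
    rw [hVdef]
    rintro _ ⟨x, hx, rfl⟩
    rw [Subgroup.mem_centralizer_iff]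
    rintro _ ⟨y, hy, rfl⟩
    have h1 : π (⁅y, x⁆) = 1 := by
      rw [hπ1]
      exact hcommN (Subgroup.commutator_mem_commutator hy hx)
    rw [commutatorElement_def, map_mul, map_mul, map_mul, map_inv, map_inv] at h1
    calc π y * π x = (π y * π x * (π y)⁻¹ * (π x)⁻¹) * (π x * π y) := by group
      _ = π x * π y := by rw [h1, one_mul]
  have hVexp : ∀ v ∈ V, v ^ p = 1 := by
    rw [hVdef]
    rintro _ ⟨x, hx, rfl⟩
    rw [← map_pow, hπ1]
    exact hexpN x hx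
  have hV : Cfsg.IsElementaryAbelian p V := Cfsg.Agent.Lib.Helper17.ea_iff.mpr ⟨hVab, hVexp⟩
  -- the centralizer of `V`
  obtain ⟨C, hC⟩ : ∃ C : Subgroup G, C = (centralizer (V : Set (G ⧸ N))).comap π := ⟨_, rfl⟩
  haveI hCn : C.Normal := by
    rw [hC]
    exact (Subgroup.normal_centralizer (H := V)).comap π
  have hCp : IsPGroup p C := by
    rintro ⟨g, hg⟩
    rw [hC, Subgroup.mem_comap, Subgroup.mem_centralizer_iff] at hg
    have hα : (MulAut.conjNormal g : MulAut Q) ∈ trivOnFrattiniQuot ↥Q := by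
      intro x
      have h1 : π (g * x * g⁻¹ * (x : G)⁻¹) = 1 := by
        have h2 := hg (π x) (by rw [hVdef]; exact ⟨x, x.2, rfl⟩)
        rw [map_mul, map_mul, map_mul, map_inv, map_inv, ← h2]
        group
      rw [hπ1, hN] at h1
      obtain ⟨y, hy, hyx⟩ := h1
      have : y = (MulAut.conjNormal g : MulAut Q) x * x⁻¹ := by
        apply Subtype.ext
        have hyx' : (y : G) = g * x * g⁻¹ * (x : G)⁻¹ := hyx
        rw [hyx']
        simp [MulAut.conjNormal_apply]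
      rw [← this]
      exact hy
    obtain ⟨j, hj⟩ := exists_pow_eq_one_of_trivOnFrattiniQuot hQp _ hα
    rw [← map_pow] at hj
    have hgc : g ^ p ^ j ∈ centralizer (Q : Set G) := by
      rw [mem_centralizer_iff]
      intro x hx
      have := congrArg (fun β : MulAut Q => ((β ⟨x, hx⟩ : Q) : G)) hj
      simp only [MulAut.conjNormal_apply, MulAut.one_apply] at this
      have h2 : g ^ p ^ j * x = x * g ^ p ^ j := by
        have := congrArg (· * g ^ p ^ j) this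
        simpa using this
      exact h2.symm
    obtain ⟨k, hk⟩ := hQp ⟨g ^ p ^ j, hCQ hgc⟩
    refine ⟨j + k, ?_⟩
    apply Subtype.ext
    have := congrArg Subtype.val hk
    rw [Subgroup.coe_pow, Subgroup.coe_one] at this
    rw [Subgroup.coe_pow, Subgroup.coe_one, pow_add, pow_mul]
    exact this
  have hCQ' : C ≤ Q := hleQ C hCn hCp
  have hCV : centralizer (V : Set (G ⧸ N)) ≤ V := by
    intro y hy
    obtain ⟨g, rfl⟩ := hπs y
    have hgC : g ∈ C := by rw [hC]; exact hy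
    rw [hVdef]
    exact ⟨g, hCQ' hgC, rfl⟩
  -- `O_p` of the quotient
  have hO : Cfsg.pCore p ((G ⧸ N) ⧸ centralizer (V : Set (G ⧸ N))) = ⊥ := by
    obtain ⟨π₂, hπ₂⟩ : ∃ π₂ : (G ⧸ N) →* (G ⧸ N) ⧸ centralizer (V : Set (G ⧸ N)),
      π₂ = QuotientGroup.mk' _ := ⟨_, rfl⟩
    have hπ₂s : Function.Surjective π₂ := by rw [hπ₂]; exact QuotientGroup.mk'_surjective _
    have hπ₂1 : ∀ y : G ⧸ N, π₂ y = 1 ↔ y ∈ centralizer (V : Set (G ⧸ N)) := by
      intro y; rw [hπ₂, QuotientGroup.mk'_apply, QuotientGroup.eq_one_iff]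
    obtain ⟨D, hD⟩ : ∃ D : Subgroup G,
      D = ((Cfsg.pCore p ((G ⧸ N) ⧸ centralizer (V : Set (G ⧸ N)))).comap π₂).comap π := ⟨_, rfl⟩
    haveI hDn : D.Normal := by
      rw [hD]
      exact ((Cfsg.Agent.Lib.Helper2.pCore_normal p).comap π₂).comap π
    have hDp : IsPGroup p D := by
      rintro ⟨g, hg⟩
      rw [hD, Subgroup.mem_comap, Subgroup.mem_comap] at hg
      obtain ⟨k, hk⟩ := (Cfsg.Agent.Lib.Helper2.pCore_isPGroup p) ⟨π₂ (π g), hg⟩
      have hk' := congrArg Subtype.val hk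
      rw [Subgroup.coe_pow, Subgroup.coe_one] at hk'
      change π₂ (π g) ^ p ^ k = 1 at hk'
      rw [← map_pow, ← map_pow, hπ₂1] at hk'
      have hgC : g ^ p ^ k ∈ C := by rw [hC]; exact hk'
      obtain ⟨j, hj⟩ := hCp ⟨g ^ p ^ k, hgC⟩
      refine ⟨k + j, ?_⟩
      apply Subtype.ext
      have := congrArg Subtype.val hj
      rw [Subgroup.coe_pow, Subgroup.coe_one] at this
      rw [Subgroup.coe_pow, Subgroup.coe_one, pow_add, pow_mul]
      exact this
    have hDQ : D ≤ Q := hleQ D hDn hDp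
    rw [eq_bot_iff]
    intro y hy
    obtain ⟨y', rfl⟩ := hπ₂s y
    obtain ⟨g, rfl⟩ := hπs y'
    have hgD : g ∈ D := by rw [hD]; exact hy
    rw [Subgroup.mem_bot, hπ₂1]
    apply hVab
    rw [hVdef]
    exact ⟨g, hDQ hgD, rfl⟩
  have hsep' : Cfsg.IsPSolvable p (G ⧸ N) := isPSolvable_quotient hpp hsep N
  have h' : p ≠ 2 ∨ ¬ Cfsg.Involves (Equiv.Perm (Fin 4)) (G ⧸ N) := by
    rcases h with h | h
    · exact Or.inl h
    · right
      intro hinv
      exact h (Cfsg.Agent.Lib.Helper11.QuadFree.involves_of_surjective_hom π hπs hinv)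
  have hAc : IsCyclic ↥(A.map π) := by
    haveI := hA
    exact isCyclic_of_surjective (π.subgroupMap A) (π.subgroupMap_surjective A)
  have hcomm : ⁅V, zpowers (π a)⁆ ≤ A.map π := by
    rw [hVdef, ← MonoidHom.map_zpowers, ← Subgroup.map_commutator]
    apply Subgroup.map_mono
    rw [Subgroup.commutator_le]
    intro q hq y hy
    have hyA : y ∈ A := (zpowers_le.mpr haA) hy
    rw [commutatorElement_def]
    exact A.mul_mem ((Subgroup.mem_normalizer_iff.mp (hQA hq) y).mp hyA) (A.inv_mem hyA)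
  refine core_V hsep' V hV hCV hO h' (A.map π) hAc (π a) ⟨a, haA, rfl⟩ ?_ ?_ hcomm
  · intro hcon
    rw [hVdef] at hcon
    exact haQ (hπQ a hcon)
  · rw [← map_pow, hVdef]
    exact ⟨a ^ p, hap, rfl⟩

end Cfsg.Agent.Lib.Helper1.CyclicNormal
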