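import Mathlib

set_option autoImplicit false

namespace Cfsg.Agent.Lib.Helper1

open MulAction

section

/-- Burnside's lemma in `Nat.card` form. -/
theorem burnside_natCard (G Ω : Type*) [Group G] [Fintype G] [MulAction G Ω] [Finite Ω] :
    ∑ g : G, Nat.card (fixedBy Ω g) = Nat.card (orbitRel.Quotient G Ω) * Nat.card G := by
  classical
  have := Fintype.ofFinite Ω
  have : ∀ g : G, Fintype (fixedBy Ω g) := fun g => Fintype.ofFinite _
  have : Fintype (orbitRel.Quotient G Ω) := Fintype.ofFinite _
  have h := MulAction.sum_card_fixedBy_eq_card_orbits_mul_card_group G Ω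
  simp only [Nat.card_eq_fintype_card]
  convert h

/-- The subgroup generated by the derangements. -/
def derSub (G Ω : Type*) [Group G] [MulAction G Ω] : Subgroup G :=
  Subgroup.closure {g : G | ∀ ω : Ω, g • ω ≠ ω}

theorem one_le_fix_of_not_mem {G Ω : Type*} [Group G] [MulAction G Ω] [Finite Ω] (g : G) (hg : g ∉ derSub G Ω) : 1 ≤ Nat.card (fixedBy Ω g) := by
  have hnd : ¬ ∀ ω : Ω, g • ω ≠ ω := fun h => hg (Subgroup.subset_closure h)
  push Not at hnd
  obtain ⟨ω, hω⟩ := hnd
  have : Nonempty (fixedBy Ω g) := ⟨⟨ω, hω⟩⟩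
  exact Nat.card_pos

theorem fixedBy_subgroup {G Ω : Type*} [Group G] [MulAction G Ω] (D : Subgroup G) (d : D) :
    fixedBy Ω d = fixedBy Ω (d : G) := rfl

/-- Splitting a sum over `G` into the part over a subgroup `D` and the rest. -/
theorem sum_split {G : Type*} [Group G] [Fintype G] (D : Subgroup G) [DecidablePred (· ∈ D)] [Fintype D] (f : G → ℕ) :
    ∑ g : G, f g = ∑ d : D, f d + ∑ g ∈ Finset.univ.filter (fun g => g ∉ D), f g := by
  rw [← Finset.sum_filter_add_sum_filter_not Finset.univ (fun g => g ∈ D) f]
  congr 1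
  exact Finset.sum_subtype (Finset.univ.filter (fun g => g ∈ D)) (by simp) f

theorem card_compl {G : Type*} [Group G] [Fintype G] (D : Subgroup G) [DecidablePred (· ∈ D)] :
    (Finset.univ.filter (fun g => g ∉ D)).card + Nat.card D = Nat.card G := by
  classical
  have h := Finset.card_filter_add_card_filter_not (s := (Finset.univ : Finset G)) (fun g => g ∈ D)
  rw [Finset.card_univ] at h
  have hD : (Finset.univ.filter (fun g => g ∈ D)).card = Nat.card D := by
    rw [Nat.card_eq_fintype_card, Fintype.card_subtype]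
  rw [Nat.card_eq_fintype_card (α := G), ← h, hD, add_comm]

/-- Main counting fact: if `G` is transitive on the nonempty finite set `Ω` then the subgroup
generated by derangements has exactly one orbit, and every element outside it has exactly one
fixed point. -/
theorem derSub_main {G Ω : Type*} [Group G] [Finite G] [MulAction G Ω] [Finite Ω] [Nonempty Ω] (htrans : IsPretransitive G Ω) :
    Nat.card (orbitRel.Quotient (derSub G Ω) Ω) = 1 ∧
      ∀ g : G, g ∉ derSub G Ω → Nat.card (fixedBy Ω g) = 1 := by
  classical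
  have := Fintype.ofFinite G
  set D := derSub G Ω with hD
  have hG1 : Nat.card (orbitRel.Quotient G Ω) = 1 := by
    have : Subsingleton (orbitRel.Quotient G Ω) :=
      (pretransitive_iff_subsingleton_quotient G Ω).mp htrans
    have : Nonempty (orbitRel.Quotient G Ω) := ⟨Quotient.mk'' (Classical.arbitrary Ω)⟩
    exact Nat.card_unique
  have hB := burnside_natCard G Ω
  rw [hG1, one_mul] at hB
  have hBD := burnside_natCard D Ω
  have hsplit := sum_split D (fun g => Nat.card (fixedBy Ω g))
  have hcompl := card_compl D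
  have hk : 1 ≤ Nat.card (orbitRel.Quotient D Ω) := by
    have : Nonempty (orbitRel.Quotient D Ω) := ⟨Quotient.mk'' (Classical.arbitrary Ω)⟩
    exact Nat.card_pos
  have hge : (Finset.univ.filter (fun g => g ∉ D)).card ≤
      ∑ g ∈ Finset.univ.filter (fun g => g ∉ D), Nat.card (fixedBy Ω g) := by
    rw [Finset.card_eq_sum_ones]
    apply Finset.sum_le_sum
    intro g hg
    exact one_le_fix_of_not_mem g (Finset.mem_filter.mp hg).2
  have hDpos : 0 < Nat.card D := Nat.card_pos
  have hsumD : ∑ d : D, Nat.card (fixedBy Ω (d : G)) =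
      Nat.card (orbitRel.Quotient D Ω) * Nat.card D := hBD
  -- combine
  have hk1 : Nat.card (orbitRel.Quotient D Ω) = 1 := by
    have h1 : Nat.card (orbitRel.Quotient D Ω) * Nat.card D ≤ Nat.card D := by
      have := hsplit
      rw [hsumD, hB] at this
      omega
    have : Nat.card (orbitRel.Quotient D Ω) ≤ 1 := by
      by_contra hcon
      push Not at hcon
      have : 2 * Nat.card D ≤ Nat.card (orbitRel.Quotient D Ω) * Nat.card D :=
        Nat.mul_le_mul_right _ hcon
      omega
    omega
  refine ⟨hk1, ?_⟩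
  have heq : ∑ g ∈ Finset.univ.filter (fun g => g ∉ D), Nat.card (fixedBy Ω g) =
      ∑ g ∈ Finset.univ.filter (fun g => g ∉ D), 1 := by
    have := hsplit
    rw [hsumD, hB, hk1, one_mul] at this
    rw [← Finset.card_eq_sum_ones]
    omega
  have hall := (Finset.sum_eq_sum_iff_of_le (s := Finset.univ.filter (fun g => g ∉ D))
    (f := fun _ => 1) (g := fun g => Nat.card (fixedBy Ω g))
    (fun g hg => one_le_fix_of_not_mem g (Finset.mem_filter.mp hg).2)).mp heq.symm
  intro g hg
  exact (hall g (Finset.mem_filter.mpr ⟨Finset.mem_univ _, hg⟩)).symm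

end

end Cfsg.Agent.Lib.Helper1
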