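import Mathlib
import Cfsg.Agent.Lib.Helper1.Derangement

set_option autoImplicit false

namespace Cfsg.Agent.Lib.Helper1

open MulAction

theorem derSub_normal (G Ω : Type*) [Group G] [MulAction G Ω] : (derSub G Ω).Normal := by
  constructor
  intro n hn g
  unfold derSub at hn ⊢
  induction hn using Subgroup.closure_induction with
  | mem x hx =>
    apply Subgroup.subset_closure
    intro ω h
    apply hx (g⁻¹ • ω)
    have e : g⁻¹ • ((g * x * g⁻¹) • ω) = x • g⁻¹ • ω := by
      rw [mul_smul, mul_smul, inv_smul_smul]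
    rw [← e, h]
  | one => simp
  | mul x y _ _ hx hy =>
    have : g * (x * y) * g⁻¹ = (g * x * g⁻¹) * (g * y * g⁻¹) := by group
    rw [this]; exact mul_mem hx hy
  | inv x _ hx =>
    have : g * x⁻¹ * g⁻¹ = (g * x * g⁻¹)⁻¹ := by group
    rw [this]; exact inv_mem hx

section

variable {G Ω : Type*} [Group G] [Finite G] [MulAction G Ω] [Finite Ω]

omit [Finite G] [Finite Ω] in
/-- If the derangement subgroup is transitive, it supplements every point stabilizer. -/
theorem derSub_sup_stabilizer (hD : IsPretransitive (derSub G Ω) Ω) (ω : Ω) :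
    stabilizer G ω ⊔ derSub G Ω = ⊤ := by
  rw [eq_top_iff]
  intro g _
  obtain ⟨d, hd⟩ := hD.exists_smul_eq ω (g • ω)
  have hmem : (d : G)⁻¹ * g ∈ stabilizer G ω := by
    rw [mem_stabilizer_iff, mul_smul]
    have : (d : G) • ω = g • ω := hd
    rw [← this, inv_smul_smul]
  have : g = ((d : G)⁻¹ * g) * (((d : G)⁻¹ * g)⁻¹ * (d : G) * ((d : G)⁻¹ * g)) := by group
  rw [this]
  refine Subgroup.mul_mem_sup hmem ?_
  have hn := derSub_normal G Ω
  have := hn.conj_mem (d : G) d.2 (((d : G)⁻¹ * g)⁻¹)
  simpa using this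

/-- An element fixing two distinct points lies in the derangement subgroup. -/
theorem mem_derSub_of_two_fixed [Nonempty Ω] (htrans : IsPretransitive G Ω) (g : G) (ω x : Ω)
    (hne : x ≠ ω) (h1 : g • ω = ω) (h2 : g • x = x) : g ∈ derSub G Ω := by
  by_contra hcon
  have h := (derSub_main (G := G) (Ω := Ω) htrans).2 g hcon
  have hnt : Nontrivial (fixedBy Ω g) := ⟨⟨⟨x, h2⟩, ⟨ω, h1⟩, fun he => hne (congrArg Subtype.val he)⟩⟩
  have := Finite.one_lt_card (α := fixedBy Ω g)
  omega

/-- The index of the derangement subgroup equals its relative index in a point stabilizer. -/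
theorem derSub_index_eq_relIndex [Nonempty Ω] (htrans : IsPretransitive G Ω) (ω : Ω) :
    (derSub G Ω).relIndex (stabilizer G ω) = (derSub G Ω).index := by
  have hn := derSub_normal G Ω
  have hD : IsPretransitive (derSub G Ω) Ω := by
    rw [pretransitive_iff_subsingleton_quotient]
    exact (Finite.card_le_one_iff_subsingleton).mp
      (le_of_eq (derSub_main (G := G) (Ω := Ω) htrans).1)
  rw [← Subgroup.relIndex_sup_right (stabilizer G ω) (derSub G Ω), derSub_sup_stabilizer hD ω,
    Subgroup.relIndex_top_right]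

/-- The size of every orbit of a point stabilizer, other than the fixed point itself, is divisible
by the index of the derangement subgroup. -/
theorem derSub_index_dvd_orbit [Nonempty Ω] (htrans : IsPretransitive G Ω) (ω x : Ω) (hne : x ≠ ω) :
    (derSub G Ω).index ∣ Nat.card (orbit (stabilizer G ω) x) := by
  rw [← derSub_index_eq_relIndex htrans ω]
  have h1 : Nat.card (orbit (stabilizer G ω) x) = (stabilizer (stabilizer G ω) x).index := by
    rw [index_stabilizer, Nat.card_coe_set_eq]
  rw [h1]
  apply Subgroup.index_dvd_of_le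
  intro h hh
  rw [Subgroup.mem_subgroupOf]
  exact mem_derSub_of_two_fixed htrans (h : G) ω x hne h.2 hh

end

end Cfsg.Agent.Lib.Helper1
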