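import Mathlib
import Cfsg.Agent.Lib.Helper1.Derangement

set_option autoImplicit false

namespace Cfsg.Agent.Lib.Helper1

open MulAction

/-- Fixed points on pairs. -/
theorem card_fixedBy_prod {G Ω : Type*} [Group G] [MulAction G Ω] (g : G) :
    Nat.card (fixedBy (Ω × Ω) g) = Nat.card (fixedBy Ω g) ^ 2 := by
  rw [sq, ← Nat.card_prod]
  refine Nat.card_congr
    { toFun := fun x => (⟨x.1.1, congrArg Prod.fst x.2⟩, ⟨x.1.2, congrArg Prod.snd x.2⟩)
      invFun := fun y => ⟨(y.1.1, y.2.1), Prod.ext y.1.2 y.2.2⟩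
      left_inv := fun x => rfl
      right_inv := fun y => rfl }

/-- The rank identity `r_G |G| = r_D |D| + |G| - |D|`, in additive form. -/
theorem rank_identity {G Ω : Type*} [Group G] [Finite G] [MulAction G Ω] [Finite Ω] [Nonempty Ω]
    (htrans : IsPretransitive G Ω) :
    Nat.card (orbitRel.Quotient G (Ω × Ω)) * Nat.card G + Nat.card (derSub G Ω) =
      Nat.card (orbitRel.Quotient (derSub G Ω) (Ω × Ω)) * Nat.card (derSub G Ω) + Nat.card G := by
  classical
  have := Fintype.ofFinite G
  obtain ⟨-, h2⟩ := derSub_main (G := G) (Ω := Ω) htrans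
  set D := derSub G Ω with hD
  have hB := burnside_natCard G (Ω × Ω)
  have hBD := burnside_natCard D (Ω × Ω)
  have hsplit := sum_split D (fun g => Nat.card (fixedBy (Ω × Ω) g))
  have hcompl := card_compl D
  have hrest : ∑ g ∈ Finset.univ.filter (fun g => g ∉ D), Nat.card (fixedBy (Ω × Ω) g) =
      (Finset.univ.filter (fun g => g ∉ D)).card := by
    rw [Finset.card_eq_sum_ones]
    apply Finset.sum_congr rfl
    intro g hg
    rw [card_fixedBy_prod, h2 g (Finset.mem_filter.mp hg).2, one_pow]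
  have hsumD : ∑ d : D, Nat.card (fixedBy (Ω × Ω) (d : G)) =
      Nat.card (orbitRel.Quotient D (Ω × Ω)) * Nat.card D := hBD
  rw [hB, hsumD, hrest] at hsplit
  omega

end Cfsg.Agent.Lib.Helper1
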