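import Cfsg.Agent.S0805

/-!
dickson-hub (G7): a subgroup `H` of `SL₂(F)` containing `SL₂(K)` and contained in
`SL₂(K) * {diag(a, a⁻¹) | a² ∈ K}` has image in `PSL₂(F)` isomorphic to `PSL₂(K)` or `PGL₂(K)`
(helper1, for helper12).
-/

set_option autoImplicit false

namespace Cfsg.Agent.Lib.Helper1.DkIso

open Cfsg.Agent.Lib.Helper12 Cfsg.Agent.Lib.Helper12.SL2 Cfsg.Agent.S0805 Cfsg.Agent.S0807
open Cfsg.Agent.Lib.Helper12.Quat

variable {F K : Type*} [Field F] [Field K]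

local notation "SL2" => Matrix.SpecialLinearGroup (Fin 2)
local notation "GL2" => Matrix.GeneralLinearGroup (Fin 2)
local notation "PSL2" => Matrix.ProjectiveSpecialLinearGroup (Fin 2)
local notation "PGL2" => Matrix.ProjGenLinGroup (Fin 2)

theorem caseA (ι : K →+* F) (H : Subgroup (SL2 F))
    (hS : ∀ s : SL2 K, Matrix.SpecialLinearGroup.map ι s ∈ H)
    (hA : ∀ g ∈ H, ∃ s : SL2 K, Matrix.SpecialLinearGroup.map ι s = g) :
    Nonempty (H.map (QuotientGroup.mk' (Subgroup.center (SL2 F))) ≃* PSL2 K) := by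
  have hr : H.map (QuotientGroup.mk' (Subgroup.center (SL2 F))) = (pslMap ι).range := by
    ext x
    constructor
    · rintro ⟨g, hg, rfl⟩
      obtain ⟨s, rfl⟩ := hA g hg
      exact ⟨QuotientGroup.mk s, rfl⟩
    · rintro ⟨y, rfl⟩
      obtain ⟨s, rfl⟩ := QuotientGroup.mk_surjective y
      exact ⟨Matrix.SpecialLinearGroup.map ι s, hS s, rfl⟩
  exact ⟨(MulEquiv.subgroupCongr hr).trans (MonoidHom.ofInjective (pslMap_injective ι)).symm⟩

theorem map_dg (ι : K →+* F) (d : K) (hd : d ≠ 0) (hd' : ι d ≠ 0) :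
    Matrix.SpecialLinearGroup.map ι (dg d hd) = dg (ι d) hd' := by
  apply SL2.ext4 <;> simp [slmap_apply, dg, map_inv₀]

theorem two_ne_zero_of [Finite K] (ι : K →+* F) (a0 : F) (c0 : K) (h : a0 ^ 2 = ι c0)
    (hn : a0 ∉ ι.range) : (2 : F) ≠ 0 := by
  intro h2
  have h2K : (2 : K) = 0 := by
    apply ι.injective
    rw [map_ofNat, h2, map_zero]
  have hinj : Function.Injective (fun x : K => x ^ 2) := by
    intro x y hxy
    have hxy' : x ^ 2 = y ^ 2 := hxy
    have : (x - y) ^ 2 = 0 := by linear_combination hxy' - (x * y - y ^ 2) * h2K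
    exact sub_eq_zero.mp (pow_eq_zero_iff (two_ne_zero) |>.mp this)
  obtain ⟨d, hd⟩ := (Finite.injective_iff_surjective.mp hinj) c0
  have hd' : d ^ 2 = c0 := hd
  apply hn
  refine ⟨d, ?_⟩
  have : (a0 - ι d) ^ 2 = 0 := by
    rw [← hd', map_pow] at h
    linear_combination h - (a0 * ι d - ι d ^ 2) * h2
  exact (sub_eq_zero.mp (pow_eq_zero_iff (two_ne_zero) |>.mp this)).symm

theorem not_isSquare_of (ι : K →+* F) (a0 : F) (c0 : K) (h : a0 ^ 2 = ι c0)
    (hn : a0 ∉ ι.range) : ¬ IsSquare c0 := by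
  rintro ⟨d, rfl⟩
  have : a0 * a0 = ι d * ι d := by rw [← map_mul, ← h, pow_two]
  rcases mul_self_eq_mul_self_iff.mp this with h1 | h1
  · exact hn ⟨d, h1.symm⟩
  · exact hn ⟨-d, by rw [map_neg, h1]⟩

theorem dich [Fintype K] (h2 : (2 : K) ≠ 0) (c0 : K) (hc : ¬ IsSquare c0) (x : K) (hx : x ≠ 0) :
    (∃ e : K, x = e ^ 2) ∨ (∃ e : K, x = c0 * e ^ 2) := by
  have hF : ringChar K ≠ 2 := by
    intro h
    apply h2
    have := ringChar.Nat.cast_ringChar (R := K)
    rw [h] at this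
    exact_mod_cast this
  have hc0 : c0 ≠ 0 := by
    rintro rfl
    exact hc ⟨0, by simp⟩
  by_cases hsq : IsSquare x
  · obtain ⟨e, he⟩ := hsq
    exact Or.inl ⟨e, by rw [he, pow_two]⟩
  · right
    rw [FiniteField.isSquare_iff hF hx] at hsq
    rw [FiniteField.isSquare_iff hF hc0] at hc
    have h1 := (FiniteField.pow_dichotomy hF hx).resolve_left hsq
    have h2' := (FiniteField.pow_dichotomy hF hc0).resolve_left hc
    have hq : IsSquare (x / c0) := by
      rw [FiniteField.isSquare_iff hF (div_ne_zero hx hc0), div_pow, h1, h2']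
      simp
    obtain ⟨e, he⟩ := hq
    refine ⟨e, ?_⟩
    rw [pow_two, ← he]
    field_simp

section B

variable (ι : K →+* F) (a0 : F) (c0 : K) (h0 : a0 ^ 2 = ι c0) (hn : a0 ∉ ι.range)

include h0 hn in
theorem root_cases [Fintype K] (s : F) (δ : K) (hδ : δ ≠ 0) (hs : s * s = ι δ) :
    (∃ e : K, e ≠ 0 ∧ e * e = δ ∧ s = ι e) ∨ (∃ e : K, e ≠ 0 ∧ c0 * (e * e) = δ ∧ s = a0 * ι e) := by
  have h2F : (2 : F) ≠ 0 := two_ne_zero_of ι a0 c0 h0 hn
  have h2K : (2 : K) ≠ 0 := by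
    intro h
    apply h2F
    rw [← map_ofNat ι 2, h, map_zero]
  rcases dich h2K c0 (not_isSquare_of ι a0 c0 h0 hn) δ hδ with ⟨e, he⟩ | ⟨e, he⟩
  · left
    have he0 : e ≠ 0 := by
      rintro rfl
      apply hδ; rw [he]; simp
    have : s * s = ι e * ι e := by rw [hs, he, pow_two, map_mul]
    rcases mul_self_eq_mul_self_iff.mp this with h1 | h1
    · exact ⟨e, he0, by rw [he, pow_two], h1⟩
    · exact ⟨-e, neg_ne_zero.mpr he0, by rw [he]; ring, by rw [map_neg, h1]⟩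
  · right
    have he0 : e ≠ 0 := by
      rintro rfl
      apply hδ; rw [he]; simp
    have : s * s = (a0 * ι e) * (a0 * ι e) := by
      rw [hs, he, map_mul, map_pow, ← h0]; ring
    rcases mul_self_eq_mul_self_iff.mp this with h1 | h1
    · exact ⟨e, he0, by rw [he, pow_two], h1⟩
    · exact ⟨-e, neg_ne_zero.mpr he0, by rw [he]; ring, by rw [map_neg, h1]; ring⟩

include h0 hn in
theorem hsq_of [Fintype K] (x : K) : IsSquare (ι x) := by
  by_cases hx : x = 0
  · exact ⟨0, by rw [hx]; simp⟩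
  have h2F : (2 : F) ≠ 0 := two_ne_zero_of ι a0 c0 h0 hn
  have h2K : (2 : K) ≠ 0 := by
    intro h
    apply h2F
    rw [← map_ofNat ι 2, h, map_zero]
  rcases dich h2K c0 (not_isSquare_of ι a0 c0 h0 hn) x hx with ⟨e, he⟩ | ⟨e, he⟩
  · exact ⟨ι e, by rw [he, pow_two, map_mul]⟩
  · exact ⟨a0 * ι e, by rw [he, map_mul, map_pow, ← h0]; ring⟩

include h0 hn in
theorem lft_mem [Fintype K] (H : Subgroup (SL2 F))
    (hS : ∀ s : SL2 K, Matrix.SpecialLinearGroup.map ι s ∈ H)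
    (ha0 : a0 ≠ 0) (hdg : dg a0 ha0 ∈ H) (g : GL2 K) (s : F)
    (hs : s * s = ι (g 0 0 * g 1 1 - g 0 1 * g 1 0)) : lft ι g s hs ∈ H := by
  have hc0 : c0 ≠ 0 := by
    rintro rfl
    rw [map_zero] at h0
    exact ha0 (pow_eq_zero_iff two_ne_zero |>.mp h0)
  rcases root_cases ι a0 c0 h0 hn s _ (ddet_ne g) hs with ⟨e, he0, hee, rfl⟩ | ⟨e, he0, hee, rfl⟩
  · have hdet : e⁻¹ * g 0 0 * (e⁻¹ * g 1 1) - e⁻¹ * g 0 1 * (e⁻¹ * g 1 0) = 1 := by
      field_simp
      linear_combination -hee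
    have : lft ι g (ι e) hs = Matrix.SpecialLinearGroup.map ι
        (SL2.mk (e⁻¹ * g 0 0) (e⁻¹ * g 0 1) (e⁻¹ * g 1 0) (e⁻¹ * g 1 1) hdet) := by
      apply SL2.ext4 <;> simp [slmap_apply, lft, map_inv₀]
    rw [this]
    exact hS _
  · have hdet : g 0 0 / (c0 * e) * (g 1 1 / e) - g 0 1 / e * (g 1 0 / (c0 * e)) = 1 := by
      field_simp
      linear_combination -hee
    have hιe : ι e ≠ 0 := by
      intro h
      apply he0
      apply ι.injective
      rw [h, map_zero]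
    have : lft ι g (a0 * ι e) hs = Matrix.SpecialLinearGroup.map ι
        (SL2.mk (g 0 0 / (c0 * e)) (g 0 1 / e) (g 1 0 / (c0 * e)) (g 1 1 / e) hdet) * dg a0 ha0 := by
      apply SL2.ext4
      · simp only [SL2.mul_apply', slmap_apply, lft, dg, SL2.mk_00, SL2.mk_01, SL2.mk_10,
          SL2.mk_11, map_div₀, map_mul, ← h0]
        field_simp
        ring
      · simp only [SL2.mul_apply', slmap_apply, lft, dg, SL2.mk_00, SL2.mk_01, SL2.mk_10,
          SL2.mk_11, map_div₀, map_mul, ← h0]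
        field_simp
        ring
      · simp only [SL2.mul_apply', slmap_apply, lft, dg, SL2.mk_00, SL2.mk_01, SL2.mk_10,
          SL2.mk_11, map_div₀, map_mul, ← h0]
        field_simp
        ring
      · simp only [SL2.mul_apply', slmap_apply, lft, dg, SL2.mk_00, SL2.mk_01, SL2.mk_10,
          SL2.mk_11, map_div₀, map_mul, ← h0]
        field_simp
        ring
    rw [this]
    exact H.mul_mem (hS _) hdg

end B

theorem caseB [Fintype K] (ι : K →+* F) (H : Subgroup (SL2 F))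
    (hS : ∀ s : SL2 K, Matrix.SpecialLinearGroup.map ι s ∈ H)
    (hdec : ∀ g ∈ H, ∃ (s : SL2 K) (a : F) (ha : a ≠ 0), a ^ 2 ∈ ι.range ∧
      g = Matrix.SpecialLinearGroup.map ι s * dg a ha)
    (a0 : F) (c0 : K) (h0 : a0 ^ 2 = ι c0) (hn : a0 ∉ ι.range) (ha0 : a0 ≠ 0)
    (hdg : dg a0 ha0 ∈ H) :
    Nonempty (H.map (QuotientGroup.mk' (Subgroup.center (SL2 F))) ≃* PGL2 K) := by
  have h2 : (2 : F) ≠ 0 := two_ne_zero_of ι a0 c0 h0 hn
  have hsq : ∀ x : K, IsSquare (ι x) := hsq_of ι a0 c0 h0 hn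
  have hf : (fhom ι hsq h2).comp (Matrix.GeneralLinearGroup.scalar (Fin 2)) = 1 := by
    ext u
    rw [MonoidHom.comp_apply, MonoidHom.one_apply, fhom_eq_one_iff,
      Matrix.GeneralLinearGroup.center_eq_range_scalar]
    exact ⟨u, rfl⟩
  let Φ : PGL2 K →* PSL2 F := Matrix.ProjGenLinGroup.lift (fhom ι hsq h2) hf
  have hΦ : Function.Injective Φ := by
    rw [injective_iff_map_eq_one]
    intro x hx
    induction x using Matrix.ProjGenLinGroup.induction_on with | mk g =>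
    rw [Matrix.ProjGenLinGroup.lift_mk, fhom_eq_one_iff] at hx
    rwa [Matrix.ProjGenLinGroup.mk_eq_one]
  have hr : H.map (QuotientGroup.mk' (Subgroup.center (SL2 F))) = Φ.range := by
    ext x
    constructor
    · rintro ⟨g, hg, rfl⟩
      obtain ⟨s, a, ha, ⟨x, hx⟩, rfl⟩ := hdec g hg
      -- the `SL₂(K)` part
      have hs1 : s 0 0 * s 1 1 - s 0 1 * s 1 0 ≠ 0 := by
        rw [SL2.det_eq]; exact one_ne_zero
      have e1 : (mkH (Matrix.SpecialLinearGroup.map ι s) : PSL2 F) =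
          fhom ι hsq h2 (GL2.mk (s 0 0) (s 0 1) (s 1 0) (s 1 1) hs1) := by
        have h11 : (1 : F) * 1 = ι ((GL2.mk (s 0 0) (s 0 1) (s 1 0) (s 1 1) hs1) 0 0 *
            (GL2.mk (s 0 0) (s 0 1) (s 1 0) (s 1 1) hs1) 1 1 -
            (GL2.mk (s 0 0) (s 0 1) (s 1 0) (s 1 1) hs1) 0 1 *
            (GL2.mk (s 0 0) (s 0 1) (s 1 0) (s 1 1) hs1) 1 0) := by
          simp only [GL2.mk_00, GL2.mk_01, GL2.mk_10, GL2.mk_11]
          rw [SL2.det_eq, map_one, one_mul]
        rw [fhom_apply, mkH_lft_congr ι h2 _ _ 1 (sq_spec ι hsq _) h11]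
        congr 1
        apply SL2.ext4 <;> simp [slmap_apply, lft]
      have hx0 : x * 1 - 0 * 0 ≠ 0 := by
        intro h
        have hx0 : x = 0 := by linear_combination h
        rw [hx0, map_zero] at hx
        exact ha (pow_eq_zero_iff two_ne_zero |>.mp hx.symm)
      have e2 : (mkH (dg a ha) : PSL2 F) = fhom ι hsq h2 (GL2.mk x 0 0 1 hx0) := by
        have haa : a * a = ι ((GL2.mk x 0 0 1 hx0) 0 0 * (GL2.mk x 0 0 1 hx0) 1 1 -
            (GL2.mk x 0 0 1 hx0) 0 1 * (GL2.mk x 0 0 1 hx0) 1 0) := by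
          simp only [GL2.mk_00, GL2.mk_01, GL2.mk_10, GL2.mk_11]
          rw [mul_one, mul_zero, sub_zero, hx, pow_two]
        rw [fhom_apply, mkH_lft_congr ι h2 _ _ a (sq_spec ι hsq _) haa]
        congr 1
        apply SL2.ext4
        · simp only [dg, lft, SL2.mk_00, GL2.mk_00, hx]; field_simp
        · simp [dg, lft]
        · simp [dg, lft]
        · simp [dg, lft]
      refine ⟨Matrix.ProjGenLinGroup.mk (GL2.mk (s 0 0) (s 0 1) (s 1 0) (s 1 1) hs1 *
        GL2.mk x 0 0 1 hx0), ?_⟩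
      show Φ _ = mkH (Matrix.SpecialLinearGroup.map ι s * dg a ha)
      rw [Matrix.ProjGenLinGroup.lift_mk, map_mul, map_mul, e1, e2]
    · rintro ⟨y, rfl⟩
      induction y using Matrix.ProjGenLinGroup.induction_on with | mk g =>
      rw [Matrix.ProjGenLinGroup.lift_mk, fhom_apply]
      exact ⟨_, lft_mem ι a0 c0 h0 hn H hS ha0 hdg g _ _, rfl⟩
  exact ⟨(MulEquiv.subgroupCongr hr).trans (MonoidHom.ofInjective hΦ).symm⟩

theorem iso_of_decomp {F K : Type*} [Field F] [Fintype F] [Field K] [Fintype K] (ι : K →+* F)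
    (H : Subgroup (SL2 F))
    (hS : ∀ s : SL2 K, Matrix.SpecialLinearGroup.map ι s ∈ H)
    (hdec : ∀ g ∈ H, ∃ (s : SL2 K) (a : F) (ha : a ≠ 0), a ^ 2 ∈ ι.range ∧
      g = Matrix.SpecialLinearGroup.map ι s * dg a ha) :
    Nonempty (H.map (QuotientGroup.mk' (Subgroup.center (SL2 F))) ≃* PSL2 K) ∨
      Nonempty (H.map (QuotientGroup.mk' (Subgroup.center (SL2 F))) ≃* PGL2 K) := by
  by_cases hA : ∀ g ∈ H, ∃ s : SL2 K, Matrix.SpecialLinearGroup.map ι s = g
  · exact Or.inl (caseA ι H hS hA)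
  · right
    push_neg at hA
    obtain ⟨g0, hg0, hne⟩ := hA
    obtain ⟨s0, a0, ha0, ⟨c0, hc0⟩, e0⟩ := hdec g0 hg0
    have hn : a0 ∉ ι.range := by
      rintro ⟨d, hd⟩
      have hd0 : d ≠ 0 := by
        rintro rfl
        rw [map_zero] at hd
        exact ha0 hd.symm
      apply hne (s0 * dg d hd0)
      have hd' : ι d ≠ 0 := by rw [hd]; exact ha0
      rw [map_mul, map_dg ι d hd0 hd', e0]
      congr 1
      subst hd
      rfl
    have hdg : dg a0 ha0 ∈ H := by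
      have : dg a0 ha0 = (Matrix.SpecialLinearGroup.map ι s0)⁻¹ * g0 := by
        rw [e0, inv_mul_cancel_left]
      rw [this]
      exact H.mul_mem (H.inv_mem (hS s0)) hg0
    exact caseB ι H hS hdec a0 c0 hc0.symm hn ha0 hdg

end Cfsg.Agent.Lib.Helper1.DkIso
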