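import Cfsg.Agent.Lib.Helper1.DkOrders

/-!
From the conclusion of Dickson's theorem (S0799) for a proper subgroup `H` of `PSL₂(q)`,
`q ∉ {2,3,5,7,9,11}`: the index of `H` is at least `q + 1` (helper1).
-/

set_option autoImplicit false

namespace Cfsg.Agent.Lib.Helper1.DkMinIndex

open Cfsg.Agent.Lib.Helper12 Cfsg.Agent.Lib.Helper12.SL2 Cfsg.Agent.S0805 Cfsg.Agent.S0807
open Cfsg.Agent.Lib.Helper1.DkOrders

local notation "SL2" => Matrix.SpecialLinearGroup (Fin 2)
local notation "PSL2" => Matrix.ProjectiveSpecialLinearGroup (Fin 2)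
local notation "PGL2" => Matrix.ProjGenLinGroup (Fin 2)

/-- the conclusion of Dickson's theorem (statement S0799) for a subgroup `H` -/
def Concl {F : Type*} [Field F] [Fintype F] (q p : ℕ) [Fact p.Prime]
    (H : Subgroup (PSL2 F)) : Prop :=
  (∃ k : ℕ, (k ∣ (q + 1) / Nat.gcd 2 (q - 1) ∨ k ∣ (q - 1) / Nat.gcd 2 (q - 1)) ∧
    ((IsCyclic H ∧ Nat.card H = k) ∨ Nonempty (H ≃* DihedralGroup k))) ∨
  (∃ (P : Sylow p (PSL2 F)) (K : Subgroup (PSL2 F)),
    K ≤ Subgroup.normalizer ((P : Subgroup (PSL2 F)) : Set (PSL2 F)) ∧ Nonempty (H ≃* K)) ∨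
  Nonempty (H ≃* alternatingGroup (Fin 4)) ∨ Nonempty (H ≃* Equiv.Perm (Fin 4)) ∨
  Nonempty (H ≃* alternatingGroup (Fin 5)) ∨
  (∃ (K : Type) (_ : Field K) (_ : Fintype K) (m : ℕ), Fintype.card K ^ m = q ∧
    (Nonempty (H ≃* PSL2 K) ∨ Nonempty (H ≃* PGL2 K)))

theorem card_A4 : Nat.card (alternatingGroup (Fin 4)) = 12 := by
  rw [nat_card_alternatingGroup]; simp [Nat.factorial]

theorem card_S4 : Nat.card (Equiv.Perm (Fin 4)) = 24 := by
  rw [Nat.card_perm]; simp [Nat.factorial]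

theorem card_A5 : Nat.card (alternatingGroup (Fin 5)) = 60 := by
  rw [nat_card_alternatingGroup]; simp [Nat.factorial]

theorem prime_unique_of_pow {p n q : ℕ} (hp : p.Prime) (hq : q = p ^ n) {r s : ℕ} (hr : r.Prime)
    (hs : s.Prime) (hrq : r ∣ q) (hsq : s ∣ q) : r = s := by
  rw [hq] at hrq hsq
  have h1 := (Nat.prime_dvd_prime_iff_eq hr hp).mp (hr.dvd_of_dvd_pow hrq)
  have h2 := (Nat.prime_dvd_prime_iff_eq hs hp).mp (hs.dvd_of_dvd_pow hsq)
  rw [h1, h2]

section

variable {F : Type*} [Field F] [Fintype F]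

theorem of_card_le {q : ℕ} (hF : Fintype.card F = q) (H : Subgroup (PSL2 F))
    (h : Nat.card H * Nat.gcd 2 (q - 1) ≤ q * (q - 1)) : q + 1 ≤ H.index := by
  have hN := card_PSL2_mul (F := F)
  rw [hF] at hN
  have h1 := H.card_mul_index
  by_contra hlt
  push_neg at hlt
  have hle : H.index ≤ q := by omega
  have hq : 2 ≤ q := by rw [← hF]; exact Fintype.one_lt_card
  have hlt' : Nat.card (PSL2 F) * Nat.gcd 2 (q - 1) ≤ q * (q - 1) * q := by
    rw [← h1]
    calc Nat.card H * H.index * Nat.gcd 2 (q - 1)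
        = Nat.card H * Nat.gcd 2 (q - 1) * H.index := by ring
      _ ≤ q * (q - 1) * q := Nat.mul_le_mul h hle
  rw [hN] at hlt'
  have hpos : 0 < q * (q - 1) := by
    apply Nat.mul_pos <;> omega
  have := Nat.le_of_mul_le_mul_left hlt' hpos
  omega

theorem gcd_le_two (q : ℕ) : Nat.gcd 2 (q - 1) ≤ 2 := Nat.le_of_dvd (by norm_num) (Nat.gcd_dvd_left _ _)

theorem gcd_pos' (q : ℕ) : 0 < Nat.gcd 2 (q - 1) := Nat.gcd_pos_of_pos_left _ (by norm_num)

theorem min_index {q : ℕ} (hF : Fintype.card F = q) (hq : q ∉ ({2, 3, 5, 7, 9, 11} : Finset ℕ))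
    (p : ℕ) [Fact p.Prime] [CharP F p] (H : Subgroup (PSL2 F)) (hH : H ≠ ⊤)
    (hc : Concl q p H) : q + 1 ≤ H.index := by
  have hq2 : 2 ≤ q := by rw [← hF]; exact Fintype.one_lt_card
  obtain ⟨n, hpp, hqn⟩ := FiniteField.card F p
  rw [hF] at hqn
  have huniq : ∀ {r s : ℕ}, r.Prime → s.Prime → r ∣ q → s ∣ q → r = s :=
    fun hr hs => prime_unique_of_pow hpp hqn hr hs
  simp only [Finset.mem_insert, Finset.mem_singleton, not_or] at hq
  obtain ⟨hq_2, hq_3, hq_5, hq_7, hq_9, hq_11⟩ := hq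
  have hq6 : q ≠ 6 := by
    rintro rfl
    exact absurd (huniq Nat.prime_two Nat.prime_three (by norm_num) (by norm_num)) (by norm_num)
  have hq10 : q ≠ 10 := by
    rintro rfl
    exact absurd (huniq Nat.prime_two Nat.prime_five (by norm_num) (by norm_num)) (by norm_num)
  have hq12 : q ≠ 12 := by
    rintro rfl
    exact absurd (huniq Nat.prime_two Nat.prime_three (by norm_num) (by norm_num)) (by norm_num)
  have hq4 : 4 ≤ q := by omega
  have hN := card_PSL2_mul (F := F)
  rw [hF] at hN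
  have hd2 := gcd_le_two q
  have hd0 := gcd_pos' q
  have hHcard : Nat.card H ≠ Nat.card (PSL2 F) := by
    intro h
    exact hH (Subgroup.card_eq_iff_eq_top H |>.mp h)
  have hHdvd : Nat.card H ∣ Nat.card (PSL2 F) := Subgroup.card_subgroup_dvd_card H
  rcases hc with ⟨k, hk, hkH⟩ | ⟨P, K, hK, e⟩ | e | e | e | ⟨K, iK, iF, m, hm, e⟩
  · -- cyclic or dihedral
    apply of_card_le hF
    have hkd : k * Nat.gcd 2 (q - 1) ≤ q + 1 := by
      rcases hk with hk | hk
      · have h1 : 0 < (q + 1) / Nat.gcd 2 (q - 1) := Nat.div_pos (by omega) hd0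
        calc k * Nat.gcd 2 (q - 1) ≤ (q + 1) / Nat.gcd 2 (q - 1) * Nat.gcd 2 (q - 1) :=
              Nat.mul_le_mul_right _ (Nat.le_of_dvd h1 hk)
          _ ≤ q + 1 := Nat.div_mul_le_self _ _
      · have h1 : 0 < (q - 1) / Nat.gcd 2 (q - 1) := Nat.div_pos (by omega) hd0
        calc k * Nat.gcd 2 (q - 1) ≤ (q - 1) / Nat.gcd 2 (q - 1) * Nat.gcd 2 (q - 1) :=
              Nat.mul_le_mul_right _ (Nat.le_of_dvd h1 hk)
          _ ≤ q - 1 := Nat.div_mul_le_self _ _
          _ ≤ q + 1 := by omega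
    have hHk : Nat.card H ≤ 2 * k := by
      rcases hkH with ⟨-, h⟩ | ⟨⟨e⟩⟩
      · omega
      · rw [Nat.card_congr e.toEquiv, DihedralGroup.nat_card]
    have h3 : 2 * (q + 1) ≤ q * (q - 1) := by
      obtain ⟨j, rfl⟩ : ∃ j, q = j + 4 := ⟨q - 4, by omega⟩
      have : j + 4 - 1 = j + 3 := by omega
      rw [this]; nlinarith
    calc Nat.card H * Nat.gcd 2 (q - 1) ≤ 2 * k * Nat.gcd 2 (q - 1) :=
          Nat.mul_le_mul_right _ hHk
      _ = 2 * (k * Nat.gcd 2 (q - 1)) := by ring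
      _ ≤ 2 * (q + 1) := Nat.mul_le_mul_left _ hkd
      _ ≤ q * (q - 1) := h3
  · -- Borel type
    rw [← hF]
    exact le_index_of_iso_le_normalizer p P H K hK e
  · -- A4
    obtain ⟨e⟩ := e
    have hc12 : Nat.card H = 12 := by rw [Nat.card_congr e.toEquiv, card_A4]
    apply of_card_le hF
    rw [hc12]
    rcases (by omega : q = 4 ∨ q = 8 ∨ 13 ≤ q) with rfl | rfl | h13
    · norm_num
    · norm_num
    · obtain ⟨j, rfl⟩ : ∃ j, q = j + 13 := ⟨q - 13, by omega⟩
      have : j + 13 - 1 = j + 12 := by omega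
      rw [this] at hd2 ⊢; nlinarith
  · -- S4
    obtain ⟨e⟩ := e
    have hc24 : Nat.card H = 24 := by rw [Nat.card_congr e.toEquiv, card_S4]
    apply of_card_le hF
    rw [hc24]
    rcases (by omega : q = 4 ∨ q = 8 ∨ 13 ≤ q) with rfl | rfl | h13
    · exfalso
      rw [hc24] at hHdvd
      have hN' : Nat.card (PSL2 F) = 60 := by
        have : Nat.gcd 2 (4 - 1) = 1 := by norm_num
        rw [this] at hN
        omega
      rw [hN'] at hHdvd
      norm_num at hHdvd
    · norm_num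
    · obtain ⟨j, rfl⟩ : ∃ j, q = j + 13 := ⟨q - 13, by omega⟩
      have : j + 13 - 1 = j + 12 := by omega
      rw [this] at hd2 ⊢; nlinarith
  · -- A5
    obtain ⟨e⟩ := e
    have hc60 : Nat.card H = 60 := by rw [Nat.card_congr e.toEquiv, card_A5]
    apply of_card_le hF
    rw [hc60]
    rcases (by omega : q = 4 ∨ q = 8 ∨ 13 ≤ q) with rfl | rfl | h13
    · exfalso
      apply hHcard
      have : Nat.gcd 2 (4 - 1) = 1 := by norm_num
      rw [this] at hN
      omega
    · exfalso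
      rw [hc60] at hHdvd
      have hN' : Nat.card (PSL2 F) = 504 := by
        have : Nat.gcd 2 (8 - 1) = 1 := by norm_num
        rw [this] at hN
        omega
      rw [hN'] at hHdvd
      norm_num at hHdvd
    · obtain ⟨j, rfl⟩ : ∃ j, q = j + 13 := ⟨q - 13, by omega⟩
      have : j + 13 - 1 = j + 12 := by omega
      rw [this] at hd2 ⊢; nlinarith
  · -- subfield type
    have hk2 : 2 ≤ Fintype.card K := Fintype.one_lt_card
    set k := Fintype.card K with hk
    have hcardH : Nat.card H ≤ k * (k - 1) * (k + 1) ∧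
        (m = 1 → Nat.card (PSL2 F) ≤ Nat.card H) := by
      rcases e with ⟨⟨e⟩⟩ | ⟨⟨e⟩⟩
      · have h1 := card_PSL2_mul (F := K)
        rw [← hk, ← Nat.card_congr e.toEquiv] at h1
        constructor
        · rw [← h1]
          exact Nat.le_mul_of_pos_right _ (gcd_pos' k)
        · intro hm1
          rw [hm1, pow_one] at hm
          rw [hm] at h1
          have : Nat.card H * Nat.gcd 2 (q - 1) = Nat.card (PSL2 F) * Nat.gcd 2 (q - 1) := by
            rw [h1, hN]
          exact (Nat.eq_of_mul_eq_mul_right hd0 this).ge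
      · have h1 := card_PGL2 (K := K)
        rw [← hk, ← Nat.card_congr e.toEquiv] at h1
        have h2 : Nat.card H = k * (k - 1) * (k + 1) := by
          obtain ⟨j, hj⟩ : ∃ j, k = j + 2 := ⟨k - 2, by omega⟩
          rw [hj] at h1 ⊢
          have e1 : j + 2 - 1 = j + 1 := by omega
          have e2 : (j + 2) ^ 2 - 1 = (j + 1) * (j + 3) := by
            have : (j + 2) ^ 2 = (j + 1) * (j + 3) + 1 := by ring
            rw [this, Nat.add_sub_cancel]
          have e3 : (j + 2) ^ 2 - (j + 2) = (j + 2) * (j + 1) := by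
            have : (j + 2) ^ 2 = (j + 2) * (j + 1) + (j + 2) := by ring
            rw [this, Nat.add_sub_cancel]
          rw [e1, e2, e3] at h1
          rw [e1]
          have : Nat.card H * (j + 1) = (j + 2) * (j + 1) * (j + 2 + 1) * (j + 1) := by
            rw [h1]; ring
          exact Nat.eq_of_mul_eq_mul_right (by omega) this
        constructor
        · exact h2.le
        · intro hm1
          rw [hm1, pow_one] at hm
          rw [h2, hm, ← hN]
          exact Nat.le_mul_of_pos_right _ hd0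
    obtain ⟨hle, hm1⟩ := hcardH
    rcases (by omega : m = 0 ∨ m = 1 ∨ 2 ≤ m) with rfl | rfl | hm2
    · rw [pow_zero] at hm; omega
    · exfalso
      apply hHcard
      exact le_antisymm (Nat.le_of_dvd Nat.card_pos hHdvd) (hm1 rfl)
    · apply of_card_le hF
      have hkq : k ^ 2 ≤ q := by
        rw [← hm]
        exact Nat.pow_le_pow_right (by omega) hm2
      obtain ⟨j, hj⟩ : ∃ j, k = j + 2 := ⟨k - 2, by omega⟩
      obtain ⟨i, hi⟩ : ∃ i, q = i + 4 := ⟨q - 4, by omega⟩
      rw [hj] at hle hkq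
      have e1 : j + 2 - 1 = j + 1 := by omega
      rw [e1] at hle
      have e2 : q - 1 = i + 3 := by omega
      rw [e2]
      rw [hi] at hkq ⊢
      calc Nat.card H * Nat.gcd 2 (i + 3) ≤ (j + 2) * (j + 1) * (j + 2 + 1) * 2 := by
            have : Nat.gcd 2 (i + 3) ≤ 2 := Nat.le_of_dvd (by norm_num) (Nat.gcd_dvd_left _ _)
            exact Nat.mul_le_mul hle this
        _ ≤ (i + 4) * (i + 3) := by nlinarith

/-- statement S0806 from Dickson's theorem -/
theorem galois_of_dickson {q : ℕ} (hF : Fintype.card F = q)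
    (hq : q ∉ ({2, 3, 5, 7, 9, 11} : Finset ℕ)) (p : ℕ) [Fact p.Prime] [CharP F p]
    (hD : ∀ H : Subgroup (PSL2 F), Concl q p H) :
    (∀ H : Subgroup (PSL2 F), H ≠ ⊤ → q + 1 ≤ H.index) ∧
      ∃ H : Subgroup (PSL2 F), H.index = q + 1 := by
  refine ⟨fun H hH => min_index hF hq p H hH (hD H), BorP F, ?_⟩
  rw [index_BorP, hF]

end

end Cfsg.Agent.Lib.Helper1.DkMinIndex
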