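import Cfsg.Agent.Lib.Helper1.DkSolv
import Cfsg.Agent.S0804
import Cfsg.Prelude.Def_CaseTheorems

/-!
Statement S0810 (`PSL₂(q)` minimal simple iff `q` is in the list) from Dickson's theorem (helper1).
-/

set_option autoImplicit false

namespace Cfsg.Agent.Lib.Helper1.DkMinSimple

open Cfsg.Agent.Lib.Helper12 Cfsg.Agent.Lib.Helper12.SL2 Cfsg.Agent.S0805 Cfsg.Agent.S0807
open Cfsg.Agent.Lib.Helper1.DkOrders Cfsg.Agent.Lib.Helper1.DkMinIndex
open Cfsg.Agent.Lib.Helper1.DkSolv

local notation "SL2" => Matrix.SpecialLinearGroup (Fin 2)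
local notation "PSL2" => Matrix.ProjectiveSpecialLinearGroup (Fin 2)
local notation "PGL2" => Matrix.ProjGenLinGroup (Fin 2)

/-- the list of `q` with `PSL₂(q)` minimal simple -/
def InList (q : ℕ) : Prop :=
  (∃ r : ℕ, r.Prime ∧ q = 2 ^ r) ∨ (∃ r : ℕ, r.Prime ∧ r ≠ 2 ∧ q = 3 ^ r) ∨
    (q.Prime ∧ 5 < q ∧ (q % 5 = 2 ∨ q % 5 = 3)) ∨ q = 5

theorem four_pow_mod (j : ℕ) : 4 ^ j % 5 = 1 ∨ 4 ^ j % 5 = 4 := by
  induction j with
  | zero => left; norm_num
  | succ j ih =>
    rw [pow_succ, Nat.mul_mod]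
    rcases ih with h | h <;> rw [h] <;> norm_num

theorem four_le_of_inList {q : ℕ} (h : InList q) : 4 ≤ q := by
  rcases h with ⟨r, hr, rfl⟩ | ⟨r, hr, -, rfl⟩ | ⟨-, h5, -⟩ | rfl
  · calc 4 = 2 ^ 2 := by norm_num
      _ ≤ 2 ^ r := Nat.pow_le_pow_right (by norm_num) hr.two_le
  · calc 4 ≤ 3 ^ 2 := by norm_num
      _ ≤ 3 ^ r := Nat.pow_le_pow_right (by norm_num) hr.two_le
  · omega
  · norm_num

theorem mod5_of_inList {q : ℕ} (h : InList q) : q = 4 ∨ q = 5 ∨ q % 5 = 2 ∨ q % 5 = 3 := by
  rcases h with ⟨r, hr, rfl⟩ | ⟨r, hr, hr2, rfl⟩ | ⟨-, -, h⟩ | rfl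
  · rcases hr.eq_two_or_odd' with rfl | ⟨j, rfl⟩
    · left; norm_num
    · right; right
      have : 2 ^ (2 * j + 1) = 4 ^ j * 2 := by rw [pow_succ, pow_mul]; norm_num
      rw [this, Nat.mul_mod]
      rcases four_pow_mod j with h | h <;> rw [h] <;> norm_num
  · rcases hr.eq_two_or_odd' with rfl | ⟨j, rfl⟩
    · exact absurd rfl hr2
    · right; right
      have : 3 ^ (2 * j + 1) = 9 ^ j * 3 := by rw [pow_succ, pow_mul]; norm_num
      rw [this, Nat.mul_mod, Nat.pow_mod]
      have h9 : 9 % 5 = 4 := by norm_num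
      rw [h9]
      rcases four_pow_mod j with h | h
      · rw [h]; right; norm_num
      · rw [h]; left; norm_num
  · exact Or.inr (Or.inr h)
  · exact Or.inr (Or.inl rfl)

theorem subfield_of_pow {l r k m : ℕ} (hl : l.Prime) (hr : r.Prime) (hk : IsPrimePow k)
    (h : k ^ m = l ^ r) : m = 1 ∨ k = l := by
  obtain ⟨pk, s, hpk, hs, rfl⟩ := hk
  have hpk' := Nat.prime_iff.mpr hpk
  have hm0 : m ≠ 0 := by
    rintro rfl
    rw [pow_zero] at h
    exact absurd h.symm (Nat.one_lt_pow hr.pos.ne' hl.one_lt).ne'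
  have hdvd : pk ∣ l ^ r := by
    rw [← h, ← pow_mul]
    exact dvd_pow_self pk (by positivity)
  have hpl : pk = l := (Nat.prime_dvd_prime_iff_eq hpk' hl).mp (hpk'.dvd_of_dvd_pow hdvd)
  subst hpl
  rw [← pow_mul] at h
  have hsm : s * m = r := Nat.pow_right_injective hpk'.two_le h
  rcases (Nat.dvd_prime hr).mp (Dvd.intro m hsm) with h1 | h1
  · right; rw [h1, pow_one]
  · left
    rw [h1] at hsm
    have : r * m = r * 1 := by rw [hsm, mul_one]
    exact Nat.eq_of_mul_eq_mul_left hr.pos this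

theorem subfield_of_inList {q : ℕ} (h : InList q) {k m : ℕ} (hk : IsPrimePow k)
    (hkm : k ^ m = q) : m = 1 ∨ k = 2 ∨ k = 3 := by
  have hprime : ∀ {l : ℕ}, l.Prime → k ^ m = l → m = 1 := by
    intro l hl hkl
    exact (hl.pow_eq_iff.mp hkl).2
  rcases h with ⟨r, hr, rfl⟩ | ⟨r, hr, -, rfl⟩ | ⟨hq, -, -⟩ | rfl
  · rcases subfield_of_pow Nat.prime_two hr hk hkm with h | h
    · exact Or.inl h
    · exact Or.inr (Or.inl h)
  · rcases subfield_of_pow Nat.prime_three hr hk hkm with h | h
    · exact Or.inl h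
    · exact Or.inr (Or.inr h)
  · exact Or.inl (hprime hq hkm)
  · exact Or.inl (hprime Nat.prime_five hkm)

section

variable {F : Type*} [Field F] [Fintype F]

theorem not_comm_PSL2 : ¬ ∀ a b : PSL2 F, a * b = b * a := by
  intro h
  have htop : BorP F = ⊤ := by
    rw [eq_top_iff]
    intro x _
    apply normalizer_UppP_le
    rw [Subgroup.mem_normalizer_iff]
    intro y
    rw [h x y, mul_inv_cancel_right]
  have h2 := index_BorP (F := F)
  rw [htop, Subgroup.index_top] at h2
  have := Fintype.card_pos (α := F)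
  omega

theorem not_solvable_PSL2 (h4 : 4 ≤ Fintype.card F) : ¬ Group.IsSolvable (PSL2 F) := by
  haveI : IsSimpleGroup (PSL2 F) :=
    Matrix.ProjectiveSpecialLinearGroup.rank_two_simple (by rw [Nat.card_eq_fintype_card]; exact h4)
  intro hs
  exact not_comm_PSL2 (IsSimpleGroup.comm_iff_isSolvable.mpr hs)

/-- subfield type subgroups: order bound, and `m = 1` forces `H = ⊤` -/
theorem subfield_card {q : ℕ} (hF : Fintype.card F = q) (H : Subgroup (PSL2 F))
    {K : Type} [Field K] [Fintype K] (m : ℕ) (hm : Fintype.card K ^ m = q)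
    (e : Nonempty (H ≃* PSL2 K) ∨ Nonempty (H ≃* PGL2 K)) :
    Nat.card H ≤ Fintype.card K * (Fintype.card K - 1) * (Fintype.card K + 1) ∧
      (m = 1 → H = ⊤) := by
  have hN := card_PSL2_mul (F := F)
  rw [hF] at hN
  have hd0 := gcd_pos' q
  have hk2 : 2 ≤ Fintype.card K := Fintype.one_lt_card
  set k := Fintype.card K with hk
  have hHdvd : Nat.card H ∣ Nat.card (PSL2 F) := Subgroup.card_subgroup_dvd_card H
  have key : Nat.card H ≤ k * (k - 1) * (k + 1) ∧ (m = 1 → Nat.card (PSL2 F) ≤ Nat.card H) := by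
    rcases e with ⟨⟨e⟩⟩ | ⟨⟨e⟩⟩
    · have h1 := card_PSL2_mul (F := K)
      rw [← hk, ← Nat.card_congr e.toEquiv] at h1
      constructor
      · rw [← h1]
        exact Nat.le_mul_of_pos_right _ (gcd_pos' k)
      · intro hm1
        rw [hm1, pow_one] at hm
        rw [hm] at h1
        have : Nat.card H * Nat.gcd 2 (q - 1) = Nat.card (PSL2 F) * Nat.gcd 2 (q - 1) := by
          rw [h1, hN]
        exact (Nat.eq_of_mul_eq_mul_right hd0 this).ge
    · have h1 := card_PGL2 (K := K)
      rw [← hk, ← Nat.card_congr e.toEquiv] at h1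
      have h2 : Nat.card H = k * (k - 1) * (k + 1) := by
        obtain ⟨j, hj⟩ : ∃ j, k = j + 2 := ⟨k - 2, by omega⟩
        rw [hj] at h1 ⊢
        have e1 : j + 2 - 1 = j + 1 := by omega
        have e2 : (j + 2) ^ 2 - 1 = (j + 1) * (j + 3) := by
          have : (j + 2) ^ 2 = (j + 1) * (j + 3) + 1 := by ring
          rw [this, Nat.add_sub_cancel]
        have e3 : (j + 2) ^ 2 - (j + 2) = (j + 2) * (j + 1) := by
          have : (j + 2) ^ 2 = (j + 2) * (j + 1) + (j + 2) := by ring
          rw [this, Nat.add_sub_cancel]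
        rw [e1, e2, e3] at h1
        rw [e1]
        have : Nat.card H * (j + 1) = (j + 2) * (j + 1) * (j + 2 + 1) * (j + 1) := by
          rw [h1]; ring
        exact Nat.eq_of_mul_eq_mul_right (by omega) this
      constructor
      · exact h2.le
      · intro hm1
        rw [hm1, pow_one] at hm
        rw [h2, hm, ← hN]
        exact Nat.le_mul_of_pos_right _ hd0
  refine ⟨key.1, fun hm1 => ?_⟩
  exact (Subgroup.card_eq_iff_eq_top H).mp
    (le_antisymm (Nat.le_of_dvd Nat.card_pos hHdvd) (key.2 hm1))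

theorem solvable_of_concl {q : ℕ} (hF : Fintype.card F = q) (p : ℕ) [Fact p.Prime] [CharP F p]
    (hL : InList q) (H : Subgroup (PSL2 F)) (hH : H ≠ ⊤) (hc : Concl q p H) :
    Group.IsSolvable H := by
  have hq4 := four_le_of_inList hL
  have hN := card_PSL2_mul (F := F)
  rw [hF] at hN
  rcases hc with ⟨k, -, hkH⟩ | ⟨P, K, hK, ⟨e⟩⟩ | ⟨⟨e⟩⟩ | ⟨⟨e⟩⟩ | ⟨⟨e⟩⟩ | ⟨K, iK, iF, m, hm, e⟩
  · rcases hkH with ⟨hcyc, -⟩ | ⟨⟨e⟩⟩
    · exact Group.isSolvable_of_comm (IsCyclic.isMulCommutative (α := H)).is_comm.comm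
    · haveI := dihedral_solvable k
      exact Group.isSolvable_of_isSolvable_injective (f := e.toMonoidHom) e.injective
  · haveI := normalizer_sylow_solvable p P
    exact Group.isSolvable_of_isSolvable_injective
      (f := (Subgroup.inclusion hK).comp e.toMonoidHom)
      ((Subgroup.inclusion_injective hK).comp e.injective)
  · haveI := Cfsg.Agent.S4337.perm_fin4_solvable
    exact Group.isSolvable_of_isSolvable_injective (f := e.toMonoidHom) e.injective
  · haveI := Cfsg.Agent.S4337.perm_fin4_solvable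
    exact Group.isSolvable_of_isSolvable_injective (f := e.toMonoidHom) e.injective
  · exfalso
    have hc60 : Nat.card H = 60 := by rw [Nat.card_congr e.toEquiv, card_A5]
    have hHdvd : Nat.card H ∣ Nat.card (PSL2 F) := Subgroup.card_subgroup_dvd_card H
    have hHcard : Nat.card H ≠ Nat.card (PSL2 F) := fun h =>
      hH ((Subgroup.card_eq_iff_eq_top H).mp h)
    rw [hc60] at hHdvd hHcard
    have h5 : 5 ∣ q * (q - 1) * (q + 1) := by
      rw [← hN]
      exact Dvd.dvd.mul_right ((by norm_num : 5 ∣ 60).trans hHdvd) _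
    rcases mod5_of_inList hL with rfl | rfl | h | h
    · apply hHcard
      have : Nat.gcd 2 (4 - 1) = 1 := by norm_num
      rw [this] at hN
      omega
    · apply hHcard
      have : Nat.gcd 2 (5 - 1) = 2 := by norm_num
      rw [this] at hN
      omega
    · rcases (Nat.Prime.dvd_mul Nat.prime_five).mp h5 with h5 | h5
      · rcases (Nat.Prime.dvd_mul Nat.prime_five).mp h5 with h5 | h5 <;> omega
      · omega
    · rcases (Nat.Prime.dvd_mul Nat.prime_five).mp h5 with h5 | h5
      · rcases (Nat.Prime.dvd_mul Nat.prime_five).mp h5 with h5 | h5 <;> omega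
      · omega
  · obtain ⟨-, hm1⟩ := subfield_card hF H m hm e
    rcases subfield_of_inList hL (FiniteField.isPrimePow_card K) hm with h | h
    · exact absurd (hm1 h) hH
    · rcases e with ⟨⟨e⟩⟩ | ⟨⟨e⟩⟩
      · haveI := PSL2_small_solvable (K := K) h
        exact Group.isSolvable_of_isSolvable_injective (f := e.toMonoidHom) e.injective
      · haveI := PGL2_small_solvable (K := K) h
        exact Group.isSolvable_of_isSolvable_injective (f := e.toMonoidHom) e.injective

/-- the direction `⇐` of S0810 from Dickson's theorem -/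
theorem minimalSimple_of_inList {q : ℕ} (hF : Fintype.card F = q) (p : ℕ) [Fact p.Prime]
    [CharP F p] (hD : ∀ H : Subgroup (PSL2 F), Concl q p H) (hL : InList q) :
    Cfsg.IsMinimalSimple (PSL2 F) := by
  have hq4 := four_le_of_inList hL
  refine ⟨Matrix.ProjectiveSpecialLinearGroup.rank_two_simple
    (by rw [Nat.card_eq_fintype_card, hF]; exact hq4), ?_, ?_⟩
  · intro hc
    exact not_comm_PSL2 (F := F) hc.is_comm.comm
  · intro H hH
    exact solvable_of_concl hF p hL H hH (hD H)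

theorem exists_PSL2_subfield {K : Type*} [Field K] [Fintype K] (m : ℕ)
    (hK : Fintype.card K ^ m = Fintype.card F) :
    ∃ H : Subgroup (PSL2 F), Nonempty (H ≃* PSL2 K) := by
  obtain ⟨ι⟩ := exists_ringHom (F := F) (K := K) m hK
  exact ⟨(pslMap ι).range, ⟨(MonoidHom.ofInjective (pslMap_injective ι)).symm⟩⟩

theorem not_solvable_A5 : ¬ Group.IsSolvable (alternatingGroup (Fin 5)) := by
  intro h
  apply Equiv.Perm.not_isSolvable_fin_5
  exact Group.isSolvable_of_ker_le_range (alternatingGroup (Fin 5)).subtype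
    (Equiv.Perm.sign (α := Fin 5)) (by rw [Subgroup.range_subtype]; exact le_of_eq rfl)

/-- a subfield subgroup with `m ≥ 2` is small -/
theorem subfield_card_le {q : ℕ} (hF : Fintype.card F = q) (H : Subgroup (PSL2 F))
    {K : Type} [Field K] [Fintype K] (m : ℕ) (hm : Fintype.card K ^ m = q) (hm2 : 2 ≤ m)
    (e : Nonempty (H ≃* PSL2 K) ∨ Nonempty (H ≃* PGL2 K)) :
    Nat.card H * Nat.gcd 2 (q - 1) ≤ q * (q - 1) := by
  obtain ⟨hle, -⟩ := subfield_card hF H m hm e
  have hk2 : 2 ≤ Fintype.card K := Fintype.one_lt_card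
  set k := Fintype.card K with hk
  have hkq : k ^ 2 ≤ q := by
    rw [← hm]
    exact Nat.pow_le_pow_right (by omega) hm2
  have hq4 : 4 ≤ q := by nlinarith
  obtain ⟨j, hj⟩ : ∃ j, k = j + 2 := ⟨k - 2, by omega⟩
  obtain ⟨i, hi⟩ : ∃ i, q = i + 4 := ⟨q - 4, by omega⟩
  rw [hj] at hle hkq
  have e1 : j + 2 - 1 = j + 1 := by omega
  rw [e1] at hle
  have e2 : q - 1 = i + 3 := by omega
  rw [e2]
  rw [hi] at hkq ⊢
  calc Nat.card H * Nat.gcd 2 (i + 3) ≤ (j + 2) * (j + 1) * (j + 2 + 1) * 2 := by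
        have : Nat.gcd 2 (i + 3) ≤ 2 := Nat.le_of_dvd (by norm_num) (Nat.gcd_dvd_left _ _)
        exact Nat.mul_le_mul hle this
    _ ≤ (i + 4) * (i + 3) := by nlinarith

theorem ne_top_of_index {G : Type*} [Group G] (H : Subgroup G) (h : 2 ≤ H.index) : H ≠ ⊤ := by
  rintro rfl
  rw [Subgroup.index_top] at h
  omega

/-- the direction `⇒` of S0810 -/
theorem inList_of_minimalSimple {q : ℕ} (hF : Fintype.card F = q) (p : ℕ) [Fact p.Prime]
    [CharP F p] (hMS : Cfsg.IsMinimalSimple (PSL2 F)) : InList q := by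
  obtain ⟨hsimple, hnc, hsolv⟩ := hMS
  have hG : ¬ Group.IsSolvable (PSL2 F) := by
    intro hs
    apply hnc
    exact ⟨⟨IsSimpleGroup.comm_iff_isSolvable.mpr hs⟩⟩
  have hq2 : 2 ≤ q := by rw [← hF]; exact Fintype.one_lt_card
  have hq4 : 4 ≤ q := by
    by_contra hlt
    apply hG
    apply PSL2_small_solvable
    rw [hF]; omega
  obtain ⟨n, hpp, hqn⟩ := FiniteField.card F p
  rw [hF] at hqn
  have hn0 : (n : ℕ) ≠ 0 := n.pos.ne'
  -- subfield subgroups
  have claimX : ∀ a b : ℕ, a ≠ 0 → 2 ≤ b → 4 ≤ p ^ a → a * b = n → False := by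
    intro a b ha hb h4 hab
    haveI : Fintype (GaloisField p a) := Fintype.ofFinite _
    have hcK : Fintype.card (GaloisField p a) = p ^ a := by
      rw [← Nat.card_eq_fintype_card]; exact GaloisField.card p a ha
    have hK : Fintype.card (GaloisField p a) ^ b = Fintype.card F := by
      rw [hcK, hF, hqn, ← pow_mul, hab]
    obtain ⟨H, ⟨e⟩⟩ := exists_PSL2_subfield (F := F) b hK
    have hle := subfield_card_le hF H b (by rw [← hF]; exact hK) hb (Or.inl ⟨e⟩)
    have hidx := of_card_le hF H hle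
    have hne : H ≠ ⊤ := ne_top_of_index H (by omega)
    haveI := hsolv H hne
    apply not_solvable_PSL2 (F := GaloisField p a) (by rw [hcK]; exact h4)
    exact Group.isSolvable_of_isSolvable_injective (f := e.symm.toMonoidHom) e.symm.injective
  -- `A₅` subgroups
  have claimY : 5 ∣ q * (q ^ 2 - 1) → q ≤ 5 := by
    intro h5
    obtain ⟨H, ⟨e⟩⟩ := (Cfsg.Agent.S0804.result hF).mpr h5
    have hc60 : Nat.card H = 60 := by rw [Nat.card_congr e.toEquiv, card_A5]
    by_cases hne : H = ⊤
    · have hN := card_PSL2_mul (F := F)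
      rw [hF] at hN
      have hG60 : Nat.card (PSL2 F) = 60 := by
        rw [← hc60, hne, Subgroup.card_top]
      rw [hG60] at hN
      have hd2 := gcd_le_two q
      by_contra hlt
      push_neg at hlt
      obtain ⟨j, rfl⟩ : ∃ j, q = j + 6 := ⟨q - 6, by omega⟩
      have : j + 6 - 1 = j + 5 := by omega
      rw [this] at hN hd2
      have h1 : 30 ≤ (j + 6) * (j + 5) := by nlinarith
      have h2 : 30 * 7 ≤ (j + 6) * (j + 5) * (j + 6 + 1) := Nat.mul_le_mul h1 (by omega)
      linarith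
    · exfalso
      haveI := hsolv H hne
      apply not_solvable_A5
      exact Group.isSolvable_of_isSolvable_injective (f := e.symm.toMonoidHom) e.symm.injective
  have h5dvd : ∀ t : ℕ, (q = 5 * t + 1 ∨ q = 5 * t + 4) → 5 ∣ q * (q ^ 2 - 1) := by
    rintro t (rfl | rfl)
    · apply Dvd.dvd.mul_left
      have : (5 * t + 1) ^ 2 = 5 * (5 * t ^ 2 + 2 * t) + 1 := by ring
      rw [this, Nat.add_sub_cancel]
      exact dvd_mul_right _ _
    · apply Dvd.dvd.mul_left
      have : (5 * t + 4) ^ 2 = 5 * (5 * t ^ 2 + 8 * t + 3) + 1 := by ring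
      rw [this, Nat.add_sub_cancel]
      exact dvd_mul_right _ _
  by_cases hn1 : (n : ℕ) = 1
  · -- `q = p`
    rw [hn1, pow_one] at hqn
    subst hqn
    by_cases hq5 : q = 5
    · exact Or.inr (Or.inr (Or.inr hq5))
    · have hq7 : 5 < q := by
        rcases (by omega : q = 4 ∨ 5 < q) with h | h
        · exfalso; rw [h] at hpp; norm_num at hpp
        · exact h
      refine Or.inr (Or.inr (Or.inl ⟨hpp, hq7, ?_⟩))
      have hmod : q % 5 ≠ 0 := by
        intro h0
        have := (Nat.prime_dvd_prime_iff_eq Nat.prime_five hpp).mp (Nat.dvd_of_mod_eq_zero h0)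
        omega
      by_contra hcon
      push_neg at hcon
      have h14 : q % 5 = 1 ∨ q % 5 = 4 := by omega
      have := claimY (h5dvd (q / 5) (by omega))
      omega
  · have hn2 : 2 ≤ (n : ℕ) := by omega
    by_cases hnp : (n : ℕ).Prime
    · by_cases hp2 : p = 2
      · exact Or.inl ⟨n, hnp, by rw [hqn, hp2]⟩
      · by_cases hp3 : p = 3
        · by_cases hn2' : (n : ℕ) = 2
          · exfalso
            rw [hp3, hn2'] at hqn
            have h9 : q = 9 := by rw [hqn]; norm_num
            have := claimY (h5dvd 1 (Or.inr (by rw [h9])))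
            omega
          · exact Or.inr (Or.inl ⟨n, hnp, hn2', by rw [hqn, hp3]⟩)
        · exfalso
          have hp5 : 5 ≤ p := by
            have := hpp.two_le
            rcases (by omega : p = 4 ∨ 5 ≤ p) with h | h
            · exfalso; rw [h] at hpp; norm_num at hpp
            · exact h
          exact claimX 1 n one_ne_zero hn2 (by rw [pow_one]; omega) (one_mul _)
    · exfalso
      obtain ⟨a, hadvd, ha2, halt⟩ := Nat.exists_dvd_of_not_prime2 hn2 hnp
      obtain ⟨b, hb⟩ := hadvd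
      have hb2 : 2 ≤ b := by
        by_contra hlt
        push_neg at hlt
        interval_cases b
        · omega
        · omega
      refine claimX a b (by omega) hb2 ?_ hb.symm
      calc 4 = 2 ^ 2 := by norm_num
        _ ≤ p ^ 2 := Nat.pow_le_pow_left hpp.two_le 2
        _ ≤ p ^ a := Nat.pow_le_pow_right hpp.pos ha2

/-- statement S0810 from Dickson's theorem -/
theorem minimalSimple_iff {q : ℕ} (hF : Fintype.card F = q) (p : ℕ) [Fact p.Prime]
    [CharP F p] (hD : ∀ H : Subgroup (PSL2 F), Concl q p H) :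
    Cfsg.IsMinimalSimple (PSL2 F) ↔ InList q :=
  ⟨inList_of_minimalSimple hF p, minimalSimple_of_inList hF p hD⟩

end

end Cfsg.Agent.Lib.Helper1.DkMinSimple
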