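import Cfsg.Agent.S0805

/-!
Order facts on `PSL₂(F)`, `F` finite, for the consumers of Dickson's theorem (helper1):
`|PSL₂(F)| * gcd(2, q-1) = q (q-1) (q+1)`, the Borel subgroup has index `q + 1`, normalizers of
Sylow `p`-subgroups have index at least `q + 1`, orders of `PSL₂(K)`, `PGL₂(K)`.
-/

set_option autoImplicit false

namespace Cfsg.Agent.Lib.Helper1.DkOrders

open Cfsg.Agent.Lib.Helper12 Cfsg.Agent.Lib.Helper12.SL2 Cfsg.Agent.S0805 Cfsg.Agent.S0807

variable {F : Type*} [Field F]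

local notation "SL2" => Matrix.SpecialLinearGroup (Fin 2)
local notation "GL2" => Matrix.GeneralLinearGroup (Fin 2)
local notation "PSL2" => Matrix.ProjectiveSpecialLinearGroup (Fin 2)
local notation "PGL2" => Matrix.ProjGenLinGroup (Fin 2)

theorem center_eq_bot_of_two (h2 : (2 : F) = 0) : Subgroup.center (SL2 F) = ⊥ := by
  rw [eq_bot_iff]
  intro g hg
  rw [Matrix.SpecialLinearGroup.mem_center_iff] at hg
  obtain ⟨r, hr, h⟩ := hg
  have hr1 : r = 1 := by
    have : (r - 1) ^ 2 = 0 := by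
      have hr' : r ^ 2 = 1 := by simpa using hr
      linear_combination hr' - (r - 1) * h2
    exact sub_eq_zero.mp (pow_eq_zero_iff two_ne_zero |>.mp this)
  rw [Subgroup.mem_bot]
  apply Matrix.SpecialLinearGroup.ext
  intro i j
  rw [← h, hr1]
  simp

theorem odd_card_of_two_ne [Fintype F] (h2 : (2 : F) ≠ 0) : Odd (Fintype.card F) := by
  by_contra h
  rw [Nat.not_odd_iff_even] at h
  apply h2
  obtain ⟨p, hp⟩ := CharP.exists F
  obtain ⟨n, hpp, hq⟩ := FiniteField.card F p
  rw [hq, Nat.even_pow] at h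
  have : p = 2 := (Nat.Prime.even_iff hpp).mp h.1
  subst this
  exact_mod_cast CharP.cast_eq_zero F 2

theorem even_card_of_two_eq [Fintype F] (h2 : (2 : F) = 0) : Even (Fintype.card F) := by
  obtain ⟨p, hp⟩ := CharP.exists F
  obtain ⟨n, hpp, hq⟩ := FiniteField.card F p
  have h2' : ((2 : ℕ) : F) = 0 := by exact_mod_cast h2
  have hdvd : p ∣ 2 := (CharP.cast_eq_zero_iff F p 2).mp h2'
  have : p = 2 := (Nat.prime_dvd_prime_iff_eq hpp Nat.prime_two).mp hdvd
  subst this
  rw [hq, Nat.even_pow]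
  exact ⟨even_two, n.pos.ne'⟩

theorem card_center_gcd [Fintype F] :
    Nat.card (Subgroup.center (SL2 F)) = Nat.gcd 2 (Fintype.card F - 1) := by
  have hq : 2 ≤ Fintype.card F := Fintype.one_lt_card
  by_cases h2 : (2 : F) = 0
  · rw [center_eq_bot_of_two h2, Subgroup.card_bot]
    obtain ⟨k, hk⟩ := even_card_of_two_eq h2
    have : Fintype.card F - 1 = 2 * (k - 1) + 1 := by omega
    rw [this]
    simp
  · rw [card_center h2]
    obtain ⟨k, hk⟩ := odd_card_of_two_ne h2
    have : Fintype.card F - 1 = 2 * k := by omega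
    rw [this]
    simp

theorem card_PSL2_mul [Fintype F] :
    Nat.card (PSL2 F) * Nat.gcd 2 (Fintype.card F - 1) =
      Fintype.card F * (Fintype.card F - 1) * (Fintype.card F + 1) := by
  have h1 := Subgroup.card_eq_card_quotient_mul_card_subgroup (Subgroup.center (SL2 F))
  rw [card_center_gcd, card_SL2] at h1
  have hq : 2 ≤ Fintype.card F := Fintype.one_lt_card
  have e : Fintype.card F ^ 2 - 1 = (Fintype.card F - 1) * (Fintype.card F + 1) := by
    obtain ⟨k, hk⟩ : ∃ k, Fintype.card F = k + 1 := ⟨Fintype.card F - 1, by omega⟩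
    rw [hk, Nat.add_sub_cancel]
    have : (k + 1) ^ 2 = k * (k + 1 + 1) + 1 := by ring
    rw [this, Nat.add_sub_cancel]
  rw [e, ← mul_assoc] at h1
  exact h1.symm

/-- the Borel subgroup of `SL₂` -/
def Bor (F : Type*) [Field F] : Subgroup (SL2 F) where
  carrier := {g | g 1 0 = 0}
  one_mem' := by simp
  mul_mem' := by
    intro a b ha hb
    simp only [Set.mem_setOf_eq] at ha hb ⊢
    rw [SL2.mul_apply', ha, hb]; ring
  inv_mem' := by
    intro a ha
    simp only [Set.mem_setOf_eq] at ha ⊢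
    rw [inv_10, ha, neg_zero]

theorem mem_Bor (g : SL2 F) : g ∈ Bor F ↔ g 1 0 = 0 := Iff.rfl

/-- `B ≃ Fˣ × F` -/
noncomputable def borEquiv : Bor F ≃ Fˣ × F where
  toFun g := ⟨Units.mk0 ((g : SL2 F) 0 0) (by
    have hd := SL2.det_eq (g : SL2 F)
    have h10 : (g : SL2 F) 1 0 = 0 := g.2
    rw [h10, mul_zero, sub_zero] at hd
    exact left_ne_zero_of_mul_eq_one hd), (g : SL2 F) 0 1⟩
  invFun x := ⟨SL2.mk (x.1 : F) x.2 0 (x.1 : F)⁻¹ (by simp), rfl⟩
  left_inv g := by
    apply Subtype.ext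
    have hd := SL2.det_eq (g : SL2 F)
    have h10 : (g : SL2 F) 1 0 = 0 := g.2
    rw [h10, mul_zero, sub_zero] at hd
    apply SL2.ext4
    · simp
    · simp
    · simp [h10]
    · simp only [SL2.mk_11, Units.val_mk0]
      exact (eq_inv_of_mul_eq_one_right hd).symm
  right_inv x := by
    apply Prod.ext
    · apply Units.ext; simp
    · simp

theorem card_Bor [Fintype F] : Nat.card (Bor F) = (Fintype.card F - 1) * Fintype.card F := by
  rw [Nat.card_congr borEquiv, Nat.card_prod, Nat.card_units, Nat.card_eq_fintype_card]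

theorem index_Bor [Fintype F] : (Bor F).index = Fintype.card F + 1 := by
  have h := (Bor F).card_mul_index
  rw [card_Bor, card_SL2] at h
  have hq : 2 ≤ Fintype.card F := Fintype.one_lt_card
  have e : Fintype.card F ^ 2 - 1 = (Fintype.card F - 1) * (Fintype.card F + 1) := by
    obtain ⟨k, hk⟩ : ∃ k, Fintype.card F = k + 1 := ⟨Fintype.card F - 1, by omega⟩
    rw [hk, Nat.add_sub_cancel]
    have : (k + 1) ^ 2 = k * (k + 1 + 1) + 1 := by ring
    rw [this, Nat.add_sub_cancel]
  rw [e] at h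
  have hpos : 0 < (Fintype.card F - 1) * Fintype.card F := by
    apply Nat.mul_pos <;> omega
  apply Nat.eq_of_mul_eq_mul_left hpos
  rw [h]; ring

theorem center_le_Bor : Subgroup.center (SL2 F) ≤ Bor F := by
  intro g hg
  rw [Matrix.SpecialLinearGroup.mem_center_iff] at hg
  obtain ⟨r, -, h⟩ := hg
  rw [mem_Bor, ← h]
  simp

/-- the image of the Borel subgroup in `PSL₂` -/
noncomputable def BorP (F : Type*) [Field F] : Subgroup (PSL2 F) := (Bor F).map mkH

theorem index_BorP [Fintype F] : (BorP F).index = Fintype.card F + 1 := by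
  unfold BorP
  rw [Subgroup.index_map_eq _ (QuotientGroup.mk'_surjective _)
    (by rw [QuotientGroup.ker_mk']; exact center_le_Bor), index_Bor]

end Cfsg.Agent.Lib.Helper1.DkOrders

namespace Cfsg.Agent.Lib.Helper1.DkOrders

open Cfsg.Agent.Lib.Helper12 Cfsg.Agent.Lib.Helper12.SL2 Cfsg.Agent.S0805 Cfsg.Agent.S0807

variable {F : Type*} [Field F]

local notation "SL2" => Matrix.SpecialLinearGroup (Fin 2)
local notation "GL2" => Matrix.GeneralLinearGroup (Fin 2)
local notation "PSL2" => Matrix.ProjectiveSpecialLinearGroup (Fin 2)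
local notation "PGL2" => Matrix.ProjGenLinGroup (Fin 2)

/-- the upper unitriangular subgroup of `SL₂` -/
def Upp (F : Type*) [Field F] : Subgroup (SL2 F) where
  carrier := {g | g 0 0 = 1 ∧ g 1 0 = 0 ∧ g 1 1 = 1}
  one_mem' := by simp
  mul_mem' := by
    rintro a b ⟨a00, a10, a11⟩ ⟨b00, b10, b11⟩
    refine ⟨?_, ?_, ?_⟩ <;> rw [SL2.mul_apply'] <;> simp [a00, a10, a11, b00, b10, b11]
  inv_mem' := by
    rintro a ⟨a00, a10, a11⟩
    refine ⟨?_, ?_, ?_⟩
    · rw [inv_00, a11]
    · rw [inv_10, a10, neg_zero]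
    · rw [inv_11, a00]

theorem mem_Upp (g : SL2 F) : g ∈ Upp F ↔ g 0 0 = 1 ∧ g 1 0 = 0 ∧ g 1 1 = 1 := Iff.rfl

theorem up_mem_Upp (b : F) : up b ∈ Upp F := ⟨rfl, rfl, rfl⟩

/-- `U ≃ F` -/
noncomputable def uppEquiv : F ≃ Upp F where
  toFun b := ⟨up b, up_mem_Upp b⟩
  invFun g := (g : SL2 F) 0 1
  left_inv b := rfl
  right_inv g := by
    obtain ⟨g00, g10, g11⟩ := g.2
    apply Subtype.ext
    apply SL2.ext4 <;> simp [up, g00, g10, g11]

theorem card_Upp [Fintype F] : Nat.card (Upp F) = Fintype.card F := by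
  rw [← Nat.card_eq_fintype_card]
  exact (Nat.card_congr uppEquiv).symm

theorem index_Upp [Fintype F] : (Upp F).index = Fintype.card F ^ 2 - 1 := by
  have h := (Upp F).card_mul_index
  rw [card_Upp, card_SL2] at h
  exact Nat.eq_of_mul_eq_mul_left Fintype.card_pos h

theorem conj_up_10 (x : SL2 F) : (x * up 1 * x⁻¹ : SL2 F) 1 0 = -(x 1 0) ^ 2 := by
  rw [SL2.mul_apply', SL2.mul_apply', SL2.mul_apply', inv_00, inv_10]
  simp only [up, SL2.mk_00, SL2.mk_01, SL2.mk_10, SL2.mk_11]
  ring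

/-- the image of `U` in `PSL₂` -/
noncomputable def UppP (F : Type*) [Field F] : Subgroup (PSL2 F) := (Upp F).map mkH

section charp

variable [Fintype F] (p : ℕ) [Fact p.Prime] [CharP F p]

theorem isPGroup_Upp : IsPGroup p (Upp F) := by
  obtain ⟨n, -, hq⟩ := FiniteField.card F p
  exact IsPGroup.of_card (n := n) (by rw [card_Upp, hq])

theorem isPGroup_UppP : IsPGroup p (UppP F) := (isPGroup_Upp p).map mkH

theorem not_dvd_index_UppP : ¬ p ∣ (UppP F).index := by
  intro h
  have h1 : (UppP F).index ∣ (Upp F).index :=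
    Subgroup.index_map_dvd (Upp F) (QuotientGroup.mk'_surjective _)
  have h2 := h.trans h1
  rw [index_Upp] at h2
  obtain ⟨n, -, hq⟩ := FiniteField.card F p
  have hpq : p ∣ Fintype.card F ^ 2 := by
    rw [hq, ← pow_mul]
    exact dvd_pow_self p (by have := n.pos; positivity)
  have hq2 : 1 ≤ Fintype.card F ^ 2 := Nat.one_le_pow _ _ Fintype.card_pos
  have : p ∣ 1 := by
    have := (Nat.dvd_sub hpq h2)
    rwa [Nat.sub_sub_self hq2] at this
  exact (Fact.out : p.Prime).one_lt.ne' (Nat.dvd_one.mp this)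

/-- `Ū` as a Sylow subgroup -/
noncomputable def sylUppP : Sylow p (PSL2 F) := (isPGroup_UppP p).toSylow (not_dvd_index_UppP p)

theorem coe_sylUppP : ((sylUppP p : Sylow p (PSL2 F)) : Subgroup (PSL2 F)) = UppP F :=
  IsPGroup.toSylow_coe _ _

theorem normalizer_UppP_le : Subgroup.normalizer ((UppP F : Subgroup (PSL2 F)) : Set (PSL2 F)) ≤
    BorP F := by
  intro xb hx
  obtain ⟨x, rfl⟩ := QuotientGroup.mk'_surjective (Subgroup.center (SL2 F)) xb
  rw [Subgroup.mem_normalizer_iff] at hx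
  have h1 : (mkH (up (1 : F)) : PSL2 F) ∈ UppP F := ⟨up 1, up_mem_Upp 1, rfl⟩
  have h2 := (hx _).mp h1
  obtain ⟨u, hu, hue⟩ := h2
  have hue' : (mkH u : PSL2 F) = mkH (x * up 1 * x⁻¹) := by
    rw [hue, map_mul, map_mul, map_inv]
  have hz : u⁻¹ * (x * up 1 * x⁻¹) ∈ Subgroup.center (SL2 F) := QuotientGroup.eq.mp hue'
  rw [Matrix.SpecialLinearGroup.mem_center_iff] at hz
  obtain ⟨r, -, hr⟩ := hz
  obtain ⟨u00, u10, u11⟩ := hu
  have e : x * up 1 * x⁻¹ = u * (u⁻¹ * (x * up 1 * x⁻¹)) := by group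
  have h10 : (x * up 1 * x⁻¹ : SL2 F) 1 0 = 0 := by
    rw [e, SL2.mul_apply', u10, u11, ← hr]
    simp
  rw [conj_up_10] at h10
  have hx10 : x 1 0 = 0 := by
    have : (x 1 0) ^ 2 = 0 := by linear_combination -h10
    exact pow_eq_zero_iff two_ne_zero |>.mp this
  exact ⟨x, hx10, rfl⟩

/-- normalizers of Sylow `p`-subgroups of `PSL₂(q)` have index at least `q + 1` -/
theorem le_index_normalizer_sylow (P : Sylow p (PSL2 F)) :
    Fintype.card F + 1 ≤ (Subgroup.normalizer ((P : Subgroup (PSL2 F)) : Set (PSL2 F))).index := by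
  have h1 : Nat.card (Sylow p (PSL2 F)) =
      (Subgroup.normalizer ((P : Subgroup (PSL2 F)) : Set (PSL2 F))).index :=
    Sylow.card_eq_index_normalizer P
  have h2 : Nat.card (Sylow p (PSL2 F)) =
      (Subgroup.normalizer (((sylUppP (F := F) p : Sylow p (PSL2 F)) : Subgroup (PSL2 F)) :
        Set (PSL2 F))).index :=
    Sylow.card_eq_index_normalizer (sylUppP (F := F) p)
  rw [← h1, h2, coe_sylUppP]
  have h3 := Subgroup.index_dvd_of_le (normalizer_UppP_le (F := F))
  rw [index_BorP] at h3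
  exact Nat.le_of_dvd (Nat.pos_of_ne_zero Subgroup.index_ne_zero_of_finite) h3

/-- a group isomorphic to a subgroup of the normalizer of a Sylow `p`-subgroup is small -/
theorem le_index_of_iso_le_normalizer (P : Sylow p (PSL2 F)) (H K : Subgroup (PSL2 F))
    (hK : K ≤ Subgroup.normalizer ((P : Subgroup (PSL2 F)) : Set (PSL2 F)))
    (e : Nonempty (H ≃* K)) : Fintype.card F + 1 ≤ H.index := by
  obtain ⟨e⟩ := e
  have hc : Nat.card H = Nat.card K := Nat.card_congr e.toEquiv
  have h1 := H.card_mul_index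
  have h2 := K.card_mul_index
  have hi : H.index = K.index := by
    have : Nat.card H * H.index = Nat.card H * K.index := by rw [h1, hc, h2]
    exact Nat.eq_of_mul_eq_mul_left Nat.card_pos this
  rw [hi]
  have h3 := Subgroup.index_dvd_of_le hK
  exact (le_index_normalizer_sylow p P).trans
    (Nat.le_of_dvd (Nat.pos_of_ne_zero Subgroup.index_ne_zero_of_finite) h3)

end charp

end Cfsg.Agent.Lib.Helper1.DkOrders
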