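import Cfsg.Agent.Lib.Helper1.DkMinIndex
import Cfsg.Agent.S4337

/-!
Solvability facts for the consumers of Dickson's theorem (helper1): dihedral groups, the Borel
subgroup of `PSL₂`, normalizers of Sylow `p`-subgroups, groups of order `2^a * 3`.
-/

set_option autoImplicit false

namespace Cfsg.Agent.Lib.Helper1.DkSolv

open Cfsg.Agent.Lib.Helper12 Cfsg.Agent.Lib.Helper12.SL2 Cfsg.Agent.S0805 Cfsg.Agent.S0807
open Cfsg.Agent.Lib.Helper1.DkOrders

local notation "SL2" => Matrix.SpecialLinearGroup (Fin 2)
local notation "PSL2" => Matrix.ProjectiveSpecialLinearGroup (Fin 2)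
local notation "PGL2" => Matrix.ProjGenLinGroup (Fin 2)

theorem solvable_of_hom_ker_comm {G A : Type*} [Group G] [Group A] [Group.IsSolvable A]
    (f : G →* A) (h : ∀ a ∈ f.ker, ∀ b ∈ f.ker, a * b = b * a) : Group.IsSolvable G := by
  haveI : Group.IsSolvable f.ker :=
    Group.isSolvable_of_comm (fun a b => Subtype.ext (h a.1 a.2 b.1 b.2))
  exact Group.isSolvable_of_ker_le_range f.ker.subtype f (by simp)

/-- the "sign" of an element of a dihedral group -/
def dihSign (n : ℕ) : DihedralGroup n →* ℤˣ :=
  MonoidHom.mk' (fun g => match g with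
    | DihedralGroup.r _ => 1
    | DihedralGroup.sr _ => -1) (by
    rintro (a | a) (b | b) <;> simp)

theorem dihedral_solvable (n : ℕ) : Group.IsSolvable (DihedralGroup n) := by
  apply solvable_of_hom_ker_comm (dihSign n)
  rintro (a | a) ha (b | b) hb
  · simp [add_comm]
  · exfalso
    have : dihSign n (DihedralGroup.sr b) = 1 := hb
    simp [dihSign] at this
  · exfalso
    have : dihSign n (DihedralGroup.sr a) = 1 := ha
    simp [dihSign] at this
  · exfalso
    have : dihSign n (DihedralGroup.sr a) = 1 := ha
    simp [dihSign] at this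

section

variable {F : Type*} [Field F]

/-- the diagonal character of the Borel subgroup -/
noncomputable def borChar : Bor F →* Fˣ where
  toFun g := Units.mk0 ((g : SL2 F) 0 0) (by
    have hd := SL2.det_eq (g : SL2 F)
    have h10 : (g : SL2 F) 1 0 = 0 := g.2
    rw [h10, mul_zero, sub_zero] at hd
    exact left_ne_zero_of_mul_eq_one hd)
  map_one' := by apply Units.ext; simp
  map_mul' := by
    intro a b
    apply Units.ext
    have h10 : (a : SL2 F) 1 0 = 0 := a.2
    have h10' : (b : SL2 F) 1 0 = 0 := b.2
    simp [SL2.mul_apply', h10, h10']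

theorem Bor_solvable : Group.IsSolvable (Bor F) := by
  apply solvable_of_hom_ker_comm (borChar (F := F))
  intro a ha b hb
  have ha00 : (a : SL2 F) 0 0 = 1 := by
    have := congrArg Units.val (MonoidHom.mem_ker.mp ha)
    simpa [borChar] using this
  have hb00 : (b : SL2 F) 0 0 = 1 := by
    have := congrArg Units.val (MonoidHom.mem_ker.mp hb)
    simpa [borChar] using this
  have ha10 : (a : SL2 F) 1 0 = 0 := a.2
  have hb10 : (b : SL2 F) 1 0 = 0 := b.2
  have ha11 : (a : SL2 F) 1 1 = 1 := by
    have hd := SL2.det_eq (a : SL2 F)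
    rw [ha10, ha00] at hd
    linear_combination hd
  have hb11 : (b : SL2 F) 1 1 = 1 := by
    have hd := SL2.det_eq (b : SL2 F)
    rw [hb10, hb00] at hd
    linear_combination hd
  apply Subtype.ext
  rw [Subgroup.coe_mul, Subgroup.coe_mul]
  apply SL2.ext4 <;> simp only [SL2.mul_apply', ha00, ha10, ha11, hb00, hb10, hb11] <;> ring

theorem BorP_solvable : Group.IsSolvable (BorP F) := by
  haveI := Bor_solvable (F := F)
  unfold BorP
  exact Group.isSolvable_of_surjective (f := (mkH (F := F)).subgroupMap (Bor F))
    ((mkH (F := F)).subgroupMap_surjective (Bor F))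

theorem normalizer_sylow_solvable [Fintype F] (p : ℕ) [Fact p.Prime] [CharP F p]
    (P : Sylow p (PSL2 F)) :
    Group.IsSolvable (Subgroup.normalizer ((P : Subgroup (PSL2 F)) : Set (PSL2 F))) := by
  obtain ⟨g, hg⟩ := MulAction.exists_smul_eq (PSL2 F) P (sylUppP (F := F) p)
  -- conjugation by `g` maps `N(P)` into `N(Ū) ≤ BorP`
  haveI := BorP_solvable (F := F)
  have hmem : ∀ x ∈ Subgroup.normalizer ((P : Subgroup (PSL2 F)) : Set (PSL2 F)),
      g * x * g⁻¹ ∈ BorP F := by
    intro x hx
    apply normalizer_UppP_le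
    have h1 : (g * x * g⁻¹) • (sylUppP (F := F) p) = sylUppP (F := F) p := by
      rw [← hg, mul_smul, mul_smul, inv_smul_smul, Sylow.smul_eq_iff_mem_normalizer.mpr hx]
    have h2 := Sylow.smul_eq_iff_mem_normalizer.mp h1
    rw [← coe_sylUppP p]
    exact h2
  let f : Subgroup.normalizer ((P : Subgroup (PSL2 F)) : Set (PSL2 F)) →* BorP F :=
    MonoidHom.codRestrict ((MulAut.conj g).toMonoidHom.comp (Subgroup.subtype _)) (BorP F)
      (fun x => hmem x.1 x.2)
  have hf : Function.Injective f := by
    intro a b hab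
    have h1 : g * (a : PSL2 F) * g⁻¹ = g * (b : PSL2 F) * g⁻¹ := congrArg Subtype.val hab
    apply Subtype.ext
    exact mul_left_cancel (mul_right_cancel h1)
  exact Group.isSolvable_of_isSolvable_injective hf

end

/-- a finite group with a solvable subgroup of index at most four is solvable -/
theorem solvable_of_index_le_four {G : Type*} [Group G] [Finite G] (Q : Subgroup G)
    [Group.IsSolvable Q] (h : Q.index ≤ 4) : Group.IsSolvable G := by
  classical
  haveI : Fintype (G ⧸ Q) := Fintype.ofFinite _
  haveI : Group.IsSolvable (Equiv.Perm (G ⧸ Q)) := by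
    apply Cfsg.Agent.S4337.perm_solvable_of_card_le
    rw [← Nat.card_eq_fintype_card]
    exact h
  apply Group.isSolvable_of_ker_le_range Q.subtype (MulAction.toPermHom G (G ⧸ Q))
  rw [← Subgroup.normalCore_eq_ker, Subgroup.range_subtype]
  exact Subgroup.normalCore_le Q

theorem solvable_of_card_two_pow_mul_three {G : Type*} [Group G] [Finite G] (a : ℕ)
    (h : Nat.card G = 2 ^ a * 3) : Group.IsSolvable G := by
  haveI : Fact (Nat.Prime 2) := ⟨Nat.prime_two⟩
  obtain ⟨K, hK⟩ := Sylow.exists_subgroup_card_pow_prime (G := G) 2 (n := a) (by rw [h]; exact dvd_mul_right _ _)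
  have hp : IsPGroup 2 K := IsPGroup.of_card hK
  haveI : Group.IsNilpotent K := hp.isNilpotent
  have hidx : K.index = 3 := by
    have := K.card_mul_index
    rw [hK, h] at this
    exact Nat.eq_of_mul_eq_mul_left (by positivity) this
  exact solvable_of_index_le_four K (by rw [hidx]; norm_num)

theorem PSL2_small_solvable {K : Type*} [Field K] [Fintype K]
    (hk : Fintype.card K = 2 ∨ Fintype.card K = 3) : Group.IsSolvable (PSL2 K) := by
  have h1 := card_PSL2_mul (F := K)
  rcases hk with hk | hk
  · rw [hk] at h1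
    apply solvable_of_card_two_pow_mul_three 1
    have : Nat.gcd 2 (2 - 1) = 1 := by norm_num
    rw [this] at h1
    omega
  · rw [hk] at h1
    apply solvable_of_card_two_pow_mul_three 2
    have : Nat.gcd 2 (3 - 1) = 2 := by norm_num
    rw [this] at h1
    omega

theorem PGL2_small_solvable {K : Type*} [Field K] [Fintype K]
    (hk : Fintype.card K = 2 ∨ Fintype.card K = 3) : Group.IsSolvable (PGL2 K) := by
  have h1 := card_PGL2 (K := K)
  haveI : Finite (PGL2 K) := by
    unfold Matrix.ProjGenLinGroup
    infer_instance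
  rcases hk with hk | hk
  · rw [hk] at h1
    apply solvable_of_card_two_pow_mul_three 1
    omega
  · rw [hk] at h1
    apply solvable_of_card_two_pow_mul_three 3
    omega

end Cfsg.Agent.Lib.Helper1.DkSolv
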