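import Cfsg.Agent.Lib.Helper12.DkD

/-!
dickson-hub (G3): the centralizer in `SL₂(F)`, `F` finite, of an element with `tr² ≠ 4` is cyclic of
order dividing `q - 1` or `q + 1` (helper1, for helper12).
-/

set_option autoImplicit false

namespace Cfsg.Agent.Lib.Helper1.DkTorus

open Cfsg.Agent.Lib.Helper12.SL2 Cfsg.Agent.Lib.Helper12

local notation "SL2" => Matrix.SpecialLinearGroup (Fin 2)

theorem card_dvd_of_pow_eq_one {G : Type*} [Group G] [Finite G] [IsCyclic G] (n : ℕ)
    (h : ∀ y : G, y ^ n = 1) : Nat.card G ∣ n := by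
  obtain ⟨x, hx⟩ := IsCyclic.exists_generator (α := G)
  rw [← orderOf_eq_card_of_forall_mem_zpowers hx]
  exact orderOf_dvd_of_pow_eq_one (h x)

theorem torus {F : Type*} [Field F] [Fintype F] (g : SL2 F) (hg : NonScalar g)
    (hΔ : tr g ^ 2 ≠ 4) :
    IsCyclic (Subgroup.centralizer ({g} : Set (SL2 F))) ∧
      (Nat.card (Subgroup.centralizer ({g} : Set (SL2 F))) ∣ Fintype.card F - 1 ∨
        Nat.card (Subgroup.centralizer ({g} : Set (SL2 F))) ∣ Fintype.card F + 1) := by
  classical
  let L := AlgebraicClosure F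
  let ι : F →+* L := algebraMap F L
  have hι : Function.Injective ι := (algebraMap F L).injective
  -- a root of the characteristic polynomial
  obtain ⟨lam, hlam⟩ : ∃ lam : L, lam ^ 2 - ι (tr g) * lam + 1 = 0 := by
    have hdeg : (Polynomial.C (1 : L) * Polynomial.X ^ 2 + Polynomial.C (-(ι (tr g))) * Polynomial.X
        + Polynomial.C (1 : L)).degree ≠ 0 := by
      rw [Polynomial.degree_quadratic one_ne_zero]; norm_num
    obtain ⟨lam, hl⟩ := IsAlgClosed.exists_root _ hdeg
    refine ⟨lam, ?_⟩
    rw [Polynomial.IsRoot.def] at hl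
    simp only [Polynomial.eval_add, Polynomial.eval_mul, Polynomial.eval_C, Polynomial.eval_pow,
      Polynomial.eval_X] at hl
    linear_combination hl
  obtain ⟨φ, hφi, hφ⟩ := DkD.exists_hom ι g hg hι hΔ lam hlam
  haveI : IsCyclic (Subgroup.centralizer ({g} : Set (SL2 F))) :=
    isCyclic_of_subgroup_isDomain φ hφi
  refine ⟨inferInstance, ?_⟩
  -- Frobenius
  obtain ⟨p, hp⟩ := CharP.exists F
  obtain ⟨n, hpp, hq⟩ := FiniteField.card F p
  haveI : Fact p.Prime := ⟨hpp⟩
  haveI : CharP L p := charP_of_injective_algebraMap hι p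
  let σ : L →+* L := iterateFrobenius L p n
  have hσ : ∀ x : L, σ x = x ^ Fintype.card F := by
    intro x
    rw [hq]; exact iterateFrobenius_def p n x
  have hσι : ∀ a : F, σ (ι a) = ι a := by
    intro a
    rw [hσ, ← map_pow, FiniteField.pow_card]
  have hroot : σ lam ^ 2 - ι (tr g) * σ lam + 1 = 0 := by
    have := congrArg σ hlam
    rw [map_zero, map_add, map_sub, map_mul, map_pow, map_one, hσι] at this
    exact this
  have hor : σ lam = lam ∨ σ lam = ι (tr g) - lam := by
    have : (σ lam - lam) * (σ lam - (ι (tr g) - lam)) = 0 := by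
      linear_combination hroot - hlam
    rcases mul_eq_zero.mp this with h | h
    · left; exact sub_eq_zero.mp h
    · right; exact sub_eq_zero.mp h
  have hunit : ∀ y : Subgroup.centralizer ({g} : Set (SL2 F)), φ y ≠ 0 := by
    intro y h0
    have : φ y * φ y⁻¹ = 1 := by rw [← map_mul, mul_inv_cancel, map_one]
    rw [h0, zero_mul] at this
    exact zero_ne_one this
  have hqpos : 0 < Fintype.card F := Fintype.card_pos
  rcases hor with h1 | h2
  · left
    apply card_dvd_of_pow_eq_one
    intro y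
    apply hφi
    rw [map_pow, map_one]
    obtain ⟨hst, e⟩ := DkD.coords_spec g hg y
    have hy := hφ y _ _ hst e
    have hfix : φ y ^ Fintype.card F = φ y := by
      rw [← hσ, hy, map_add, map_mul, hσι, hσι, h1]
    have : φ y * φ y ^ (Fintype.card F - 1) = φ y * 1 := by
      rw [← pow_succ', Nat.sub_add_cancel hqpos, hfix, mul_one]
    exact mul_left_cancel₀ (hunit y) this
  · right
    apply card_dvd_of_pow_eq_one
    intro y
    apply hφi
    rw [map_pow, map_one]
    obtain ⟨hst, e⟩ := DkD.coords_spec g hg y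
    have hy := hφ y _ _ hst e
    have hconj : φ y ^ Fintype.card F =
        ι (DkD.cs g hg y) + ι (DkD.ct g hg y) * (ι (tr g) - lam) := by
      rw [← hσ, hy, map_add, map_mul, hσι, hσι, h2]
    have hn : ι (DkD.cs g hg y) ^ 2 + ι (tr g) * ι (DkD.cs g hg y) * ι (DkD.ct g hg y)
        + ι (DkD.ct g hg y) ^ 2 = 1 := by
      rw [← map_pow, ← map_pow, ← map_mul, ← map_mul, ← map_add, ← map_add, hst, map_one]
    rw [pow_succ, hconj, hy]
    linear_combination hn - (ι (DkD.ct g hg y) ^ 2) * hlam

end Cfsg.Agent.Lib.Helper1.DkTorus
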