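import Mathlib
import Cfsg.Prelude.Def_ConjugacyFunctors
import Cfsg.Agent.Lib.Helper1.FamilyTransfer

set_option autoImplicit false

namespace Cfsg.Agent.Lib.Helper1

open Cfsg Cfsg.Agent.Lib.Helper29

variable {G : Type*} [Group G]

/-- Left conjugation of a set: `A ↦ u A u⁻¹`. -/
def lcs (u : G) (A : Set G) : Set G := (fun a => u * a * u⁻¹) '' A

theorem lcs_one (A : Set G) : lcs 1 A = A := by unfold lcs; simp

theorem lcs_mul (u v : G) (A : Set G) : lcs (u * v) A = lcs u (lcs v A) := by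
  unfold lcs
  rw [Set.image_image]
  congr 1
  funext a
  group

theorem lcs_mono (u : G) {A B : Set G} (h : A ⊆ B) : lcs u A ⊆ lcs u B := Set.image_mono h

theorem lcs_inv_lcs (u : G) (A : Set G) : lcs u⁻¹ (lcs u A) = A := by
  rw [← lcs_mul, inv_mul_cancel, lcs_one]

theorem lcs_coe (u : G) (T : Subgroup G) : lcs u (T : Set G) = ((cj u T : Subgroup G) : Set G) := by
  unfold lcs
  ext x
  simp only [Set.mem_image, SetLike.mem_coe, Subgroup.mem_map, MulEquiv.coe_toMonoidHom,
    MulAut.conj_apply]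

theorem lcs_eq_rcs_inv (u : G) (A : Set G) : lcs u A = rcs u⁻¹ A := by
  unfold lcs rcs
  rw [inv_inv]

theorem lcs_congr {u v : G} {A : Set G} (h : ∀ a ∈ A, u * a * u⁻¹ = v * a * v⁻¹) :
    lcs u A = lcs v A := by
  unfold lcs
  exact Set.image_congr h

/-- Chains of conjugations by elements of `H ∩ N(W P)`, `W ∈ 𝓦`, keeping the set inside `P`. -/
inductive LChain (𝓦 : Set (Subgroup G → Subgroup G)) (H P : Subgroup G) : Set G → G → Prop
  | nil (A : Set G) (hA : A ⊆ (P : Set G)) : LChain 𝓦 H P A 1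
  | step (A : Set G) (u y : G) (W : Subgroup G → Subgroup G) (hW : W ∈ 𝓦)
      (hy : y ∈ H ⊓ Subgroup.normalizer ((W P : Subgroup G) : Set G))
      (h : LChain 𝓦 H P A u) (hA : lcs (y * u) A ⊆ (P : Set G)) : LChain 𝓦 H P A (y * u)

variable {𝓦 : Set (Subgroup G → Subgroup G)} {H P : Subgroup G}

theorem LChain.subset {A : Set G} {u : G} (h : LChain 𝓦 H P A u) : A ⊆ (P : Set G) := by
  induction h with
  | nil hA => exact hA
  | step u y W hW hy _ _ ih => exact ih

theorem LChain.image_subset {A : Set G} {u : G} (h : LChain 𝓦 H P A u) :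
    lcs u A ⊆ (P : Set G) := by
  cases h with
  | nil hA => rw [lcs_one]; exact hA
  | step u y W hW hy _ hA => exact hA

theorem LChain.mono {A : Set G} {u : G} (h : LChain 𝓦 H P A u) :
    ∀ B : Set G, B ⊆ A → LChain 𝓦 H P B u := by
  induction h with
  | nil hA => intro B hB; exact LChain.nil B (hB.trans hA)
  | step u y W hW hy _ hA ih =>
    intro B hB
    exact LChain.step B u y W hW hy (ih B hB) ((lcs_mono _ hB).trans hA)

theorem LChain.trans {A : Set G} {u v : G} (h₁ : LChain 𝓦 H P A u)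
    (h₂ : LChain 𝓦 H P (lcs u A) v) : LChain 𝓦 H P A (v * u) := by
  induction h₂ with
  | nil hB' => rw [one_mul]; exact h₁
  | step v y W hW hy _ hB' ih =>
    rw [mul_assoc]
    refine LChain.step A (v * u) y W hW hy ih ?_
    rw [← mul_assoc, lcs_mul]
    exact hB'

theorem LChain.single {A : Set G} {y : G} {W : Subgroup G → Subgroup G} (hW : W ∈ 𝓦)
    (hy : y ∈ H ⊓ Subgroup.normalizer ((W P : Subgroup G) : Set G)) (hA : A ⊆ (P : Set G))
    (hyA : lcs y A ⊆ (P : Set G)) : LChain 𝓦 H P A y := by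
  have := LChain.step A 1 y W hW hy (LChain.nil A hA) (by rw [mul_one]; exact hyA)
  rwa [mul_one] at this

theorem LChain.symm {A : Set G} {u : G} (h : LChain 𝓦 H P A u) :
    LChain 𝓦 H P (lcs u A) u⁻¹ := by
  induction h with
  | nil hA => rw [inv_one, lcs_one]; exact LChain.nil A hA
  | step u y W hW hy h' hA ih =>
    rw [mul_inv_rev]
    have h1 : LChain 𝓦 H P (lcs (y * u) A) y⁻¹ := by
      refine LChain.single hW (inv_mem hy) hA ?_
      rw [lcs_mul, lcs_inv_lcs]
      exact h'.image_subset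
    apply LChain.trans h1
    rw [lcs_mul, lcs_inv_lcs]
    exact ih

/-- From the `Fin`-indexed data of `FamilyControlsStrongFusionIn` to an `LChain`. -/
theorem LChain.of_fin (A : Set G) : ∀ (n : ℕ) (c : Fin (n + 1) → G), c 0 = 1 →
    (∀ i : Fin n, ∃ W ∈ 𝓦, c i.succ * (c i.castSucc)⁻¹ ∈
      H ⊓ Subgroup.normalizer ((W P : Subgroup G) : Set G)) →
    (∀ i : Fin (n + 1), (fun a => c i * a * (c i)⁻¹) '' A ⊆ (P : Set G)) →
    LChain 𝓦 H P A (c (Fin.last n)) := by
  intro n
  induction n with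
  | zero =>
    intro c h0 _ h3
    have : c (Fin.last 0) = 1 := h0
    rw [this]
    refine LChain.nil A ?_
    have := h3 0
    rw [h0] at this
    simpa using this
  | succ n ih =>
    intro c h0 h2 h3
    have h1 := ih (fun i => c i.castSucc) h0 (fun i => by
      obtain ⟨W, hW, hmem⟩ := h2 i.castSucc
      rw [Fin.succ_castSucc] at hmem
      exact ⟨W, hW, hmem⟩) (fun i => h3 i.castSucc)
    obtain ⟨W, hW, hmem⟩ := h2 (Fin.last n)
    rw [Fin.succ_last] at hmem
    have h4 := LChain.step A _ _ W hW hmem h1 (by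
      have := h3 (Fin.last (n + 1))
      rw [inv_mul_cancel_right]
      exact this)
    rw [inv_mul_cancel_right] at h4
    exact h4

/-- From an `LChain` back to `Fin`-indexed data. -/
theorem LChain.to_fin {A : Set G} {u : G} (h : LChain 𝓦 H P A u) :
    ∃ (n : ℕ) (c : Fin (n + 1) → G), c 0 = 1 ∧
      (∀ i : Fin n, ∃ W ∈ 𝓦, c i.succ * (c i.castSucc)⁻¹ ∈
        H ⊓ Subgroup.normalizer ((W P : Subgroup G) : Set G)) ∧
      (∀ i : Fin (n + 1), (fun a => c i * a * (c i)⁻¹) '' A ⊆ (P : Set G)) ∧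
      c (Fin.last n) = u := by
  induction h with
  | nil hA =>
    refine ⟨0, fun _ => 1, rfl, fun i => i.elim0, fun i => ?_, rfl⟩
    simpa using hA
  | step u y W hW hy _ hA ih =>
    obtain ⟨n, c, h0, h2, h3, hlast⟩ := ih
    refine ⟨n + 1, Fin.snoc c (y * u), ?_, ?_, ?_, ?_⟩
    · have : (0 : Fin (n + 2)) = Fin.castSucc (0 : Fin (n + 1)) := rfl
      rw [this, Fin.snoc_castSucc, h0]
    · intro i
      refine Fin.lastCases ?_ (fun j => ?_) i
      · refine ⟨W, hW, ?_⟩
        rw [Fin.succ_last, Fin.snoc_last, Fin.snoc_castSucc, hlast]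
        simpa using hy
      · obtain ⟨W', hW', hmem⟩ := h2 j
        refine ⟨W', hW', ?_⟩
        rw [← Fin.castSucc_succ, Fin.snoc_castSucc, Fin.snoc_castSucc]
        exact hmem
    · intro i
      refine Fin.lastCases ?_ (fun j => ?_) i
      · rw [Fin.snoc_last]
        exact hA
      · rw [Fin.snoc_castSucc]
        exact h3 j
    · rw [Fin.snoc_last]

/-- Conjugating a chain by an element of `H`. -/
theorem LChain.conj {p : ℕ} (h𝓦 : ∀ W ∈ 𝓦, IsConjugacyFunctor p W) (hPp : IsPGroup p P)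
    (m : G) (hm : m ∈ H) {A : Set G} {u : G} (h : LChain 𝓦 H P A u) :
    LChain 𝓦 H (cj m P) (lcs m A) (m * u * m⁻¹) := by
  induction h with
  | nil hA =>
    have : m * 1 * m⁻¹ = 1 := by group
    rw [this]
    refine LChain.nil _ ?_
    rw [← lcs_coe]
    exact lcs_mono m hA
  | step u y W hW hy _ hA ih =>
    have e : m * (y * u) * m⁻¹ = (m * y * m⁻¹) * (m * u * m⁻¹) := by group
    rw [e]
    refine LChain.step _ _ _ W hW ?_ ih ?_
    · refine Subgroup.mem_inf.mpr ⟨mul_mem (mul_mem hm hy.1) (inv_mem hm), ?_⟩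
      have hWeq : W (cj m P) = cj m (W P) := (h𝓦 W hW P hPp).2.2 m
      rw [hWeq, ← cj_normalizer]
      exact ⟨y, hy.2, rfl⟩
    · rw [← e, ← lcs_coe]
      have : lcs (m * (y * u) * m⁻¹) (lcs m A) = lcs m (lcs (y * u) A) := by
        rw [← lcs_mul, ← lcs_mul]
        congr 1
        group
      rw [this]
      exact lcs_mono m hA

/-- The conjugation `a ↦ h a h⁻¹` on `A` is realized by a global chain. -/
def Good (𝓦 : Set (Subgroup G → Subgroup G)) (S : Subgroup G) (A : Set G) (h : G) : Prop :=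
  ∃ u : G, LChain 𝓦 ⊤ S A u ∧ ∀ a ∈ A, u * a * u⁻¹ = h * a * h⁻¹

theorem Good.mono {S : Subgroup G} {A B : Set G} {h : G} (hg : Good 𝓦 S A h) (hB : B ⊆ A) :
    Good 𝓦 S B h := by
  obtain ⟨u, hu, hag⟩ := hg
  exact ⟨u, hu.mono B hB, fun b hb => hag b (hB hb)⟩

theorem Good.congr {S : Subgroup G} {A : Set G} {h h' : G} (hg : Good 𝓦 S A h)
    (hh : ∀ a ∈ A, h * a * h⁻¹ = h' * a * h'⁻¹) : Good 𝓦 S A h' := by
  obtain ⟨u, hu, hag⟩ := hg
  exact ⟨u, hu, fun a ha => (hag a ha).trans (hh a ha)⟩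

theorem Good.trans {S : Subgroup G} {A : Set G} {h₁ h₂ : G} (hg₁ : Good 𝓦 S A h₁)
    (hg₂ : Good 𝓦 S (lcs h₁ A) h₂) : Good 𝓦 S A (h₂ * h₁) := by
  obtain ⟨u₁, hu₁, hag₁⟩ := hg₁
  obtain ⟨u₂, hu₂, hag₂⟩ := hg₂
  have e : lcs u₁ A = lcs h₁ A := lcs_congr hag₁
  refine ⟨u₂ * u₁, hu₁.trans (e ▸ hu₂), ?_⟩
  intro a ha
  have h1 := hag₁ a ha
  have h2 := hag₂ (h₁ * a * h₁⁻¹) ⟨a, ha, rfl⟩
  calc u₂ * u₁ * a * (u₂ * u₁)⁻¹ = u₂ * (u₁ * a * u₁⁻¹) * u₂⁻¹ := by group
    _ = u₂ * (h₁ * a * h₁⁻¹) * u₂⁻¹ := by rw [h1]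
    _ = h₂ * (h₁ * a * h₁⁻¹) * h₂⁻¹ := h2
    _ = h₂ * h₁ * a * (h₂ * h₁)⁻¹ := by group

theorem Good.symm {S : Subgroup G} {A : Set G} {h : G} (hg : Good 𝓦 S A h) :
    Good 𝓦 S (lcs h A) h⁻¹ := by
  obtain ⟨u, hu, hag⟩ := hg
  have e : lcs u A = lcs h A := lcs_congr hag
  refine ⟨u⁻¹, e ▸ hu.symm, ?_⟩
  rintro _ ⟨a, ha, rfl⟩
  change u⁻¹ * (h * a * h⁻¹) * u⁻¹⁻¹ = h⁻¹ * (h * a * h⁻¹) * h⁻¹⁻¹
  have e1 : u⁻¹ * (h * a * h⁻¹) * u⁻¹⁻¹ = a := by rw [← hag a ha]; group
  have e2 : h⁻¹ * (h * a * h⁻¹) * h⁻¹⁻¹ = a := by group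
  rw [e1, e2]

theorem Good.one {S : Subgroup G} {A : Set G} (hA : A ⊆ (S : Set G)) : Good 𝓦 S A 1 :=
  ⟨1, LChain.nil A hA, fun _ _ => rfl⟩

/-- Trivial action is good. -/
theorem Good.of_trivial {S : Subgroup G} {A : Set G} {h : G} (hA : A ⊆ (S : Set G))
    (hh : ∀ a ∈ A, h * a * h⁻¹ = a) : Good 𝓦 S A h :=
  (Good.one hA).congr (fun a ha => by rw [hh a ha]; group)

/-- The chain lemma for strong fusion. -/
theorem chain_good [Finite G] (𝓕 : Set (Subgroup G)) (S : Subgroup G) (m : ℕ)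
    (h𝓕 : ∀ T ∈ 𝓕, T ≤ S)
    (hSt : ∀ T ∈ 𝓕, T ≠ ⊥ → m ≤ Nat.card (nS S T) →
      ∀ (B : Set G) (x : G), x ∈ Subgroup.normalizer (T : Set G) → B ⊆ (nS S T : Set G) →
        lcs x B ⊆ (nS S T : Set G) → Good 𝓦 S B x) :
    ∀ (A : Set G) (g : G), FChain 𝓕 A g → m ≤ A.ncard → A ⊆ (S : Set G) → Good 𝓦 S A g⁻¹ := by
  intro A g hch
  induction hch with
  | nil A => intro _ hA; rw [inv_one]; exact Good.one hA
  | cons A T x g' hT hxN hAT _ ih =>
    intro hm hAS
    have hTS := h𝓕 T hT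
    have hxA : rcs x A ⊆ (T : Set G) := rcs_subset_of_mem_normalizer hxN hAT
    have h2 := ih (by rw [rcs_ncard]; exact hm) (hxA.trans (SetLike.coe_subset_coe.mpr hTS))
    have h1 : Good 𝓦 S A x⁻¹ := by
      by_cases hTne : T = ⊥
      · apply Good.of_trivial hAS
        intro a ha
        have : a = 1 := by
          have := hAT ha
          rw [hTne] at this
          simpa using this
        rw [this]; group
      · have hTle : T ≤ nS S T := le_inf hTS Subgroup.le_normalizer
        have hcardT : m ≤ Nat.card (nS S T) := by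
          have h3 : A.ncard ≤ (T : Set G).ncard := Set.ncard_le_ncard hAT (Set.toFinite _)
          have h4 : (T : Set G).ncard = Nat.card T := (Nat.card_coe_set_eq (T : Set G)).symm
          have h5 : Nat.card T ≤ Nat.card (nS S T) := Subgroup.card_le_of_le hTle
          omega
        apply hSt T hT hTne hcardT A x⁻¹ (inv_mem hxN)
          (hAT.trans (SetLike.coe_subset_coe.mpr hTle))
        rw [lcs_eq_rcs_inv, inv_inv]
        exact hxA.trans (SetLike.coe_subset_coe.mpr hTle)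
    rw [mul_inv_rev]
    apply h1.trans
    rw [lcs_eq_rcs_inv, inv_inv]
    exact h2

/-- Family control of strong fusion holds with respect to every Sylow `p`-subgroup of `H`,
in chain form. -/
theorem family_fusion_transport [Finite G] {p : ℕ} [Fact p.Prime]
    (h𝓦 : ∀ W ∈ 𝓦, IsConjugacyFunctor p W)
    (H P : Subgroup G) (hPH : P ≤ H) (hPp : IsPGroup p P)
    (hPs : ¬ p ∣ P.relIndex H) (hc : FamilyControlsStrongFusionIn p 𝓦 H) :
    ∀ (B : Set G) (x : G), x ∈ H → B ⊆ (P : Set G) → lcs x B ⊆ (P : Set G) →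
      ∃ u : G, LChain 𝓦 H P B u ∧ ∀ b ∈ B, u * b * u⁻¹ = x * b * x⁻¹ := by
  obtain ⟨T₀, hT₀H, hT₀p, hT₀s, hctl⟩ := hc
  have hsyl₀ : IsSylowSub p T₀ H := isSylowSub_of_not_dvd_relIndex hT₀H hT₀p hT₀s
  have hsylP : IsSylowSub p P H := isSylowSub_of_not_dvd_relIndex hPH hPp hPs
  obtain ⟨m, hmH, hmle⟩ := exists_cj_le_of_isSylowSub hsyl₀ hPH hPp
  have hcard : Nat.card T₀ = Nat.card P := by
    rw [((isSylowSub_iff hT₀H).mp hsyl₀).2, ((isSylowSub_iff hPH).mp hsylP).2]
  have hmeq : cj m P = T₀ := by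
    apply Subgroup.eq_of_le_of_card_ge hmle
    rw [card_cj, hcard]
  intro B x hxH hBP hxB
  have hB' : lcs m B ⊆ (T₀ : Set G) := by
    rw [← hmeq, ← lcs_coe]; exact lcs_mono m hBP
  have hx' : m * x * m⁻¹ ∈ H := mul_mem (mul_mem hmH hxH) (inv_mem hmH)
  have hxB' : (fun a => (m * x * m⁻¹) * a * (m * x * m⁻¹)⁻¹) '' (lcs m B) ⊆ (T₀ : Set G) := by
    have e : (fun a => (m * x * m⁻¹) * a * (m * x * m⁻¹)⁻¹) '' (lcs m B) = lcs m (lcs x B) := by
      change lcs (m * x * m⁻¹) (lcs m B) = _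
      rw [← lcs_mul, ← lcs_mul]
      congr 1
      group
    rw [e, ← hmeq, ← lcs_coe]
    exact lcs_mono m hxB
  obtain ⟨n, c, h0, h2, h3, hlast⟩ := hctl (lcs m B) (m * x * m⁻¹) hx' hB' hxB'
  have hch : LChain 𝓦 H T₀ (lcs m B) (c (Fin.last n)) := LChain.of_fin _ n c h0 h2 h3
  have hch' := hch.conj h𝓦 hT₀p m⁻¹ (inv_mem hmH)
  have eP : cj m⁻¹ T₀ = P := by rw [← hmeq, cj_inv_cj]
  rw [lcs_inv_lcs, eP, inv_inv] at hch'
  refine ⟨_, hch', ?_⟩
  intro b hb
  have := hlast (m * b * m⁻¹) ⟨b, hb, rfl⟩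
  calc m⁻¹ * c (Fin.last n) * m * b * (m⁻¹ * c (Fin.last n) * m)⁻¹
      = m⁻¹ * (c (Fin.last n) * (m * b * m⁻¹) * (c (Fin.last n))⁻¹) * m := by group
    _ = m⁻¹ * ((m * x * m⁻¹) * (m * b * m⁻¹) * (m * x * m⁻¹)⁻¹) * m := by rw [this]
    _ = x * b * x⁻¹ := by group

/-- Key induction for the family version of local-to-global strong fusion. -/
theorem family_wp_fusion [Finite G] {p : ℕ} [Fact p.Prime] (S : Sylow p G)
    (h𝓦 : ∀ W ∈ 𝓦, IsConjugacyFunctor p W)
    (hloc : ∀ T : Subgroup G, T ≤ (S : Subgroup G) → T ≠ ⊥ →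
      ¬ p ∣ ((S : Subgroup G) ⊓ Subgroup.normalizer ((T : Subgroup G) : Set G)).relIndex
        (Subgroup.normalizer ((T : Subgroup G) : Set G)) →
      FamilyControlsStrongFusionIn p 𝓦 (Subgroup.normalizer ((T : Subgroup G) : Set G))) :
    ∀ (k : ℕ) (T : Subgroup G), T ∈ sylFamily p (S : Subgroup G) → T ≠ ⊥ →
      Nat.card S - Nat.card (nS (S : Subgroup G) T) = k →
      ∀ (B : Set G) (x : G), x ∈ Subgroup.normalizer (T : Set G) →
        B ⊆ (nS (S : Subgroup G) T : Set G) → lcs x B ⊆ (nS (S : Subgroup G) T : Set G) →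
        Good 𝓦 (S : Subgroup G) B x := by
  intro k
  induction k using Nat.strong_induction_on with
  | _ k ih =>
    intro T hT hTne hk B x hxN hBP hxB
    set P := nS (S : Subgroup G) T with hP
    have hPp : IsPGroup p P := S.isPGroup'.to_le inf_le_left
    have hPN : P ≤ Subgroup.normalizer (T : Set G) := inf_le_right
    have hPS' : (P : Set G) ⊆ ((S : Subgroup G) : Set G) := SetLike.coe_subset_coe.mpr inf_le_left
    -- Claim F
    have claimF : ∀ W ∈ 𝓦, ∀ y ∈ Subgroup.normalizer ((W P : Subgroup G) : Set G),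
        ∀ B' : Set G, B' ⊆ (P : Set G) → lcs y B' ⊆ (P : Set G) →
        Good 𝓦 (S : Subgroup G) B' y := by
      intro W hW y hy B' hB' hyB'
      by_cases hPS : P = (S : Subgroup G)
      · refine ⟨y, ?_, fun _ _ => rfl⟩
        rw [hPS] at hy hB' hyB'
        exact LChain.single hW (Subgroup.mem_inf.mpr ⟨Subgroup.mem_top _, hy⟩) hB' hyB'
      · have hPlt : P < (S : Subgroup G) := lt_of_le_of_ne inf_le_left hPS
        set V := W P with hV
        have hTP : T ≤ P := le_inf hT.1 Subgroup.le_normalizer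
        have hPne : P ≠ ⊥ := fun h => hTne (le_bot_iff.mp (h ▸ hTP))
        have hVne : V ≠ ⊥ := (h𝓦 W hW P hPp).2.1 hPne
        have hgrow := lt_inf_normalizer_of_lt S.isPGroup' hPlt
        set R := nS (S : Subgroup G) V with hR
        have hle : (S : Subgroup G) ⊓ Subgroup.normalizer (P : Set G) ≤ R :=
          inf_le_inf_left _ (normalizer_le_normalizer_functor W (h𝓦 W hW) P hPp)
        have hPR : P ≤ R := hgrow.le.trans hle
        have hcardPR : Nat.card P < Nat.card R := by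
          by_contra hc
          have h1 : Nat.card R ≤ Nat.card P := not_lt.mp hc
          have h2 := Subgroup.card_le_of_le hle
          have h3 : P = (S : Subgroup G) ⊓ Subgroup.normalizer (P : Set G) :=
            Subgroup.eq_of_le_of_card_ge hgrow.le (h2.trans h1)
          exact hgrow.ne h3
        have hRp : IsPGroup p R := S.isPGroup'.to_le inf_le_left
        have hRS : R ≤ (S : Subgroup G) := inf_le_left
        obtain ⟨c, hcR, hcs⟩ := exists_cj_sylCond S V R inf_le_right hRp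
        set V' := cj c V with hV'
        have hV'ne : V' ≠ ⊥ := by
          intro h
          apply hVne
          have : Nat.card V = 1 := by rw [← card_cj c V, ← hV', h, Subgroup.card_bot]
          exact Subgroup.card_eq_one.mp this
        have hcRle : cj c R ≤ nS (S : Subgroup G) V' := by
          refine le_inf hcR ?_
          rw [hV', ← cj_normalizer]
          exact cj_mono inf_le_right
        have hV'S : V' ≤ (S : Subgroup G) := by
          have hVR : V ≤ R := by
            refine le_inf ((h𝓦 W hW P hPp).1.trans inf_le_left) Subgroup.le_normalizer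
          exact (cj_mono hVR).trans hcR
        have hV'mem : V' ∈ sylFamily p (S : Subgroup G) := ⟨hV'S, (sylCond_iff S V').mp hcs⟩
        have hcardR' : Nat.card R ≤ Nat.card (nS (S : Subgroup G) V') := by
          rw [← card_cj c R]; exact Subgroup.card_le_of_le hcRle
        have hcardS' : Nat.card (nS (S : Subgroup G) V') ≤ Nat.card S :=
          Subgroup.card_le_of_le inf_le_left
        have hIHV' := ih (Nat.card S - Nat.card (nS (S : Subgroup G) V')) (by omega) V' hV'mem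
          hV'ne rfl
        have hSt : ∀ T' ∈ sylFamily p (S : Subgroup G), T' ≠ ⊥ →
            Nat.card R ≤ Nat.card (nS (S : Subgroup G) T') →
            ∀ (B : Set G) (x : G), x ∈ Subgroup.normalizer (T' : Set G) →
              B ⊆ (nS (S : Subgroup G) T' : Set G) → lcs x B ⊆ (nS (S : Subgroup G) T' : Set G) →
              Good 𝓦 (S : Subgroup G) B x := by
          intro T' hT' hT'ne hcard
          have hc2 : Nat.card (nS (S : Subgroup G) T') ≤ Nat.card S :=
            Subgroup.card_le_of_le inf_le_left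
          exact ih (Nat.card S - Nat.card (nS (S : Subgroup G) T')) (by omega) T' hT' hT'ne rfl
        have hch := alperin_goldschmidt_chain S (sylFamily p (S : Subgroup G)) (fun U hU => hU.1)
          (sylFamily_criterion S) _ R hRS rfl c⁻¹ (by rw [inv_inv]; exact hcR)
        have hgoodR : Good 𝓦 (S : Subgroup G) (R : Set G) c := by
          have := chain_good (𝓦 := 𝓦) (sylFamily p (S : Subgroup G)) (S : Subgroup G)
            (Nat.card R) (fun U hU => hU.1) hSt _ _ hch
            (by rw [← Nat.card_coe_set_eq]; exact le_rfl) (SetLike.coe_subset_coe.mpr hRS)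
          rwa [inv_inv] at this
        -- the three pieces
        have hB'R : B' ⊆ (R : Set G) := hB'.trans (SetLike.coe_subset_coe.mpr hPR)
        have hyB'R : lcs y B' ⊆ (R : Set G) := hyB'.trans (SetLike.coe_subset_coe.mpr hPR)
        have g1 : Good 𝓦 (S : Subgroup G) B' c := hgoodR.mono hB'R
        have g3 : Good 𝓦 (S : Subgroup G) (lcs c (lcs y B')) c⁻¹ := (hgoodR.mono hyB'R).symm
        have hy' : c * y * c⁻¹ ∈ Subgroup.normalizer (V' : Set G) := by
          rw [hV', ← cj_normalizer]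
          exact ⟨y, hy, rfl⟩
        have hsub1 : lcs c B' ⊆ (nS (S : Subgroup G) V' : Set G) := by
          refine (lcs_mono c hB'R).trans ?_
          rw [lcs_coe]
          exact SetLike.coe_subset_coe.mpr hcRle
        have e2 : lcs (c * y * c⁻¹) (lcs c B') = lcs c (lcs y B') := by
          rw [← lcs_mul, ← lcs_mul]
          congr 1
          group
        have hsub2 : lcs (c * y * c⁻¹) (lcs c B') ⊆ (nS (S : Subgroup G) V' : Set G) := by
          rw [e2]
          refine (lcs_mono c hyB'R).trans ?_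
          rw [lcs_coe]
          exact SetLike.coe_subset_coe.mpr hcRle
        have g2 : Good 𝓦 (S : Subgroup G) (lcs c B') (c * y * c⁻¹) :=
          hIHV' _ _ hy' hsub1 hsub2
        have g12 := g1.trans g2
        have e3 : lcs (c * y * c⁻¹ * c) B' = lcs c (lcs y B') := by
          rw [← lcs_mul]
          congr 1
          group
        have g123 := g12.trans (e3 ▸ g3)
        have : c⁻¹ * (c * y * c⁻¹ * c) = y := by group
        rwa [this] at g123
    -- from the local chain to a global one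
    have hlocal : ∀ (B : Set G) (u : G), LChain 𝓦 (Subgroup.normalizer (T : Set G)) P B u →
        Good 𝓦 (S : Subgroup G) B u := by
      intro B u hch
      induction hch with
      | nil hA => exact Good.one (hA.trans hPS')
      | step u y W hW hy hch' hA ih' =>
        have hB' := hch'.image_subset
        have hyB' : lcs y (lcs u B) ⊆ (P : Set G) := by rw [← lcs_mul]; exact hA
        exact ih'.trans (claimF W hW y hy.2 _ hB' hyB')
    obtain ⟨u, hu, hag⟩ := family_fusion_transport h𝓦 _ P hPN hPp hT.2 (hloc T hT.1 hTne hT.2)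
      B x hxN hBP hxB
    exact (hlocal B u hu).congr hag

end Cfsg.Agent.Lib.Helper1
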