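import Mathlib
import Cfsg.Prelude.Def_ConjugacyFunctors
import Cfsg.Prelude.Def_Solvable
import Cfsg.Agent.S1971
import Cfsg.Agent.Lib.Helper1.LocalToGlobalTransfer
import Cfsg.Agent.Lib.Helper2.Cores

/-!
Control of transfer in sections (Glauberman): abstract sections of a group, transport of
isomorphism-invariant `p`-group functors, and the inductive theorem (helper1).
-/

set_option autoImplicit false
universe u
open Cfsg
open scoped Pointwise commutatorElement

namespace Cfsg.Agent.Lib.Helper1.SecT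

open Cfsg.Agent.Lib.Helper1 Cfsg.Agent.Lib.Helper29 Cfsg.Agent.Lib.Helper2 Cfsg.Agent.S1971

/-- `X` is isomorphic to a section `K/R` of `G`. -/
def IsSec (G : Type u) [Group G] (X : Type u) [Group X] : Prop :=
  ∃ (K R : Subgroup G) (hR : (R.subgroupOf K).Normal), Nonempty (X ≃* (↥K ⧸ R.subgroupOf K))

theorem IsSec.sub {G X : Type u} [Group G] [Group X] (h : IsSec G X) (H : Subgroup X) :
    IsSec G ↥H := by
  obtain ⟨K, R, hR, ⟨e⟩⟩ := h
  obtain ⟨K₁, hR₁, ψ, hψi, hψr⟩ := sectionSub K R (H.map e.toMonoidHom)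
  refine ⟨K₁, R, hR₁, ⟨?_⟩⟩
  have e1 : ↥H ≃* ↥(H.map e.toMonoidHom) := H.equivMapOfInjective e.toMonoidHom e.injective
  have e2 : (↥K₁ ⧸ R.subgroupOf K₁) ≃* ↥ψ.range := MonoidHom.ofInjective hψi
  exact e1.trans ((MulEquiv.subgroupCongr hψr.symm).trans e2.symm)

theorem IsSec.quot {G X : Type u} [Group G] [Group X] (h : IsSec G X) (N : Subgroup X) [N.Normal] :
    IsSec G (X ⧸ N) := by
  obtain ⟨K, R, hR, ⟨e⟩⟩ := h
  have hn : (N.map e.toMonoidHom).Normal :=
    Subgroup.Normal.map inferInstance e.toMonoidHom e.surjective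
  obtain ⟨R₁, hR₁, q, hqs, hqk⟩ := sectionQuot K R (N.map e.toMonoidHom)
  refine ⟨K, R₁, hR₁, ⟨?_⟩⟩
  let f : X →* (↥K ⧸ R₁.subgroupOf K) := q.comp e.toMonoidHom
  have hf : Function.Surjective f := hqs.comp e.surjective
  have hk : f.ker = N := by
    ext x
    rw [MonoidHom.mem_ker]
    show q (e x) = 1 ↔ _
    rw [← MonoidHom.mem_ker, hqk]
    constructor
    · rintro ⟨y, hy, hyx⟩
      have : y = x := e.injective hyx
      rwa [← this]
    · intro hx
      exact ⟨x, hx, rfl⟩
  exact (QuotientGroup.quotientMulEquivOfEq hk.symm).trans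
    (QuotientGroup.quotientKerEquivOfSurjective f hf)

theorem IsSec.self {G : Type u} [Group G] (K R : Subgroup G) [hR : (R.subgroupOf K).Normal] :
    IsSec G (↥K ⧸ R.subgroupOf K) := ⟨K, R, hR, ⟨MulEquiv.refl _⟩⟩

variable {p : ℕ} [Fact p.Prime]

/-- Transport of the induced functor along a homomorphism injective on `T`. -/
theorem induced_map {X Y : Type u} [Group X] [Group Y] [Finite X]
    (W : ∀ (Q : Type u) [Group Q], Subgroup Q) (hW : IsCharPFunctor.{u} p W)
    (ψ : X →* Y) (T : Subgroup X) (hT : IsPGroup p T)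
    (hinj : ∀ t ∈ T, ψ t = 1 → t = 1) :
    (inducedFunctor W T).map ψ = inducedFunctor W (T.map ψ) := by
  have hbij : Function.Bijective (ψ.subgroupMap T) := by
    refine ⟨?_, MonoidHom.subgroupMap_surjective ψ T⟩
    rw [injective_iff_map_eq_one]
    intro t ht
    have h1 : ψ t = 1 := by
      have := congrArg Subtype.val ht
      simpa using this
    exact Subtype.ext (hinj t t.2 h1)
  let e : ↥T ≃* ↥(T.map ψ) := MulEquiv.ofBijective (ψ.subgroupMap T) hbij
  have h1 := hW.2 ↥T ↥(T.map ψ) hT e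
  unfold inducedFunctor
  rw [← h1, Subgroup.map_map, Subgroup.map_map]
  rfl

theorem induced_map_inj {X Y : Type u} [Group X] [Group Y] [Finite X]
    (W : ∀ (Q : Type u) [Group Q], Subgroup Q) (hW : IsCharPFunctor.{u} p W)
    (ψ : X →* Y) (hψ : Function.Injective ψ) (T : Subgroup X) (hT : IsPGroup p T) :
    (inducedFunctor W T).map ψ = inducedFunctor W (T.map ψ) :=
  induced_map W hW ψ T hT (fun t _ h => hψ (h.trans (map_one ψ).symm))

theorem isConjugacyFunctor_induced {X : Type u} [Group X] [Finite X]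
    (W : ∀ (Q : Type u) [Group Q], Subgroup Q) (hW : IsCharPFunctor.{u} p W) :
    IsConjugacyFunctor p (inducedFunctor (G := X) W) := by
  intro P hP
  refine ⟨W_le W P, fun hne => W_ne_bot W hW P hP hne, fun g => ?_⟩
  exact (induced_map_inj W hW (MulAut.conj g).toMonoidHom (MulAut.conj g).injective P hP).symm

/-- The normalizer of the functor value. -/
abbrev NW {X : Type u} [Group X] (W : ∀ (Q : Type u) [Group Q], Subgroup Q) (S : Subgroup X) :
    Subgroup X :=
  Subgroup.normalizer ((inducedFunctor W S : Subgroup X) : Set X)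

/-- `W` controls transfer in `X` (for every Sylow `p`-subgroup). -/
def Ctl (p : ℕ) (W : ∀ (Q : Type u) [Group Q], Subgroup Q) (X : Type u) [Group X] : Prop :=
  ∀ S : Sylow p X, (S : Subgroup X) ⊓ commutator X ≤ ⁅NW W (S : Subgroup X), NW W (S : Subgroup X)⁆

theorem ctl_of_controls {X : Type u} [Group X] [Finite X]
    (W : ∀ (Q : Type u) [Group Q], Subgroup Q) (hW : IsCharPFunctor.{u} p W)
    (h : ControlsTransferIn p (inducedFunctor (G := X) W) ⊤) : Ctl p W X := by
  intro S
  have h1 := transfer_transport (inducedFunctor (G := X) W) (isConjugacyFunctor_induced W hW) ⊤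
    (S : Subgroup X) le_top S.isPGroup'
    (by rw [Subgroup.relIndex_top_right]; exact S.not_dvd_index) h
  rw [top_inf_eq] at h1
  rw [commutator_def, h1]
  exact inf_le_right

theorem controls_of_ctl {X : Type u} [Group X] [Finite X]
    (W : ∀ (Q : Type u) [Group Q], Subgroup Q)
    (h : Ctl p W X) : ControlsTransferIn p (inducedFunctor (G := X) W) ⊤ := by
  obtain ⟨S⟩ : Nonempty (Sylow p X) := inferInstance
  refine ⟨S, le_top, S.isPGroup', ?_, ?_⟩
  · rw [Subgroup.relIndex_top_right]; exact S.not_dvd_index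
  · rw [top_inf_eq]
    apply le_antisymm
    · have := h S
      rw [commutator_def] at this
      exact le_inf inf_le_left this
    · exact inf_le_inf_left _ (Subgroup.commutator_mono le_top le_top)

/-- Control of transfer in the group `↥H` gives control of transfer in the subgroup `H` of `X`. -/
theorem controls_sub {X : Type u} [Group X] [Finite X]
    (W : ∀ (Q : Type u) [Group Q], Subgroup Q) (hW : IsCharPFunctor.{u} p W) (H : Subgroup X)
    (h : Ctl p W ↥H) : ControlsTransferIn p (inducedFunctor (G := X) W) H := by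
  obtain ⟨T'⟩ : Nonempty (Sylow p ↥H) := inferInstance
  set T : Subgroup X := (T' : Subgroup ↥H).map H.subtype with hT
  have hTH : T ≤ H := Subgroup.map_subtype_le _
  have hTp : IsPGroup p T := T'.isPGroup'.map _
  have hsub : T.subgroupOf H = (T' : Subgroup ↥H) :=
    Subgroup.comap_map_eq_self_of_injective (Subgroup.subtype_injective H) _
  refine ⟨T, hTH, hTp, ?_, ?_⟩
  · rw [Subgroup.relIndex, hsub]; exact T'.not_dvd_index
  · apply le_antisymm
    · rintro x ⟨hxT, hxc⟩
      refine ⟨hxT, ?_⟩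
      obtain ⟨x', hx'T, rfl⟩ := hxT
      have hxc' : x' ∈ commutator ↥H := by
        rw [← Subgroup.map_subtype_commutator] at hxc
        obtain ⟨y, hy, hyx⟩ := hxc
        have : y = x' := Subtype.ext hyx
        rwa [← this]
      have h2 := h T' ⟨hx'T, hxc'⟩
      have h3 : (H.subtype x') ∈ (⁅NW W (T' : Subgroup ↥H), NW W (T' : Subgroup ↥H)⁆).map H.subtype :=
        Subgroup.mem_map_of_mem _ h2
      rw [Subgroup.map_commutator] at h3
      refine Subgroup.commutator_mono ?_ ?_ h3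
      all_goals
        rintro _ ⟨n, hn, rfl⟩
        refine ⟨n.2, ?_⟩
        have h4 := Subgroup.le_normalizer_map H.subtype (Subgroup.mem_map_of_mem _ hn)
        rw [induced_map_inj W hW H.subtype (Subgroup.subtype_injective H) _ T'.isPGroup'] at h4
        exact h4
    · exact inf_le_inf_left _ (Subgroup.commutator_mono inf_le_left inf_le_left)

/-- Control of transfer for a given Sylow subgroup `S` of `X` inside a subgroup `H ≥ S`. -/
theorem ctl_sub_le {X : Type u} [Group X] [Finite X]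
    (W : ∀ (Q : Type u) [Group Q], Subgroup Q) (hW : IsCharPFunctor.{u} p W) (H : Subgroup X)
    (h : Ctl p W ↥H) (S : Sylow p X) (hSH : (S : Subgroup X) ≤ H) :
    (S : Subgroup X) ⊓ ⁅H, H⁆ ≤ ⁅NW W (S : Subgroup X), NW W (S : Subgroup X)⁆ := by
  have h1 := controls_sub W hW H h
  have hrel : ¬ p ∣ (S : Subgroup X).relIndex H := by
    intro hd
    apply S.not_dvd_index
    rw [← Subgroup.relIndex_mul_index hSH]
    exact hd.mul_right _
  have h2 := transfer_transport (inducedFunctor (G := X) W) (isConjugacyFunctor_induced W hW) H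
    (S : Subgroup X) hSH S.isPGroup' hrel h1
  rw [h2]
  exact inf_le_right.trans (Subgroup.commutator_mono inf_le_right inf_le_right)


/-! ### Transfer lemmas -/

theorem transfer_eq_pow_mod {G A : Type*} [Group G] [CommGroup A] {H : Subgroup G} [H.FiniteIndex]
    (ϕ : H →* A) (g : G) (hg : g ∈ H)
    (key : ∀ (k : ℕ) (g₀ : G) (hk : g₀⁻¹ * g ^ k * g₀ ∈ H),
      ϕ ⟨g₀⁻¹ * g ^ k * g₀, hk⟩ = ϕ ⟨g, hg⟩ ^ k) :
    MonoidHom.transfer ϕ g = ϕ ⟨g, hg⟩ ^ H.index := by
  classical
  letI := H.fintypeQuotientOfFiniteIndex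
  rw [MonoidHom.transfer_eq_prod_quotient_orbitRel_zpowers_quot]
  simp only [key]
  rw [Finset.prod_pow_eq_pow_sum, ← Subgroup.index_eq_sum_minimalPeriod H g]

theorem inf_commutator_le_of_decomp {X : Type*} [Group X] [Finite X] {p : ℕ} [Fact p.Prime]
    (P N₁ : Subgroup X) (hPp : IsPGroup p P) (hPN : P ≤ N₁) (hidx : ¬ p ∣ N₁.index)
    (hdec : ∀ y : X, ∃ c ∈ Subgroup.centralizer (P : Set X), ∃ n ∈ N₁, y = c * n) :
    P ⊓ commutator X ≤ ⁅N₁, N₁⁆ := by
  rintro x ⟨hxP, hxc⟩
  have hxN : x ∈ N₁ := hPN hxP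
  let ϕ : ↥N₁ →* Abelianization ↥N₁ := Abelianization.of
  have key : ∀ (k : ℕ) (g₀ : X) (hk : g₀⁻¹ * x ^ k * g₀ ∈ N₁),
      ϕ ⟨g₀⁻¹ * x ^ k * g₀, hk⟩ = ϕ ⟨x, hxN⟩ ^ k := by
    intro k g₀ hk
    obtain ⟨c, hc, n, hn, rfl⟩ := hdec g₀
    have hcx : c * x ^ k = x ^ k * c := (Subgroup.mem_centralizer_iff.1 hc (x ^ k) (P.pow_mem hxP k)).symm
    have e : (⟨(c * n)⁻¹ * x ^ k * (c * n), hk⟩ : ↥N₁) =
        (⟨n, hn⟩ : ↥N₁)⁻¹ * (⟨x, hxN⟩ : ↥N₁) ^ k * ⟨n, hn⟩ := by
      apply Subtype.ext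
      show (c * n)⁻¹ * x ^ k * (c * n) = n⁻¹ * x ^ k * n
      have : (c * n)⁻¹ * x ^ k * (c * n) = n⁻¹ * (c⁻¹ * (x ^ k * c)) * n := by group
      rw [this, ← hcx]
      group
    rw [e, map_mul, map_mul, map_inv, map_pow]
    rw [mul_comm, ← mul_assoc, mul_inv_cancel, one_mul]
  have h1 := transfer_eq_pow_mod ϕ x hxN key
  have h2 : MonoidHom.transfer ϕ x = 1 := by
    have := Abelianization.commutator_subset_ker (MonoidHom.transfer ϕ) hxc
    exact MonoidHom.mem_ker.1 this
  rw [h2] at h1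
  obtain ⟨a, ha⟩ := hPp ⟨x, hxP⟩
  have h3 : ϕ ⟨x, hxN⟩ ^ (p ^ a) = 1 := by
    have : (⟨x, hxN⟩ : ↥N₁) ^ (p ^ a) = 1 := by
      apply Subtype.ext
      have := congrArg Subtype.val ha
      simpa using this
    rw [← map_pow, this, map_one]
  have hp : p.Prime := Fact.out
  have hcop : Nat.Coprime N₁.index (p ^ a) :=
    Nat.Coprime.pow_right a ((Nat.Prime.coprime_iff_not_dvd hp).2 hidx).symm
  have h4 : ϕ ⟨x, hxN⟩ = 1 := by
    have := (pow_gcd_eq_one (a := ϕ ⟨x, hxN⟩) (m := N₁.index) (n := p ^ a)).2 ⟨h1.symm, h3⟩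
    rwa [hcop, pow_one] at this
  have h5 : (⟨x, hxN⟩ : ↥N₁) ∈ commutator ↥N₁ := by
    rw [← Abelianization.ker_of]
    exact MonoidHom.mem_ker.2 h4
  rw [← Subgroup.map_subtype_commutator]
  exact ⟨_, h5, rfl⟩

/-! ### Step A -/

theorem relIndex_mul_card_of_le {X : Type*} [Group X] {H K : Subgroup X} (h : H ≤ K) :
    H.relIndex K * Nat.card H = Nat.card K := by
  rw [Subgroup.relIndex, ← card_subgroupOf_of_le h, mul_comm]
  exact Subgroup.card_mul_index _

theorem isSylowSub_sup_of_coprime {X : Type*} [Group X] [Finite X] {p : ℕ} [Fact p.Prime]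
    (O : Subgroup X) [O.Normal] (hO : (Nat.card O).Coprime p) (V : Subgroup X) (hV : IsPGroup p V) :
    IsSylowSub p V (V ⊔ O) := by
  apply isSylowSub_of_not_dvd_relIndex le_sup_left hV
  intro hd
  have hp : p.Prime := Fact.out
  have h1 := relIndex_mul_card_of_le (le_sup_left : V ≤ V ⊔ O)
  have h2 := card_sup_dvd_of_normal V O
  rw [← h1] at h2
  have h3 : V.relIndex (V ⊔ O) ∣ Nat.card O := by
    have hpos : 0 < Nat.card V := Nat.card_pos
    rw [mul_comm] at h2
    exact Nat.dvd_of_mul_dvd_mul_left hpos h2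
  have h4 : p ∣ Nat.card O := hd.trans h3
  have := Nat.Coprime.eq_one_of_dvd hO.symm h4
  exact hp.one_lt.ne' this

theorem normalizer_map_le {X : Type*} [Group X] [Finite X] {p : ℕ} [Fact p.Prime]
    (O : Subgroup X) [O.Normal] (hO : (Nat.card O).Coprime p) (V : Subgroup X) (hV : IsPGroup p V) :
    Subgroup.normalizer ((V.map (QuotientGroup.mk' O) : Subgroup (X ⧸ O)) : Set (X ⧸ O)) ≤
      (Subgroup.normalizer (V : Set X)).map (QuotientGroup.mk' O) := by
  intro ybar hy
  obtain ⟨y, rfl⟩ := QuotientGroup.mk'_surjective O ybar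
  set π := QuotientGroup.mk' O with hπ
  have h1 : cj y V ≤ V ⊔ O := by
    rintro _ ⟨v, hv, rfl⟩
    show y * v * y⁻¹ ∈ V ⊔ O
    have h2 : π y * π v * (π y)⁻¹ ∈ V.map π :=
      (Subgroup.mem_normalizer_iff.1 hy (π v)).1 (Subgroup.mem_map_of_mem _ hv)
    obtain ⟨v', hv', hvv⟩ := h2
    have h3 : v'⁻¹ * (y * v * y⁻¹) ∈ O := by
      rw [← QuotientGroup.eq]
      show π v' = π (y * v * y⁻¹)
      rw [hvv]; simp
    have : y * v * y⁻¹ = v' * (v'⁻¹ * (y * v * y⁻¹)) := by group
    rw [this]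
    exact Subgroup.mul_mem_sup hv' h3
  have hsyl := isSylowSub_sup_of_coprime O hO V hV
  obtain ⟨m, hmY, hm⟩ := exists_cj_le_of_isSylowSub hsyl h1 (isPGroup_cj hV)
  rw [cj_cj] at hm
  have hmy : m * y ∈ Subgroup.normalizer (V : Set X) := by
    apply Subgroup.mem_normalizer_fintype
    intro v hv
    exact hm ⟨v, hv, rfl⟩
  have h5 : π m ∈ V.map π := by
    have : π m ∈ (V ⊔ O).map π := Subgroup.mem_map_of_mem _ hmY
    rw [Subgroup.map_sup, hπ, QuotientGroup.map_mk'_self, sup_bot_eq] at this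
    exact this
  obtain ⟨v₀, hv₀, hvm⟩ := h5
  refine ⟨v₀⁻¹ * (m * y), mul_mem (inv_mem (Subgroup.le_normalizer hv₀)) hmy, ?_⟩
  rw [map_mul, map_inv, map_mul, hvm]
  group


theorem sylow_le_NW {X : Type u} [Group X] [Finite X]
    (W : ∀ (Q : Type u) [Group Q], Subgroup Q) (hW : IsCharPFunctor.{u} p W) (S : Sylow p X) :
    (S : Subgroup X) ≤ NW W (S : Subgroup X) :=
  Subgroup.le_normalizer.trans (W_normalizer W hW (S : Subgroup X) S.isPGroup')

/-- Step A: lifting control of transfer from the quotient by a normal `p'`-subgroup. -/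
theorem ctl_of_quot_coprime {X : Type u} [Group X] [Finite X]
    (W : ∀ (Q : Type u) [Group Q], Subgroup Q) (hW : IsCharPFunctor.{u} p W)
    (O : Subgroup X) [O.Normal] (hO : (Nat.card O).Coprime p)
    (h : Ctl p W (X ⧸ O)) (S : Sylow p X) :
    (S : Subgroup X) ⊓ commutator X ≤ ⁅NW W (S : Subgroup X), NW W (S : Subgroup X)⁆ := by
  have hp : p.Prime := Fact.out
  set π := QuotientGroup.mk' O with hπ
  have hπs : Function.Surjective π := QuotientGroup.mk'_surjective O
  let Sb : Sylow p (X ⧸ O) := S.mapSurjective hπs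
  have hSb : (Sb : Subgroup (X ⧸ O)) = (S : Subgroup X).map π := rfl
  have hinj : ∀ t ∈ (S : Subgroup X), π t = 1 → t = 1 := by
    intro t ht h1
    have htO : t ∈ O := by
      rw [← QuotientGroup.ker_mk' O]; exact MonoidHom.mem_ker.2 h1
    obtain ⟨k, hk⟩ := S.isPGroup' ⟨t, ht⟩
    have hk' : t ^ (p ^ k) = 1 := by simpa using congrArg Subtype.val hk
    have h2 : orderOf t ∣ p ^ k := orderOf_dvd_of_pow_eq_one hk'
    have h3 : orderOf t ∣ Nat.card O := by
      have := orderOf_dvd_natCard (⟨t, htO⟩ : ↥O)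
      rwa [Subgroup.orderOf_mk] at this
    have h4 : orderOf t ∣ Nat.gcd (p ^ k) (Nat.card O) := Nat.dvd_gcd h2 h3
    have h5 : Nat.gcd (p ^ k) (Nat.card O) = 1 := Nat.Coprime.pow_left k hO.symm
    rw [h5, Nat.dvd_one] at h4
    exact orderOf_eq_one_iff.1 h4
  have hWmap : inducedFunctor W ((S : Subgroup X).map π) = (inducedFunctor W (S : Subgroup X)).map π :=
    (induced_map W hW π (S : Subgroup X) S.isPGroup' hinj).symm
  set Nm := NW W (S : Subgroup X) with hNm
  have hN : NW W ((S : Subgroup X).map π) ≤ Nm.map π := by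
    show Subgroup.normalizer ((inducedFunctor W ((S : Subgroup X).map π) : Subgroup (X ⧸ O)) : Set (X ⧸ O)) ≤ _
    rw [hWmap]
    exact normalizer_map_le O hO _ (S.isPGroup'.to_le (W_le W _))
  have hSN : (S : Subgroup X) ≤ Nm := sylow_le_NW W hW S
  rintro x ⟨hxS, hxc⟩
  have h1 : π x ∈ (Sb : Subgroup (X ⧸ O)) ⊓ commutator (X ⧸ O) := by
    refine ⟨Subgroup.mem_map_of_mem _ hxS, ?_⟩
    rw [commutator_def] at hxc ⊢
    have := Subgroup.mem_map_of_mem π hxc
    rw [Subgroup.map_commutator] at this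
    exact Subgroup.commutator_mono le_top le_top this
  have h2 := h Sb h1
  rw [hSb] at h2
  have h3 : π x ∈ (⁅Nm, Nm⁆).map π := by
    rw [Subgroup.map_commutator]
    exact Subgroup.commutator_mono hN hN h2
  obtain ⟨n', hn', hnx⟩ := h3
  have hn'N : n' ∈ Nm := (Subgroup.commutator_le.2 (fun a ha b hb => Nm.mul_mem (Nm.mul_mem (Nm.mul_mem ha hb) (Nm.inv_mem ha)) (Nm.inv_mem hb))) hn'
  have hxN : x ∈ Nm := hSN hxS
  have hoO : n'⁻¹ * x ∈ O := by
    rw [← QuotientGroup.eq]
    exact hnx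
  -- order argument in the abelianization of `Nm`
  let θ : ↥Nm →* Abelianization ↥Nm := Abelianization.of
  have hn'' : (⟨n', hn'N⟩ : ↥Nm) ∈ commutator ↥Nm := by
    rw [← Subgroup.map_subtype_commutator] at hn'
    obtain ⟨z, hz, hzn⟩ := hn'
    have : z = ⟨n', hn'N⟩ := Subtype.ext hzn
    rwa [← this]
  have hθn : θ ⟨n', hn'N⟩ = 1 := by
    have : (⟨n', hn'N⟩ : ↥Nm) ∈ θ.ker := by rw [Abelianization.ker_of]; exact hn''
    exact MonoidHom.mem_ker.1 this
  have hoN : n'⁻¹ * x ∈ Nm := mul_mem (inv_mem hn'N) hxN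
  have hθ : θ ⟨x, hxN⟩ = θ ⟨n'⁻¹ * x, hoN⟩ := by
    have : (⟨n'⁻¹ * x, hoN⟩ : ↥Nm) = (⟨n', hn'N⟩ : ↥Nm)⁻¹ * ⟨x, hxN⟩ := rfl
    rw [this, map_mul, map_inv, hθn, inv_one, one_mul]
  obtain ⟨k, hk⟩ := S.isPGroup' ⟨x, hxS⟩
  have hk' : x ^ (p ^ k) = 1 := by simpa using congrArg Subtype.val hk
  have h4 : orderOf (θ ⟨x, hxN⟩) ∣ p ^ k := by
    apply orderOf_dvd_of_pow_eq_one
    rw [← map_pow]
    have : (⟨x, hxN⟩ : ↥Nm) ^ (p ^ k) = 1 := Subtype.ext (by simpa using hk')
    rw [this, map_one]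
  have h5 : orderOf (θ ⟨x, hxN⟩) ∣ Nat.card O := by
    rw [hθ]
    apply orderOf_dvd_of_pow_eq_one
    rw [← map_pow]
    have : (⟨n'⁻¹ * x, hoN⟩ : ↥Nm) ^ (Nat.card O) = 1 := by
      apply Subtype.ext
      show (n'⁻¹ * x) ^ (Nat.card O) = 1
      have h := pow_card_eq_one' (G := ↥O) (x := ⟨n'⁻¹ * x, hoO⟩)
      have h' := congrArg Subtype.val h
      rw [Subgroup.coe_pow] at h'
      exact h'
    rw [this, map_one]
  have h6 : orderOf (θ ⟨x, hxN⟩) ∣ Nat.gcd (p ^ k) (Nat.card O) := Nat.dvd_gcd h4 h5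
  have h7 : Nat.gcd (p ^ k) (Nat.card O) = 1 := Nat.Coprime.pow_left k hO.symm
  rw [h7, Nat.dvd_one] at h6
  have h8 : θ ⟨x, hxN⟩ = 1 := orderOf_eq_one_iff.1 h6
  have h9 : (⟨x, hxN⟩ : ↥Nm) ∈ commutator ↥Nm := by
    rw [← Abelianization.ker_of]; exact MonoidHom.mem_ker.2 h8
  rw [← Subgroup.map_subtype_commutator]
  exact ⟨_, h9, rfl⟩

/-! ### Step C -/

theorem cj_normal_eq {X : Type*} [Group X] (N : Subgroup X) [hN : N.Normal] (g : X) : cj g N = N := by
  ext x
  rw [mem_cj]
  constructor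
  · intro h
    have := hN.conj_mem _ h g
    have e : g * (g⁻¹ * x * g) * g⁻¹ = x := by group
    rwa [e] at this
  · intro h
    have := hN.conj_mem _ h g⁻¹
    simpa using this

theorem isSylowSub_inf_normal {X : Type*} [Group X] [Finite X] {p : ℕ} [Fact p.Prime]
    (S : Sylow p X) (N : Subgroup X) [N.Normal] : IsSylowSub p ((S : Subgroup X) ⊓ N) N := by
  rw [isSylowSub_iff inf_le_right]
  have hp : IsPGroup p ↥((S : Subgroup X) ⊓ N) := S.isPGroup'.to_le inf_le_left
  refine ⟨hp, le_antisymm (IsPGroup_card_le inf_le_right hp) ?_⟩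
  obtain ⟨P⟩ : Nonempty (Sylow p ↥N) := inferInstance
  set P₁ : Subgroup X := (P : Subgroup ↥N).map N.subtype with hP₁def
  have hP₁ : IsPGroup p P₁ := P.isPGroup'.map _
  obtain ⟨g, hg⟩ := exists_cj_le_sylow S hP₁
  have h2 : cj g P₁ ≤ (S : Subgroup X) ⊓ N := by
    refine le_inf hg ?_
    have : cj g P₁ ≤ cj g N := cj_mono (Subgroup.map_subtype_le _)
    rwa [cj_normal_eq N g] at this
  calc p ^ (Nat.card ↥N).factorization p = Nat.card (P : Subgroup ↥N) := P.card_eq_multiplicity.symm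
    _ = Nat.card P₁ := (Subgroup.card_map_of_injective (Subgroup.subtype_injective N)).symm
    _ = Nat.card (cj g P₁) := (card_cj g P₁).symm
    _ ≤ Nat.card ↥((S : Subgroup X) ⊓ N) := Subgroup.card_le_of_le h2


/-- The local hypothesis for constrained groups. -/
def Hloc (p : ℕ) (W : ∀ (Q : Type u) [Group Q], Subgroup Q) (X : Type u) [Group X] : Prop :=
  Subgroup.centralizer ((pCore p X : Subgroup X) : Set X) ≤ pCore p X →
    ∀ T : Sylow p X, pCore p X ⊓ commutator X ≤ ⁅NW W (T : Subgroup X), NW W (T : Subgroup X)⁆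

/-- If `N_X(S ∩ P C_X(P))` is everything and `O_{p'}(X) = 1`, then `X` is constrained. -/
theorem centralizer_le_pCore_of_normal {X : Type u} [Group X] [Finite X]
    (hO : pPrimeCore p X = ⊥) (S : Sylow p X)
    (hQ : ((S : Subgroup X) ⊓ (pCore p X ⊔ Subgroup.centralizer ((pCore p X : Subgroup X) : Set X))).Normal) :
    Subgroup.centralizer ((pCore p X : Subgroup X) : Set X) ≤ pCore p X := by
  have hp : p.Prime := Fact.out
  haveI hPn : (pCore p X).Normal := Cfsg.Agent.Lib.Helper2.pCore_normal p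
  set P := pCore p X with hP
  set C := Subgroup.centralizer ((P : Subgroup X) : Set X) with hC
  haveI hCn : C.Normal := Subgroup.normal_centralizer
  set Q := (S : Subgroup X) ⊓ (P ⊔ C) with hQdef
  have hQP : Q ≤ P := le_pCore hQ (S.isPGroup'.to_le inf_le_left)
  -- every p-subgroup of PC lies in P
  have claimA : ∀ T₁ : Subgroup X, IsPGroup p T₁ → T₁ ≤ P ⊔ C → T₁ ≤ P := by
    intro T₁ hT₁ hle
    obtain ⟨g, hg⟩ := exists_cj_le_sylow S hT₁
    have h1 : cj g T₁ ≤ P ⊔ C := by
      have := cj_mono (g := g) hle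
      rwa [cj_normal_eq (P ⊔ C) g] at this
    have h2 : cj g T₁ ≤ P := (le_inf hg h1).trans hQP
    have h3 : T₁ ≤ cj g⁻¹ P := cj_le_iff.1 h2
    rwa [cj_normal_eq P g⁻¹] at h3
  obtain ⟨TC⟩ : Nonempty (Sylow p ↥C) := inferInstance
  have hTC : ∀ t ∈ (TC : Subgroup ↥C), (t : X) ∈ P := by
    intro t ht
    have := claimA ((TC : Subgroup ↥C).map C.subtype) (TC.isPGroup'.map _)
      ((Subgroup.map_subtype_le _).trans le_sup_right)
    exact this ⟨t, ht, rfl⟩
  have hcent : Subgroup.normalizer ((TC : Subgroup ↥C) : Set ↥C) ≤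
      Subgroup.centralizer ((TC : Subgroup ↥C) : Set ↥C) := by
    intro c _
    rw [Subgroup.mem_centralizer_iff]
    intro t ht
    apply Subtype.ext
    have := Subgroup.mem_centralizer_iff.1 c.2 (t : X) (hTC t ht)
    simpa using this
  set K := (MonoidHom.transferSylow TC hcent).ker with hK
  have hcompl : Subgroup.IsComplement' K (TC : Subgroup ↥C) :=
    MonoidHom.ker_transferSylow_isComplement' TC hcent
  have hKcard : ¬ p ∣ Nat.card K := MonoidHom.not_dvd_card_ker_transferSylow TC hcent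
  -- K contains all p'-elements of C
  have claimB : ∀ d : ↥C, (orderOf d).Coprime p → d ∈ K := by
    intro d hd
    rw [hK, MonoidHom.mem_ker]
    set t := MonoidHom.transferSylow TC hcent d with ht
    have h1 : orderOf t ∣ orderOf d := orderOf_map_dvd _ d
    obtain ⟨k, hk⟩ := TC.isPGroup' t
    have h2 : orderOf t ∣ p ^ k := orderOf_dvd_of_pow_eq_one hk
    have h3 : orderOf t ∣ Nat.gcd (orderOf d) (p ^ k) := Nat.dvd_gcd h1 h2
    have h4 : Nat.gcd (orderOf d) (p ^ k) = 1 := Nat.Coprime.pow_right k hd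
    rw [h4, Nat.dvd_one] at h3
    exact orderOf_eq_one_iff.1 h3
  set D : Subgroup X := K.map C.subtype with hD
  have hDcard : (Nat.card D).Coprime p := by
    rw [hD, Subgroup.card_map_of_injective (Subgroup.subtype_injective C)]
    exact ((Nat.Prime.coprime_iff_not_dvd hp).2 hKcard).symm
  have hDn : D.Normal := by
    constructor
    rintro _ ⟨d, hd, rfl⟩ x
    have hxc : x * (d : X) * x⁻¹ ∈ C := hCn.conj_mem _ d.2 x
    refine ⟨⟨x * (d : X) * x⁻¹, hxc⟩, ?_, rfl⟩
    apply claimB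
    have h1 : orderOf (⟨x * (d : X) * x⁻¹, hxc⟩ : ↥C) = orderOf d := by
      rw [← Subgroup.orderOf_coe, ← Subgroup.orderOf_coe]
      show orderOf (x * (d : X) * x⁻¹) = orderOf (d : X)
      exact MulEquiv.orderOf_eq (MulAut.conj x) (d : X)
    rw [h1]
    have h2 : orderOf d ∣ Nat.card K := by
      have := orderOf_dvd_natCard (⟨d, hd⟩ : ↥K)
      rwa [Subgroup.orderOf_mk] at this
    exact Nat.Coprime.coprime_dvd_left h2 ((Nat.Prime.coprime_iff_not_dvd hp).2 hKcard).symm
  have hDbot : D = ⊥ := le_bot_iff.1 (hO ▸ le_pPrimeCore hDn hDcard)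
  have hKbot : K = ⊥ := by
    rw [hD] at hDbot
    exact (Subgroup.map_eq_bot_iff_of_injective _ (Subgroup.subtype_injective C)).1 hDbot
  have hTCtop : (TC : Subgroup ↥C) = ⊤ := by
    rw [hKbot] at hcompl
    exact Subgroup.isComplement'_bot_left.1 hcompl
  intro c hc
  have : (⟨c, hc⟩ : ↥C) ∈ (TC : Subgroup ↥C) := by rw [hTCtop]; trivial
  exact hTC _ this

/-- `O_p(X) ∩ X' ≤ N_X(W(S))'` in the inductive situation. -/
theorem pCore_inf_commutator_le {X : Type u} [Group X] [Finite X]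
    (W : ∀ (Q : Type u) [Group Q], Subgroup Q) (hW : IsCharPFunctor.{u} p W)
    (hO : pPrimeCore p X = ⊥) (hloc : Hloc p W X)
    (hM : ∀ M : Subgroup X, M ≠ ⊤ → Ctl p W ↥M) (S : Sylow p X) :
    pCore p X ⊓ commutator X ≤ ⁅NW W (S : Subgroup X), NW W (S : Subgroup X)⁆ := by
  haveI hPn : (pCore p X).Normal := Cfsg.Agent.Lib.Helper2.pCore_normal p
  set P := pCore p X with hP
  set C := Subgroup.centralizer ((P : Subgroup X) : Set X) with hC
  haveI hCn : C.Normal := Subgroup.normal_centralizer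
  by_cases hc : C ≤ P
  · exact hloc hc S
  set Q := (S : Subgroup X) ⊓ (P ⊔ C) with hQdef
  set N₁ := Subgroup.normalizer (Q : Set X) with hN₁
  have hPS : P ≤ (S : Subgroup X) := pCore_le_sylow p S
  have hN₁top : N₁ ≠ ⊤ := by
    intro h
    exact hc (centralizer_le_pCore_of_normal hO S (Subgroup.normalizer_eq_top_iff.1 h))
  have hSN₁ : (S : Subgroup X) ≤ N₁ := by
    intro s hs
    apply Subgroup.mem_normalizer_fintype
    rintro q ⟨hqS, hqPC⟩
    exact ⟨(S : Subgroup X).mul_mem ((S : Subgroup X).mul_mem hs hqS) ((S : Subgroup X).inv_mem hs),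
      (inferInstance : (P ⊔ C).Normal).conj_mem _ hqPC s⟩
  have hsyl : IsSylowSub p Q (P ⊔ C) := isSylowSub_inf_normal S (P ⊔ C)
  have hdec : ∀ y : X, ∃ c ∈ Subgroup.centralizer (P : Set X), ∃ n ∈ N₁, y = c * n := by
    intro y
    have h1 : cj y Q ≤ P ⊔ C := by
      have := cj_mono (g := y) (inf_le_right : Q ≤ P ⊔ C)
      rwa [cj_normal_eq (P ⊔ C) y] at this
    obtain ⟨m, hmPC, hm⟩ := exists_cj_le_of_isSylowSub hsyl h1
      (isPGroup_cj (S.isPGroup'.to_le inf_le_left))
    rw [cj_cj] at hm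
    have hmy : m * y ∈ N₁ := by
      apply Subgroup.mem_normalizer_fintype
      intro q hq
      exact hm ⟨q, hq, rfl⟩
    have hm' : m⁻¹ ∈ C ⊔ P := by
      rw [sup_comm]; exact inv_mem hmPC
    obtain ⟨c, hcC, u, huP, hcu⟩ := Subgroup.mem_sup_of_normal_right.1 hm'
    refine ⟨c, hcC, u * (m * y), mul_mem (hSN₁ (hPS huP)) hmy, ?_⟩
    rw [← mul_assoc, hcu]
    group
  have hidx : ¬ p ∣ N₁.index := fun h => S.not_dvd_index (h.trans (Subgroup.index_dvd_of_le hSN₁))
  have h1 := inf_commutator_le_of_decomp P N₁ (pCore_isPGroup p) (hPS.trans hSN₁) hidx hdec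
  have h2 := ctl_sub_le W hW N₁ (hM N₁ hN₁top) S hSN₁
  intro x hx
  exact h2 ⟨hPS hx.1, h1 hx⟩

/-- Step C: reduction modulo `O_p(X)`. -/
theorem ctl_of_quot_pCore {X : Type u} [Group X] [Finite X]
    (W : ∀ (Q : Type u) [Group Q], Subgroup Q) (hW : IsCharPFunctor.{u} p W)
    (hn : (pCore p X).Normal)
    (hq : Ctl p W (X ⧸ pCore p X))
    (hM : ∀ M : Subgroup X, M ≠ ⊤ → Ctl p W ↥M) (S : Sylow p X)
    (hP : pCore p X ⊓ commutator X ≤ ⁅NW W (S : Subgroup X), NW W (S : Subgroup X)⁆) :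
    (S : Subgroup X) ⊓ commutator X ≤ ⁅NW W (S : Subgroup X), NW W (S : Subgroup X)⁆ := by
  set P := pCore p X with hPdef
  have hPS : P ≤ (S : Subgroup X) := pCore_le_sylow p S
  set π := QuotientGroup.mk' P with hπ
  have hπs : Function.Surjective π := QuotientGroup.mk'_surjective P
  let Sb : Sylow p (X ⧸ P) := S.mapSurjective hπs
  have hSb : (Sb : Subgroup (X ⧸ P)) = (S : Subgroup X).map π := rfl
  set Mb := NW W (Sb : Subgroup (X ⧸ P)) with hMb
  set M₂ := Mb.comap π with hM₂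
  have hkerπ : π.ker = P := QuotientGroup.ker_mk' P
  by_cases htop : M₂ = ⊤
  · -- then `S = P` is normal
    have hMbtop : Mb = ⊤ := by
      apply Subgroup.comap_injective hπs
      rw [← hM₂, htop, Subgroup.comap_top]
    have hWn : (inducedFunctor W (Sb : Subgroup (X ⧸ P))).Normal :=
      Subgroup.normalizer_eq_top_iff.1 hMbtop
    set V := (inducedFunctor W (Sb : Subgroup (X ⧸ P))).comap π with hV
    have hVn : V.Normal := hWn.comap π
    have hVp : IsPGroup p V := by
      apply IsPGroup.comap_of_ker_isPGroup (Sb.isPGroup'.to_le (W_le W _)) π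
      rw [hkerπ]; exact pCore_isPGroup p
    have hVP : V ≤ P := le_pCore hVn hVp
    have hWbot : inducedFunctor W (Sb : Subgroup (X ⧸ P)) = ⊥ := by
      have h1 : V.map π = inducedFunctor W (Sb : Subgroup (X ⧸ P)) :=
        Subgroup.map_comap_eq_self_of_surjective hπs _
      rw [← h1, eq_bot_iff]
      refine (Subgroup.map_mono hVP).trans ?_
      rw [hπ, QuotientGroup.map_mk'_self]
    have hSbbot : (Sb : Subgroup (X ⧸ P)) = ⊥ := by
      by_contra hne
      exact W_ne_bot W hW _ Sb.isPGroup' hne hWbot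
    have hSP : (S : Subgroup X) ≤ P := by
      rw [hSb] at hSbbot
      have := (Subgroup.map_eq_bot_iff _).1 hSbbot
      rwa [hkerπ] at this
    have hSeq : (S : Subgroup X) = P := le_antisymm hSP hPS
    have hNtop : NW W (S : Subgroup X) = ⊤ := by
      rw [eq_top_iff]
      refine le_trans ?_ (W_normalizer W hW (S : Subgroup X) S.isPGroup')
      rw [hSeq]
      exact (Subgroup.normalizer_eq_top_iff.2 hn).ge
    rw [hNtop, ← commutator_def]
    exact inf_le_right
  · have hSM₂ : (S : Subgroup X) ≤ M₂ := by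
      intro s hs
      show π s ∈ Mb
      exact sylow_le_NW W hW Sb (Subgroup.mem_map_of_mem _ hs)
    have hctl := ctl_sub_le W hW M₂ (hM M₂ htop) S hSM₂
    rintro x ⟨hxS, hxc⟩
    have h1 : π x ∈ (Sb : Subgroup (X ⧸ P)) ⊓ commutator (X ⧸ P) := by
      refine ⟨Subgroup.mem_map_of_mem _ hxS, ?_⟩
      rw [commutator_def] at hxc ⊢
      have := Subgroup.mem_map_of_mem π hxc
      rw [Subgroup.map_commutator] at this
      exact Subgroup.commutator_mono le_top le_top this
    have h2 := hq Sb h1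
    have hMbmap : M₂.map π = Mb := Subgroup.map_comap_eq_self_of_surjective hπs _
    have h3 : π x ∈ (⁅M₂, M₂⁆).map π := by
      rw [Subgroup.map_commutator, hMbmap]
      exact h2
    obtain ⟨m, hm, hmx⟩ := h3
    have hu : m⁻¹ * x ∈ P := by
      rw [← QuotientGroup.eq]
      exact hmx
    have hmS : m ∈ (S : Subgroup X) := by
      have : m = x * (m⁻¹ * x)⁻¹ := by group
      rw [this]
      exact (S : Subgroup X).mul_mem hxS ((S : Subgroup X).inv_mem (hPS hu))
    have hmN := hctl ⟨hmS, hm⟩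
    have hmc : m ∈ commutator X := by
      rw [commutator_def]
      exact Subgroup.commutator_mono le_top le_top hm
    have huN := hP ⟨hu, (commutator X).mul_mem ((commutator X).inv_mem hmc) hxc⟩
    have : x = m * (m⁻¹ * x) := by group
    rw [this]
    exact mul_mem hmN huN

/-! ### Main induction -/

theorem pCore_map_equiv {X Y : Type*} [Group X] [Group Y] (p : ℕ) (e : X ≃* Y) :
    (pCore p X).map e.toMonoidHom = pCore p Y := by
  apply le_antisymm
  · apply le_pCore
    · exact (Cfsg.Agent.Lib.Helper2.pCore_normal (G := X) p).map e.toMonoidHom e.surjective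
    · exact (pCore_isPGroup p).map _
  · have h : (pCore p Y).map e.symm.toMonoidHom ≤ pCore p X :=
      le_pCore ((Cfsg.Agent.Lib.Helper2.pCore_normal (G := Y) p).map _ e.symm.surjective) ((pCore_isPGroup p).map _)
    intro y hy
    exact ⟨e.symm y, h ⟨y, hy, rfl⟩, by simp⟩

theorem hloc_transport {X Y : Type u} [Group X] [Group Y] [Finite X]
    (W : ∀ (Q : Type u) [Group Q], Subgroup Q) (hW : IsCharPFunctor.{u} p W)
    (e : X ≃* Y) (h : Hloc p W Y) : Hloc p W X := by
  intro hc T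
  haveI : Finite Y := Finite.of_equiv X e.toEquiv
  have hpc : (pCore p X).map e.toMonoidHom = pCore p Y := pCore_map_equiv p e
  have hcY : Subgroup.centralizer ((pCore p Y : Subgroup Y) : Set Y) ≤ pCore p Y := by
    intro y hy
    have h1 : e.symm y ∈ Subgroup.centralizer ((pCore p X : Subgroup X) : Set X) := by
      rw [Subgroup.mem_centralizer_iff]
      intro u hu
      have hu' : e u ∈ pCore p Y := hpc ▸ Subgroup.mem_map_of_mem e.toMonoidHom hu
      have h2 := Subgroup.mem_centralizer_iff.1 hy (e u) hu'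
      apply e.injective
      rw [map_mul, map_mul, e.apply_symm_apply]
      exact h2
    have h3 := hc h1
    rw [← hpc]
    exact ⟨e.symm y, h3, by simp⟩
  let T' : Sylow p Y := T.mapSurjective (f := e.toMonoidHom) e.surjective
  have hT' : (T' : Subgroup Y) = (T : Subgroup X).map e.toMonoidHom := rfl
  have h1 := h hcY T'
  rintro x ⟨hxP, hxc⟩
  have h2 : e x ∈ pCore p Y ⊓ commutator Y := by
    refine ⟨hpc ▸ Subgroup.mem_map_of_mem e.toMonoidHom hxP, ?_⟩
    rw [commutator_def] at hxc ⊢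
    have := Subgroup.mem_map_of_mem e.toMonoidHom hxc
    rw [Subgroup.map_commutator] at this
    exact Subgroup.commutator_mono le_top le_top this
  have h3 := h1 h2
  have h4 : e.symm (e x) ∈ (⁅NW W (T' : Subgroup Y), NW W (T' : Subgroup Y)⁆).map e.symm.toMonoidHom :=
    Subgroup.mem_map_of_mem e.symm.toMonoidHom h3
  rw [e.symm_apply_apply, Subgroup.map_commutator] at h4
  have hback : ((T' : Subgroup Y)).map e.symm.toMonoidHom = (T : Subgroup X) := by
    rw [hT', Subgroup.map_map]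
    have : e.symm.toMonoidHom.comp e.toMonoidHom = MonoidHom.id X := by
      ext x; simp
    rw [this, Subgroup.map_id]
  have h5 : (NW W (T' : Subgroup Y)).map e.symm.toMonoidHom ≤ NW W (T : Subgroup X) := by
    have := Subgroup.le_normalizer_map (H := inducedFunctor W (T' : Subgroup Y)) e.symm.toMonoidHom
    rw [induced_map_inj W hW e.symm.toMonoidHom e.symm.injective _ T'.isPGroup', hback] at this
    exact this
  exact Subgroup.commutator_mono h5 h5 h4

theorem card_lt_of_ne_top {X : Type*} [Group X] [Finite X] (M : Subgroup X) (h : M ≠ ⊤) :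
    Nat.card ↥M < Nat.card X := by
  have h2 := Subgroup.index_mul_card M
  have h3 : M.index ≠ 1 := fun h' => h (Subgroup.index_eq_one.1 h')
  have h4 : M.index ≠ 0 := Subgroup.index_ne_zero_of_finite
  have h5 : 0 < Nat.card M := Nat.card_pos
  rw [← h2]
  have h6 : 2 ≤ M.index := by omega
  nlinarith

theorem card_quot_lt_of_ne_bot {X : Type*} [Group X] [Finite X] (N : Subgroup X) [N.Normal]
    (h : N ≠ ⊥) : Nat.card (X ⧸ N) < Nat.card X := by
  have h1 := Subgroup.card_eq_card_quotient_mul_card_subgroup N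
  have h2 : 1 < Nat.card N := (Subgroup.one_lt_card_iff_ne_bot _).2 h
  have h3 : 0 < Nat.card (X ⧸ N) := Nat.card_pos
  rw [h1]
  nlinarith

theorem main_ctl {G : Type u} [Group G]
    (W : ∀ (Q : Type u) [Group Q], Subgroup Q) (hW : IsCharPFunctor.{u} p W)
    (hloc : ∀ (X : Type u) [Group X] [Finite X], IsSec G X → Hloc p W X) :
    ∀ n : ℕ, ∀ (X : Type u) [Group X] [Finite X], Nat.card X = n → IsSec G X → Ctl p W X := by
  intro n
  induction n using Nat.strong_induction_on with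
  | _ n ih =>
    intro X _ _ hcard hsec S
    have hM : ∀ M : Subgroup X, M ≠ ⊤ → Ctl p W ↥M := fun M hM =>
      ih _ (hcard ▸ card_lt_of_ne_top M hM) ↥M rfl (hsec.sub M)
    haveI hOn : (pPrimeCore p X).Normal := Cfsg.Agent.Lib.Helper2.pPrimeCore_normal p
    haveI hPn : (pCore p X).Normal := Cfsg.Agent.Lib.Helper2.pCore_normal p
    by_cases hO : pPrimeCore p X = ⊥
    · by_cases hP : pCore p X = ⊥
      · -- local-to-global
        have hWf := isConjugacyFunctor_induced (X := X) W hW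
        have hl : ∀ T : Subgroup X, T ≠ ⊥ → IsWellPlaced p (inducedFunctor (G := X) W) (S : Subgroup X) T →
            ControlsTransferIn p (inducedFunctor (G := X) W) (Subgroup.normalizer ((T : Subgroup X) : Set X)) := by
          intro T hTne hT
          apply controls_sub W hW
          apply hM
          intro htop
          have hTn : T.Normal := Subgroup.normalizer_eq_top_iff.1 htop
          have : T ≤ pCore p X := le_pCore hTn (S.isPGroup'.to_le hT.1)
          rw [hP] at this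
          exact hTne (le_bot_iff.1 this)
        exact ctl_of_controls W hW (controls_transfer_of_local S _ hWf hl) S
      · have hq : Ctl p W (X ⧸ pCore p X) :=
          ih _ (hcard ▸ card_quot_lt_of_ne_bot _ hP) _ rfl (hsec.quot _)
        have hPle := pCore_inf_commutator_le W hW hO (hloc X hsec) hM S
        exact ctl_of_quot_pCore W hW hPn hq hM S hPle
    · have hq : Ctl p W (X ⧸ pPrimeCore p X) :=
        ih _ (hcard ▸ card_quot_lt_of_ne_bot _ hO) _ rfl (hsec.quot _)
      exact ctl_of_quot_coprime W hW _ (pPrimeCore_coprime p) hq S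

end Cfsg.Agent.Lib.Helper1.SecT
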