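import Mathlib
import Cfsg.Agent.Lib.Helper1.SectionTransfer
import Cfsg.Agent.Lib.Helper1.FamilyTransfer
import Cfsg.Agent.S1960

set_option autoImplicit false

/-! Control of transfer by a set of isomorphism-invariant functors: reduction to constrained
sections (family version of `SectionTransfer`). -/

namespace Cfsg.Agent.Lib.Helper1.FST

open Cfsg Cfsg.Agent.Lib.Helper1 Cfsg.Agent.Lib.Helper29 Cfsg.Agent.Lib.Helper2
  Cfsg.Agent.Lib.Helper1.SecT Cfsg.Agent.S1971

universe u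

variable {p : ℕ} [Fact p.Prime]

/-- The subgroup generated by the `S ∩ N(W(S))'`, `W ∈ 𝓦`. -/
def FT (𝓦 : Set (∀ (Q : Type u) [Group Q], Subgroup Q)) {X : Type u} [Group X] (S : Subgroup X) :
    Subgroup X :=
  ⨆ W ∈ 𝓦, S ⊓ ⁅NW W S, NW W S⁆

theorem le_FT {𝓦 : Set (∀ (Q : Type u) [Group Q], Subgroup Q)} {X : Type u} [Group X]
    {W : ∀ (Q : Type u) [Group Q], Subgroup Q} (hW : W ∈ 𝓦) (S : Subgroup X) :
    S ⊓ ⁅NW W S, NW W S⁆ ≤ FT 𝓦 S :=
  le_iSup₂ (f := fun (W : ∀ (Q : Type u) [Group Q], Subgroup Q) (_ : W ∈ 𝓦) => S ⊓ ⁅NW W S, NW W S⁆) W hW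

theorem FT_le {𝓦 : Set (∀ (Q : Type u) [Group Q], Subgroup Q)} {X : Type u} [Group X]
    (S : Subgroup X) : FT 𝓦 S ≤ S :=
  iSup₂_le fun _ _ => inf_le_left

theorem FT_le_commutator {𝓦 : Set (∀ (Q : Type u) [Group Q], Subgroup Q)} {X : Type u} [Group X]
    (S : Subgroup X) : FT 𝓦 S ≤ commutator X :=
  iSup₂_le fun _ _ => inf_le_right.trans (by
    rw [commutator_def]; exact Subgroup.commutator_mono le_top le_top)

/-- The set `𝓦` controls transfer in `X` (for every Sylow `p`-subgroup). -/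
def FCtl (p : ℕ) (𝓦 : Set (∀ (Q : Type u) [Group Q], Subgroup Q)) (X : Type u) [Group X] : Prop :=
  ∀ S : Sylow p X, (S : Subgroup X) ⊓ commutator X ≤ FT 𝓦 (S : Subgroup X)

/-- The induced set of conjugacy functors on `X`. -/
def ind (𝓦 : Set (∀ (Q : Type u) [Group Q], Subgroup Q)) (X : Type u) [Group X] :
    Set (Subgroup X → Subgroup X) :=
  (fun W => inducedFunctor (G := X) W) '' 𝓦

theorem ind_conj {𝓦 : Set (∀ (Q : Type u) [Group Q], Subgroup Q)}
    (h𝓦 : ∀ W ∈ 𝓦, IsCharPFunctor.{u} p W) (X : Type u) [Group X] [Finite X] :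
    ∀ W' ∈ ind 𝓦 X, IsConjugacyFunctor p W' := by
  rintro _ ⟨W, hW, rfl⟩
  exact isConjugacyFunctor_induced W (h𝓦 W hW)

theorem iSup_ind {𝓦 : Set (∀ (Q : Type u) [Group Q], Subgroup Q)} {X : Type u} [Group X]
    (g : (Subgroup X → Subgroup X) → Subgroup X) :
    (⨆ W' ∈ ind 𝓦 X, g W') = ⨆ W ∈ 𝓦, g (inducedFunctor (G := X) W) := by
  unfold ind
  rw [iSup_image]

theorem fctl_of_controls {X : Type u} [Group X] [Finite X]
    {𝓦 : Set (∀ (Q : Type u) [Group Q], Subgroup Q)} (h𝓦 : ∀ W ∈ 𝓦, IsCharPFunctor.{u} p W)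
    (h : FamilyControlsTransferIn p (ind 𝓦 X) ⊤) : FCtl p 𝓦 X := by
  intro S
  have h1 := family_transfer_transport (ind 𝓦 X) (ind_conj h𝓦 X) ⊤
    (S : Subgroup X) le_top S.isPGroup'
    (by rw [Subgroup.relIndex_top_right]; exact S.not_dvd_index) h
  rw [iSup_ind (fun W' => (S : Subgroup X) ⊓ ⁅(⊤ : Subgroup X) ⊓ Subgroup.normalizer ((W' (S : Subgroup X) : Subgroup X) : Set X),
      (⊤ : Subgroup X) ⊓ Subgroup.normalizer ((W' (S : Subgroup X) : Subgroup X) : Set X)⁆)] at h1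
  simp only [top_inf_eq] at h1
  rw [commutator_def, h1]
  exact le_rfl

theorem controls_of_fctl {X : Type u} [Group X] [Finite X]
    {𝓦 : Set (∀ (Q : Type u) [Group Q], Subgroup Q)}
    (h : FCtl p 𝓦 X) : FamilyControlsTransferIn p (ind 𝓦 X) ⊤ := by
  obtain ⟨S⟩ : Nonempty (Sylow p X) := inferInstance
  refine ⟨S, le_top, S.isPGroup', ?_, ?_⟩
  · rw [Subgroup.relIndex_top_right]; exact S.not_dvd_index
  · rw [iSup_ind (fun W' => (S : Subgroup X) ⊓ ⁅(⊤ : Subgroup X) ⊓ Subgroup.normalizer ((W' (S : Subgroup X) : Subgroup X) : Set X),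
      (⊤ : Subgroup X) ⊓ Subgroup.normalizer ((W' (S : Subgroup X) : Subgroup X) : Set X)⁆)]
    simp only [top_inf_eq]
    apply le_antisymm
    · have := h S
      rw [commutator_def] at this
      exact this
    · exact iSup₂_le fun W _ => inf_le_inf_left _ (Subgroup.commutator_mono le_top le_top)

/-- Image of the normalizer of `W(T')` for a subgroup `T'` of `↥H`. -/
theorem NW_map_subtype_le {X : Type u} [Group X] [Finite X]
    (W : ∀ (Q : Type u) [Group Q], Subgroup Q) (hW : IsCharPFunctor.{u} p W) (H : Subgroup X)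
    (T' : Subgroup ↥H) (hT' : IsPGroup p T') :
    (NW W T').map H.subtype ≤ H ⊓ NW W (T'.map H.subtype) := by
  rintro _ ⟨n, hn, rfl⟩
  refine ⟨n.2, ?_⟩
  have h4 := Subgroup.le_normalizer_map H.subtype (Subgroup.mem_map_of_mem _ hn)
  rw [induced_map_inj W hW H.subtype (Subgroup.subtype_injective H) _ hT'] at h4
  exact h4

theorem FT_map_subtype_le {X : Type u} [Group X] [Finite X]
    {𝓦 : Set (∀ (Q : Type u) [Group Q], Subgroup Q)} (h𝓦 : ∀ W ∈ 𝓦, IsCharPFunctor.{u} p W)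
    (H : Subgroup X) (T' : Subgroup ↥H) (hT' : IsPGroup p T') :
    (FT 𝓦 T').map H.subtype ≤ ⨆ W ∈ 𝓦, T'.map H.subtype ⊓
      ⁅H ⊓ NW W (T'.map H.subtype), H ⊓ NW W (T'.map H.subtype)⁆ := by
  unfold FT
  rw [Subgroup.map_iSup]
  apply iSup_le
  intro W
  rw [Subgroup.map_iSup]
  apply iSup_le
  intro hW
  refine le_trans ?_ (le_iSup₂ (f := fun (W : ∀ (Q : Type u) [Group Q], Subgroup Q) (_ : W ∈ 𝓦) =>
    T'.map H.subtype ⊓ ⁅H ⊓ NW W (T'.map H.subtype), H ⊓ NW W (T'.map H.subtype)⁆) W hW)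
  rintro _ ⟨x, hx, rfl⟩
  refine ⟨Subgroup.mem_map_of_mem _ hx.1, ?_⟩
  have h3 : H.subtype x ∈ (⁅NW W T', NW W T'⁆).map H.subtype := Subgroup.mem_map_of_mem _ hx.2
  rw [Subgroup.map_commutator] at h3
  have hle := NW_map_subtype_le W (h𝓦 W hW) H T' hT'
  exact Subgroup.commutator_mono hle hle h3

/-- Control of transfer in the group `↥H` gives control of transfer in the subgroup `H` of `X`. -/
theorem fcontrols_sub {X : Type u} [Group X] [Finite X]
    {𝓦 : Set (∀ (Q : Type u) [Group Q], Subgroup Q)} (h𝓦 : ∀ W ∈ 𝓦, IsCharPFunctor.{u} p W)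
    (H : Subgroup X) (h : FCtl p 𝓦 ↥H) : FamilyControlsTransferIn p (ind 𝓦 X) H := by
  obtain ⟨T'⟩ : Nonempty (Sylow p ↥H) := inferInstance
  set T : Subgroup X := (T' : Subgroup ↥H).map H.subtype with hT
  have hTH : T ≤ H := Subgroup.map_subtype_le _
  have hTp : IsPGroup p T := T'.isPGroup'.map _
  have hsub : T.subgroupOf H = (T' : Subgroup ↥H) :=
    Subgroup.comap_map_eq_self_of_injective (Subgroup.subtype_injective H) _
  refine ⟨T, hTH, hTp, ?_, ?_⟩
  · rw [Subgroup.relIndex, hsub]; exact T'.not_dvd_index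
  · rw [iSup_ind (fun W' => T ⊓ ⁅H ⊓ Subgroup.normalizer ((W' T : Subgroup X) : Set X),
      H ⊓ Subgroup.normalizer ((W' T : Subgroup X) : Set X)⁆)]
    apply le_antisymm
    · rintro x ⟨hxT, hxc⟩
      obtain ⟨x', hx'T, rfl⟩ := hxT
      have hxc' : x' ∈ commutator ↥H := by
        rw [← Subgroup.map_subtype_commutator] at hxc
        obtain ⟨y, hy, hyx⟩ := hxc
        have : y = x' := Subtype.ext hyx
        rwa [← this]
      have h2 := h T' ⟨hx'T, hxc'⟩
      exact FT_map_subtype_le h𝓦 H (T' : Subgroup ↥H) T'.isPGroup' (Subgroup.mem_map_of_mem _ h2)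
    · exact iSup₂_le fun W _ => inf_le_inf_left _ (Subgroup.commutator_mono inf_le_left inf_le_left)

/-- Control of transfer for a given Sylow subgroup `S` of `X` inside a subgroup `H ≥ S`. -/
theorem fctl_sub_le {X : Type u} [Group X] [Finite X]
    {𝓦 : Set (∀ (Q : Type u) [Group Q], Subgroup Q)} (h𝓦 : ∀ W ∈ 𝓦, IsCharPFunctor.{u} p W)
    (H : Subgroup X) (h : FCtl p 𝓦 ↥H) (S : Sylow p X) (hSH : (S : Subgroup X) ≤ H) :
    (S : Subgroup X) ⊓ ⁅H, H⁆ ≤ FT 𝓦 (S : Subgroup X) := by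
  set S' : Sylow p ↥H := S.subtype hSH with hS'
  have hS'c : (S' : Subgroup ↥H) = (S : Subgroup X).subgroupOf H := Sylow.coe_subtype S hSH
  have hmap : (S' : Subgroup ↥H).map H.subtype = (S : Subgroup X) := by
    rw [hS'c]; exact Subgroup.map_subgroupOf_eq_of_le hSH
  rintro x ⟨hxS, hxc⟩
  have hxH : x ∈ H := hSH hxS
  have hx' : (⟨x, hxH⟩ : ↥H) ∈ (S' : Subgroup ↥H) ⊓ commutator ↥H := by
    refine ⟨by rw [hS'c]; exact hxS, ?_⟩
    rw [← Subgroup.map_subtype_commutator] at hxc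
    obtain ⟨y, hy, hyx⟩ := hxc
    have : y = ⟨x, hxH⟩ := Subtype.ext hyx
    rwa [← this]
  have h2 := h S' hx'
  have h3 := FT_map_subtype_le h𝓦 H (S' : Subgroup ↥H) S'.isPGroup' (Subgroup.mem_map_of_mem _ h2)
  rw [hmap] at h3
  have h4 : (⨆ W ∈ 𝓦, (S : Subgroup X) ⊓ ⁅H ⊓ NW W (S : Subgroup X), H ⊓ NW W (S : Subgroup X)⁆) ≤
      FT 𝓦 (S : Subgroup X) := by
    apply iSup₂_le
    intro W hW
    exact le_trans (inf_le_inf_left _ (Subgroup.commutator_mono inf_le_right inf_le_right))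
      (le_FT hW _)
  exact h4 h3

/-! ### Step A -/

theorem inj_on_sylow_of_coprime {X : Type u} [Group X] [Finite X] (O : Subgroup X) [O.Normal]
    (hO : (Nat.card O).Coprime p) (S : Sylow p X) :
    ∀ t ∈ (S : Subgroup X), QuotientGroup.mk' O t = 1 → t = 1 := by
  intro t ht h1
  have htO : t ∈ O := by
    rw [← QuotientGroup.ker_mk' O]; exact MonoidHom.mem_ker.2 h1
  obtain ⟨k, hk⟩ := S.isPGroup' ⟨t, ht⟩
  have hk' : t ^ (p ^ k) = 1 := by simpa using congrArg Subtype.val hk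
  have h2 : orderOf t ∣ p ^ k := orderOf_dvd_of_pow_eq_one hk'
  have h3 : orderOf t ∣ Nat.card O := by
    have := orderOf_dvd_natCard (⟨t, htO⟩ : ↥O)
    rwa [Subgroup.orderOf_mk] at this
  have h4 : orderOf t ∣ Nat.gcd (p ^ k) (Nat.card O) := Nat.dvd_gcd h2 h3
  have h5 : Nat.gcd (p ^ k) (Nat.card O) = 1 := Nat.Coprime.pow_left k hO.symm
  rw [h5, Nat.dvd_one] at h4
  exact orderOf_eq_one_iff.1 h4

/-- Core of step A: an element of `S` whose image lies in `N(W(S̄))'` lies in `N(W(S))'`. -/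
theorem coreA {X : Type u} [Group X] [Finite X]
    (W : ∀ (Q : Type u) [Group Q], Subgroup Q) (hW : IsCharPFunctor.{u} p W)
    (O : Subgroup X) [O.Normal] (hO : (Nat.card O).Coprime p) (S : Sylow p X)
    (x : X) (hxS : x ∈ (S : Subgroup X))
    (h2 : QuotientGroup.mk' O x ∈ ⁅NW W ((S : Subgroup X).map (QuotientGroup.mk' O)),
      NW W ((S : Subgroup X).map (QuotientGroup.mk' O))⁆) :
    x ∈ ⁅NW W (S : Subgroup X), NW W (S : Subgroup X)⁆ := by
  have hp : p.Prime := Fact.out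
  set π := QuotientGroup.mk' O with hπ
  have hinj := inj_on_sylow_of_coprime O hO S
  have hWmap : inducedFunctor W ((S : Subgroup X).map π) = (inducedFunctor W (S : Subgroup X)).map π :=
    (induced_map W hW π (S : Subgroup X) S.isPGroup' hinj).symm
  set Nm := NW W (S : Subgroup X) with hNm
  have hN : NW W ((S : Subgroup X).map π) ≤ Nm.map π := by
    show Subgroup.normalizer ((inducedFunctor W ((S : Subgroup X).map π) : Subgroup (X ⧸ O)) : Set (X ⧸ O)) ≤ _
    rw [hWmap]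
    exact normalizer_map_le O hO _ (S.isPGroup'.to_le (W_le W _))
  have hSN : (S : Subgroup X) ≤ Nm := sylow_le_NW W hW S
  have h3 : π x ∈ (⁅Nm, Nm⁆).map π := by
    rw [Subgroup.map_commutator]
    exact Subgroup.commutator_mono hN hN h2
  obtain ⟨n', hn', hnx⟩ := h3
  have hn'N : n' ∈ Nm := (Subgroup.commutator_le.2 (fun a ha b hb => Nm.mul_mem (Nm.mul_mem (Nm.mul_mem ha hb) (Nm.inv_mem ha)) (Nm.inv_mem hb))) hn'
  have hxN : x ∈ Nm := hSN hxS
  have hoO : n'⁻¹ * x ∈ O := by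
    rw [← QuotientGroup.eq]
    exact hnx
  let θ : ↥Nm →* Abelianization ↥Nm := Abelianization.of
  have hn'' : (⟨n', hn'N⟩ : ↥Nm) ∈ commutator ↥Nm := by
    rw [← Subgroup.map_subtype_commutator] at hn'
    obtain ⟨z, hz, hzn⟩ := hn'
    have : z = ⟨n', hn'N⟩ := Subtype.ext hzn
    rwa [← this]
  have hθn : θ ⟨n', hn'N⟩ = 1 := by
    have : (⟨n', hn'N⟩ : ↥Nm) ∈ θ.ker := by rw [Abelianization.ker_of]; exact hn''
    exact MonoidHom.mem_ker.1 this
  have hoN : n'⁻¹ * x ∈ Nm := mul_mem (inv_mem hn'N) hxN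
  have hθ : θ ⟨x, hxN⟩ = θ ⟨n'⁻¹ * x, hoN⟩ := by
    have : (⟨n'⁻¹ * x, hoN⟩ : ↥Nm) = (⟨n', hn'N⟩ : ↥Nm)⁻¹ * ⟨x, hxN⟩ := rfl
    rw [this, map_mul, map_inv, hθn, inv_one, one_mul]
  obtain ⟨k, hk⟩ := S.isPGroup' ⟨x, hxS⟩
  have hk' : x ^ (p ^ k) = 1 := by simpa using congrArg Subtype.val hk
  have h4 : orderOf (θ ⟨x, hxN⟩) ∣ p ^ k := by
    apply orderOf_dvd_of_pow_eq_one
    rw [← map_pow]
    have : (⟨x, hxN⟩ : ↥Nm) ^ (p ^ k) = 1 := Subtype.ext (by simpa using hk')
    rw [this, map_one]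
  have h5 : orderOf (θ ⟨x, hxN⟩) ∣ Nat.card O := by
    rw [hθ]
    apply orderOf_dvd_of_pow_eq_one
    rw [← map_pow]
    have : (⟨n'⁻¹ * x, hoN⟩ : ↥Nm) ^ (Nat.card O) = 1 := by
      apply Subtype.ext
      show (n'⁻¹ * x) ^ (Nat.card O) = 1
      have h := pow_card_eq_one' (G := ↥O) (x := ⟨n'⁻¹ * x, hoO⟩)
      have h' := congrArg Subtype.val h
      rw [Subgroup.coe_pow] at h'
      exact h'
    rw [this, map_one]
  have h6 : orderOf (θ ⟨x, hxN⟩) ∣ Nat.gcd (p ^ k) (Nat.card O) := Nat.dvd_gcd h4 h5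
  have h7 : Nat.gcd (p ^ k) (Nat.card O) = 1 := Nat.Coprime.pow_left k hO.symm
  rw [h7, Nat.dvd_one] at h6
  have h8 : θ ⟨x, hxN⟩ = 1 := orderOf_eq_one_iff.1 h6
  have h9 : (⟨x, hxN⟩ : ↥Nm) ∈ commutator ↥Nm := by
    rw [← Abelianization.ker_of]; exact MonoidHom.mem_ker.2 h8
  rw [← Subgroup.map_subtype_commutator]
  exact ⟨_, h9, rfl⟩

/-- Step A: lifting control of transfer from the quotient by a normal `p'`-subgroup. -/
theorem fctl_of_quot_coprime {X : Type u} [Group X] [Finite X]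
    {𝓦 : Set (∀ (Q : Type u) [Group Q], Subgroup Q)} (h𝓦 : ∀ W ∈ 𝓦, IsCharPFunctor.{u} p W)
    (O : Subgroup X) [O.Normal] (hO : (Nat.card O).Coprime p)
    (h : FCtl p 𝓦 (X ⧸ O)) (S : Sylow p X) :
    (S : Subgroup X) ⊓ commutator X ≤ FT 𝓦 (S : Subgroup X) := by
  set π := QuotientGroup.mk' O with hπ
  have hπs : Function.Surjective π := QuotientGroup.mk'_surjective O
  let Sb : Sylow p (X ⧸ O) := S.mapSurjective hπs
  have hSb : (Sb : Subgroup (X ⧸ O)) = (S : Subgroup X).map π := rfl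
  have hinj := inj_on_sylow_of_coprime O hO S
  have hcore : FT 𝓦 (Sb : Subgroup (X ⧸ O)) ≤ (FT 𝓦 (S : Subgroup X)).map π := by
    apply iSup₂_le
    intro W hW
    rintro y ⟨hyS, hyc⟩
    rw [SetLike.mem_coe, hSb] at hyS
    obtain ⟨y₀, hy₀, rfl⟩ := hyS
    have hyc' : π y₀ ∈ ⁅NW W ((S : Subgroup X).map π), NW W ((S : Subgroup X).map π)⁆ := hyc
    have := coreA W (h𝓦 W hW) O hO S y₀ hy₀ hyc'
    exact Subgroup.mem_map_of_mem _ (le_FT hW _ ⟨hy₀, this⟩)
  rintro x ⟨hxS, hxc⟩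
  have h1 : π x ∈ (Sb : Subgroup (X ⧸ O)) ⊓ commutator (X ⧸ O) := by
    refine ⟨Subgroup.mem_map_of_mem _ hxS, ?_⟩
    rw [commutator_def] at hxc ⊢
    have := Subgroup.mem_map_of_mem π hxc
    rw [Subgroup.map_commutator] at this
    exact Subgroup.commutator_mono le_top le_top this
  obtain ⟨t, ht, htx⟩ := hcore (h Sb h1)
  have htS : t ∈ (S : Subgroup X) := FT_le _ ht
  have : t⁻¹ * x = 1 := by
    apply hinj _ (mul_mem (inv_mem htS) hxS)
    rw [map_mul, map_inv, htx, inv_mul_cancel]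
  have hxt : x = t := by
    have h' : x = t * (t⁻¹ * x) := by group
    rw [h', this, mul_one]
  rw [hxt]
  exact ht

/-! ### The constrained / non-constrained dichotomy -/

/-- The local hypothesis for constrained groups. -/
def FHloc (p : ℕ) (𝓦 : Set (∀ (Q : Type u) [Group Q], Subgroup Q)) (X : Type u) [Group X] : Prop :=
  Subgroup.centralizer ((pCore p X : Subgroup X) : Set X) ≤ pCore p X →
    ∀ T : Sylow p X, pCore p X ⊓ commutator X ≤ FT 𝓦 (T : Subgroup X)

/-- `O_p(X) ∩ X' ≤ T` in the non-constrained inductive situation. -/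
theorem pCore_inf_commutator_le_of_not_constrained {X : Type u} [Group X] [Finite X]
    {𝓦 : Set (∀ (Q : Type u) [Group Q], Subgroup Q)} (h𝓦 : ∀ W ∈ 𝓦, IsCharPFunctor.{u} p W)
    (hO : pPrimeCore p X = ⊥)
    (hc : ¬ Subgroup.centralizer ((pCore p X : Subgroup X) : Set X) ≤ pCore p X)
    (hM : ∀ M : Subgroup X, M ≠ ⊤ → FCtl p 𝓦 ↥M) (S : Sylow p X) :
    pCore p X ⊓ commutator X ≤ FT 𝓦 (S : Subgroup X) := by
  haveI hPn : (pCore p X).Normal := Cfsg.Agent.Lib.Helper2.pCore_normal p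
  set P := pCore p X with hP
  set C := Subgroup.centralizer ((P : Subgroup X) : Set X) with hC
  haveI hCn : C.Normal := Subgroup.normal_centralizer
  set Q := (S : Subgroup X) ⊓ (P ⊔ C) with hQdef
  set N₁ := Subgroup.normalizer (Q : Set X) with hN₁
  have hPS : P ≤ (S : Subgroup X) := pCore_le_sylow p S
  have hN₁top : N₁ ≠ ⊤ := by
    intro h
    exact hc (centralizer_le_pCore_of_normal hO S (Subgroup.normalizer_eq_top_iff.1 h))
  have hSN₁ : (S : Subgroup X) ≤ N₁ := by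
    intro s hs
    apply Subgroup.mem_normalizer_fintype
    rintro q ⟨hqS, hqPC⟩
    exact ⟨(S : Subgroup X).mul_mem ((S : Subgroup X).mul_mem hs hqS) ((S : Subgroup X).inv_mem hs),
      (inferInstance : (P ⊔ C).Normal).conj_mem _ hqPC s⟩
  have hsyl : IsSylowSub p Q (P ⊔ C) := isSylowSub_inf_normal S (P ⊔ C)
  have hdec : ∀ y : X, ∃ c ∈ Subgroup.centralizer (P : Set X), ∃ n ∈ N₁, y = c * n := by
    intro y
    have h1 : cj y Q ≤ P ⊔ C := by
      have := cj_mono (g := y) (inf_le_right : Q ≤ P ⊔ C)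
      rwa [cj_normal_eq (P ⊔ C) y] at this
    obtain ⟨m, hmPC, hm⟩ := exists_cj_le_of_isSylowSub hsyl h1
      (isPGroup_cj (S.isPGroup'.to_le inf_le_left))
    rw [cj_cj] at hm
    have hmy : m * y ∈ N₁ := by
      apply Subgroup.mem_normalizer_fintype
      intro q hq
      exact hm ⟨q, hq, rfl⟩
    have hm' : m⁻¹ ∈ C ⊔ P := by
      rw [sup_comm]; exact inv_mem hmPC
    obtain ⟨c, hcC, u, huP, hcu⟩ := Subgroup.mem_sup_of_normal_right.1 hm'
    refine ⟨c, hcC, u * (m * y), mul_mem (hSN₁ (hPS huP)) hmy, ?_⟩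
    rw [← mul_assoc, hcu]
    group
  have hidx : ¬ p ∣ N₁.index := fun h => S.not_dvd_index (h.trans (Subgroup.index_dvd_of_le hSN₁))
  have h1 := inf_commutator_le_of_decomp P N₁ (pCore_isPGroup p) (hPS.trans hSN₁) hidx hdec
  have h2 := fctl_sub_le h𝓦 N₁ (hM N₁ hN₁top) S hSN₁
  intro x hx
  exact h2 ⟨hPS hx.1, h1 hx⟩

/-- Step C: reduction modulo `O_p(X)`. -/
theorem fctl_of_quot_pCore {X : Type u} [Group X] [Finite X]
    {𝓦 : Set (∀ (Q : Type u) [Group Q], Subgroup Q)} (h𝓦 : ∀ W ∈ 𝓦, IsCharPFunctor.{u} p W)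
    (hq : FCtl p 𝓦 (X ⧸ pCore p X))
    (hM : ∀ M : Subgroup X, M ≠ ⊤ → FCtl p 𝓦 ↥M) (S : Sylow p X)
    (hP : pCore p X ⊓ commutator X ≤ FT 𝓦 (S : Subgroup X)) :
    (S : Subgroup X) ⊓ commutator X ≤ FT 𝓦 (S : Subgroup X) := by
  haveI hn : (pCore p X).Normal := Cfsg.Agent.Lib.Helper2.pCore_normal p
  set P := pCore p X with hPdef
  have hPS : P ≤ (S : Subgroup X) := pCore_le_sylow p S
  set π := QuotientGroup.mk' P with hπ
  have hπs : Function.Surjective π := QuotientGroup.mk'_surjective P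
  let Sb : Sylow p (X ⧸ P) := S.mapSurjective hπs
  have hSb : (Sb : Subgroup (X ⧸ P)) = (S : Subgroup X).map π := rfl
  have hkerπ : π.ker = P := QuotientGroup.ker_mk' P
  have hcore : FT 𝓦 (Sb : Subgroup (X ⧸ P)) ≤ (FT 𝓦 (S : Subgroup X)).map π := by
    apply iSup₂_le
    intro W hW
    have hWc := h𝓦 W hW
    set Mb := NW W (Sb : Subgroup (X ⧸ P)) with hMb
    set M₂ := Mb.comap π with hM₂
    by_cases htop : M₂ = ⊤
    · -- then `S̄` is trivial
      have hMbtop : Mb = ⊤ := by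
        apply Subgroup.comap_injective hπs
        rw [← hM₂, htop, Subgroup.comap_top]
      have hWn : (inducedFunctor W (Sb : Subgroup (X ⧸ P))).Normal :=
        Subgroup.normalizer_eq_top_iff.1 hMbtop
      set V := (inducedFunctor W (Sb : Subgroup (X ⧸ P))).comap π with hV
      have hVn : V.Normal := hWn.comap π
      have hVp : IsPGroup p V := by
        apply IsPGroup.comap_of_ker_isPGroup (Sb.isPGroup'.to_le (W_le W _)) π
        rw [hkerπ]; exact pCore_isPGroup p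
      have hVP : V ≤ P := le_pCore hVn hVp
      have hWbot : inducedFunctor W (Sb : Subgroup (X ⧸ P)) = ⊥ := by
        have h1 : V.map π = inducedFunctor W (Sb : Subgroup (X ⧸ P)) :=
          Subgroup.map_comap_eq_self_of_surjective hπs _
        rw [← h1, eq_bot_iff]
        refine (Subgroup.map_mono hVP).trans ?_
        rw [hπ, QuotientGroup.map_mk'_self]
      have hSbbot : (Sb : Subgroup (X ⧸ P)) = ⊥ := by
        by_contra hne
        exact W_ne_bot W hWc _ Sb.isPGroup' hne hWbot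
      rw [hSbbot]
      exact le_trans inf_le_left bot_le
    · have hSM₂ : (S : Subgroup X) ≤ M₂ := by
        intro s hs
        show π s ∈ Mb
        exact sylow_le_NW W hWc Sb (Subgroup.mem_map_of_mem _ hs)
      have hctl := fctl_sub_le h𝓦 M₂ (hM M₂ htop) S hSM₂
      have hMbmap : M₂.map π = Mb := Subgroup.map_comap_eq_self_of_surjective hπs _
      rintro y ⟨hyS, hyc⟩
      have h3 : y ∈ (⁅M₂, M₂⁆).map π := by
        rw [Subgroup.map_commutator, hMbmap]
        exact hyc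
      obtain ⟨m, hm, rfl⟩ := h3
      rw [SetLike.mem_coe, hSb] at hyS
      obtain ⟨s, hs, hsm⟩ := hyS
      have hu : s⁻¹ * m ∈ P := by
        rw [← QuotientGroup.eq]
        exact hsm
      have hmS : m ∈ (S : Subgroup X) := by
        have : m = s * (s⁻¹ * m) := by group
        rw [this]
        exact (S : Subgroup X).mul_mem hs (hPS hu)
      exact Subgroup.mem_map_of_mem _ (hctl ⟨hmS, hm⟩)
  rintro x ⟨hxS, hxc⟩
  have h1 : π x ∈ (Sb : Subgroup (X ⧸ P)) ⊓ commutator (X ⧸ P) := by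
    refine ⟨Subgroup.mem_map_of_mem _ hxS, ?_⟩
    rw [commutator_def] at hxc ⊢
    have := Subgroup.mem_map_of_mem π hxc
    rw [Subgroup.map_commutator] at this
    exact Subgroup.commutator_mono le_top le_top this
  obtain ⟨t, ht, htx⟩ := hcore (hq Sb h1)
  have hu : t⁻¹ * x ∈ P := by
    rw [← QuotientGroup.eq]
    exact htx
  have htc : t ∈ commutator X := FT_le_commutator _ ht
  have huN := hP ⟨hu, (commutator X).mul_mem ((commutator X).inv_mem htc) hxc⟩
  have : x = t * (t⁻¹ * x) := by group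
  rw [this]
  exact mul_mem ht huN

/-! ### Main induction -/

theorem fmain_ctl {G : Type u} [Group G]
    {𝓦 : Set (∀ (Q : Type u) [Group Q], Subgroup Q)} (h𝓦 : ∀ W ∈ 𝓦, IsCharPFunctor.{u} p W)
    (hloc : ∀ (X : Type u) [Group X] [Finite X], IsSec G X →
      (∀ (Y : Type u) [Group Y] [Finite Y], Nat.card Y < Nat.card X → IsSec G Y → FCtl p 𝓦 Y) →
      FHloc p 𝓦 X) :
    ∀ n : ℕ, ∀ (X : Type u) [Group X] [Finite X], Nat.card X = n → IsSec G X → FCtl p 𝓦 X := by
  intro n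
  induction n using Nat.strong_induction_on with
  | _ n ih =>
    intro X _ _ hcard hsec S
    have hM : ∀ M : Subgroup X, M ≠ ⊤ → FCtl p 𝓦 ↥M := fun M hM =>
      ih _ (hcard ▸ card_lt_of_ne_top M hM) ↥M rfl (hsec.sub M)
    have hlocX : FHloc p 𝓦 X := hloc X hsec (fun Y _ _ hlt hY => ih _ (hcard ▸ hlt) Y rfl hY)
    haveI hOn : (pPrimeCore p X).Normal := Cfsg.Agent.Lib.Helper2.pPrimeCore_normal p
    haveI hPn : (pCore p X).Normal := Cfsg.Agent.Lib.Helper2.pCore_normal p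
    by_cases hO : pPrimeCore p X = ⊥
    · by_cases hP : pCore p X = ⊥
      · -- local-to-global
        have hl : ∀ T : Subgroup X, T ≤ (S : Subgroup X) → T ≠ ⊥ →
            ¬ p ∣ ((S : Subgroup X) ⊓ Subgroup.normalizer ((T : Subgroup X) : Set X)).relIndex
              (Subgroup.normalizer ((T : Subgroup X) : Set X)) →
            FamilyControlsTransferIn p (ind 𝓦 X) (Subgroup.normalizer ((T : Subgroup X) : Set X)) := by
          intro T hTS hTne _
          apply fcontrols_sub h𝓦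
          apply hM
          intro htop
          have hTn : T.Normal := Subgroup.normalizer_eq_top_iff.1 htop
          have : T ≤ pCore p X := le_pCore hTn (S.isPGroup'.to_le hTS)
          rw [hP] at this
          exact hTne (le_bot_iff.1 this)
        exact fctl_of_controls h𝓦 (Cfsg.Agent.S1960.result S (ind 𝓦 X) (ind_conj h𝓦 X) hl) S
      · have hq : FCtl p 𝓦 (X ⧸ pCore p X) :=
          ih _ (hcard ▸ card_quot_lt_of_ne_bot _ hP) _ rfl (hsec.quot _)
        have hPle : pCore p X ⊓ commutator X ≤ FT 𝓦 (S : Subgroup X) := by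
          by_cases hc : Subgroup.centralizer ((pCore p X : Subgroup X) : Set X) ≤ pCore p X
          · exact hlocX hc S
          · exact pCore_inf_commutator_le_of_not_constrained h𝓦 hO hc hM S
        exact fctl_of_quot_pCore h𝓦 hq hM S hPle
    · have hq : FCtl p 𝓦 (X ⧸ pPrimeCore p X) :=
        ih _ (hcard ▸ card_quot_lt_of_ne_bot _ hO) _ rfl (hsec.quot _)
      exact fctl_of_quot_coprime h𝓦 _ (pPrimeCore_coprime p) hq S

/-! ### Transport along isomorphisms -/

theorem constrained_transport {X Y : Type u} [Group X] [Group Y] (e : X ≃* Y)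
    (hc : Subgroup.centralizer ((pCore p X : Subgroup X) : Set X) ≤ pCore p X) :
    Subgroup.centralizer ((pCore p Y : Subgroup Y) : Set Y) ≤ pCore p Y := by
  have hpc : (pCore p X).map e.toMonoidHom = pCore p Y := pCore_map_equiv p e
  intro y hy
  have h1 : e.symm y ∈ Subgroup.centralizer ((pCore p X : Subgroup X) : Set X) := by
    rw [Subgroup.mem_centralizer_iff]
    intro u hu
    have hu' : e u ∈ pCore p Y := hpc ▸ Subgroup.mem_map_of_mem e.toMonoidHom hu
    have h2 := Subgroup.mem_centralizer_iff.1 hy (e u) hu'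
    apply e.injective
    rw [map_mul, map_mul, e.apply_symm_apply]
    exact h2
  have h3 := hc h1
  rw [← hpc]
  exact ⟨e.symm y, h3, by simp⟩

theorem fctl_transport {X Y : Type u} [Group X] [Group Y] [Finite X]
    {𝓦 : Set (∀ (Q : Type u) [Group Q], Subgroup Q)} (h𝓦 : ∀ W ∈ 𝓦, IsCharPFunctor.{u} p W)
    (e : X ≃* Y) (h : FCtl p 𝓦 Y) : FCtl p 𝓦 X := by
  intro T
  haveI : Finite Y := Finite.of_equiv X e.toEquiv
  let T' : Sylow p Y := T.mapSurjective (f := e.toMonoidHom) e.surjective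
  have hT' : (T' : Subgroup Y) = (T : Subgroup X).map e.toMonoidHom := rfl
  have h1 := h T'
  have hback : ((T' : Subgroup Y)).map e.symm.toMonoidHom = (T : Subgroup X) := by
    rw [hT', Subgroup.map_map]
    have : e.symm.toMonoidHom.comp e.toMonoidHom = MonoidHom.id X := by
      ext x; simp
    rw [this, Subgroup.map_id]
  have hFT : (FT 𝓦 (T' : Subgroup Y)).map e.symm.toMonoidHom ≤ FT 𝓦 (T : Subgroup X) := by
    unfold FT
    rw [Subgroup.map_iSup]
    apply iSup_le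
    intro W
    rw [Subgroup.map_iSup]
    apply iSup_le
    intro hW
    refine le_trans ?_ (le_FT hW _)
    have h5 : (NW W (T' : Subgroup Y)).map e.symm.toMonoidHom ≤ NW W (T : Subgroup X) := by
      have := Subgroup.le_normalizer_map (H := inducedFunctor W (T' : Subgroup Y)) e.symm.toMonoidHom
      rw [induced_map_inj W (h𝓦 W hW) e.symm.toMonoidHom e.symm.injective _ T'.isPGroup', hback] at this
      exact this
    rintro _ ⟨y, hy, rfl⟩
    refine ⟨?_, ?_⟩
    · rw [← hback]; exact Subgroup.mem_map_of_mem _ hy.1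
    · have h4 : e.symm.toMonoidHom y ∈ (⁅NW W (T' : Subgroup Y), NW W (T' : Subgroup Y)⁆).map e.symm.toMonoidHom :=
        Subgroup.mem_map_of_mem _ hy.2
      rw [Subgroup.map_commutator] at h4
      exact Subgroup.commutator_mono h5 h5 h4
  rintro x ⟨hxT, hxc⟩
  have h2 : e x ∈ (T' : Subgroup Y) ⊓ commutator Y := by
    refine ⟨Subgroup.mem_map_of_mem e.toMonoidHom hxT, ?_⟩
    rw [commutator_def] at hxc ⊢
    have := Subgroup.mem_map_of_mem e.toMonoidHom hxc
    rw [Subgroup.map_commutator] at this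
    exact Subgroup.commutator_mono le_top le_top this
  have h3 := h1 h2
  have h4 : e.symm (e x) ∈ (FT 𝓦 (T' : Subgroup Y)).map e.symm.toMonoidHom :=
    Subgroup.mem_map_of_mem e.symm.toMonoidHom h3
  rw [e.symm_apply_apply] at h4
  exact hFT h4

theorem isSec_refl (G : Type u) [Group G] : IsSec G G := by
  have h : (⊥ : Subgroup G).subgroupOf ⊤ = ⊥ := Subgroup.bot_subgroupOf _
  haveI hR : ((⊥ : Subgroup G).subgroupOf ⊤).Normal := by rw [h]; infer_instance
  refine ⟨⊤, ⊥, hR, ⟨?_⟩⟩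
  exact (Subgroup.topEquiv.symm.trans QuotientGroup.quotientBot.symm).trans
    (QuotientGroup.quotientMulEquivOfEq h.symm)

end Cfsg.Agent.Lib.Helper1.FST
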