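import Mathlib
import Cfsg.Prelude.Def_Solvable

set_option autoImplicit false

namespace Cfsg.Agent.Lib.Helper1.FrobFix

open Cfsg
open scoped Pointwise

variable {F : Type*} [Group F] [Finite F] {V : Type*} [CommGroup V]

/-- The trace over a subgroup is a fixed point. -/
theorem trace_fixed [Fintype F] (φ : F →* MulAut V) (X : Subgroup F) [Fintype X] (v : V) (y : F) (hy : y ∈ X) :
    φ y (∏ x : X, φ (x : F) v) = ∏ x : X, φ (x : F) v := by
  rw [map_prod]
  have : ∀ x : X, φ y (φ (x : F) v) = φ (((⟨y, hy⟩ : X) * x : X) : F) v := by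
    intro x
    rw [Subgroup.coe_mul, map_mul, MulAut.mul_apply]
  simp_rw [this]
  exact Fintype.prod_equiv (Equiv.mulLeft (⟨y, hy⟩ : X)) _ _ (fun x => rfl)

/-- Key counting identity for a Frobenius group acting on an abelian group: if neither the
kernel nor the complement has nontrivial fixed points, every element is killed by `|N|`. -/
theorem pow_card_eq_one (φ : F →* MulAut V) (H N : Subgroup F) (hH : IsFrobeniusComplement H)
    (hN : (N : Set F) = frobeniusKernel H) (hNH : Subgroup.IsComplement' N H)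
    (hfixN : ∀ v : V, (∀ k ∈ N, φ k v = v) → v = 1)
    (hfixH : ∀ v : V, (∀ h ∈ H, φ h v = v) → v = 1) (v : V) : v ^ Nat.card N = 1 := by
  classical
  have : Fintype F := Fintype.ofFinite F
  -- traces vanish
  have hTH : ∀ w : V, ∏ h : H, φ (h : F) w = 1 := fun w =>
    hfixH _ (fun y hy => trace_fixed φ H w y hy)
  have hTN : ∀ w : V, ∏ k : N, φ (k : F) w = 1 := fun w =>
    hfixN _ (fun y hy => trace_fixed φ N w y hy)
  -- (a) total product is 1
  have hbij : Function.Bijective (fun x : N × H => (x.1 : F) * (x.2 : F)) := hNH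
  have hPF : ∏ g : F, φ g v = 1 := by
    rw [← Fintype.prod_equiv (Equiv.ofBijective _ hbij) (fun x : N × H => φ ((x.1 : F) * (x.2 : F)) v)
      (fun g => φ g v) (fun x => rfl)]
    rw [Fintype.prod_prod_type]
    have : ∀ k : N, ∏ h : H, φ ((k : F) * (h : F)) v = φ (k : F) (∏ h : H, φ (h : F) v) := by
      intro k
      rw [map_prod]
      refine Finset.prod_congr rfl fun h _ => ?_
      rw [map_mul, MulAut.mul_apply]
    simp_rw [this, hTH, map_one]
    exact Finset.prod_const_one
  -- (b) product over the complement of N is 1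
  have hcompl : ∏ g : {g : F // ¬ g ∈ N}, φ (g : F) v = 1 := by
    have h1 := Fintype.prod_subtype_mul_prod_subtype (fun g : F => g ∈ N) (fun g => φ g v)
    rw [hPF] at h1
    have h2 : ∏ i : {x : F // x ∈ N}, φ (i : F) v = 1 := hTN v
    rw [h2, one_mul] at h1
    exact h1
  -- disjointness
  have hdisj : ∀ x : F, x ∈ N → x ∈ H → x = 1 := by
    intro x hxN hxH
    have := hNH.isCompl.disjoint
    rw [Subgroup.disjoint_def] at this
    exact this hxN hxH
  -- membership in kernel
  have hmemN : ∀ g : F, g ∈ N ↔ (g = 1 ∨ ∀ x : F, g ∉ MulAut.conj x • H) := by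
    intro g
    have : g ∈ (N : Set F) ↔ g ∈ frobeniusKernel H := by rw [hN]
    exact this
  -- (ii) the bijection
  have hmaps : ∀ x : N × {h : H // h ≠ 1},
      ¬ ((x.1 : F) * ((x.2 : H) : F) * (x.1 : F)⁻¹) ∈ N := by
    rintro ⟨k, h, hh⟩ hmem
    rcases (hmemN _).mp hmem with h1 | h2
    · apply hh
      have : ((h : H) : F) = 1 := by
        have e : ((h : H) : F) = (k : F)⁻¹ * ((k : F) * (h : F) * (k : F)⁻¹) * (k : F) := by group
        rw [e, h1]; group
      exact Subtype.ext this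
    · apply h2 (k : F)
      rw [Subgroup.mem_pointwise_smul_iff_inv_smul_mem]
      simp only [MulAut.smul_def, map_inv, MulAut.inv_apply, MulAut.conj_symm_apply]
      have e : (k : F)⁻¹ * ((k : F) * (h : F) * (k : F)⁻¹) * (k : F) = (h : F) := by group
      rw [e]; exact h.2
  let ψ : N × {h : H // h ≠ 1} → {g : F // ¬ g ∈ N} :=
    fun x => ⟨(x.1 : F) * ((x.2 : H) : F) * (x.1 : F)⁻¹, hmaps x⟩
  have hψ : Function.Bijective ψ := by
    constructor
    · rintro ⟨k, h, hh⟩ ⟨k', h', hh'⟩ e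
      have e' : (k : F) * (h : F) * (k : F)⁻¹ = (k' : F) * (h' : F) * (k' : F)⁻¹ :=
        congrArg Subtype.val e
      -- g := k⁻¹ k'
      have hg : ((k : F)⁻¹ * (k' : F)) ∈ H := by
        by_contra hg
        have h3 := hH.2.2 _ hg
        have hmem : ((h : H) : F) ∈ H ⊓ (MulAut.conj ((k : F)⁻¹ * (k' : F)) • H) := by
          refine Subgroup.mem_inf.mpr ⟨h.2, ?_⟩
          rw [Subgroup.mem_pointwise_smul_iff_inv_smul_mem]
          simp only [MulAut.smul_def, map_inv, MulAut.inv_apply, MulAut.conj_symm_apply]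
          have e2 : ((k : F)⁻¹ * (k' : F))⁻¹ * (h : F) * ((k : F)⁻¹ * (k' : F)) = (h' : F) := by
            calc ((k : F)⁻¹ * (k' : F))⁻¹ * (h : F) * ((k : F)⁻¹ * (k' : F))
                = (k' : F)⁻¹ * ((k : F) * (h : F) * (k : F)⁻¹) * (k' : F) := by group
              _ = (k' : F)⁻¹ * ((k' : F) * (h' : F) * (k' : F)⁻¹) * (k' : F) := by rw [e']
              _ = (h' : F) := by group
          rw [e2]; exact h'.2
        rw [h3, Subgroup.mem_bot] at hmem
        exact hh (Subtype.ext hmem)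
      have hgN : ((k : F)⁻¹ * (k' : F)) ∈ N := N.mul_mem (N.inv_mem k.2) k'.2
      have hk : (k : F)⁻¹ * (k' : F) = 1 := hdisj _ hgN hg
      have hkk : (k : F) = (k' : F) := by
        have := eq_of_inv_mul_eq_one hk
        exact this
      have hkk' : k = k' := Subtype.ext hkk
      subst hkk'
      have hhh : (h : F) = (h' : F) := by
        have e3 := mul_right_cancel e'
        exact mul_left_cancel e3
      have : h = h' := Subtype.ext hhh
      subst this
      rfl
    · rintro ⟨g, hg⟩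
      have hg' : ¬ (g = 1 ∨ ∀ x : F, g ∉ MulAut.conj x • H) := fun h => hg ((hmemN g).mpr h)
      rw [not_or] at hg'
      obtain ⟨hg1, hg2⟩ := hg'
      push Not at hg2
      obtain ⟨x, hx⟩ := hg2
      obtain ⟨⟨k, h₀⟩, hkh⟩ := hbij.2 x
      simp only at hkh
      rw [Subgroup.mem_pointwise_smul_iff_inv_smul_mem] at hx
      simp only [MulAut.smul_def, map_inv, MulAut.inv_apply, MulAut.conj_symm_apply] at hx
      -- x⁻¹ g x ∈ H, x = k h₀; so k⁻¹ g k ∈ H
      have hkg : (k : F)⁻¹ * g * (k : F) ∈ H := by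
        have e : (k : F)⁻¹ * g * (k : F) = (h₀ : F) * (x⁻¹ * g * x) * (h₀ : F)⁻¹ := by
          rw [← hkh]; group
        rw [e]
        exact H.mul_mem (H.mul_mem h₀.2 hx) (H.inv_mem h₀.2)
      have hne : (⟨(k : F)⁻¹ * g * (k : F), hkg⟩ : H) ≠ 1 := by
        intro e
        apply hg1
        have e1 : (k : F)⁻¹ * g * (k : F) = 1 := congrArg Subtype.val e
        calc g = (k : F) * ((k : F)⁻¹ * g * (k : F)) * (k : F)⁻¹ := by group
          _ = 1 := by rw [e1]; group
      refine ⟨(k, ⟨⟨(k : F)⁻¹ * g * (k : F), hkg⟩, hne⟩), ?_⟩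
      apply Subtype.ext
      show (k : F) * ((k : F)⁻¹ * g * (k : F)) * (k : F)⁻¹ = g
      group
  -- (c)
  have hdouble : ∏ k : N, ∏ h : H, φ ((k : F) * (h : F) * (k : F)⁻¹) v = 1 := by
    have : ∀ k : N, ∏ h : H, φ ((k : F) * (h : F) * (k : F)⁻¹) v =
        φ (k : F) (∏ h : H, φ (h : F) (φ (k : F)⁻¹ v)) := by
      intro k
      rw [map_prod]
      refine Finset.prod_congr rfl fun h _ => ?_
      rw [map_mul, map_mul, MulAut.mul_apply, MulAut.mul_apply]
    simp_rw [this, hTH, map_one]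
    exact Finset.prod_const_one
  have hsplit : ∀ k : N, ∏ h : H, φ ((k : F) * (h : F) * (k : F)⁻¹) v =
      v * ∏ h : {h : H // h ≠ 1}, φ ((k : F) * ((h : H) : F) * (k : F)⁻¹) v := by
    intro k
    rw [Fintype.prod_eq_mul_prod_subtype_ne (fun h : H => φ ((k : F) * (h : F) * (k : F)⁻¹) v) 1]
    congr 1
    simp
  simp_rw [hsplit] at hdouble
  rw [Finset.prod_mul_distrib, Finset.prod_const, Finset.card_univ, ← Fintype.prod_prod_type'] at hdouble
  have hre : ∏ x : N × {h : H // h ≠ 1}, φ ((x.1 : F) * ((x.2 : H) : F) * (x.1 : F)⁻¹) v =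
      ∏ g : {g : F // ¬ g ∈ N}, φ (g : F) v :=
    Fintype.prod_equiv (Equiv.ofBijective ψ hψ) _ _ (fun x => rfl)
  rw [hre, hcompl, mul_one] at hdouble
  rw [Nat.card_eq_fintype_card]
  exact hdouble

end Cfsg.Agent.Lib.Helper1.FrobFix
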