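import Mathlib
import Cfsg.Prelude.Def_FusionSystem

set_option autoImplicit false
open Cfsg

namespace Cfsg.Agent.Lib.Helper1

variable {Ω : Type*} [Group Ω] {S : Subgroup Ω}

/-- Transport of a map of the system along an equality of sources. -/
theorem hom_transport (F : Cfsg.FusionSystem S) {A B : Subgroup Ω} (h : A = B) (ψ : A →* Ω)
    (hψ : ψ ∈ F.Hom A) :
    ∃ ψ' ∈ F.Hom B, ∀ (x : Ω) (hA : x ∈ A) (hB : x ∈ B), ψ' ⟨x, hB⟩ = ψ ⟨x, hA⟩ := by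
  subst h
  exact ⟨ψ, hψ, fun _ _ _ => rfl⟩

/-- The subgroups of `Ω` below a finite subgroup `S` form a finite set. -/
theorem finite_subgroups_le (S : Subgroup Ω) [Finite S] : {Q : Subgroup Ω | Q ≤ S}.Finite := by
  refine Set.Finite.of_injOn (f := fun Q : Subgroup Ω => Q.subgroupOf S) (t := Set.univ)
    (fun _ _ => Set.mem_univ _) ?_ Set.finite_univ
  intro Q hQ Q' hQ' h
  have h' := congrArg (Subgroup.map S.subtype) h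
  simp only at h'
  rwa [Subgroup.map_subgroupOf_eq_of_le hQ, Subgroup.map_subgroupOf_eq_of_le hQ'] at h'

/-- The trivial subgroup is central in every fusion system. -/
theorem isCentral_bot (F : Cfsg.FusionSystem S) : F.IsCentral ⊥ := by
  refine ⟨bot_le, fun P φ hφ => ?_⟩
  obtain ⟨ψ, hψ, hψe⟩ := hom_transport F (sup_bot_eq P).symm φ hφ
  refine ⟨ψ, hψ, fun x => hψe _ _ _, fun x => ?_⟩
  have hx : (x : Ω) = 1 := Subgroup.mem_bot.mp x.2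
  have : (Subgroup.inclusion le_sup_right x : ↥(P ⊔ (⊥ : Subgroup Ω))) = 1 := Subtype.ext hx
  rw [this, map_one, hx]

/-- The trivial subgroup is normal in every fusion system. -/
theorem isNormal_bot (F : Cfsg.FusionSystem S) : F.IsNormal ⊥ := by
  refine ⟨bot_le, fun P φ hφ => ?_⟩
  obtain ⟨ψ, hψ, hψe⟩ := hom_transport F (sup_bot_eq P).symm φ hφ
  refine ⟨ψ, hψ, fun x => hψe _ _ _, ?_⟩
  rw [Subgroup.bot_subgroupOf, Subgroup.map_bot]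

/-- The join of two central subgroups is central. -/
theorem isCentral_sup (F : Cfsg.FusionSystem S) {Q₁ Q₂ : Subgroup Ω} (h₁ : F.IsCentral Q₁)
    (h₂ : F.IsCentral Q₂) : F.IsCentral (Q₁ ⊔ Q₂) := by
  refine ⟨sup_le h₁.1 h₂.1, fun P φ hφ => ?_⟩
  obtain ⟨ψ₁, hψ₁, hψ₁P, hψ₁Q⟩ := h₁.2 P φ hφ
  obtain ⟨ψ₂, hψ₂, hψ₂P, hψ₂Q⟩ := h₂.2 (P ⊔ Q₁) ψ₁ hψ₁
  obtain ⟨ψ, hψ, hψe⟩ := hom_transport F (sup_assoc P Q₁ Q₂) ψ₂ hψ₂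
  refine ⟨ψ, hψ, fun x => ?_, ?_⟩
  · have hx1 : (x : Ω) ∈ P ⊔ Q₁ := (le_sup_left : P ≤ P ⊔ Q₁) x.2
    have hx2 : (x : Ω) ∈ P ⊔ Q₁ ⊔ Q₂ := (le_sup_left : P ⊔ Q₁ ≤ P ⊔ Q₁ ⊔ Q₂) hx1
    have e1 := hψe (x : Ω) hx2 ((le_sup_left : P ≤ P ⊔ (Q₁ ⊔ Q₂)) x.2)
    have e2 := hψ₂P ⟨(x : Ω), hx1⟩
    have e3 := hψ₁P x
    exact e1.trans (e2.trans e3)
  · -- the fixed points of ψ form a subgroup containing Q₁ and Q₂
    have key : Q₁ ⊔ Q₂ ≤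
        (MonoidHom.eqLocus ψ (P ⊔ (Q₁ ⊔ Q₂)).subtype).map (P ⊔ (Q₁ ⊔ Q₂)).subtype := by
      refine sup_le ?_ ?_
      · intro q hq
        have hq1 : q ∈ P ⊔ Q₁ := (le_sup_right : Q₁ ≤ P ⊔ Q₁) hq
        have hq2 : q ∈ P ⊔ Q₁ ⊔ Q₂ := (le_sup_left : P ⊔ Q₁ ≤ P ⊔ Q₁ ⊔ Q₂) hq1
        have hq3 : q ∈ P ⊔ (Q₁ ⊔ Q₂) :=
          (le_sup_right : Q₁ ⊔ Q₂ ≤ P ⊔ (Q₁ ⊔ Q₂)) ((le_sup_left : Q₁ ≤ Q₁ ⊔ Q₂) hq)
        refine ⟨⟨q, hq3⟩, ?_, rfl⟩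
        have e1 := hψe q hq2 hq3
        have e2 := hψ₂P ⟨q, hq1⟩
        have e3 := hψ₁Q ⟨q, hq⟩
        exact e1.trans (e2.trans e3)
      · intro q hq
        have hq2 : q ∈ P ⊔ Q₁ ⊔ Q₂ := (le_sup_right : Q₂ ≤ P ⊔ Q₁ ⊔ Q₂) hq
        have hq3 : q ∈ P ⊔ (Q₁ ⊔ Q₂) :=
          (le_sup_right : Q₁ ⊔ Q₂ ≤ P ⊔ (Q₁ ⊔ Q₂)) ((le_sup_right : Q₂ ≤ Q₁ ⊔ Q₂) hq)
        refine ⟨⟨q, hq3⟩, ?_, rfl⟩
        have e1 := hψe q hq2 hq3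
        have e2 := hψ₂Q ⟨q, hq⟩
        exact e1.trans e2
    intro x
    obtain ⟨y, hy, hyx⟩ := key x.2
    have hyx' : y = Subgroup.inclusion le_sup_right x := Subtype.ext hyx
    rw [← hyx']
    exact hy.trans hyx

/-- The join of two normal subgroups is normal. -/
theorem isNormal_sup (F : Cfsg.FusionSystem S) {Q₁ Q₂ : Subgroup Ω} (h₁ : F.IsNormal Q₁)
    (h₂ : F.IsNormal Q₂) : F.IsNormal (Q₁ ⊔ Q₂) := by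
  refine ⟨sup_le h₁.1 h₂.1, fun P φ hφ => ?_⟩
  obtain ⟨ψ₁, hψ₁, hψ₁P, hψ₁Q⟩ := h₁.2 P φ hφ
  obtain ⟨ψ₂, hψ₂, hψ₂P, hψ₂Q⟩ := h₂.2 (P ⊔ Q₁) ψ₁ hψ₁
  obtain ⟨ψ, hψ, hψe⟩ := hom_transport F (sup_assoc P Q₁ Q₂) ψ₂ hψ₂
  refine ⟨ψ, hψ, fun x => ?_, ?_⟩
  · have hx1 : (x : Ω) ∈ P ⊔ Q₁ := (le_sup_left : P ≤ P ⊔ Q₁) x.2
    have hx2 : (x : Ω) ∈ P ⊔ Q₁ ⊔ Q₂ := (le_sup_left : P ⊔ Q₁ ≤ P ⊔ Q₁ ⊔ Q₂) hx1
    have e1 := hψe (x : Ω) hx2 ((le_sup_left : P ≤ P ⊔ (Q₁ ⊔ Q₂)) x.2)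
    have e2 := hψ₂P ⟨(x : Ω), hx1⟩
    have e3 := hψ₁P x
    exact e1.trans (e2.trans e3)
  · have hQ1le : Q₁ ≤ P ⊔ (Q₁ ⊔ Q₂) := le_sup_left.trans le_sup_right
    have hQ2le : Q₂ ≤ P ⊔ (Q₁ ⊔ Q₂) := le_sup_right.trans le_sup_right
    rw [Subgroup.subgroupOf_sup hQ1le hQ2le, Subgroup.map_sup]
    have i1 : (Q₁.subgroupOf (P ⊔ (Q₁ ⊔ Q₂))).map ψ = Q₁ := by
      conv_rhs => rw [← hψ₁Q]
      ext z
      constructor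
      · rintro ⟨y, hy, rfl⟩
        have hyQ : (y : Ω) ∈ Q₁ := hy
        have hq1 : (y : Ω) ∈ P ⊔ Q₁ := (le_sup_right : Q₁ ≤ P ⊔ Q₁) hyQ
        have hq2 : (y : Ω) ∈ P ⊔ Q₁ ⊔ Q₂ := (le_sup_left : P ⊔ Q₁ ≤ P ⊔ Q₁ ⊔ Q₂) hq1
        refine ⟨⟨(y : Ω), hq1⟩, hyQ, ?_⟩
        have e1 := hψe (y : Ω) hq2 y.2
        have e2 := hψ₂P ⟨(y : Ω), hq1⟩
        exact (e1.trans e2).symm
      · rintro ⟨y, hy, rfl⟩
        have hyQ : (y : Ω) ∈ Q₁ := hy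
        have hq2 : (y : Ω) ∈ P ⊔ Q₁ ⊔ Q₂ := (le_sup_left : P ⊔ Q₁ ≤ P ⊔ Q₁ ⊔ Q₂) y.2
        have hq3 : (y : Ω) ∈ P ⊔ (Q₁ ⊔ Q₂) := hQ1le hyQ
        refine ⟨⟨(y : Ω), hq3⟩, hyQ, ?_⟩
        have e1 := hψe (y : Ω) hq2 hq3
        have e2 := hψ₂P y
        exact e1.trans e2
    have i2 : (Q₂.subgroupOf (P ⊔ (Q₁ ⊔ Q₂))).map ψ = Q₂ := by
      conv_rhs => rw [← hψ₂Q]
      ext z
      constructor
      · rintro ⟨y, hy, rfl⟩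
        have hyQ : (y : Ω) ∈ Q₂ := hy
        have hq2 : (y : Ω) ∈ P ⊔ Q₁ ⊔ Q₂ := (le_sup_right : Q₂ ≤ P ⊔ Q₁ ⊔ Q₂) hyQ
        refine ⟨⟨(y : Ω), hq2⟩, hyQ, ?_⟩
        exact (hψe (y : Ω) hq2 y.2).symm
      · rintro ⟨y, hy, rfl⟩
        have hyQ : (y : Ω) ∈ Q₂ := hy
        have hq3 : (y : Ω) ∈ P ⊔ (Q₁ ⊔ Q₂) := hQ2le hyQ
        refine ⟨⟨(y : Ω), hq3⟩, hyQ, ?_⟩
        exact hψe (y : Ω) y.2 hq3
    rw [i1, i2]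

/-- The centre of a fusion system over a finite `S` is central in it. -/
theorem isCentral_center [Finite S] (F : Cfsg.FusionSystem S) : F.IsCentral F.center := by
  have hsc : SupClosed {Q : Subgroup Ω | F.IsCentral Q} := fun _ ha _ hb => isCentral_sup F ha hb
  have hfin : {Q : Subgroup Ω | F.IsCentral Q}.Finite :=
    (finite_subgroups_le S).subset (fun Q hQ => hQ.1)
  exact hsc.sSup_mem hfin (isCentral_bot F) subset_rfl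

/-- The core of a fusion system over a finite `S` is normal in it. -/
theorem isNormal_core [Finite S] (F : Cfsg.FusionSystem S) : F.IsNormal F.core := by
  have hsc : SupClosed {Q : Subgroup Ω | F.IsNormal Q} := fun _ ha _ hb => isNormal_sup F ha hb
  have hfin : {Q : Subgroup Ω | F.IsNormal Q}.Finite :=
    (finite_subgroups_le S).subset (fun Q hQ => hQ.1)
  exact hsc.sSup_mem hfin (isNormal_bot F) subset_rfl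

end Cfsg.Agent.Lib.Helper1
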