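import Mathlib

/-!
The generalized dihedral group of `(ZMod p)³` (helper1), reindexing of special linear groups, and
centres under isomorphisms.
-/

set_option autoImplicit false

namespace Cfsg.Agent.Lib.Helper1.GDihA

/-- the generalized dihedral group `(ZMod p)³ ⋊ {±1}` -/
structure GD (p : ℕ) where
  /-- the translation part -/
  a : Fin 3 → ZMod p
  /-- the sign -/
  s : ℤˣ

namespace GD

variable {p : ℕ}

@[ext] theorem ext' {x y : GD p} (ha : x.a = y.a) (hs : x.s = y.s) : x = y := by
  cases x; cases y; simp_all

instance : Mul (GD p) := ⟨fun x y => ⟨x.a + x.s • y.a, x.s * y.s⟩⟩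
instance : One (GD p) := ⟨⟨0, 1⟩⟩
instance : Inv (GD p) := ⟨fun x => ⟨-(x.s⁻¹ • x.a), x.s⁻¹⟩⟩

@[simp] theorem mul_a (x y : GD p) : (x * y).a = x.a + x.s • y.a := rfl
@[simp] theorem mul_s (x y : GD p) : (x * y).s = x.s * y.s := rfl
@[simp] theorem one_a : (1 : GD p).a = 0 := rfl
@[simp] theorem one_s : (1 : GD p).s = 1 := rfl
@[simp] theorem inv_a (x : GD p) : (x⁻¹).a = -(x.s⁻¹ • x.a) := rfl
@[simp] theorem inv_s (x : GD p) : (x⁻¹).s = x.s⁻¹ := rfl

instance : Group (GD p) :=
  Group.ofLeftAxioms
    (by
      intro x y z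
      apply ext'
      · simp only [mul_a, mul_s, smul_add, mul_smul, add_assoc]
      · simp only [mul_s, mul_assoc])
    (by
      intro x
      apply ext'
      · simp
      · simp)
    (by
      intro x
      apply ext'
      · simp
      · simp)

/-- the underlying pair -/
def equivProd : GD p ≃ (Fin 3 → ZMod p) × ℤˣ where
  toFun x := (x.a, x.s)
  invFun t := ⟨t.1, t.2⟩
  left_inv x := by cases x; rfl
  right_inv t := rfl

instance [NeZero p] : Finite (GD p) := Finite.of_equiv _ equivProd.symm

theorem card [NeZero p] : Nat.card (GD p) = 2 * p ^ 3 := by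
  rw [Nat.card_congr equivProd, Nat.card_prod, Nat.card_eq_fintype_card, Nat.card_eq_fintype_card,
    Fintype.card_units_int, Fintype.card_fun, ZMod.card, Fintype.card_fin, mul_comm]

end GD

/-! ### reindexing special linear groups -/

/-- reindexing along an equivalence of index types -/
def reindexSL {m n : Type*} [Fintype m] [DecidableEq m] [Fintype n] [DecidableEq n] {R : Type*}
    [CommRing R] (e : m ≃ n) :
    Matrix.SpecialLinearGroup m R ≃* Matrix.SpecialLinearGroup n R where
  toFun A := ⟨Matrix.reindex e e A.1, by rw [Matrix.det_reindex_self]; exact A.2⟩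
  invFun A := ⟨Matrix.reindex e.symm e.symm A.1, by rw [Matrix.det_reindex_self]; exact A.2⟩
  left_inv A := by
    apply Subtype.ext
    ext i j
    simp
  right_inv A := by
    apply Subtype.ext
    ext i j
    simp
  map_mul' A B := by
    apply Subtype.ext
    show Matrix.reindex e e (A.1 * B.1) = Matrix.reindex e e A.1 * Matrix.reindex e e B.1
    simp only [Matrix.reindex_apply]
    rw [Matrix.submatrix_mul_equiv]

theorem mem_center_map {G G' : Type*} [Group G] [Group G'] (e : G ≃* G') (g : G) :
    e g ∈ Subgroup.center G' ↔ g ∈ Subgroup.center G := by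
  rw [Subgroup.mem_center_iff, Subgroup.mem_center_iff]
  constructor
  · intro h x
    have := h (e x)
    rw [← map_mul, ← map_mul] at this
    exact e.injective this
  · intro h y
    obtain ⟨x, rfl⟩ := e.surjective y
    rw [← map_mul, ← map_mul, h x]

end Cfsg.Agent.Lib.Helper1.GDihA
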