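import Cfsg.Agent.Lib.Helper1.GDihA

/-!
A brick for the Kronecker quiver (helper1): the two shifted inclusions `Fᵏ → Fᵏ⁺¹` have only scalar
endomorphisms.
-/

set_option autoImplicit false

namespace Cfsg.Agent.Lib.Helper1.GDihB

variable (F : Type*) [Field F] (k : ℕ)

/-- the inclusion of the first `k` coordinates -/
def X : Matrix (Fin (k + 1)) (Fin k) F := fun l j => if l = Fin.castSucc j then 1 else 0
/-- the inclusion of the last `k` coordinates -/
def Y : Matrix (Fin (k + 1)) (Fin k) F := fun l j => if l = Fin.succ j then 1 else 0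
/-- a third map -/
def Z : Matrix (Fin (k + 1)) (Fin k) F := fun l j => if l = Fin.last k ∧ (j : ℕ) = 0 then 1 else 0

variable {F}

theorem mul_X (D : Matrix (Fin (k + 1)) (Fin (k + 1)) F) (i : Fin (k + 1)) (j : Fin k) :
    (D * X F k) i j = D i (Fin.castSucc j) := by
  rw [Matrix.mul_apply]
  simp only [X, mul_ite, mul_one, mul_zero, Finset.sum_ite_eq', Finset.mem_univ, if_true]

theorem mul_Y (D : Matrix (Fin (k + 1)) (Fin (k + 1)) F) (i : Fin (k + 1)) (j : Fin k) :
    (D * Y F k) i j = D i (Fin.succ j) := by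
  rw [Matrix.mul_apply]
  simp only [Y, mul_ite, mul_one, mul_zero, Finset.sum_ite_eq', Finset.mem_univ, if_true]

theorem X_mul_castSucc (A : Matrix (Fin k) (Fin k) F) (i j : Fin k) :
    (X F k * A) (Fin.castSucc i) j = A i j := by
  rw [Matrix.mul_apply]
  simp only [X, Fin.castSucc_inj, ite_mul, one_mul, zero_mul, Finset.sum_ite_eq, Finset.mem_univ,
    if_true]

theorem X_mul_last (A : Matrix (Fin k) (Fin k) F) (j : Fin k) :
    (X F k * A) (Fin.last k) j = 0 := by
  rw [Matrix.mul_apply]
  apply Finset.sum_eq_zero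
  intro l _
  simp only [X]
  rw [if_neg (Fin.castSucc_lt_last l).ne', zero_mul]

theorem Y_mul_succ (A : Matrix (Fin k) (Fin k) F) (i j : Fin k) :
    (Y F k * A) (Fin.succ i) j = A i j := by
  rw [Matrix.mul_apply]
  simp only [Y, Fin.succ_inj, ite_mul, one_mul, zero_mul, Finset.sum_ite_eq, Finset.mem_univ,
    if_true]

theorem Y_mul_zero (A : Matrix (Fin k) (Fin k) F) (j : Fin k) :
    (Y F k * A) 0 j = 0 := by
  rw [Matrix.mul_apply]
  apply Finset.sum_eq_zero
  intro l _
  simp only [Y]
  rw [if_neg (Fin.succ_ne_zero l).symm, zero_mul]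

/-- **the brick property** -/
theorem brick (hk : 1 ≤ k) (A : Matrix (Fin k) (Fin k) F)
    (D : Matrix (Fin (k + 1)) (Fin (k + 1)) F) (hX : D * X F k = X F k * A)
    (hY : D * Y F k = Y F k * A) : ∃ c : F, A = c • 1 ∧ D = c • 1 := by
  -- the four families of equations
  have H1 : ∀ i j : Fin k, D (Fin.castSucc i) (Fin.castSucc j) = A i j := by
    intro i j
    rw [← mul_X k D (Fin.castSucc i) j, hX, X_mul_castSucc]
  have H2 : ∀ j : Fin k, D (Fin.last k) (Fin.castSucc j) = 0 := by
    intro j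
    rw [← mul_X k D (Fin.last k) j, hX, X_mul_last]
  have H3 : ∀ j : Fin k, D 0 (Fin.succ j) = 0 := by
    intro j
    rw [← mul_Y k D 0 j, hY, Y_mul_zero]
  have H4 : ∀ i j : Fin k, D (Fin.succ i) (Fin.succ j) = A i j := by
    intro i j
    rw [← mul_Y k D (Fin.succ i) j, hY, Y_mul_succ]
  -- indexing by natural numbers
  set α : ℕ → ℕ → F := fun i j => if h : i < k ∧ j < k then A ⟨i, h.1⟩ ⟨j, h.2⟩ else 0 with hα
  set δ : ℕ → ℕ → F := fun i j =>
    if h : i < k + 1 ∧ j < k + 1 then D ⟨i, h.1⟩ ⟨j, h.2⟩ else 0 with hδ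
  have αe : ∀ i j (hi : i < k) (hj : j < k), α i j = A ⟨i, hi⟩ ⟨j, hj⟩ := by
    intro i j hi hj
    simp only [hα]
    rw [dif_pos ⟨hi, hj⟩]
  have δe : ∀ i j (hi : i < k + 1) (hj : j < k + 1), δ i j = D ⟨i, hi⟩ ⟨j, hj⟩ := by
    intro i j hi hj
    simp only [hδ]
    rw [dif_pos ⟨hi, hj⟩]
  have P1 : ∀ i j, i < k → j < k → δ i j = α i j := by
    intro i j hi hj
    rw [δe i j (by omega) (by omega), αe i j hi hj, ← H1]
    rfl
  have P2 : ∀ j, j < k → δ k j = 0 := by
    intro j hj
    rw [δe k j (by omega) (by omega), ← H2 ⟨j, hj⟩]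
    rfl
  have P3 : ∀ j, j < k → δ 0 (j + 1) = 0 := by
    intro j hj
    rw [δe 0 (j + 1) (by omega) (by omega), ← H3 ⟨j, hj⟩]
    rfl
  have P4 : ∀ i j, i < k → j < k → δ (i + 1) (j + 1) = α i j := by
    intro i j hi hj
    rw [δe (i + 1) (j + 1) (by omega) (by omega), αe i j hi hj, ← H4]
    rfl
  -- above the diagonal
  have hup : ∀ i j, i < j → j < k → α i j = 0 := by
    intro i
    induction i with
    | zero =>
      intro j hij hj
      obtain ⟨j', rfl⟩ : ∃ j', j = j' + 1 := ⟨j - 1, by omega⟩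
      rw [← P1 0 (j' + 1) (by omega) hj, P3 j' (by omega)]
    | succ i ih =>
      intro j hij hj
      obtain ⟨j', rfl⟩ : ∃ j', j = j' + 1 := ⟨j - 1, by omega⟩
      rw [← P1 (i + 1) (j' + 1) (by omega) hj, P4 i j' (by omega) (by omega)]
      exact ih j' (by omega) (by omega)
  -- below the diagonal
  have hdown : ∀ m i j, i + m + 1 = k → j < i → α i j = 0 := by
    intro m
    induction m with
    | zero =>
      intro i j hi hji
      rw [← P4 i j (by omega) (by omega)]
      have : i + 1 = k := by omega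
      rw [this]
      exact P2 (j + 1) (by omega)
    | succ m ih =>
      intro i j hi hji
      rw [← P4 i j (by omega) (by omega), P1 (i + 1) (j + 1) (by omega) (by omega)]
      exact ih (i + 1) (j + 1) (by omega) (by omega)
  -- the diagonal
  have hdiag : ∀ i, i < k → α i i = α 0 0 := by
    intro i
    induction i with
    | zero => intro _; rfl
    | succ i ih =>
      intro hi
      rw [← P1 (i + 1) (i + 1) hi hi, P4 i i (by omega) (by omega)]
      exact ih (by omega)
  have hαc : ∀ i j, i < k → j < k → α i j = if i = j then α 0 0 else 0 := by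
    intro i j hi hj
    by_cases hij : i = j
    · rw [if_pos hij, ← hij]
      exact hdiag i hi
    · rw [if_neg hij]
      rcases Nat.lt_or_gt_of_ne hij with h | h
      · exact hup i j h hj
      · exact hdown (k - 1 - i) i j (by omega) h
  refine ⟨α 0 0, ?_, ?_⟩
  · ext i j
    rw [Matrix.smul_apply, Matrix.one_apply, smul_eq_mul, mul_ite, mul_one, mul_zero]
    have := hαc i j i.2 j.2
    rw [αe i j i.2 j.2] at this
    rw [this]
    simp only [Fin.ext_iff]
  · ext i j
    rw [Matrix.smul_apply, Matrix.one_apply, smul_eq_mul, mul_ite, mul_one, mul_zero]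
    have hD : D i j = δ i j := (δe i j i.2 j.2).symm
    rw [hD]
    simp only [Fin.ext_iff]
    have hi := i.2
    have hj := j.2
    by_cases hjk : (j : ℕ) < k
    · by_cases hik : (i : ℕ) < k
      · rw [P1 _ _ hik hjk]
        exact hαc _ _ hik hjk
      · have : (i : ℕ) = k := by omega
        rw [this, P2 _ hjk, if_neg (by omega)]
    · have hjk' : (j : ℕ) = (k - 1) + 1 := by omega
      by_cases hi0 : (i : ℕ) = 0
      · rw [hi0, hjk', P3 (k - 1) (by omega), if_neg (by omega)]
      · have hi' : (i : ℕ) = ((i : ℕ) - 1) + 1 := by omega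
        rw [hi', hjk', P4 _ _ (by omega) (by omega), hαc _ _ (by omega) (by omega)]
        by_cases h : (i : ℕ) - 1 = k - 1
        · rw [if_pos h, if_pos (by omega)]
        · rw [if_neg h, if_neg (by omega)]

end Cfsg.Agent.Lib.Helper1.GDihB
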