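import Cfsg.Agent.Lib.Helper1.GDihB

/-!
The representation of the generalized dihedral group of `(ZMod p)³` on a Kronecker brick (helper1).
-/

set_option autoImplicit false

namespace Cfsg.Agent.Lib.Helper1.GDihC

open Cfsg.Agent.Lib.Helper1.GDihA Cfsg.Agent.Lib.Helper1.GDihB

variable (p : ℕ) [hp : Fact p.Prime] (k : ℕ)

/-- the index type -/
abbrev Idx (k : ℕ) : Type := Fin k ⊕ Fin (k + 1)

/-- the off-diagonal block -/
def Nm (a : Fin 3 → ZMod p) : Matrix (Fin (k + 1)) (Fin k) (ZMod p) :=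
  a 0 • X (ZMod p) k + a 1 • Y (ZMod p) k + a 2 • Z (ZMod p) k

/-- the sign as an element of the field -/
def sg (s : ℤˣ) : ZMod p := ((s : ℤ) : ZMod p)

theorem sg_one : sg p 1 = 1 := by simp [sg]

theorem sg_neg_one : sg p (-1) = -1 := by simp [sg]

theorem sg_mul (s t : ℤˣ) : sg p (s * t) = sg p s * sg p t := by simp [sg]

theorem sg_cases (s : ℤˣ) : sg p s = 1 ∨ sg p s = -1 := by
  rcases Int.units_eq_one_or s with rfl | rfl
  · left; exact sg_one p
  · right; exact sg_neg_one p

theorem units_smul (s : ℤˣ) (b : Fin 3 → ZMod p) (i : Fin 3) : (s • b) i = sg p s * b i := by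
  rw [Units.smul_def, Pi.smul_apply, zsmul_eq_mul]
  rfl

theorem Nm_mul (x y : GD p) :
    Nm p k (x * y).a = Nm p k x.a + sg p x.s • Nm p k y.a := by
  simp only [Nm, GD.mul_a, Pi.add_apply, units_smul]
  ext i j
  simp only [Matrix.add_apply, Matrix.smul_apply, smul_eq_mul]
  ring

/-- the matrix of an element -/
def rmat (x : GD p) : Matrix (Idx k) (Idx k) (ZMod p) :=
  Matrix.fromBlocks 1 0 (Nm p k x.a) (sg p x.s • 1)

theorem rmat_mul (x y : GD p) : rmat p k (x * y) = rmat p k x * rmat p k y := by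
  simp only [rmat, Matrix.fromBlocks_multiply, Nm_mul, GD.mul_s, sg_mul]
  congr 1
  · simp
  · simp
  · simp
  · simp [smul_smul, mul_comm]

theorem rmat_one : rmat p k 1 = 1 := by
  simp only [rmat, GD.one_a, GD.one_s, sg_one, one_smul]
  have : Nm p k 0 = 0 := by simp [Nm]
  rw [this, Matrix.fromBlocks_one]

theorem rmat_det (hk : Odd k) (x : GD p) : (rmat p k x).det = 1 := by
  rw [rmat, Matrix.det_fromBlocks_zero₁₂, Matrix.det_one, one_mul, Matrix.det_smul, Matrix.det_one,
    mul_one, Fintype.card_fin]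
  obtain ⟨j, rfl⟩ := hk
  rcases sg_cases p x.s with h | h <;> rw [h]
  · exact one_pow _
  · have : 2 * j + 1 + 1 = 2 * (j + 1) := by ring
    rw [this, pow_mul]
    simp

/-- the representation -/
def rho (hk : Odd k) : GD p →* Matrix.SpecialLinearGroup (Idx k) (ZMod p) where
  toFun x := ⟨rmat p k x, rmat_det p k hk x⟩
  map_one' := Subtype.ext (rmat_one p k)
  map_mul' x y := Subtype.ext (rmat_mul p k x y)

theorem rho_coe (hk : Odd k) (x : GD p) :
    ((rho p k hk x : Matrix.SpecialLinearGroup (Idx k) (ZMod p)) : Matrix (Idx k) (Idx k) (ZMod p)) =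
      rmat p k x := rfl

end Cfsg.Agent.Lib.Helper1.GDihC
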