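import Cfsg.Agent.Lib.Helper1.GDihC

/-!
The generalized dihedral group of `(ZMod p)³` in `SL_{2k+1}(p)`: faithfulness modulo scalars and the
centralizer (helper1).
-/

set_option autoImplicit false

namespace Cfsg.Agent.Lib.Helper1.GDihD

open Cfsg.Agent.Lib.Helper1.GDihA Cfsg.Agent.Lib.Helper1.GDihB Cfsg.Agent.Lib.Helper1.GDihC

variable (p : ℕ) [hp : Fact p.Prime] (k : ℕ)

theorem Nm_eq_zero (hk : 2 ≤ k) (a : Fin 3 → ZMod p) (h : Nm p k a = 0) : a = 0 := by
  have e0 := congrFun (congrFun h (⟨0, by omega⟩ : Fin (k + 1))) (⟨0, by omega⟩ : Fin k)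
  have e1 := congrFun (congrFun h (⟨1, by omega⟩ : Fin (k + 1))) (⟨0, by omega⟩ : Fin k)
  have e2 := congrFun (congrFun h (⟨k, by omega⟩ : Fin (k + 1))) (⟨0, by omega⟩ : Fin k)
  simp only [Nm, X, Y, Z, Matrix.add_apply, Matrix.smul_apply, smul_eq_mul, Matrix.zero_apply,
    Fin.ext_iff, Fin.val_castSucc, Fin.val_succ, Fin.val_last] at e0 e1 e2
  have h0 : a 0 = 0 := by
    have hk' : ¬ (0 = k) := by omega
    simpa [hk'] using e0
  have h1 : a 1 = 0 := by
    have hk' : ¬ (1 = k) := by omega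
    simpa [hk'] using e1
  have h2 : a 2 = 0 := by
    have hk' : ¬ (k = 0) := by omega
    have hk'' : ¬ (k = 1) := by omega
    simpa [hk', hk''] using e2
  ext i
  fin_cases i
  · exact h0
  · exact h1
  · exact h2

theorem two_ne_zero (hp2 : p ≠ 2) : (2 : ZMod p) ≠ 0 := by
  intro h
  have h' : ((2 : ℕ) : ZMod p) = 0 := by exact_mod_cast h
  rw [ZMod.natCast_eq_zero_iff] at h'
  have := (Nat.prime_dvd_prime_iff_eq hp.out Nat.prime_two).mp h'
  exact hp2 this

theorem sg_eq_one (hp2 : p ≠ 2) (s : ℤˣ) (h : sg p s = 1) : s = 1 := by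
  rcases Int.units_eq_one_or s with rfl | rfl
  · rfl
  · exfalso
    rw [sg_neg_one] at h
    apply two_ne_zero p hp2
    linear_combination -h

theorem eq_zero_of_neg_eq {m n : Type*} (h2 : (2 : ZMod p) ≠ 0) (B : Matrix m n (ZMod p))
    (h : -B = B) : B = 0 := by
  ext i j
  have := congrFun (congrFun h i) j
  rw [Matrix.neg_apply] at this
  have h' : (2 : ZMod p) * B i j = 0 := by linear_combination -this
  rcases mul_eq_zero.mp h' with h'' | h''
  · exact absurd h'' h2
  · exact h''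

/-- the image meets the scalars trivially -/
theorem rho_mem_center (hk : Odd k) (hk2 : 2 ≤ k) (hp2 : p ≠ 2) (x : GD p)
    (h : rho p k hk x ∈ Subgroup.center (Matrix.SpecialLinearGroup (Idx k) (ZMod p))) : x = 1 := by
  rw [Matrix.SpecialLinearGroup.mem_center_iff] at h
  obtain ⟨r, _, hr⟩ := h
  rw [rho_coe] at hr
  have e : Matrix.scalar (Idx k) r =
      Matrix.fromBlocks (r • (1 : Matrix (Fin k) (Fin k) (ZMod p))) 0 0
        (r • (1 : Matrix (Fin (k + 1)) (Fin (k + 1)) (ZMod p))) := by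
    rw [Matrix.scalar_apply, ← Matrix.smul_one_eq_diagonal, ← Matrix.fromBlocks_one,
      Matrix.fromBlocks_smul]
    simp only [smul_zero]
  rw [e, rmat, Matrix.fromBlocks_inj] at hr
  obtain ⟨h11, _, h21, h22⟩ := hr
  have hr1 : r = 1 := by
    have := congrFun (congrFun h11 (⟨0, by omega⟩ : Fin k)) (⟨0, by omega⟩ : Fin k)
    simpa using this
  have hs : sg p x.s = 1 := by
    have := congrFun (congrFun h22 (⟨0, by omega⟩ : Fin (k + 1))) (⟨0, by omega⟩ : Fin (k + 1))
    simp only [Matrix.smul_apply, Matrix.one_apply_eq, smul_eq_mul, mul_one] at this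
    rw [← this, hr1]
  apply GD.ext'
  · exact Nm_eq_zero p k hk2 x.a h21.symm
  · exact sg_eq_one p hp2 x.s hs

/-- elements commuting with the whole image are scalar -/
theorem commute_core (hk : Odd k) (hp2 : p ≠ 2)
    (g : Matrix.SpecialLinearGroup (Idx k) (ZMod p))
    (h : ∀ x : GD p, (x = ⟨0, -1⟩ ∨ x.s = 1) → g * rho p k hk x = rho p k hk x * g) :
    g ∈ Subgroup.center (Matrix.SpecialLinearGroup (Idx k) (ZMod p)) := by
  have hk1 : 1 ≤ k := by
    obtain ⟨j, rfl⟩ := hk
    omega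
  have h2 := two_ne_zero p hp2
  set M : Matrix (Idx k) (Idx k) (ZMod p) := g.1 with hM
  have hblocks : M = Matrix.fromBlocks M.toBlocks₁₁ M.toBlocks₁₂ M.toBlocks₂₁ M.toBlocks₂₂ :=
    (Matrix.fromBlocks_toBlocks M).symm
  set A := M.toBlocks₁₁ with hA
  set B := M.toBlocks₁₂ with hB
  set C := M.toBlocks₂₁ with hC
  set D := M.toBlocks₂₂ with hD
  have hcomm : ∀ x : GD p, (x = ⟨0, -1⟩ ∨ x.s = 1) → M * rmat p k x = rmat p k x * M := by
    intro x hx
    have := congrArg (fun t : Matrix.SpecialLinearGroup (Idx k) (ZMod p) => t.1) (h x hx)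
    exact this
  -- the involution
  have ht := hcomm ⟨0, -1⟩ (Or.inl rfl)
  have hN0 : Nm p k 0 = 0 := by simp [Nm]
  rw [rmat, hblocks, Matrix.fromBlocks_multiply, Matrix.fromBlocks_multiply, Matrix.fromBlocks_inj,
    hN0, sg_neg_one] at ht
  obtain ⟨_, h12, h21, _⟩ := ht
  have hB0 : B = 0 := by
    have h12' : -B = B := by simpa using h12
    exact eq_zero_of_neg_eq p h2 B h12'
  have hC0 : C = 0 := by
    have h21' : C = -C := by simpa using h21
    exact eq_zero_of_neg_eq p h2 C h21'.symm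
  -- the translations
  have hu : ∀ a : Fin 3 → ZMod p, D * Nm p k a = Nm p k a * A := by
    intro a
    have := hcomm ⟨a, 1⟩ (Or.inr rfl)
    rw [rmat, hblocks, Matrix.fromBlocks_multiply, Matrix.fromBlocks_multiply,
      Matrix.fromBlocks_inj, hB0, hC0, sg_one] at this
    obtain ⟨_, _, h21', _⟩ := this
    simpa using h21'
  have hX : D * X (ZMod p) k = X (ZMod p) k * A := by
    have := hu ![1, 0, 0]
    simpa [Nm] using this
  have hY : D * Y (ZMod p) k = Y (ZMod p) k * A := by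
    have := hu ![0, 1, 0]
    simpa [Nm] using this
  obtain ⟨c, hAc, hDc⟩ := brick k hk1 A D hX hY
  have hMc : M = c • 1 := by
    rw [hblocks, hB0, hC0, hAc, hDc]
    conv_rhs => rw [← Matrix.fromBlocks_one, Matrix.fromBlocks_smul]
    simp only [smul_zero]
  rw [Subgroup.mem_center_iff]
  intro y
  apply Subtype.ext
  show y.1 * g.1 = g.1 * y.1
  rw [← hM, hMc, Matrix.mul_smul, Matrix.smul_mul, mul_one, one_mul]

end Cfsg.Agent.Lib.Helper1.GDihD
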