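import Cfsg.Agent.Lib.Helper1.GDihD

/-!
The generalized dihedral group of `(ZMod p)³` in `PSL_{2k+1}(p)`: an embedding with trivial
centralizer (helper1).
-/

set_option autoImplicit false

namespace Cfsg.Agent.Lib.Helper1.GDihE

open Cfsg.Agent.Lib.Helper1.GDihA Cfsg.Agent.Lib.Helper1.GDihB Cfsg.Agent.Lib.Helper1.GDihC
  Cfsg.Agent.Lib.Helper1.GDihD

theorem twist_pow {G : Type*} [Group G] (g r z : G) (hz : z ∈ Subgroup.center G)
    (h : g * r = r * g * z) (m : ℕ) : g * r ^ m = r ^ m * g * z ^ m := by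
  induction m with
  | zero => simp
  | succ j ih =>
    have hzj : z ^ j ∈ Subgroup.center G := Subgroup.pow_mem _ hz j
    have hc := Subgroup.mem_center_iff.mp hzj r
    calc g * r ^ (j + 1) = (g * r ^ j) * r := by rw [pow_succ, mul_assoc]
      _ = r ^ j * g * z ^ j * r := by rw [ih]
      _ = r ^ j * g * (r * z ^ j) := by rw [hc, mul_assoc]
      _ = r ^ j * (g * r) * z ^ j := by simp only [mul_assoc]
      _ = r ^ j * (r * g * z) * z ^ j := by rw [h]
      _ = r ^ (j + 1) * g * z ^ (j + 1) := by rw [pow_succ r, pow_succ' z]; simp only [mul_assoc]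

theorem twist_pow_one {G : Type*} [Group G] (g r z : G) (hz : z ∈ Subgroup.center G)
    (h : g * r = r * g * z) (m : ℕ) (hr : r ^ m = 1) : z ^ m = 1 := by
  have := twist_pow g r z hz h m
  rw [hr, mul_one, one_mul] at this
  exact (mul_eq_left.mp this.symm)

variable (p : ℕ) [hp : Fact p.Prime] (k : ℕ)

/-- a central twist of order dividing `2` or `p` in odd dimension is trivial -/
theorem untwist (g r : Matrix.SpecialLinearGroup (Idx k) (ZMod p)) (m : ℕ)
    (hm : m = 2 ∨ m = p) (hr : r ^ m = 1)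
    (hz : (r * g)⁻¹ * (g * r) ∈ Subgroup.center (Matrix.SpecialLinearGroup (Idx k) (ZMod p))) :
    g * r = r * g := by
  set z := (r * g)⁻¹ * (g * r) with hzdef
  have h : g * r = r * g * z := by rw [hzdef]; group
  have hzm : z ^ m = 1 := twist_pow_one g r z hz h m hr
  obtain ⟨c, hc, hcz⟩ := Matrix.SpecialLinearGroup.mem_center_iff.mp hz
  have hcard : Fintype.card (Idx k) = 2 * k + 1 := by
    rw [Fintype.card_sum, Fintype.card_fin, Fintype.card_fin]; ring
  rw [hcard] at hc
  have hcm : c ^ m = 1 := by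
    have h1 : (z ^ m).1 = 1 := by rw [hzm]; rfl
    rw [Matrix.SpecialLinearGroup.coe_pow, ← hcz, ← map_pow] at h1
    have h2 : Matrix.scalar (Idx k) (c ^ m) = Matrix.scalar (Idx k) 1 := by rw [h1, map_one]
    have : Nonempty (Idx k) := ⟨Sum.inr 0⟩
    exact Matrix.scalar_inj.mp h2
  have hc1 : c = 1 := by
    rcases hm with rfl | rfl
    · have : c ^ (2 * k + 1) = c := by rw [pow_succ, pow_mul, hcm, one_pow, one_mul]
      rw [← this, hc]
    · rw [← hcm]
      exact (ZMod.pow_card c).symm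
  have hz1 : z = 1 := by
    apply Subtype.ext
    rw [← hcz, hc1, map_one]
    rfl
  rw [h, hz1, mul_one]

end Cfsg.Agent.Lib.Helper1.GDihE
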