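import Cfsg.Agent.Lib.Helper1.GDihE

/-!
The generalized dihedral group of `(ZMod p)³` in `PSL_{2k+1}(p)`: the final embedding statement
(helper1).
-/

set_option autoImplicit false

namespace Cfsg.Agent.Lib.Helper1.GDihF

open Cfsg.Agent.Lib.Helper1.GDihA Cfsg.Agent.Lib.Helper1.GDihB Cfsg.Agent.Lib.Helper1.GDihC
  Cfsg.Agent.Lib.Helper1.GDihD Cfsg.Agent.Lib.Helper1.GDihE

variable (p : ℕ) [hp : Fact p.Prime]

theorem pow_of_s_one (x : GD p) (hs : x.s = 1) (m : ℕ) : x ^ m = ⟨m • x.a, 1⟩ := by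
  induction m with
  | zero =>
    rw [pow_zero, zero_smul]
    rfl
  | succ j ih =>
    rw [pow_succ, ih]
    apply GD.ext'
    · simp only [GD.mul_a, one_smul, add_smul]
    · simp only [GD.mul_s, hs, one_mul]

theorem pow_p_of_s_one (x : GD p) (hs : x.s = 1) : x ^ p = 1 := by
  rw [pow_of_s_one p x hs]
  apply GD.ext'
  · funext i
    simp
  · rfl

theorem refl_sq : (⟨0, -1⟩ : GD p) ^ 2 = 1 := by
  rw [pow_two]
  apply GD.ext'
  · simp
  · simp

theorem main (hp2 : p ≠ 2) (N : ℕ) :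
    ∃ n, N ≤ n ∧ ∃ φ : GD p →* Matrix.ProjectiveSpecialLinearGroup (Fin n) (ZMod p),
      Function.Injective φ ∧
        Subgroup.centralizer
          (φ.range : Set (Matrix.ProjectiveSpecialLinearGroup (Fin n) (ZMod p))) = ⊥ := by
  obtain ⟨k, hkdef⟩ : ∃ k, k = 2 * N + 3 := ⟨_, rfl⟩
  have hk : Odd k := ⟨N + 1, by omega⟩
  have hk2 : 2 ≤ k := by omega
  refine ⟨k + (k + 1), by omega, ?_⟩
  let E : Matrix.SpecialLinearGroup (Idx k) (ZMod p) ≃*
      Matrix.SpecialLinearGroup (Fin (k + (k + 1))) (ZMod p) := reindexSL finSumFinEquiv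
  let φ : GD p →* Matrix.ProjectiveSpecialLinearGroup (Fin (k + (k + 1))) (ZMod p) :=
    (QuotientGroup.mk' _).comp (E.toMonoidHom.comp (rho p k hk))
  have hφ : ∀ x, φ x = QuotientGroup.mk (E (rho p k hk x)) := fun x => rfl
  refine ⟨φ, ?_, ?_⟩
  · rw [injective_iff_map_eq_one]
    intro x hx
    rw [hφ, QuotientGroup.eq_one_iff, mem_center_map] at hx
    exact rho_mem_center p k hk hk2 hp2 x hx
  · rw [eq_bot_iff]
    intro gbar hg
    obtain ⟨g', rfl⟩ := QuotientGroup.mk_surjective gbar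
    rw [Subgroup.mem_bot, QuotientGroup.eq_one_iff]
    have hgc : E.symm g' ∈ Subgroup.center (Matrix.SpecialLinearGroup (Idx k) (ZMod p)) := by
      apply commute_core p k hk hp2
      intro x hx
      have hcomm := Subgroup.mem_centralizer_iff.mp hg (φ x) ⟨x, rfl⟩
      rw [hφ, ← QuotientGroup.mk_mul, ← QuotientGroup.mk_mul, QuotientGroup.eq] at hcomm
      have h2 : (rho p k hk x * E.symm g')⁻¹ * (E.symm g' * rho p k hk x) ∈
          Subgroup.center (Matrix.SpecialLinearGroup (Idx k) (ZMod p)) := by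
        rw [← mem_center_map E]
        simpa using hcomm
      rcases hx with rfl | hs
      · apply untwist p k (E.symm g') _ 2 (Or.inl rfl) _ h2
        rw [← map_pow, refl_sq, map_one]
      · apply untwist p k (E.symm g') _ p (Or.inr rfl) _ h2
        rw [← map_pow, pow_p_of_s_one p x hs, map_one]
    have := (mem_center_map E (E.symm g')).mpr hgc
    rwa [MulEquiv.apply_symm_apply] at this

end Cfsg.Agent.Lib.Helper1.GDihF
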