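import Mathlib
import Cfsg.Agent.Lib.Helper1.SectionTransfer
import Cfsg.Agent.Lib.Helper1.LocalToGlobal

set_option autoImplicit false

/-! Normal subgroups of index `p` from control of transfer by a characteristic functor, when the
Sylow automizer is a `p`-group. -/

namespace Cfsg.Agent.Lib.Helper1.IndexP

open Cfsg Cfsg.Agent.Lib.Helper1.SecT

universe u

variable {p : ℕ} [Fact p.Prime]

/-- A group mapping onto a nontrivial finite `p`-group has a normal subgroup of index `p`. -/
theorem exists_normal_index_of_surj {X Y : Type*} [Group X] [Group Y] [Finite Y] (f : X →* Y)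
    (hf : Function.Surjective f) (hY : IsPGroup p Y) [Nontrivial Y] :
    ∃ N : Subgroup X, N.Normal ∧ N.index = p := by
  have hp : p.Prime := Fact.out
  obtain ⟨k, hk⟩ := hY.exists_card_eq
  have hk0 : k ≠ 0 := by
    intro h0
    rw [h0, pow_zero] at hk
    have : 1 < Nat.card Y := Finite.one_lt_card
    omega
  obtain ⟨j, rfl⟩ := Nat.exists_eq_succ_of_ne_zero hk0
  obtain ⟨H, hH⟩ := Sylow.exists_subgroup_card_pow_prime (G := Y) p (n := j) (by
    rw [hk]; exact pow_dvd_pow p (Nat.le_succ j))
  have hidx : H.index = p := by
    have h1 := H.card_mul_index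
    rw [hH, hk, pow_succ] at h1
    exact Nat.eq_of_mul_eq_mul_left (pow_pos hp.pos j) h1
  have hHn : H.Normal := by
    apply Subgroup.normal_of_index_eq_minFac_card
    rw [hidx, hk, Nat.Prime.pow_minFac hp (Nat.succ_ne_zero j)]
  refine ⟨H.comap f, hHn.comap f, ?_⟩
  rw [Subgroup.index_comap_of_surjective H hf, hidx]

/-- If `X` has a normal subgroup of index `p`, no Sylow `p`-subgroup lies in the derived subgroup. -/
theorem sylow_not_le_commutator {X : Type*} [Group X] [Finite X] (N : Subgroup X) [hN : N.Normal]
    (hidx : N.index = p) (S : Sylow p X) : ¬ (S : Subgroup X) ≤ commutator X := by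
  have hp : p.Prime := Fact.out
  intro hS
  have hcard : Nat.card (X ⧸ N) = p := by rw [← Subgroup.index_eq_card]; exact hidx
  haveI : IsCyclic (X ⧸ N) := isCyclic_of_prime_card hcard
  letI : CommGroup (X ⧸ N) := IsCyclic.commGroup
  have h1 : commutator X ≤ (QuotientGroup.mk' N).ker := Abelianization.commutator_subset_ker _
  rw [QuotientGroup.ker_mk'] at h1
  have h2 : (S : Subgroup X) ≤ N := hS.trans h1
  have h3 : N.index ∣ (S : Subgroup X).index := Subgroup.index_dvd_of_le h2
  rw [hidx] at h3
  exact S.not_dvd_index h3

/-- If a Sylow `p`-subgroup is not in the derived subgroup, there is a normal subgroup of index `p`. -/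
theorem exists_normal_index_of_not_le_commutator {X : Type*} [Group X] [Finite X] (S : Sylow p X)
    (hS : ¬ (S : Subgroup X) ≤ commutator X) : ∃ N : Subgroup X, N.Normal ∧ N.index = p := by
  have hp : p.Prime := Fact.out
  obtain ⟨s, hsS, hsc⟩ := SetLike.not_le_iff_exists.1 hS
  set Y := Abelianization X with hY
  set Yp : Subgroup Y := (powMonoidHom p : Y →* Y).range with hYp
  have hφ : Function.Surjective (Abelianization.of : X →* Y) := QuotientGroup.mk_surjective
  set f : X →* (Y ⧸ Yp) := (QuotientGroup.mk' Yp).comp Abelianization.of with hf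
  have hfs : Function.Surjective f := (QuotientGroup.mk'_surjective Yp).comp hφ
  have hQ : IsPGroup p (Y ⧸ Yp) := by
    intro q
    obtain ⟨y, rfl⟩ := QuotientGroup.mk'_surjective Yp q
    refine ⟨1, ?_⟩
    rw [pow_one, ← map_pow]
    exact (QuotientGroup.eq_one_iff _).2 ⟨y, rfl⟩
  have hne : Yp ≠ ⊤ := by
    intro htop
    have hsurj : Function.Surjective (powMonoidHom p : Y →* Y) := MonoidHom.range_eq_top.1 htop
    have hinj : Function.Injective (powMonoidHom p : Y →* Y) := Finite.injective_iff_surjective.2 hsurj
    -- the image of `s` is a nontrivial `p`-element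
    set t : Y := Abelianization.of s with ht
    have ht1 : t ≠ 1 := by
      intro h
      apply hsc
      have : s ∈ (Abelianization.of : X →* Y).ker := h
      rwa [Abelianization.ker_of X] at this
    obtain ⟨k, hk⟩ := S.isPGroup' ⟨s, hsS⟩
    have hk' : s ^ p ^ k = 1 := by
      have := congrArg Subtype.val hk
      simpa using this
    have htk : t ^ p ^ k = 1 := by rw [ht, ← map_pow, hk', map_one]
    -- minimal such exponent
    classical
    have hex : ∃ j, t ^ p ^ j = 1 := ⟨k, htk⟩
    set j₀ := Nat.find hex with hj₀
    have hj₀s : t ^ p ^ j₀ = 1 := Nat.find_spec hex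
    have hj₀ne : j₀ ≠ 0 := by
      intro h0
      rw [h0, pow_zero, pow_one] at hj₀s
      exact ht1 hj₀s
    obtain ⟨i, hi⟩ := Nat.exists_eq_succ_of_ne_zero hj₀ne
    have hmin : t ^ p ^ i ≠ 1 := Nat.find_min hex (by omega)
    apply hmin
    apply hinj
    show (t ^ p ^ i) ^ p = 1 ^ p
    rw [one_pow, ← pow_mul, ← pow_succ]
    have : i + 1 = j₀ := hi.symm
    rw [this]
    exact hj₀s
  haveI : Nontrivial (Y ⧸ Yp) := QuotientGroup.nontrivial_iff.2 hne
  exact exists_normal_index_of_surj f hfs hQ

theorem exists_pow_coprime_order {Y : Type*} [Group Y] [Finite Y] (g : Y) :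
    ∃ k : ℕ, (orderOf (g ^ p ^ k)).Coprime p := by
  have hp : p.Prime := Fact.out
  obtain ⟨k, m, hm, hkm⟩ := Nat.exists_eq_pow_mul_and_not_dvd (orderOf_pos g).ne' p hp.ne_one
  refine ⟨k, ?_⟩
  rw [orderOf_pow' g (pow_pos hp.pos k).ne', hkm]
  have : Nat.gcd (p ^ k * m) (p ^ k) = p ^ k := Nat.gcd_eq_right (dvd_mul_right _ _)
  rw [this, Nat.mul_div_cancel_left _ (pow_pos hp.pos k)]
  exact ((Nat.Prime.coprime_iff_not_dvd hp).2 hm).symm

/-- Main theorem: if `W` controls transfer in every finite group, then a finite group whose Sylow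
`p`-subgroup `S ≠ 1` has `N(S)/C(S)` a `p`-group has a normal subgroup of index `p`. -/
theorem main_index_p (W : ∀ (Q : Type u) [Group Q], Subgroup Q) (hW : IsCharPFunctor.{u} p W)
    (hctl : ∀ (X : Type u) [Group X] [Finite X], Ctl p W X) :
    ∀ n : ℕ, ∀ (X : Type u) [Group X] [Finite X], Nat.card X = n → ∀ S : Sylow p X,
      (S : Subgroup X) ≠ ⊥ →
      (∀ g ∈ Subgroup.normalizer ((S : Subgroup X) : Set X), (orderOf g).Coprime p →
        g ∈ Subgroup.centralizer ((S : Subgroup X) : Set X)) →
      ∃ N : Subgroup X, N.Normal ∧ N.index = p := by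
  intro n
  induction n using Nat.strong_induction_on with
  | _ n ih =>
    intro X _ _ hcard S hSne hAut
    have hp : p.Prime := Fact.out
    have hcf := isConjugacyFunctor_induced (X := X) W hW
    obtain ⟨hKS, hKne, -⟩ := hcf (S : Subgroup X) S.isPGroup'
    set K := inducedFunctor W (S : Subgroup X) with hK
    have hSN : (S : Subgroup X) ≤ Subgroup.normalizer (K : Set X) :=
      Subgroup.le_normalizer.trans
        (Cfsg.Agent.Lib.Helper1.normalizer_le_normalizer_functor _ hcf _ S.isPGroup')
    have hctlX := hctl X S
    by_cases hN : Subgroup.normalizer (K : Set X) = ⊤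
    · haveI hKn : K.Normal := Subgroup.normalizer_eq_top_iff.1 hN
      by_cases hSK : (S : Subgroup X) ≤ K
      · -- `S` is normal
        have hSeq : (S : Subgroup X) = K := le_antisymm hSK hKS
        haveI hSn : (S : Subgroup X).Normal := hSeq ▸ hKn
        set C := Subgroup.centralizer ((S : Subgroup X) : Set X) with hC
        haveI hCn : C.Normal := Subgroup.normal_centralizer
        by_cases hCtop : C = ⊤
        · -- Burnside
          have hNC : Subgroup.normalizer ((S : Subgroup X) : Set X) ≤
              Subgroup.centralizer ((S : Subgroup X) : Set X) := by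
            rw [← hC, hCtop]; exact le_top
          have hcomp := MonoidHom.ker_transferSylow_isComplement' S hNC
          set Kr := (MonoidHom.transferSylow S hNC).ker with hKr
          have hidx : Kr.index = Nat.card (S : Subgroup X) := hcomp.symm.index_eq_card
          obtain ⟨k, hk⟩ := S.isPGroup'.exists_card_eq
          have hQ : IsPGroup p (X ⧸ Kr) := by
            apply IsPGroup.of_card (n := k)
            rw [← Subgroup.index_eq_card, hidx, hk]
          have hKrne : Kr ≠ ⊤ := by
            intro htop
            rw [htop, Subgroup.index_top] at hidx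
            have : 1 < Nat.card (S : Subgroup X) := (Subgroup.one_lt_card_iff_ne_bot _).2 hSne
            omega
          haveI : Nontrivial (X ⧸ Kr) := QuotientGroup.nontrivial_iff.2 hKrne
          exact exists_normal_index_of_surj (QuotientGroup.mk' Kr) (QuotientGroup.mk'_surjective Kr) hQ
        · have hQ : IsPGroup p (X ⧸ C) := by
            intro q
            obtain ⟨g, rfl⟩ := QuotientGroup.mk'_surjective C q
            obtain ⟨k, hk⟩ := exists_pow_coprime_order (p := p) g
            refine ⟨k, ?_⟩
            rw [← map_pow]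
            apply (QuotientGroup.eq_one_iff _).2
            apply hAut _ _ hk
            rw [Subgroup.normalizer_eq_top_iff.2 hSn]
            trivial
          haveI : Nontrivial (X ⧸ C) := QuotientGroup.nontrivial_iff.2 hCtop
          exact exists_normal_index_of_surj (QuotientGroup.mk' C) (QuotientGroup.mk'_surjective C) hQ
      · -- pass to `X / K`
        have hKne' : K ≠ ⊥ := hKne hSne
        have hπ : Function.Surjective (QuotientGroup.mk' K) := QuotientGroup.mk'_surjective K
        set S' : Sylow p (X ⧸ K) := S.mapSurjective hπ with hS'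
        have hS'c : (S' : Subgroup (X ⧸ K)) = (S : Subgroup X).map (QuotientGroup.mk' K) :=
          Sylow.coe_mapSurjective hπ S
        have hS'ne : (S' : Subgroup (X ⧸ K)) ≠ ⊥ := by
          intro hbot
          apply hSK
          intro s hs
          have : QuotientGroup.mk' K s ∈ (S' : Subgroup (X ⧸ K)) := by
            rw [hS'c]; exact Subgroup.mem_map_of_mem _ hs
          rw [hbot, Subgroup.mem_bot] at this
          exact (QuotientGroup.eq_one_iff s).1 this
        have hAut' : ∀ g ∈ Subgroup.normalizer ((S' : Subgroup (X ⧸ K)) : Set (X ⧸ K)),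
            (orderOf g).Coprime p → g ∈ Subgroup.centralizer ((S' : Subgroup (X ⧸ K)) : Set (X ⧸ K)) := by
          intro q hq hqo
          obtain ⟨g, rfl⟩ := hπ q
          have hgN : g ∈ Subgroup.normalizer ((S : Subgroup X) : Set X) := by
            apply Subgroup.mem_normalizer_fintype
            intro s hs
            have h1 : QuotientGroup.mk' K s ∈ (S' : Subgroup (X ⧸ K)) := by
              rw [hS'c]; exact Subgroup.mem_map_of_mem _ hs
            have h2 := (Subgroup.mem_normalizer_iff.1 hq _).1 h1
            rw [hS'c] at h2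
            obtain ⟨s₁, hs₁, hs₁e⟩ := h2
            have h3 : s₁⁻¹ * (g * s * g⁻¹) ∈ K := by
              apply (QuotientGroup.eq_one_iff _).1
              have : QuotientGroup.mk' K (s₁⁻¹ * (g * s * g⁻¹)) =
                  (QuotientGroup.mk' K s₁)⁻¹ * (QuotientGroup.mk' K g * QuotientGroup.mk' K s *
                    (QuotientGroup.mk' K g)⁻¹) := by
                simp only [map_mul, map_inv]
              rw [QuotientGroup.mk'_apply] at this
              rw [this, hs₁e]
              group
            have : g * s * g⁻¹ = s₁ * (s₁⁻¹ * (g * s * g⁻¹)) := by group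
            rw [this]
            exact mul_mem hs₁ (hKS h3)
          obtain ⟨k, hk⟩ := exists_pow_coprime_order (p := p) g
          have hgk : g ^ p ^ k ∈ Subgroup.centralizer ((S : Subgroup X) : Set X) :=
            hAut _ (Subgroup.pow_mem _ hgN _) hk
          have hqk : (QuotientGroup.mk' K g) ^ p ^ k ∈
              Subgroup.centralizer ((S' : Subgroup (X ⧸ K)) : Set (X ⧸ K)) := by
            rw [Subgroup.mem_centralizer_iff]
            intro t ht
            rw [SetLike.mem_coe, hS'c] at ht
            obtain ⟨s, hs, rfl⟩ := ht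
            rw [← map_pow, ← map_mul, ← map_mul]
            congr 1
            exact Subgroup.mem_centralizer_iff.1 hgk s hs
          have hcop : (p ^ k).Coprime (orderOf (QuotientGroup.mk' K g)) :=
            (Nat.Coprime.pow_left k hqo.symm)
          obtain ⟨m, hm⟩ := exists_pow_eq_self_of_coprime hcop
          rw [← hm]
          exact Subgroup.pow_mem _ hqk m
        have hlt : Nat.card (X ⧸ K) < n := hcard ▸ card_quot_lt_of_ne_bot K hKne'
        obtain ⟨N₁, hN₁n, hN₁i⟩ := ih _ hlt (X ⧸ K) rfl S' hS'ne hAut'
        refine ⟨N₁.comap (QuotientGroup.mk' K), hN₁n.comap _, ?_⟩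
        rw [Subgroup.index_comap_of_surjective N₁ hπ, hN₁i]
    · -- induction in `N(K)`
      set N := Subgroup.normalizer (K : Set X) with hNdef
      set S' : Sylow p ↥N := S.subtype hSN with hS'
      have hS'c : (S' : Subgroup ↥N) = (S : Subgroup X).subgroupOf N := Sylow.coe_subtype S hSN
      have hS'ne : (S' : Subgroup ↥N) ≠ ⊥ := by
        intro hbot
        apply hSne
        rw [eq_bot_iff]
        intro s hs
        have : (⟨s, hSN hs⟩ : ↥N) ∈ (S' : Subgroup ↥N) := by
          rw [hS'c]; exact hs
        rw [hbot, Subgroup.mem_bot] at this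
        rw [Subgroup.mem_bot]
        exact congrArg Subtype.val this
      have hAut' : ∀ g ∈ Subgroup.normalizer ((S' : Subgroup ↥N) : Set ↥N),
          (orderOf g).Coprime p → g ∈ Subgroup.centralizer ((S' : Subgroup ↥N) : Set ↥N) := by
        intro g hg hgo
        have hgN : (g : X) ∈ Subgroup.normalizer ((S : Subgroup X) : Set X) := by
          apply Subgroup.mem_normalizer_fintype
          intro s hs
          have h1 : (⟨s, hSN hs⟩ : ↥N) ∈ (S' : Subgroup ↥N) := by
            rw [hS'c]; exact hs
          have h2 := (Subgroup.mem_normalizer_iff.1 hg _).1 h1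
          rw [hS'c] at h2
          exact h2
        have hgo' : (orderOf (g : X)).Coprime p := by
          rw [Subgroup.orderOf_coe]; exact hgo
        have hgc := hAut _ hgN hgo'
        rw [Subgroup.mem_centralizer_iff]
        intro t ht
        rw [SetLike.mem_coe, hS'c] at ht
        apply Subtype.ext
        exact Subgroup.mem_centralizer_iff.1 hgc (t : X) ht
      have hlt : Nat.card ↥N < n := hcard ▸ card_lt_of_ne_top N hN
      obtain ⟨N₁, hN₁n, hN₁i⟩ := ih _ hlt ↥N rfl S' hS'ne hAut'
      haveI := hN₁n
      have hnot := sylow_not_le_commutator N₁ hN₁i S'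
      apply exists_normal_index_of_not_le_commutator S
      intro hSc
      apply hnot
      have h1 : (S : Subgroup X) ≤ ⁅N, N⁆ := (le_inf le_rfl hSc).trans hctlX
      have h2 : (commutator ↥N).map N.subtype = ⁅N, N⁆ := by
        rw [commutator_def, Subgroup.map_commutator, ← MonoidHom.range_eq_map, Subgroup.range_subtype]
      intro x hx
      rw [hS'c] at hx
      have h3 : (x : X) ∈ (commutator ↥N).map N.subtype := by
        rw [h2]; exact h1 hx
      exact (Subgroup.mem_map_iff_mem N.subtype_injective).1 h3

end Cfsg.Agent.Lib.Helper1.IndexP
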