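import Cfsg.Agent.Lib.Helper9.J1.Out

/-!
The element orders of the Janko group `J1` (helper1): a check of `g ^ m = 1` for some
`m` among `6, 7, 10, 11, 15, 19`, for every element of the enumeration of helper9.
-/

set_option autoImplicit false

namespace Cfsg.Agent.Lib.Helper1.JSpec

open Cfsg.Agent.Lib.Helper9.J1

/-- the packed matrix is the identity -/
def isI (A : M7) : Bool := A.beq I7

/-- last stage: `A ^ 15` and `A ^ 19` -/
def chkE (A2 A5 A10 : M7) : Bool :=
  isI (mm A10 A5) || isI (mm (mm (mm A10 A5) A2) A2)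

/-- stage: `A ^ 10`, `A ^ 11` -/
def chkD (A A2 A5 : M7) : Bool :=
  isI (mm A5 A5) || (isI (mm (mm A5 A5) A) || chkE A2 A5 (mm A5 A5))

/-- stage: `A ^ 6`, `A ^ 7` -/
def chkC (A A2 A3 : M7) : Bool :=
  isI (mm A3 A3) || (isI (mm (mm A3 A3) A) || chkD A A2 (mm A2 A3))

/-- stage: the square and the cube -/
def chkB (A A2 : M7) : Bool := chkC A A2 (mm A2 A)

/-- some power of `A` with exponent `6, 7, 10, 11, 15, 19` is the identity -/
def chkOrd (A : M7) : Bool := chkB A (mm A A)

/-- the check of a list of coset representatives -/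
def chkList (ts : List M7) : Bool := ts.all fun t => T2m.all fun k => chkOrd (mm k t)

/-- the check of one coset representative -/
def chkOne (j : ℕ) : Bool := chkList ((T1m.drop j).take 1)

end Cfsg.Agent.Lib.Helper1.JSpec
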