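import Cfsg.Agent.Lib.Helper1.JSpecA

/-!
The element orders of `J1`, part 0 of the enumeration (helper1): checked by the kernel,
one coset representative at a time.
-/

set_option autoImplicit false

namespace Cfsg.Agent.Lib.Helper1.JSpec

theorem one_0 : chkOne 0 = true := by decide +kernel

theorem one_1 : chkOne 1 = true := by decide +kernel

theorem one_2 : chkOne 2 = true := by decide +kernel

theorem one_3 : chkOne 3 = true := by decide +kernel

theorem one_4 : chkOne 4 = true := by decide +kernel

theorem one_5 : chkOne 5 = true := by decide +kernel

theorem one_6 : chkOne 6 = true := by decide +kernel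

theorem one_7 : chkOne 7 = true := by decide +kernel

theorem one_8 : chkOne 8 = true := by decide +kernel

theorem one_9 : chkOne 9 = true := by decide +kernel

theorem one_10 : chkOne 10 = true := by decide +kernel

theorem one_11 : chkOne 11 = true := by decide +kernel

theorem one_12 : chkOne 12 = true := by decide +kernel

theorem one_13 : chkOne 13 = true := by decide +kernel

theorem one_14 : chkOne 14 = true := by decide +kernel

theorem one_15 : chkOne 15 = true := by decide +kernel

theorem one_16 : chkOne 16 = true := by decide +kernel

theorem one_17 : chkOne 17 = true := by decide +kernel

theorem one_18 : chkOne 18 = true := by decide +kernel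

theorem pass_0 (j : ℕ) (h1 : 0 ≤ j) (h2 : j < 19) : chkOne j = true := by
  interval_cases j
  · exact one_0
  · exact one_1
  · exact one_2
  · exact one_3
  · exact one_4
  · exact one_5
  · exact one_6
  · exact one_7
  · exact one_8
  · exact one_9
  · exact one_10
  · exact one_11
  · exact one_12
  · exact one_13
  · exact one_14
  · exact one_15
  · exact one_16
  · exact one_17
  · exact one_18

end Cfsg.Agent.Lib.Helper1.JSpec
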