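import Cfsg.Agent.Lib.Helper1.JSpecA

/-!
The element orders of `J1`, part 1 of the enumeration (helper1): checked by the kernel,
one coset representative at a time.
-/

set_option autoImplicit false

namespace Cfsg.Agent.Lib.Helper1.JSpec

theorem one_19 : chkOne 19 = true := by decide +kernel

theorem one_20 : chkOne 20 = true := by decide +kernel

theorem one_21 : chkOne 21 = true := by decide +kernel

theorem one_22 : chkOne 22 = true := by decide +kernel

theorem one_23 : chkOne 23 = true := by decide +kernel

theorem one_24 : chkOne 24 = true := by decide +kernel

theorem one_25 : chkOne 25 = true := by decide +kernel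

theorem one_26 : chkOne 26 = true := by decide +kernel

theorem one_27 : chkOne 27 = true := by decide +kernel

theorem one_28 : chkOne 28 = true := by decide +kernel

theorem one_29 : chkOne 29 = true := by decide +kernel

theorem one_30 : chkOne 30 = true := by decide +kernel

theorem one_31 : chkOne 31 = true := by decide +kernel

theorem one_32 : chkOne 32 = true := by decide +kernel

theorem one_33 : chkOne 33 = true := by decide +kernel

theorem one_34 : chkOne 34 = true := by decide +kernel

theorem one_35 : chkOne 35 = true := by decide +kernel

theorem one_36 : chkOne 36 = true := by decide +kernel

theorem one_37 : chkOne 37 = true := by decide +kernel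

theorem pass_1 (j : ℕ) (h1 : 19 ≤ j) (h2 : j < 38) : chkOne j = true := by
  interval_cases j
  · exact one_19
  · exact one_20
  · exact one_21
  · exact one_22
  · exact one_23
  · exact one_24
  · exact one_25
  · exact one_26
  · exact one_27
  · exact one_28
  · exact one_29
  · exact one_30
  · exact one_31
  · exact one_32
  · exact one_33
  · exact one_34
  · exact one_35
  · exact one_36
  · exact one_37

end Cfsg.Agent.Lib.Helper1.JSpec
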