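import Cfsg.Agent.Lib.Helper1.JSpecA

/-!
The element orders of `J1`, part 10 of the enumeration (helper1): checked by the kernel,
one coset representative at a time.
-/

set_option autoImplicit false

namespace Cfsg.Agent.Lib.Helper1.JSpec

theorem one_190 : chkOne 190 = true := by decide +kernel

theorem one_191 : chkOne 191 = true := by decide +kernel

theorem one_192 : chkOne 192 = true := by decide +kernel

theorem one_193 : chkOne 193 = true := by decide +kernel

theorem one_194 : chkOne 194 = true := by decide +kernel

theorem one_195 : chkOne 195 = true := by decide +kernel

theorem one_196 : chkOne 196 = true := by decide +kernel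

theorem one_197 : chkOne 197 = true := by decide +kernel

theorem one_198 : chkOne 198 = true := by decide +kernel

theorem one_199 : chkOne 199 = true := by decide +kernel

theorem one_200 : chkOne 200 = true := by decide +kernel

theorem one_201 : chkOne 201 = true := by decide +kernel

theorem one_202 : chkOne 202 = true := by decide +kernel

theorem one_203 : chkOne 203 = true := by decide +kernel

theorem one_204 : chkOne 204 = true := by decide +kernel

theorem one_205 : chkOne 205 = true := by decide +kernel

theorem one_206 : chkOne 206 = true := by decide +kernel

theorem one_207 : chkOne 207 = true := by decide +kernel

theorem one_208 : chkOne 208 = true := by decide +kernel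

theorem pass_10 (j : ℕ) (h1 : 190 ≤ j) (h2 : j < 209) : chkOne j = true := by
  interval_cases j
  · exact one_190
  · exact one_191
  · exact one_192
  · exact one_193
  · exact one_194
  · exact one_195
  · exact one_196
  · exact one_197
  · exact one_198
  · exact one_199
  · exact one_200
  · exact one_201
  · exact one_202
  · exact one_203
  · exact one_204
  · exact one_205
  · exact one_206
  · exact one_207
  · exact one_208

end Cfsg.Agent.Lib.Helper1.JSpec
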