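import Cfsg.Agent.Lib.Helper1.JSpecA

/-!
The element orders of `J1`, part 12 of the enumeration (helper1): checked by the kernel,
one coset representative at a time.
-/

set_option autoImplicit false

namespace Cfsg.Agent.Lib.Helper1.JSpec

theorem one_228 : chkOne 228 = true := by decide +kernel

theorem one_229 : chkOne 229 = true := by decide +kernel

theorem one_230 : chkOne 230 = true := by decide +kernel

theorem one_231 : chkOne 231 = true := by decide +kernel

theorem one_232 : chkOne 232 = true := by decide +kernel

theorem one_233 : chkOne 233 = true := by decide +kernel

theorem one_234 : chkOne 234 = true := by decide +kernel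

theorem one_235 : chkOne 235 = true := by decide +kernel

theorem one_236 : chkOne 236 = true := by decide +kernel

theorem one_237 : chkOne 237 = true := by decide +kernel

theorem one_238 : chkOne 238 = true := by decide +kernel

theorem one_239 : chkOne 239 = true := by decide +kernel

theorem one_240 : chkOne 240 = true := by decide +kernel

theorem one_241 : chkOne 241 = true := by decide +kernel

theorem one_242 : chkOne 242 = true := by decide +kernel

theorem one_243 : chkOne 243 = true := by decide +kernel

theorem one_244 : chkOne 244 = true := by decide +kernel

theorem one_245 : chkOne 245 = true := by decide +kernel

theorem one_246 : chkOne 246 = true := by decide +kernel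

theorem pass_12 (j : ℕ) (h1 : 228 ≤ j) (h2 : j < 247) : chkOne j = true := by
  interval_cases j
  · exact one_228
  · exact one_229
  · exact one_230
  · exact one_231
  · exact one_232
  · exact one_233
  · exact one_234
  · exact one_235
  · exact one_236
  · exact one_237
  · exact one_238
  · exact one_239
  · exact one_240
  · exact one_241
  · exact one_242
  · exact one_243
  · exact one_244
  · exact one_245
  · exact one_246

end Cfsg.Agent.Lib.Helper1.JSpec
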