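import Cfsg.Agent.Lib.Helper1.JSpecA

/-!
The element orders of `J1`, part 13 of the enumeration (helper1): checked by the kernel,
one coset representative at a time.
-/

set_option autoImplicit false

namespace Cfsg.Agent.Lib.Helper1.JSpec

theorem one_247 : chkOne 247 = true := by decide +kernel

theorem one_248 : chkOne 248 = true := by decide +kernel

theorem one_249 : chkOne 249 = true := by decide +kernel

theorem one_250 : chkOne 250 = true := by decide +kernel

theorem one_251 : chkOne 251 = true := by decide +kernel

theorem one_252 : chkOne 252 = true := by decide +kernel

theorem one_253 : chkOne 253 = true := by decide +kernel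

theorem one_254 : chkOne 254 = true := by decide +kernel

theorem one_255 : chkOne 255 = true := by decide +kernel

theorem one_256 : chkOne 256 = true := by decide +kernel

theorem one_257 : chkOne 257 = true := by decide +kernel

theorem one_258 : chkOne 258 = true := by decide +kernel

theorem one_259 : chkOne 259 = true := by decide +kernel

theorem one_260 : chkOne 260 = true := by decide +kernel

theorem one_261 : chkOne 261 = true := by decide +kernel

theorem one_262 : chkOne 262 = true := by decide +kernel

theorem one_263 : chkOne 263 = true := by decide +kernel

theorem one_264 : chkOne 264 = true := by decide +kernel

theorem one_265 : chkOne 265 = true := by decide +kernel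

theorem pass_13 (j : ℕ) (h1 : 247 ≤ j) (h2 : j < 266) : chkOne j = true := by
  interval_cases j
  · exact one_247
  · exact one_248
  · exact one_249
  · exact one_250
  · exact one_251
  · exact one_252
  · exact one_253
  · exact one_254
  · exact one_255
  · exact one_256
  · exact one_257
  · exact one_258
  · exact one_259
  · exact one_260
  · exact one_261
  · exact one_262
  · exact one_263
  · exact one_264
  · exact one_265

end Cfsg.Agent.Lib.Helper1.JSpec
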