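import Cfsg.Agent.Lib.Helper1.JSpecA

/-!
The element orders of `J1`, part 2 of the enumeration (helper1): checked by the kernel,
one coset representative at a time.
-/

set_option autoImplicit false

namespace Cfsg.Agent.Lib.Helper1.JSpec

theorem one_38 : chkOne 38 = true := by decide +kernel

theorem one_39 : chkOne 39 = true := by decide +kernel

theorem one_40 : chkOne 40 = true := by decide +kernel

theorem one_41 : chkOne 41 = true := by decide +kernel

theorem one_42 : chkOne 42 = true := by decide +kernel

theorem one_43 : chkOne 43 = true := by decide +kernel

theorem one_44 : chkOne 44 = true := by decide +kernel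

theorem one_45 : chkOne 45 = true := by decide +kernel

theorem one_46 : chkOne 46 = true := by decide +kernel

theorem one_47 : chkOne 47 = true := by decide +kernel

theorem one_48 : chkOne 48 = true := by decide +kernel

theorem one_49 : chkOne 49 = true := by decide +kernel

theorem one_50 : chkOne 50 = true := by decide +kernel

theorem one_51 : chkOne 51 = true := by decide +kernel

theorem one_52 : chkOne 52 = true := by decide +kernel

theorem one_53 : chkOne 53 = true := by decide +kernel

theorem one_54 : chkOne 54 = true := by decide +kernel

theorem one_55 : chkOne 55 = true := by decide +kernel

theorem one_56 : chkOne 56 = true := by decide +kernel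

theorem pass_2 (j : ℕ) (h1 : 38 ≤ j) (h2 : j < 57) : chkOne j = true := by
  interval_cases j
  · exact one_38
  · exact one_39
  · exact one_40
  · exact one_41
  · exact one_42
  · exact one_43
  · exact one_44
  · exact one_45
  · exact one_46
  · exact one_47
  · exact one_48
  · exact one_49
  · exact one_50
  · exact one_51
  · exact one_52
  · exact one_53
  · exact one_54
  · exact one_55
  · exact one_56

end Cfsg.Agent.Lib.Helper1.JSpec
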