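import Cfsg.Agent.Lib.Helper1.JSpecA

/-!
The element orders of `J1`, part 3 of the enumeration (helper1): checked by the kernel,
one coset representative at a time.
-/

set_option autoImplicit false

namespace Cfsg.Agent.Lib.Helper1.JSpec

theorem one_57 : chkOne 57 = true := by decide +kernel

theorem one_58 : chkOne 58 = true := by decide +kernel

theorem one_59 : chkOne 59 = true := by decide +kernel

theorem one_60 : chkOne 60 = true := by decide +kernel

theorem one_61 : chkOne 61 = true := by decide +kernel

theorem one_62 : chkOne 62 = true := by decide +kernel

theorem one_63 : chkOne 63 = true := by decide +kernel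

theorem one_64 : chkOne 64 = true := by decide +kernel

theorem one_65 : chkOne 65 = true := by decide +kernel

theorem one_66 : chkOne 66 = true := by decide +kernel

theorem one_67 : chkOne 67 = true := by decide +kernel

theorem one_68 : chkOne 68 = true := by decide +kernel

theorem one_69 : chkOne 69 = true := by decide +kernel

theorem one_70 : chkOne 70 = true := by decide +kernel

theorem one_71 : chkOne 71 = true := by decide +kernel

theorem one_72 : chkOne 72 = true := by decide +kernel

theorem one_73 : chkOne 73 = true := by decide +kernel

theorem one_74 : chkOne 74 = true := by decide +kernel

theorem one_75 : chkOne 75 = true := by decide +kernel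

theorem pass_3 (j : ℕ) (h1 : 57 ≤ j) (h2 : j < 76) : chkOne j = true := by
  interval_cases j
  · exact one_57
  · exact one_58
  · exact one_59
  · exact one_60
  · exact one_61
  · exact one_62
  · exact one_63
  · exact one_64
  · exact one_65
  · exact one_66
  · exact one_67
  · exact one_68
  · exact one_69
  · exact one_70
  · exact one_71
  · exact one_72
  · exact one_73
  · exact one_74
  · exact one_75

end Cfsg.Agent.Lib.Helper1.JSpec
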