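import Cfsg.Agent.Lib.Helper1.JSpecA

/-!
The element orders of `J1`, part 4 of the enumeration (helper1): checked by the kernel,
one coset representative at a time.
-/

set_option autoImplicit false

namespace Cfsg.Agent.Lib.Helper1.JSpec

theorem one_76 : chkOne 76 = true := by decide +kernel

theorem one_77 : chkOne 77 = true := by decide +kernel

theorem one_78 : chkOne 78 = true := by decide +kernel

theorem one_79 : chkOne 79 = true := by decide +kernel

theorem one_80 : chkOne 80 = true := by decide +kernel

theorem one_81 : chkOne 81 = true := by decide +kernel

theorem one_82 : chkOne 82 = true := by decide +kernel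

theorem one_83 : chkOne 83 = true := by decide +kernel

theorem one_84 : chkOne 84 = true := by decide +kernel

theorem one_85 : chkOne 85 = true := by decide +kernel

theorem one_86 : chkOne 86 = true := by decide +kernel

theorem one_87 : chkOne 87 = true := by decide +kernel

theorem one_88 : chkOne 88 = true := by decide +kernel

theorem one_89 : chkOne 89 = true := by decide +kernel

theorem one_90 : chkOne 90 = true := by decide +kernel

theorem one_91 : chkOne 91 = true := by decide +kernel

theorem one_92 : chkOne 92 = true := by decide +kernel

theorem one_93 : chkOne 93 = true := by decide +kernel

theorem one_94 : chkOne 94 = true := by decide +kernel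

theorem pass_4 (j : ℕ) (h1 : 76 ≤ j) (h2 : j < 95) : chkOne j = true := by
  interval_cases j
  · exact one_76
  · exact one_77
  · exact one_78
  · exact one_79
  · exact one_80
  · exact one_81
  · exact one_82
  · exact one_83
  · exact one_84
  · exact one_85
  · exact one_86
  · exact one_87
  · exact one_88
  · exact one_89
  · exact one_90
  · exact one_91
  · exact one_92
  · exact one_93
  · exact one_94

end Cfsg.Agent.Lib.Helper1.JSpec
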