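import Cfsg.Agent.Lib.Helper1.JSpecA

/-!
The element orders of `J1`, part 5 of the enumeration (helper1): checked by the kernel,
one coset representative at a time.
-/

set_option autoImplicit false

namespace Cfsg.Agent.Lib.Helper1.JSpec

theorem one_95 : chkOne 95 = true := by decide +kernel

theorem one_96 : chkOne 96 = true := by decide +kernel

theorem one_97 : chkOne 97 = true := by decide +kernel

theorem one_98 : chkOne 98 = true := by decide +kernel

theorem one_99 : chkOne 99 = true := by decide +kernel

theorem one_100 : chkOne 100 = true := by decide +kernel

theorem one_101 : chkOne 101 = true := by decide +kernel

theorem one_102 : chkOne 102 = true := by decide +kernel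

theorem one_103 : chkOne 103 = true := by decide +kernel

theorem one_104 : chkOne 104 = true := by decide +kernel

theorem one_105 : chkOne 105 = true := by decide +kernel

theorem one_106 : chkOne 106 = true := by decide +kernel

theorem one_107 : chkOne 107 = true := by decide +kernel

theorem one_108 : chkOne 108 = true := by decide +kernel

theorem one_109 : chkOne 109 = true := by decide +kernel

theorem one_110 : chkOne 110 = true := by decide +kernel

theorem one_111 : chkOne 111 = true := by decide +kernel

theorem one_112 : chkOne 112 = true := by decide +kernel

theorem one_113 : chkOne 113 = true := by decide +kernel

theorem pass_5 (j : ℕ) (h1 : 95 ≤ j) (h2 : j < 114) : chkOne j = true := by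
  interval_cases j
  · exact one_95
  · exact one_96
  · exact one_97
  · exact one_98
  · exact one_99
  · exact one_100
  · exact one_101
  · exact one_102
  · exact one_103
  · exact one_104
  · exact one_105
  · exact one_106
  · exact one_107
  · exact one_108
  · exact one_109
  · exact one_110
  · exact one_111
  · exact one_112
  · exact one_113

end Cfsg.Agent.Lib.Helper1.JSpec
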