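import Cfsg.Agent.Lib.Helper1.JSpecA

/-!
The element orders of `J1`, part 6 of the enumeration (helper1): checked by the kernel,
one coset representative at a time.
-/

set_option autoImplicit false

namespace Cfsg.Agent.Lib.Helper1.JSpec

theorem one_114 : chkOne 114 = true := by decide +kernel

theorem one_115 : chkOne 115 = true := by decide +kernel

theorem one_116 : chkOne 116 = true := by decide +kernel

theorem one_117 : chkOne 117 = true := by decide +kernel

theorem one_118 : chkOne 118 = true := by decide +kernel

theorem one_119 : chkOne 119 = true := by decide +kernel

theorem one_120 : chkOne 120 = true := by decide +kernel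

theorem one_121 : chkOne 121 = true := by decide +kernel

theorem one_122 : chkOne 122 = true := by decide +kernel

theorem one_123 : chkOne 123 = true := by decide +kernel

theorem one_124 : chkOne 124 = true := by decide +kernel

theorem one_125 : chkOne 125 = true := by decide +kernel

theorem one_126 : chkOne 126 = true := by decide +kernel

theorem one_127 : chkOne 127 = true := by decide +kernel

theorem one_128 : chkOne 128 = true := by decide +kernel

theorem one_129 : chkOne 129 = true := by decide +kernel

theorem one_130 : chkOne 130 = true := by decide +kernel

theorem one_131 : chkOne 131 = true := by decide +kernel

theorem one_132 : chkOne 132 = true := by decide +kernel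

theorem pass_6 (j : ℕ) (h1 : 114 ≤ j) (h2 : j < 133) : chkOne j = true := by
  interval_cases j
  · exact one_114
  · exact one_115
  · exact one_116
  · exact one_117
  · exact one_118
  · exact one_119
  · exact one_120
  · exact one_121
  · exact one_122
  · exact one_123
  · exact one_124
  · exact one_125
  · exact one_126
  · exact one_127
  · exact one_128
  · exact one_129
  · exact one_130
  · exact one_131
  · exact one_132

end Cfsg.Agent.Lib.Helper1.JSpec
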