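import Cfsg.Agent.Lib.Helper1.JSpecA

/-!
The element orders of `J1`, part 7 of the enumeration (helper1): checked by the kernel,
one coset representative at a time.
-/

set_option autoImplicit false

namespace Cfsg.Agent.Lib.Helper1.JSpec

theorem one_133 : chkOne 133 = true := by decide +kernel

theorem one_134 : chkOne 134 = true := by decide +kernel

theorem one_135 : chkOne 135 = true := by decide +kernel

theorem one_136 : chkOne 136 = true := by decide +kernel

theorem one_137 : chkOne 137 = true := by decide +kernel

theorem one_138 : chkOne 138 = true := by decide +kernel

theorem one_139 : chkOne 139 = true := by decide +kernel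

theorem one_140 : chkOne 140 = true := by decide +kernel

theorem one_141 : chkOne 141 = true := by decide +kernel

theorem one_142 : chkOne 142 = true := by decide +kernel

theorem one_143 : chkOne 143 = true := by decide +kernel

theorem one_144 : chkOne 144 = true := by decide +kernel

theorem one_145 : chkOne 145 = true := by decide +kernel

theorem one_146 : chkOne 146 = true := by decide +kernel

theorem one_147 : chkOne 147 = true := by decide +kernel

theorem one_148 : chkOne 148 = true := by decide +kernel

theorem one_149 : chkOne 149 = true := by decide +kernel

theorem one_150 : chkOne 150 = true := by decide +kernel

theorem one_151 : chkOne 151 = true := by decide +kernel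

theorem pass_7 (j : ℕ) (h1 : 133 ≤ j) (h2 : j < 152) : chkOne j = true := by
  interval_cases j
  · exact one_133
  · exact one_134
  · exact one_135
  · exact one_136
  · exact one_137
  · exact one_138
  · exact one_139
  · exact one_140
  · exact one_141
  · exact one_142
  · exact one_143
  · exact one_144
  · exact one_145
  · exact one_146
  · exact one_147
  · exact one_148
  · exact one_149
  · exact one_150
  · exact one_151

end Cfsg.Agent.Lib.Helper1.JSpec
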