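import Cfsg.Agent.Lib.Helper1.JSpecA

/-!
The element orders of `J1`, part 8 of the enumeration (helper1): checked by the kernel,
one coset representative at a time.
-/

set_option autoImplicit false

namespace Cfsg.Agent.Lib.Helper1.JSpec

theorem one_152 : chkOne 152 = true := by decide +kernel

theorem one_153 : chkOne 153 = true := by decide +kernel

theorem one_154 : chkOne 154 = true := by decide +kernel

theorem one_155 : chkOne 155 = true := by decide +kernel

theorem one_156 : chkOne 156 = true := by decide +kernel

theorem one_157 : chkOne 157 = true := by decide +kernel

theorem one_158 : chkOne 158 = true := by decide +kernel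

theorem one_159 : chkOne 159 = true := by decide +kernel

theorem one_160 : chkOne 160 = true := by decide +kernel

theorem one_161 : chkOne 161 = true := by decide +kernel

theorem one_162 : chkOne 162 = true := by decide +kernel

theorem one_163 : chkOne 163 = true := by decide +kernel

theorem one_164 : chkOne 164 = true := by decide +kernel

theorem one_165 : chkOne 165 = true := by decide +kernel

theorem one_166 : chkOne 166 = true := by decide +kernel

theorem one_167 : chkOne 167 = true := by decide +kernel

theorem one_168 : chkOne 168 = true := by decide +kernel

theorem one_169 : chkOne 169 = true := by decide +kernel

theorem one_170 : chkOne 170 = true := by decide +kernel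

theorem pass_8 (j : ℕ) (h1 : 152 ≤ j) (h2 : j < 171) : chkOne j = true := by
  interval_cases j
  · exact one_152
  · exact one_153
  · exact one_154
  · exact one_155
  · exact one_156
  · exact one_157
  · exact one_158
  · exact one_159
  · exact one_160
  · exact one_161
  · exact one_162
  · exact one_163
  · exact one_164
  · exact one_165
  · exact one_166
  · exact one_167
  · exact one_168
  · exact one_169
  · exact one_170

end Cfsg.Agent.Lib.Helper1.JSpec
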