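import Cfsg.Agent.Lib.Helper1.JSpecA

/-!
The element orders of `J1`, part 9 of the enumeration (helper1): checked by the kernel,
one coset representative at a time.
-/

set_option autoImplicit false

namespace Cfsg.Agent.Lib.Helper1.JSpec

theorem one_171 : chkOne 171 = true := by decide +kernel

theorem one_172 : chkOne 172 = true := by decide +kernel

theorem one_173 : chkOne 173 = true := by decide +kernel

theorem one_174 : chkOne 174 = true := by decide +kernel

theorem one_175 : chkOne 175 = true := by decide +kernel

theorem one_176 : chkOne 176 = true := by decide +kernel

theorem one_177 : chkOne 177 = true := by decide +kernel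

theorem one_178 : chkOne 178 = true := by decide +kernel

theorem one_179 : chkOne 179 = true := by decide +kernel

theorem one_180 : chkOne 180 = true := by decide +kernel

theorem one_181 : chkOne 181 = true := by decide +kernel

theorem one_182 : chkOne 182 = true := by decide +kernel

theorem one_183 : chkOne 183 = true := by decide +kernel

theorem one_184 : chkOne 184 = true := by decide +kernel

theorem one_185 : chkOne 185 = true := by decide +kernel

theorem one_186 : chkOne 186 = true := by decide +kernel

theorem one_187 : chkOne 187 = true := by decide +kernel

theorem one_188 : chkOne 188 = true := by decide +kernel

theorem one_189 : chkOne 189 = true := by decide +kernel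

theorem pass_9 (j : ℕ) (h1 : 171 ≤ j) (h2 : j < 190) : chkOne j = true := by
  interval_cases j
  · exact one_171
  · exact one_172
  · exact one_173
  · exact one_174
  · exact one_175
  · exact one_176
  · exact one_177
  · exact one_178
  · exact one_179
  · exact one_180
  · exact one_181
  · exact one_182
  · exact one_183
  · exact one_184
  · exact one_185
  · exact one_186
  · exact one_187
  · exact one_188
  · exact one_189

end Cfsg.Agent.Lib.Helper1.JSpec
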