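import Cfsg.Agent.Lib.Helper1.JSpecA
import Cfsg.Agent.Lib.Helper1.JSpecP0
import Cfsg.Agent.Lib.Helper1.JSpecP1
import Cfsg.Agent.Lib.Helper1.JSpecP2
import Cfsg.Agent.Lib.Helper1.JSpecP3
import Cfsg.Agent.Lib.Helper1.JSpecP4
import Cfsg.Agent.Lib.Helper1.JSpecP5
import Cfsg.Agent.Lib.Helper1.JSpecP6
import Cfsg.Agent.Lib.Helper1.JSpecP7
import Cfsg.Agent.Lib.Helper1.JSpecP8
import Cfsg.Agent.Lib.Helper1.JSpecP9
import Cfsg.Agent.Lib.Helper1.JSpecP10
import Cfsg.Agent.Lib.Helper1.JSpecP11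
import Cfsg.Agent.Lib.Helper1.JSpecP12
import Cfsg.Agent.Lib.Helper1.JSpecP13

/-!
The set of element orders of the Janko group `J1` (helper1).
-/

set_option autoImplicit false

namespace Cfsg.Agent.Lib.Helper1.JSpec

open Cfsg Cfsg.Agent.Lib.Helper9.J1

theorem chkOne_all (j : ℕ) (hj : j < 266) : chkOne j = true := by
  rcases Nat.lt_or_ge j 19 with h | h
  · exact pass_0 j (Nat.zero_le _) h
  rcases Nat.lt_or_ge j 38 with h' | h'
  · exact pass_1 j h h'
  rcases Nat.lt_or_ge j 57 with h | h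
  · exact pass_2 j h' h
  rcases Nat.lt_or_ge j 76 with h' | h'
  · exact pass_3 j h h'
  rcases Nat.lt_or_ge j 95 with h | h
  · exact pass_4 j h' h
  rcases Nat.lt_or_ge j 114 with h' | h'
  · exact pass_5 j h h'
  rcases Nat.lt_or_ge j 133 with h | h
  · exact pass_6 j h' h
  rcases Nat.lt_or_ge j 152 with h' | h'
  · exact pass_7 j h h'
  rcases Nat.lt_or_ge j 171 with h | h
  · exact pass_8 j h' h
  rcases Nat.lt_or_ge j 190 with h' | h'
  · exact pass_9 j h h'
  rcases Nat.lt_or_ge j 209 with h | h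
  · exact pass_10 j h' h
  rcases Nat.lt_or_ge j 228 with h' | h'
  · exact pass_11 j h h'
  rcases Nat.lt_or_ge j 247 with h | h
  · exact pass_12 j h' h
  · exact pass_13 j h hj

theorem chk_all : ∀ t ∈ T1m, ∀ k ∈ T2m, chkOrd (mm k t) = true := by
  intro t ht k hk
  obtain ⟨j, hj, rfl⟩ := List.getElem_of_mem ht
  have hj' : j < 266 := by rw [← T1m_length]; exact hj
  have h1 := chkOne_all j hj'
  unfold chkOne chkList at h1
  rw [List.drop_eq_getElem_cons hj, List.take_succ_cons, List.take_zero] at h1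
  rw [List.all_cons, List.all_nil, Bool.and_true, List.all_eq_true] at h1
  exact h1 k hk

theorem el_isI {X : M7} (hX : InJ1 X) (h : isI X = true) : el X hX = 1 := by
  rw [el_congr (M7.eq_of_beq h) hX inJ1_I7, el_I7]

theorem pow_of_chkOrd {A : M7} (hA : InJ1 A) (h : chkOrd A = true) :
    el A hA ^ 6 = 1 ∨ el A hA ^ 7 = 1 ∨ el A hA ^ 10 = 1 ∨ el A hA ^ 11 = 1 ∨
      el A hA ^ 15 = 1 ∨ el A hA ^ 19 = 1 := by
  have h2 : InJ1 (mm A A) := hA.mm hA
  have e2 : el _ h2 = el A hA ^ 2 := by rw [pow_two, el_mul]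
  have h3 : InJ1 (mm (mm A A) A) := h2.mm hA
  have e3 : el _ h3 = el A hA ^ 3 := by rw [← el_mul _ _ h2 hA, e2, ← pow_succ]
  have h5 : InJ1 (mm (mm A A) (mm (mm A A) A)) := h2.mm h3
  have e5 : el _ h5 = el A hA ^ 5 := by rw [← el_mul _ _ h2 h3, e2, e3, ← pow_add]
  have h6 : InJ1 (mm (mm (mm A A) A) (mm (mm A A) A)) := h3.mm h3
  have e6 : el _ h6 = el A hA ^ 6 := by rw [← el_mul _ _ h3 h3, e3, ← pow_add]
  have h7 := h6.mm hA
  have e7 : el _ h7 = el A hA ^ 7 := by rw [← el_mul _ _ h6 hA, e6, ← pow_succ]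
  have h10 := h5.mm h5
  have e10 : el _ h10 = el A hA ^ 10 := by rw [← el_mul _ _ h5 h5, e5, ← pow_add]
  have h11 := h10.mm hA
  have e11 : el _ h11 = el A hA ^ 11 := by rw [← el_mul _ _ h10 hA, e10, ← pow_succ]
  have h15 := h10.mm h5
  have e15 : el _ h15 = el A hA ^ 15 := by rw [← el_mul _ _ h10 h5, e10, e5, ← pow_add]
  have h17 := h15.mm h2
  have e17 : el _ h17 = el A hA ^ 17 := by rw [← el_mul _ _ h15 h2, e15, e2, ← pow_add]
  have h19 := h17.mm h2
  have e19 : el _ h19 = el A hA ^ 19 := by rw [← el_mul _ _ h17 h2, e17, e2, ← pow_add]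
  unfold chkOrd chkB chkC chkD chkE at h
  simp only [Bool.or_eq_true] at h
  rcases h with h | h | h | h | h | h
  · left; rw [← e6]; exact el_isI h6 h
  · right; left; rw [← e7]; exact el_isI h7 h
  · right; right; left; rw [← e10]; exact el_isI h10 h
  · right; right; right; left; rw [← e11]; exact el_isI h11 h
  · right; right; right; right; left; rw [← e15]; exact el_isI h15 h
  · right; right; right; right; right; rw [← e19]; exact el_isI h19 h

/-- the element orders of `J1` -/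
def specJ : Finset ℕ := {1, 2, 3, 5, 6, 7, 10, 11, 15, 19}

theorem orderOf_mem_specJ (g : ↥Spor.J1) : orderOf g ∈ specJ := by
  obtain ⟨k, t, hk, ht, rfl⟩ := exists_code g
  have hd : ∀ m : ℕ, m ≠ 0 → Nat.divisors m ⊆ specJ →
      el (mm k t) ((inJ1_T2m hk).mm (inJ1_T1m ht)) ^ m = 1 →
      orderOf (el (mm k t) ((inJ1_T2m hk).mm (inJ1_T1m ht))) ∈ specJ := by
    intro m hm hsub hpow
    exact hsub (Nat.mem_divisors.2 ⟨orderOf_dvd_of_pow_eq_one hpow, hm⟩)
  rcases pow_of_chkOrd ((inJ1_T2m hk).mm (inJ1_T1m ht)) (chk_all t ht k hk) with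
    h | h | h | h | h | h
  · exact hd 6 (by norm_num) (by decide) h
  · exact hd 7 (by norm_num) (by decide) h
  · exact hd 10 (by norm_num) (by decide) h
  · exact hd 11 (by norm_num) (by decide) h
  · exact hd 15 (by norm_num) (by decide) h
  · exact hd 19 (by norm_num) (by decide) h

theorem orderOf_code (c : ℕ × ℕ) (n : ℕ) (hn : 0 < n) (h1 : powP (ofCode c) n = I7)
    (h2 : ∀ p : ℕ, p.Prime → p ∣ n → powP (ofCode c) (n / p) ≠ I7) :
    orderOf (el (ofCode c) (inJ1_ofCode c)) = n := by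
  apply orderOf_eq_of_pow_and_pow_div_prime hn
  · rw [el_pow, el_congr h1 _ inJ1_I7, el_I7]
  · intro p hp hpn
    rw [el_pow]
    exact el_ne_one _ (h2 p hp hpn)

theorem prime_dvd_cases (n : ℕ) (hn : 0 < n) (P : ℕ → Prop)
    (h : ∀ p ∈ n.primeFactors, P p) : ∀ p : ℕ, p.Prime → p ∣ n → P p := by
  intro p hp hpn
  exact h p (Nat.mem_primeFactors.2 ⟨hp, hpn, hn.ne'⟩)

theorem exists_orderOf (n : ℕ) (hn : n ∈ specJ) : ∃ g : ↥Spor.J1, orderOf g = n := by
  have key : ∀ (c : ℕ × ℕ) (m : ℕ), 0 < m → powP (ofCode c) m = I7 →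
      (∀ p ∈ m.primeFactors, powP (ofCode c) (m / p) ≠ I7) → ∃ g : ↥Spor.J1, orderOf g = m := by
    intro c m hm h1 h2
    exact ⟨_, orderOf_code c m hm h1 (prime_dvd_cases m hm _ h2)⟩
  unfold specJ at hn
  simp only [Finset.mem_insert, Finset.mem_singleton] at hn
  rcases hn with rfl | rfl | rfl | rfl | rfl | rfl | rfl | rfl | rfl | rfl
  · exact ⟨1, orderOf_one⟩
  · exact key (1, 0) 2 (by norm_num) (by decide +kernel) (by decide +kernel)
  · exact key (2, 0) 3 (by norm_num) (by decide +kernel) (by decide +kernel)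
  · exact key (0, 2) 5 (by norm_num) (by decide +kernel) (by decide +kernel)
  · exact key (0, 21) 6 (by norm_num) (by decide +kernel) (by decide +kernel)
  · exact key (0, 1) 7 (by norm_num) (by decide +kernel) (by decide +kernel)
  · exact key (0, 4) 10 (by norm_num) (by decide +kernel) (by decide +kernel)
  · exact key (0, 10) 11 (by norm_num) (by decide +kernel) (by decide +kernel)
  · exact key (2, 11) 15 (by norm_num) (by decide +kernel) (by decide +kernel)
  · exact key (0, 16) 19 (by norm_num) (by decide +kernel) (by decide +kernel)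

theorem range_orderOf_J1 : Set.range (orderOf : ↥Spor.J1 → ℕ) = (specJ : Set ℕ) := by
  ext n
  constructor
  · rintro ⟨g, rfl⟩
    exact orderOf_mem_specJ g
  · intro hn
    obtain ⟨g, hg⟩ := exists_orderOf n hn
    exact ⟨g, hg⟩

end Cfsg.Agent.Lib.Helper1.JSpec
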