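import Cfsg.Agent.Lib.Helper1.JSpecB

/-!
Groups of arbitrarily large order with the element orders of `J1 × J1 × J1 × J1` (helper1):
`J1 × J1 × J1 × Y`, where `Y` consists of the families of elements of the dihedral group of
order `14` that are all rotations or all reflections.
-/

set_option autoImplicit false

namespace Cfsg.Agent.Lib.Helper1.JSpec

open Cfsg Cfsg.Agent.Lib.Helper9.J1

theorem range_orderOf_prod {G K : Type*} [Monoid G] [Monoid K] :
    Set.range (orderOf : G × K → ℕ) =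
      Set.image2 Nat.lcm (Set.range (orderOf : G → ℕ)) (Set.range (orderOf : K → ℕ)) := by
  ext n
  constructor
  · rintro ⟨⟨a, b⟩, rfl⟩
    exact ⟨orderOf a, ⟨a, rfl⟩, orderOf b, ⟨b, rfl⟩, (Prod.orderOf_mk).symm⟩
  · rintro ⟨_, ⟨a, rfl⟩, _, ⟨b, rfl⟩, rfl⟩
    exact ⟨(a, b), Prod.orderOf_mk⟩

/-- families of rotations, or of reflections -/
def YSub (n : ℕ) : Subgroup (Fin n → DihedralGroup 7) where
  carrier := {f | (∀ i, ∃ k, f i = DihedralGroup.r k) ∨ (∀ i, ∃ k, f i = DihedralGroup.sr k)}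
  one_mem' := Or.inl fun _ => ⟨0, rfl⟩
  mul_mem' := by
    rintro f g (hf | hf) (hg | hg)
    · left
      intro i
      obtain ⟨k, hk⟩ := hf i
      obtain ⟨l, hl⟩ := hg i
      exact ⟨k + l, by rw [Pi.mul_apply, hk, hl, DihedralGroup.r_mul_r]⟩
    · right
      intro i
      obtain ⟨k, hk⟩ := hf i
      obtain ⟨l, hl⟩ := hg i
      exact ⟨l - k, by rw [Pi.mul_apply, hk, hl, DihedralGroup.r_mul_sr]⟩
    · right
      intro i
      obtain ⟨k, hk⟩ := hf i
      obtain ⟨l, hl⟩ := hg i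
      exact ⟨k + l, by rw [Pi.mul_apply, hk, hl, DihedralGroup.sr_mul_r]⟩
    · left
      intro i
      obtain ⟨k, hk⟩ := hf i
      obtain ⟨l, hl⟩ := hg i
      exact ⟨l - k, by rw [Pi.mul_apply, hk, hl, DihedralGroup.sr_mul_sr]⟩
  inv_mem' := by
    rintro f (hf | hf)
    · left
      intro i
      obtain ⟨k, hk⟩ := hf i
      exact ⟨-k, by rw [Pi.inv_apply, hk]; rfl⟩
    · right
      intro i
      obtain ⟨k, hk⟩ := hf i
      exact ⟨k, by rw [Pi.inv_apply, hk]; rfl⟩

/-- the element orders of `YSub` -/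
def specY : Finset ℕ := {1, 2, 7}

theorem r_pow_seven : ∀ k : ZMod 7, (DihedralGroup.r k : DihedralGroup 7) ^ 7 = 1 := by decide

theorem sr_pow_two : ∀ k : ZMod 7, (DihedralGroup.sr k : DihedralGroup 7) ^ 2 = 1 := by decide

theorem r_one_ne : (DihedralGroup.r 1 : DihedralGroup 7) ≠ 1 := by decide

theorem sr_zero_ne : (DihedralGroup.sr 0 : DihedralGroup 7) ≠ 1 := by decide

theorem orderOf_mem_specY (n : ℕ) (y : ↥(YSub n)) : orderOf y ∈ specY := by
  rw [← Subgroup.orderOf_coe]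
  rcases y.2 with h | h
  · have h7 : (y : Fin n → DihedralGroup 7) ^ 7 = 1 := by
      funext i
      obtain ⟨k, hk⟩ := h i
      rw [Pi.pow_apply, hk, r_pow_seven]
      rfl
    have hd := orderOf_dvd_of_pow_eq_one h7
    rcases (Nat.dvd_prime (by norm_num : Nat.Prime 7)).1 hd with e | e <;> rw [e] <;> decide
  · have h2 : (y : Fin n → DihedralGroup 7) ^ 2 = 1 := by
      funext i
      obtain ⟨k, hk⟩ := h i
      rw [Pi.pow_apply, hk, sr_pow_two]
      rfl
    have hd := orderOf_dvd_of_pow_eq_one h2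
    rcases (Nat.dvd_prime Nat.prime_two).1 hd with e | e <;> rw [e] <;> decide

theorem exists_orderOf_Y (n : ℕ) (m : ℕ) (hm : m ∈ specY) :
    ∃ y : ↥(YSub (n + 1)), orderOf y = m := by
  unfold specY at hm
  simp only [Finset.mem_insert, Finset.mem_singleton] at hm
  rcases hm with rfl | rfl | rfl
  · exact ⟨1, orderOf_one⟩
  · refine ⟨⟨fun _ => DihedralGroup.sr 0, Or.inr fun _ => ⟨0, rfl⟩⟩, ?_⟩
    have : Fact (Nat.Prime 2) := ⟨Nat.prime_two⟩
    apply orderOf_eq_prime
    · apply Subtype.ext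
      funext i
      show (DihedralGroup.sr 0 : DihedralGroup 7) ^ 2 = 1
      exact sr_pow_two 0
    · intro h
      exact sr_zero_ne (congrFun (congrArg Subtype.val h) 0)
  · refine ⟨⟨fun _ => DihedralGroup.r 1, Or.inl fun _ => ⟨1, rfl⟩⟩, ?_⟩
    have : Fact (Nat.Prime 7) := ⟨by norm_num⟩
    apply orderOf_eq_prime
    · apply Subtype.ext
      funext i
      show (DihedralGroup.r 1 : DihedralGroup 7) ^ 7 = 1
      exact r_pow_seven 1
    · intro h
      exact r_one_ne (congrFun (congrArg Subtype.val h) 0)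

theorem range_orderOf_Y (n : ℕ) :
    Set.range (orderOf : ↥(YSub (n + 1)) → ℕ) = (specY : Set ℕ) := by
  ext m
  constructor
  · rintro ⟨y, rfl⟩
    exact orderOf_mem_specY _ y
  · intro hm
    obtain ⟨y, hy⟩ := exists_orderOf_Y n m hm
    exact ⟨y, hy⟩

theorem card_Y (n : ℕ) : n < Nat.card ↥(YSub n) := by
  have hinj : Function.Injective (fun g : Fin n → ZMod 7 =>
      (⟨fun i => DihedralGroup.r (g i), Or.inl fun i => ⟨g i, rfl⟩⟩ : ↥(YSub n))) := by
    intro g g' h
    funext i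
    have h1 := congrFun (congrArg Subtype.val h) i
    exact DihedralGroup.r.inj h1
  have h1 := Nat.card_le_card_of_injective _ hinj
  have h2 : Nat.card (Fin n → ZMod 7) = 7 ^ n := by
    rw [Nat.card_eq_fintype_card, Fintype.card_fun, ZMod.card, Fintype.card_fin]
  rw [h2] at h1
  exact lt_of_lt_of_le (Nat.lt_pow_self (by norm_num)) h1

theorem spec_eq : Finset.image₂ Nat.lcm specJ (Finset.image₂ Nat.lcm specJ
      (Finset.image₂ Nat.lcm specJ specY)) =
    Finset.image₂ Nat.lcm specJ (Finset.image₂ Nat.lcm specJ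
      (Finset.image₂ Nat.lcm specJ specJ)) := by
  decide +kernel

theorem range_eq (n : ℕ) :
    Set.range (orderOf : ↥Spor.J1 × ↥Spor.J1 × ↥Spor.J1 × ↥(YSub (n + 1)) → ℕ) =
      Set.range (orderOf : ↥Spor.J1 × ↥Spor.J1 × ↥Spor.J1 × ↥Spor.J1 → ℕ) := by
  rw [range_orderOf_prod, range_orderOf_prod, range_orderOf_prod, range_orderOf_prod,
    range_orderOf_prod, range_orderOf_prod, range_orderOf_J1, range_orderOf_Y,
    ← Finset.coe_image₂, ← Finset.coe_image₂, ← Finset.coe_image₂, ← Finset.coe_image₂,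
    ← Finset.coe_image₂, ← Finset.coe_image₂, spec_eq]

theorem main (N : ℕ) : ∃ (H : Type) (_ : Group H) (_ : Fintype H), N < Fintype.card H ∧
    Set.range (orderOf : H → ℕ) =
      Set.range (orderOf : ↥Spor.J1 × ↥Spor.J1 × ↥Spor.J1 × ↥Spor.J1 → ℕ) := by
  have hfin : Finite ↥Spor.J1 := Nat.finite_of_card_ne_zero (by rw [card_J1]; norm_num)
  refine ⟨↥Spor.J1 × ↥Spor.J1 × ↥Spor.J1 × ↥(YSub (N + 1)), inferInstance,
    Fintype.ofFinite _, ?_, range_eq N⟩
  rw [Fintype.card_eq_nat_card]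
  have hinj : Function.Injective (fun y : ↥(YSub (N + 1)) =>
      ((1, 1, 1, y) : ↥Spor.J1 × ↥Spor.J1 × ↥Spor.J1 × ↥(YSub (N + 1)))) := by
    intro y y' h
    simpa using h
  have h1 := Nat.card_le_card_of_injective _ hinj
  have h2 := card_Y (N + 1)
  omega

end Cfsg.Agent.Lib.Helper1.JSpec
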