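import Cfsg.Agent.Lib.Helper1.JSpecA

/-!
The element orders of `J1`, part 11 of the enumeration (helper1): checked by the kernel,
one coset representative at a time.
-/

set_option autoImplicit false

namespace Cfsg.Agent.Lib.Helper1.JSpec

theorem one_209 : chkOne 209 = true := by decide +kernel

theorem one_210 : chkOne 210 = true := by decide +kernel

theorem one_211 : chkOne 211 = true := by decide +kernel

theorem one_212 : chkOne 212 = true := by decide +kernel

theorem one_213 : chkOne 213 = true := by decide +kernel

theorem one_214 : chkOne 214 = true := by decide +kernel

theorem one_215 : chkOne 215 = true := by decide +kernel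

theorem one_216 : chkOne 216 = true := by decide +kernel

theorem one_217 : chkOne 217 = true := by decide +kernel

theorem one_218 : chkOne 218 = true := by decide +kernel

theorem one_219 : chkOne 219 = true := by decide +kernel

theorem one_220 : chkOne 220 = true := by decide +kernel

theorem one_221 : chkOne 221 = true := by decide +kernel

theorem one_222 : chkOne 222 = true := by decide +kernel

theorem one_223 : chkOne 223 = true := by decide +kernel

theorem one_224 : chkOne 224 = true := by decide +kernel

theorem one_225 : chkOne 225 = true := by decide +kernel

theorem one_226 : chkOne 226 = true := by decide +kernel

theorem one_227 : chkOne 227 = true := by decide +kernel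

theorem pass_11 (j : ℕ) (h1 : 209 ≤ j) (h2 : j < 228) : chkOne j = true := by
  interval_cases j
  · exact one_209
  · exact one_210
  · exact one_211
  · exact one_212
  · exact one_213
  · exact one_214
  · exact one_215
  · exact one_216
  · exact one_217
  · exact one_218
  · exact one_219
  · exact one_220
  · exact one_221
  · exact one_222
  · exact one_223
  · exact one_224
  · exact one_225
  · exact one_226
  · exact one_227

end Cfsg.Agent.Lib.Helper1.JSpec
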