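import Mathlib

/-!
# Commutator calculus in central extensions and the transfer of central elements (helper1)
-/

set_option autoImplicit false
set_option maxHeartbeats 2000000

namespace Cfsg.Agent.Lib.Helper1.SzMult

open scoped commutatorElement

section generic

variable {Γ S : Type*} [Group Γ] [Group S]

theorem cm_mul_central_left {x y z : Γ} (hz : z ∈ Subgroup.center Γ) : ⁅x * z, y⁆ = ⁅x, y⁆ := by
  rw [commutatorElement_def, commutatorElement_def]
  have h1 : ∀ g : Γ, g * z = z * g := fun g => Subgroup.mem_center_iff.mp hz g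
  have : x * z * y * (x * z)⁻¹ * y⁻¹ = x * (z * y * z⁻¹) * x⁻¹ * y⁻¹ := by group
  rw [this, ← h1 y, mul_inv_cancel_right]

theorem cm_mul_central_right {x y z : Γ} (hz : z ∈ Subgroup.center Γ) : ⁅x, y * z⁆ = ⁅x, y⁆ := by
  rw [commutatorElement_def, commutatorElement_def]
  have h1 : ∀ g : Γ, g * z = z * g := fun g => Subgroup.mem_center_iff.mp hz g
  have : x * (y * z) * x⁻¹ * (y * z)⁻¹ = x * y * (z * x⁻¹ * z⁻¹) * y⁻¹ := by group
  rw [this, ← h1 x⁻¹, mul_inv_cancel_right]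

variable (σ : Γ →* S)

theorem cm_congr (hc : σ.ker ≤ Subgroup.center Γ) {x x' y y' : Γ} (hx : σ x = σ x')
    (hy : σ y = σ y') : ⁅x, y⁆ = ⁅x', y'⁆ := by
  have h1 : x⁻¹ * x' ∈ σ.ker := by
    rw [MonoidHom.mem_ker, map_mul, map_inv, hx, inv_mul_cancel]
  have h2 : y⁻¹ * y' ∈ σ.ker := by
    rw [MonoidHom.mem_ker, map_mul, map_inv, hy, inv_mul_cancel]
  have e1 : x' = x * (x⁻¹ * x') := by group
  have e2 : y' = y * (y⁻¹ * y') := by group
  rw [e1, e2, cm_mul_central_left (hc h1), cm_mul_central_right (hc h2)]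

theorem cm_mem_ker {x y : Γ} (h : σ x * σ y = σ y * σ x) : ⁅x, y⁆ ∈ σ.ker := by
  rw [MonoidHom.mem_ker, map_commutatorElement, commutatorElement_eq_one_iff_mul_comm]
  exact h

theorem cm_mul_left {x x' y : Γ} (h : x * ⁅x', y⁆ = ⁅x', y⁆ * x) :
    ⁅x * x', y⁆ = ⁅x', y⁆ * ⁅x, y⁆ := by
  have e : ⁅x * x', y⁆ = x * ⁅x', y⁆ * y * x⁻¹ * y⁻¹ := by
    simp only [commutatorElement_def]
    group
  rw [e, h]
  simp only [commutatorElement_def]
  group

theorem cm_mul_right {x y y' : Γ} (h : y * ⁅x, y'⁆ = ⁅x, y'⁆ * y) :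
    ⁅x, y * y'⁆ = ⁅x, y⁆ * ⁅x, y'⁆ := by
  have e : ⁅x, y * y'⁆ = x * y * x⁻¹ * y⁻¹ * (y * ⁅x, y'⁆) * y⁻¹ := by
    simp only [commutatorElement_def]
    group
  rw [e, h]
  simp only [commutatorElement_def]
  group

theorem cm_conj (n x y : Γ) : n * ⁅x, y⁆ * n⁻¹ = ⁅n * x * n⁻¹, n * y * n⁻¹⁆ := by
  simp only [commutatorElement_def]
  group

/-- a central commutator is unchanged by simultaneous conjugation -/
theorem cm_conj_central {x y : Γ} (n : Γ) (h : ⁅x, y⁆ ∈ Subgroup.center Γ) :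
    ⁅n * x * n⁻¹, n * y * n⁻¹⁆ = ⁅x, y⁆ := by
  rw [← cm_conj, Subgroup.mem_center_iff.mp h n, mul_inv_cancel_right]

end generic

/-- the transfer of a central element of the commutator subgroup -/
theorem transfer_central {Γ : Type*} [Group Γ] [Finite Γ] (Q : Subgroup Γ) {z : Γ}
    (hz : z ∈ Subgroup.center Γ) (hz' : z ∈ commutator Γ) : z ^ Q.index ∈ ⁅Q, Q⁆ := by
  have key : ∀ (k : ℕ) (g₀ : Γ), g₀⁻¹ * z ^ k * g₀ ∈ Q → g₀⁻¹ * z ^ k * g₀ = z ^ k := by
    intro k g₀ _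
    have h1 : z ^ k ∈ Subgroup.center Γ := Subgroup.pow_mem _ hz k
    rw [mul_assoc, ← Subgroup.mem_center_iff.mp h1 g₀, inv_mul_cancel_left]
  have h1 := MonoidHom.transfer_eq_pow (H := Q) (Abelianization.of : Q →* Abelianization Q) z key
  have h2 : (MonoidHom.transfer (H := Q) (Abelianization.of : Q →* Abelianization Q)) z = 1 :=
    Abelianization.commutator_subset_ker _ hz'
  rw [h2] at h1
  have h3 : (⟨z ^ Q.index, MonoidHom.transfer_eq_pow_aux z key⟩ : Q) ∈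
      (Abelianization.of : Q →* Abelianization Q).ker := h1.symm
  rw [Abelianization.ker_of] at h3
  rw [← Subgroup.map_subtype_commutator]
  exact ⟨_, h3, rfl⟩

end Cfsg.Agent.Lib.Helper1.SzMult
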