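import Mathlib
import Cfsg.Agent.Lib.Helper1.SzPb

/-!
# Central extensions: subgroups over cyclic and dicyclic-like subgroups (helper1)
-/

set_option autoImplicit false
set_option maxHeartbeats 2000000

namespace Cfsg.Agent.Lib.Helper1.SlMult

open Cfsg.Agent.Lib.Helper1.SzMult

open scoped commutatorElement

section generic

variable {Γ S : Type*} [Group Γ] [Group S] (σ : Γ →* S)

/-- elements lying over a cyclic subgroup commute -/
theorem comm_of_zpowers (hc : σ.ker ≤ Subgroup.center Γ) (â : Γ) {x y : Γ}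
    (hx : σ x ∈ Subgroup.zpowers (σ â)) (hy : σ y ∈ Subgroup.zpowers (σ â)) : x * y = y * x := by
  obtain ⟨i, hi⟩ := Subgroup.mem_zpowers_iff.mp hx
  obtain ⟨j, hj⟩ := Subgroup.mem_zpowers_iff.mp hy
  have e := cm_congr σ hc (x := x) (x' := â ^ i) (y := y) (y' := â ^ j)
    (by rw [map_zpow]; exact hi.symm) (by rw [map_zpow]; exact hj.symm)
  have e2 : ⁅â ^ i, â ^ j⁆ = 1 := by
    rw [commutatorElement_eq_one_iff_mul_comm]
    exact ((Commute.refl â).zpow_zpow i j).eq
  rw [e2] at e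
  exact commutatorElement_eq_one_iff_mul_comm.mp e

/-- the transfer into an abelian subgroup kills central commutator elements -/
theorem pow_index_eq_one_of_comm [Finite Γ] (Q : Subgroup Γ)
    (hQ : ∀ x ∈ Q, ∀ y ∈ Q, x * y = y * x) {z : Γ}
    (hz : z ∈ Subgroup.center Γ) (hz' : z ∈ commutator Γ) : z ^ Q.index = 1 := by
  have h1 := transfer_central Q hz hz'
  have h2 : ⁅Q, Q⁆ ≤ ⊥ := by
    rw [Subgroup.commutator_le]
    intro x hx y hy
    rw [Subgroup.mem_bot, commutatorElement_eq_one_iff_mul_comm]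
    exact hQ x hx y hy
  exact Subgroup.mem_bot.mp (h2 h1)

/-- transfer into the preimage of a cyclic subgroup -/
theorem pow_index_zpowers [Finite Γ] (hsurj : Function.Surjective σ)
    (hc : σ.ker ≤ Subgroup.center Γ) (a : S) {z : Γ} (hz : z ∈ σ.ker)
    (hz' : z ∈ commutator Γ) : z ^ (Subgroup.zpowers a).index = 1 := by
  obtain ⟨â, hâ⟩ := hsurj a
  have := pow_index_eq_one_of_comm ((Subgroup.zpowers a).comap σ) (by
    intro x hx y hy
    rw [Subgroup.mem_comap, ← hâ] at hx hy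
    exact comm_of_zpowers σ hc â hx hy) (hc hz) hz'
  rwa [Subgroup.index_comap_of_surjective _ hsurj] at this

end generic

section dic

variable {S : Type*} [Group S]

/-- the subgroup `A ∪ A w` for `w` normalizing `A` with `w² ∈ A` -/
def dicSub (A : Subgroup S) (w : S) (hw : ∀ x ∈ A, w * x * w⁻¹ ∈ A) (hw2 : w * w ∈ A) :
    Subgroup S where
  carrier := {g | g ∈ A ∨ g * w⁻¹ ∈ A}
  one_mem' := Or.inl A.one_mem
  mul_mem' := by
    rintro g h (hg | hg) (hh | hh)
    · exact Or.inl (A.mul_mem hg hh)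
    · right
      have : g * h * w⁻¹ = g * (h * w⁻¹) := by group
      rw [this]
      exact A.mul_mem hg hh
    · right
      have : g * h * w⁻¹ = (g * w⁻¹) * (w * h * w⁻¹) := by group
      rw [this]
      exact A.mul_mem hg (hw h hh)
    · left
      have : g * h = (g * w⁻¹) * (w * (h * w⁻¹) * w⁻¹) * (w * w) := by group
      rw [this]
      exact A.mul_mem (A.mul_mem hg (hw _ hh)) hw2
  inv_mem' := by
    rintro g (hg | hg)
    · exact Or.inl (A.inv_mem hg)
    · right
      have hw' : ∀ y ∈ A, w⁻¹ * y * w ∈ A := by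
        intro y hy
        have : w⁻¹ * y * w = (w * w)⁻¹ * (w * y * w⁻¹) * (w * w) := by group
        rw [this]
        exact A.mul_mem (A.mul_mem (A.inv_mem hw2) (hw y hy)) hw2
      have : g⁻¹ * w⁻¹ = (w⁻¹ * (g * w⁻¹)⁻¹ * w) * (w * w)⁻¹ := by group
      rw [this]
      exact A.mul_mem (hw' _ (A.inv_mem hg)) (A.inv_mem hw2)

theorem mem_dicSub {A : Subgroup S} {w : S} {hw : ∀ x ∈ A, w * x * w⁻¹ ∈ A} {hw2 : w * w ∈ A}
    {g : S} : g ∈ dicSub A w hw hw2 ↔ g ∈ A ∨ g * w⁻¹ ∈ A := Iff.rfl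

theorem le_dicSub (A : Subgroup S) (w : S) (hw : ∀ x ∈ A, w * x * w⁻¹ ∈ A) (hw2 : w * w ∈ A) :
    A ≤ dicSub A w hw hw2 := fun _ hg => Or.inl hg

theorem index_dicSub (A : Subgroup S) (w : S) (hw : ∀ x ∈ A, w * x * w⁻¹ ∈ A) (hw2 : w * w ∈ A)
    (hwA : w ∉ A) : 2 * (dicSub A w hw hw2).index = A.index := by
  have h1 : A.relIndex (dicSub A w hw hw2) = 2 := by
    rw [Subgroup.relIndex, Subgroup.index_eq_two_iff]
    have hwN : w⁻¹ ∈ dicSub A w hw hw2 := by
      right
      have : w⁻¹ * w⁻¹ = (w * w)⁻¹ := by group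
      rw [this]
      exact A.inv_mem hw2
    refine ⟨⟨w⁻¹, hwN⟩, ?_⟩
    rintro ⟨b, hb⟩
    simp only [Subgroup.mem_subgroupOf, Subgroup.coe_mul]
    rcases hb with hb | hb
    · refine Or.inr ⟨hb, ?_⟩
      intro h
      apply hwA
      have : w = (b * w⁻¹)⁻¹ * b := by group
      rw [this]
      exact A.mul_mem (A.inv_mem h) hb
    · refine Or.inl ⟨hb, ?_⟩
      intro h
      apply hwA
      have : w = (b * w⁻¹)⁻¹ * b := by group
      rw [this]
      exact A.mul_mem (A.inv_mem hb) h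
  rw [← h1]
  exact Subgroup.relIndex_mul_index (le_dicSub A w hw hw2)

end dic

end Cfsg.Agent.Lib.Helper1.SlMult
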