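import Mathlib
import Cfsg.Agent.Lib.Helper1.SlMa

/-!
# Conjugates of an involution under an element of order seven spanning a Frobenius kernel `2³` (helper1)
-/

set_option autoImplicit false
set_option maxHeartbeats 2000000

namespace Cfsg.Agent.Lib.Helper1.JMult

open Cfsg.Agent.Lib.Helper1.SzMult Cfsg.Agent.Lib.Helper1.SlMult

open scoped commutatorElement

section basic

variable {G : Type*} [Group G]

/-- the conjugate of `e` by `g ^ k` -/
def cj (g e : G) (k : ℕ) : G := g ^ k * e * (g ^ k)⁻¹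

theorem cj_zero (g e : G) : cj g e 0 = e := by
  unfold cj
  rw [pow_zero, inv_one, mul_one, one_mul]

theorem cj_succ (g e : G) (k : ℕ) : cj g e (k + 1) = g * cj g e k * g⁻¹ := by
  unfold cj
  rw [pow_succ']
  group

theorem cj_add (g e : G) (j k : ℕ) : g ^ j * cj g e k * (g ^ j)⁻¹ = cj g e (j + k) := by
  unfold cj
  rw [pow_add]
  group

theorem map_cj {H : Type*} [Group H] (σ : G →* H) (g e : G) (k : ℕ) :
    σ (cj g e k) = cj (σ g) (σ e) k := by
  unfold cj
  rw [map_mul, map_mul, map_inv, map_pow]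

theorem comm_of_invol {x y : G} (hx : x * x = 1) (hy : y * y = 1) (hxy : (x * y) * (x * y) = 1) :
    x * y = y * x := by
  have h1 : x⁻¹ = x := inv_eq_of_mul_eq_one_left hx
  have h2 : y⁻¹ = y := inv_eq_of_mul_eq_one_left hy
  have h3 : (x * y)⁻¹ = x * y := inv_eq_of_mul_eq_one_left hxy
  rw [mul_inv_rev, h1, h2] at h3
  exact h3.symm

variable (g e : G) (he1 : e ≠ 1) (he2 : e * e = 1) (hg7 : g ^ 7 = 1)
  (hrel : e * g * e * g ^ 2 = g ^ 3 * e)

include he2 in
theorem cj_sq (k : ℕ) : cj g e k * cj g e k = 1 := by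
  unfold cj
  have : g ^ k * e * (g ^ k)⁻¹ * (g ^ k * e * (g ^ k)⁻¹) = g ^ k * (e * e) * (g ^ k)⁻¹ := by group
  rw [this, he2, mul_one, mul_inv_cancel]

include hg7 in
theorem cj_per (k : ℕ) : cj g e (k + 7) = cj g e k := by
  unfold cj
  rw [pow_add, hg7, mul_one]

include hg7 in
theorem cj_mod (k : ℕ) : cj g e k = cj g e (k % 7) := by
  induction k using Nat.strong_induction_on with
  | _ k ih =>
    by_cases hk : k < 7
    · rw [Nat.mod_eq_of_lt hk]
    · have h7 : k = (k - 7) + 7 := by omega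
      rw [h7, cj_per g e hg7, ih (k - 7) (by omega), Nat.add_mod_right]

include he1 in
theorem cj_ne_one (k : ℕ) : cj g e k ≠ 1 := by
  unfold cj
  intro h
  apply he1
  have : e = (g ^ k)⁻¹ * (g ^ k * e * (g ^ k)⁻¹) * g ^ k := by group
  rw [this, h]
  group

include hrel in
theorem cj_rel0 : cj g e 0 * cj g e 1 = cj g e 3 := by
  unfold cj
  calc g ^ 0 * e * (g ^ 0)⁻¹ * (g ^ 1 * e * (g ^ 1)⁻¹)
      = (e * g * e * g ^ 2) * (g ^ 3)⁻¹ := by group
    _ = g ^ 3 * e * (g ^ 3)⁻¹ := by rw [hrel]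

include hrel in
theorem cj_rel (k : ℕ) : cj g e k * cj g e (k + 1) = cj g e (k + 3) := by
  have h : g ^ k * (cj g e 0 * cj g e 1) * (g ^ k)⁻¹ = g ^ k * cj g e 3 * (g ^ k)⁻¹ := by
    rw [cj_rel0 g e hrel]
  rw [cj_add] at h
  have e0 : cj g e k = g ^ k * cj g e 0 * (g ^ k)⁻¹ := by rw [cj_add, add_zero]
  rw [← h, e0, ← cj_add g e k 1]
  group

include he2 hrel in
theorem cj_comm1 (k : ℕ) : cj g e k * cj g e (k + 1) = cj g e (k + 1) * cj g e k := by
  apply comm_of_invol (cj_sq g e he2 k) (cj_sq g e he2 (k + 1))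
  rw [cj_rel g e hrel, cj_sq g e he2]

include he2 hg7 hrel in
theorem cj_comm0 (d : ℕ) : Commute (cj g e 0) (cj g e d) := by
  have c1 : Commute (cj g e 0) (cj g e 1) := cj_comm1 g e he2 hrel 0
  have c6 : Commute (cj g e 0) (cj g e 6) := by
    have := cj_comm1 g e he2 hrel 6
    rw [show 6 + 1 = 0 + 7 from rfl, cj_per g e hg7] at this
    exact this.symm
  have c3 : Commute (cj g e 0) (cj g e 3) := by
    rw [← cj_rel0 g e hrel]
    exact (Commute.refl _).mul_right c1
  have c2 : Commute (cj g e 0) (cj g e 2) := by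
    have h1 := cj_rel g e hrel 6
    rw [show 6 + 1 = 0 + 7 from rfl, show 6 + 3 = 2 + 7 from rfl, cj_per g e hg7,
      cj_per g e hg7] at h1
    rw [← h1]
    exact c6.mul_right (Commute.refl _)
  have c4 : Commute (cj g e 0) (cj g e 4) := by
    have h1 := cj_rel g e hrel 1
    rw [show 1 + 1 = 2 from rfl, show 1 + 3 = 4 from rfl] at h1
    rw [← h1]
    exact c1.mul_right c2
  have c5 : Commute (cj g e 0) (cj g e 5) := by
    have h1 := cj_rel g e hrel 2
    rw [show 2 + 1 = 3 from rfl, show 2 + 3 = 5 from rfl] at h1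
    rw [← h1]
    exact c2.mul_right c3
  rw [cj_mod g e hg7 d]
  have hlt : d % 7 < 7 := Nat.mod_lt _ (by norm_num)
  interval_cases (d % 7)
  · exact Commute.refl _
  · exact c1
  · exact c2
  · exact c3
  · exact c4
  · exact c5
  · exact c6

include he2 hg7 hrel in
theorem cj_comm (i j : ℕ) : Commute (cj g e i) (cj g e j) := by
  have key : ∀ i d : ℕ, Commute (cj g e i) (cj g e (i + d)) := by
    intro i d
    have e0 : cj g e i = g ^ i * cj g e 0 * (g ^ i)⁻¹ := by rw [cj_add, add_zero]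
    rw [e0, ← cj_add g e i d, Commute.conj_iff]
    exact cj_comm0 g e he2 hg7 hrel d
  rcases le_total i j with h | h
  · obtain ⟨d, rfl⟩ := Nat.exists_eq_add_of_le h
    exact key i d
  · obtain ⟨d, rfl⟩ := Nat.exists_eq_add_of_le h
    exact (key j d).symm

include he1 he2 hg7 hrel in
theorem cj_ne_zero (d : ℕ) (hd1 : 1 ≤ d) (hd6 : d ≤ 6) : cj g e d ≠ cj g e 0 := by
  intro h
  rw [cj_zero] at h
  have hc : Commute (g ^ d) e := by
    unfold cj at h
    have : g ^ d * e = e * g ^ d := by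
      calc g ^ d * e = g ^ d * e * (g ^ d)⁻¹ * g ^ d := by group
        _ = e * g ^ d := by rw [h]
    exact this
  have hg : Commute g e := by
    have h8 : g ^ 8 = g := by rw [show 8 = 7 + 1 from rfl, pow_add, hg7, one_mul, pow_one]
    have h15 : g ^ 15 = g := by
      rw [show 15 = 7 + 7 + 1 from rfl, pow_add, pow_add, hg7, one_mul, one_mul, pow_one]
    have h36 : g ^ 36 = g := by
      rw [show 36 = 7 * 5 + 1 from rfl, pow_add, pow_mul, hg7, one_pow, one_mul, pow_one]
    interval_cases d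
    · simpa using hc
    · have := hc.pow_left 4
      rwa [← pow_mul, h8] at this
    · have := hc.pow_left 5
      rwa [← pow_mul, h15] at this
    · have := hc.pow_left 2
      rwa [← pow_mul, h8] at this
    · have := hc.pow_left 3
      rwa [← pow_mul, h15] at this
    · have := hc.pow_left 6
      rwa [← pow_mul, h36] at this
  have h1 : cj g e 1 = e := by
    unfold cj
    rw [pow_one, hg.eq, mul_inv_cancel_right]
  have h3 := cj_rel0 g e hrel
  rw [cj_zero, h1, he2] at h3
  exact cj_ne_one g e he1 3 h3.symm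

include he1 he2 hg7 hrel in
theorem cj_inj {i j : ℕ} (hi : i < 7) (hj : j < 7) (h : cj g e i = cj g e j) : i = j := by
  have key : ∀ i d : ℕ, i + d < 7 → cj g e i = cj g e (i + d) → d = 0 := by
    intro i d hid h
    by_contra hd
    apply cj_ne_zero g e he1 he2 hg7 hrel d (by omega) (by omega)
    have e0 : cj g e i = g ^ i * cj g e 0 * (g ^ i)⁻¹ := by rw [cj_add, add_zero]
    rw [e0, ← cj_add g e i d] at h
    have e1 : ∀ x : G, (g ^ i)⁻¹ * (g ^ i * x * (g ^ i)⁻¹) * g ^ i = x := fun x => by group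
    have h2 := congrArg (fun x => (g ^ i)⁻¹ * x * g ^ i) h
    rw [e1, e1] at h2
    exact h2.symm
  rcases le_total i j with hij | hij
  · obtain ⟨d, rfl⟩ := Nat.exists_eq_add_of_le hij
    have := key i d hj h
    omega
  · obtain ⟨d, rfl⟩ := Nat.exists_eq_add_of_le hij
    have := key j d hi h.symm
    omega

end basic

end Cfsg.Agent.Lib.Helper1.JMult
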