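import Mathlib
import Cfsg.Agent.Lib.Helper1.JmA

/-!
# Stem extensions of a group of order 175560 containing `2³ : 7` are trivial (helper1)
-/

set_option autoImplicit false
set_option maxHeartbeats 2000000

namespace Cfsg.Agent.Lib.Helper1.JMult

open Cfsg.Agent.Lib.Helper1.SzMult Cfsg.Agent.Lib.Helper1.SlMult

open scoped commutatorElement

section E

variable {G : Type*} [Group G] (g e : G)

/-- the elementary abelian subgroup spanned by the conjugates -/
def ESub : Subgroup G := Subgroup.closure {cj g e 0, cj g e 1, cj g e 2}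

variable (he1 : e ≠ 1) (he2 : e * e = 1) (hg7 : g ^ 7 = 1)
  (hrel : e * g * e * g ^ 2 = g ^ 3 * e)

theorem comm_closure {H : Type*} [Group H] {s : Set H} (h : ∀ x ∈ s, ∀ y ∈ s, x * y = y * x) :
    ∀ x ∈ Subgroup.closure s, ∀ y ∈ Subgroup.closure s, x * y = y * x := by
  intro x hx y hy
  have := (Subgroup.closureCommGroupOfComm h).mul_comm ⟨x, hx⟩ ⟨y, hy⟩
  exact congrArg Subtype.val this

include he2 hg7 hrel in
theorem ESub_comm : ∀ x ∈ ESub g e, ∀ y ∈ ESub g e, x * y = y * x := by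
  apply comm_closure
  intro x hx y hy
  simp only [Set.mem_insert_iff, Set.mem_singleton_iff] at hx hy
  rcases hx with rfl | rfl | rfl <;> rcases hy with rfl | rfl | rfl <;>
    exact (cj_comm g e he2 hg7 hrel _ _).eq

include he2 hg7 hrel in
theorem ESub_sq : ∀ x ∈ ESub g e, x * x = 1 := by
  intro x hx
  have hcomm := ESub_comm g e he2 hg7 hrel
  unfold ESub at hx hcomm
  refine Subgroup.closure_induction (p := fun x _ => x * x = 1) ?_ ?_ ?_ ?_ hx
  · intro x hx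
    simp only [Set.mem_insert_iff, Set.mem_singleton_iff] at hx
    rcases hx with rfl | rfl | rfl <;> exact cj_sq g e he2 _
  · exact mul_one 1
  · intro x y hx hy ihx ihy
    have h := hcomm x hx y hy
    calc x * y * (x * y) = x * (y * x) * y := by group
      _ = x * (x * y) * y := by rw [← h]
      _ = (x * x) * (y * y) := by group
      _ = 1 := by rw [ihx, ihy, mul_one]
  · intro x hx ih
    rw [← mul_inv_rev, ih, inv_one]

include hrel in
theorem cj_mem_ESub (k : ℕ) (hk : k < 7) : cj g e k ∈ ESub g e := by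
  have h0 : cj g e 0 ∈ ESub g e := Subgroup.subset_closure (by simp)
  have h1 : cj g e 1 ∈ ESub g e := Subgroup.subset_closure (by simp)
  have h2 : cj g e 2 ∈ ESub g e := Subgroup.subset_closure (by simp)
  have h3 : cj g e 3 ∈ ESub g e := by
    rw [← cj_rel0 g e hrel]
    exact Subgroup.mul_mem _ h0 h1
  have h4 : cj g e 4 ∈ ESub g e := by
    have := cj_rel g e hrel 1
    rw [show 1 + 1 = 2 from rfl, show 1 + 3 = 4 from rfl] at this
    rw [← this]
    exact Subgroup.mul_mem _ h1 h2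
  have h5 : cj g e 5 ∈ ESub g e := by
    have := cj_rel g e hrel 2
    rw [show 2 + 1 = 3 from rfl, show 2 + 3 = 5 from rfl] at this
    rw [← this]
    exact Subgroup.mul_mem _ h2 h3
  have h6 : cj g e 6 ∈ ESub g e := by
    have := cj_rel g e hrel 3
    rw [show 3 + 1 = 4 from rfl, show 3 + 3 = 6 from rfl] at this
    rw [← this]
    exact Subgroup.mul_mem _ h3 h4
  interval_cases k <;> assumption

include he1 he2 hg7 hrel in
theorem card_ESub_ge [Finite G] : 8 ≤ Nat.card (ESub g e) := by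
  classical
  set ι : Option (Fin 7) → ESub g e := fun o =>
    match o with
    | none => 1
    | some k => ⟨cj g e k, cj_mem_ESub g e hrel k k.2⟩ with hι
  have hinj : Function.Injective ι := by
    intro a b hab
    rcases a with _ | a <;> rcases b with _ | b
    · rfl
    · exfalso
      have := congrArg Subtype.val hab
      simp only [hι, Subgroup.coe_one] at this
      exact cj_ne_one g e he1 b this.symm
    · exfalso
      have := congrArg Subtype.val hab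
      simp only [hι, Subgroup.coe_one] at this
      exact cj_ne_one g e he1 a this
    · have := congrArg Subtype.val hab
      simp only [hι] at this
      have h := cj_inj g e he1 he2 hg7 hrel a.2 b.2 this
      rw [Fin.ext h]
  have h := Nat.card_le_card_of_injective ι hinj
  have h8 : Nat.card (Option (Fin 7)) = 8 := by
    rw [Nat.card_eq_fintype_card, Fintype.card_option, Fintype.card_fin]
  rw [h8] at h
  exact h

include he1 he2 hg7 hrel in
theorem index_ESub [Finite G] (hcard : Nat.card G = 175560) : (ESub g e).index = 21945 := by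
  have hP : IsPGroup 2 (ESub g e) := by
    intro x
    refine ⟨1, ?_⟩
    apply Subtype.ext
    rw [pow_one, pow_two, Subgroup.coe_mul, Subgroup.coe_one]
    exact ESub_sq g e he2 hg7 hrel x.1 x.2
  obtain ⟨a, ha⟩ := IsPGroup.iff_card.mp hP
  have hdvd : Nat.card (ESub g e) ∣ Nat.card G := Subgroup.card_subgroup_dvd_card _
  rw [ha, hcard] at hdvd
  have hge := card_ESub_ge g e he1 he2 hg7 hrel
  rw [ha] at hge
  have ha3 : a ≤ 3 := by
    by_contra hlt
    have h4 : 4 ≤ a := by omega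
    have : 2 ^ 4 ∣ 175560 := dvd_trans (pow_dvd_pow 2 h4) hdvd
    norm_num at this
  have ha3' : 3 ≤ a := by
    by_contra hlt
    have h2 : a ≤ 2 := by omega
    have : 2 ^ a ≤ 2 ^ 2 := Nat.pow_le_pow_right (by norm_num) h2
    omega
  have ha' : a = 3 := by omega
  have h := Subgroup.index_mul_card (ESub g e)
  rw [ha, ha', hcard] at h
  omega

end E

section ext

variable {G : Type*} [Group G] [Finite G] (g e : G)
variable {Γ : Type*} [Group Γ] (σ : Γ →* G)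

theorem comm_over_E (he2 : e * e = 1) (hg7 : g ^ 7 = 1)
    (hrel : e * g * e * g ^ 2 = g ^ 3 * e)
    (hsurj : Function.Surjective σ) (hc : σ.ker ≤ Subgroup.center Γ) :
    ∀ x ∈ (ESub g e).comap σ, ∀ y ∈ (ESub g e).comap σ, x * y = y * x := by
  obtain ⟨ĝ, rfl⟩ := hsurj g
  obtain ⟨ê, rfl⟩ := hsurj e
  set ĉ : ℕ → Γ := fun k => cj ĝ ê k with hĉ
  have hσĉ : ∀ k, σ (ĉ k) = cj (σ ĝ) (σ ê) k := fun k => map_cj σ ĝ ê k
  have hsucc : ∀ k, ĉ (k + 1) = ĝ * ĉ k * ĝ⁻¹ := fun k => cj_succ ĝ ê k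
  have hcen : ∀ i j, ⁅ĉ i, ĉ j⁆ ∈ Subgroup.center Γ := by
    intro i j
    apply hc
    apply cm_mem_ker
    rw [hσĉ, hσĉ]
    exact (cj_comm (σ ĝ) (σ ê) he2 hg7 hrel i j).eq
  have hcc : ∀ i j (t : Γ), t * ⁅ĉ i, ĉ j⁆ = ⁅ĉ i, ĉ j⁆ * t :=
    fun i j t => Subgroup.mem_center_iff.mp (hcen i j) t
  have shift : ∀ i j, ⁅ĉ (i + 1), ĉ (j + 1)⁆ = ⁅ĉ i, ĉ j⁆ := by
    intro i j
    rw [hsucc, hsucc]
    exact cm_conj_central ĝ (hcen i j)
  have add : ∀ k, ⁅ĉ 0, ĉ (k + 3)⁆ = ⁅ĉ 0, ĉ k⁆ * ⁅ĉ 0, ĉ (k + 1)⁆ := by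
    intro k
    have e1 : σ (ĉ (k + 3)) = σ (ĉ k * ĉ (k + 1)) := by
      rw [map_mul, hσĉ, hσĉ, hσĉ, cj_rel _ _ hrel]
    rw [cm_congr σ hc rfl e1, cm_mul_right (hcc 0 (k + 1) (ĉ k))]
  have sq : ∀ k, ⁅ĉ 0, ĉ k⁆ * ⁅ĉ 0, ĉ k⁆ = 1 := by
    intro k
    have e1 : σ (ĉ k * ĉ k) = σ 1 := by
      rw [map_mul, hσĉ, cj_sq _ _ he2, map_one]
    have := cm_congr σ hc (x := ĉ 0) (x' := ĉ 0) rfl e1
    rw [cm_mul_right (hcc 0 k (ĉ k)), commutatorElement_one_right] at this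
    exact this
  have inv : ∀ k, (⁅ĉ 0, ĉ k⁆)⁻¹ = ⁅ĉ 0, ĉ k⁆ := fun k => inv_eq_of_mul_eq_one_left (sq k)
  have h7 : σ (ĉ 7) = σ (ĉ 0) := by
    rw [hσĉ, hσĉ, show 7 = 0 + 7 from rfl, cj_per _ _ hg7]
  have sym1 : ⁅ĉ 0, ĉ 6⁆ = ⁅ĉ 0, ĉ 1⁆ := by
    rw [← shift 0 6, cm_congr σ hc rfl h7, ← commutatorElement_inv, inv]
  have sym2 : ⁅ĉ 0, ĉ 5⁆ = ⁅ĉ 0, ĉ 2⁆ := by
    rw [← shift 0 5, ← shift 1 6, cm_congr σ hc rfl h7, ← commutatorElement_inv, inv]
  have p0 : ⁅ĉ 0, ĉ 0⁆ = 1 := commutatorElement_self _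
  have p3 : ⁅ĉ 0, ĉ 3⁆ = ⁅ĉ 0, ĉ 1⁆ := by
    have := add 0
    rw [p0, one_mul] at this
    exact this
  have p4 : ⁅ĉ 0, ĉ 4⁆ = ⁅ĉ 0, ĉ 1⁆ * ⁅ĉ 0, ĉ 2⁆ := add 1
  have p5 : ⁅ĉ 0, ĉ 5⁆ = ⁅ĉ 0, ĉ 2⁆ * ⁅ĉ 0, ĉ 1⁆ := by
    have := add 2
    rw [p3] at this
    exact this
  have p6 : ⁅ĉ 0, ĉ 6⁆ = ⁅ĉ 0, ĉ 2⁆ := by
    have := add 3
    rw [p3, p4, ← mul_assoc, sq, one_mul] at this
    exact this
  have hba : ⁅ĉ 0, ĉ 2⁆ = ⁅ĉ 0, ĉ 1⁆ := by rw [← p6, sym1]
  have ha1 : ⁅ĉ 0, ĉ 1⁆ = 1 := by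
    have := p5
    rw [sym2] at this
    exact (mul_eq_left.mp this.symm)
  have hb1 : ⁅ĉ 0, ĉ 2⁆ = 1 := by rw [hba, ha1]
  have c01 : ĉ 0 * ĉ 1 = ĉ 1 * ĉ 0 := commutatorElement_eq_one_iff_mul_comm.mp ha1
  have c02 : ĉ 0 * ĉ 2 = ĉ 2 * ĉ 0 := commutatorElement_eq_one_iff_mul_comm.mp hb1
  have c12 : ĉ 1 * ĉ 2 = ĉ 2 * ĉ 1 := by
    apply commutatorElement_eq_one_iff_mul_comm.mp
    rw [shift 0 1, ha1]
  set T : Set Γ := {ĉ 0, ĉ 1, ĉ 2} with hT
  have hTcomm : ∀ x ∈ T, ∀ y ∈ T, x * y = y * x := by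
    intro x hx y hy
    simp only [hT, Set.mem_insert_iff, Set.mem_singleton_iff] at hx hy
    rcases hx with rfl | rfl | rfl <;> rcases hy with rfl | rfl | rfl
    · rfl
    · exact c01
    · exact c02
    · exact c01.symm
    · rfl
    · exact c12
    · exact c02.symm
    · exact c12.symm
    · rfl
  have hR := comm_closure hTcomm
  have himg : σ '' T = {cj (σ ĝ) (σ ê) 0, cj (σ ĝ) (σ ê) 1, cj (σ ĝ) (σ ê) 2} := by
    rw [hT, Set.image_insert_eq, Set.image_insert_eq, Set.image_singleton, hσĉ, hσĉ, hσĉ]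
  have hlift : ∀ x ∈ (ESub (σ ĝ) (σ ê)).comap σ, ∃ y ∈ Subgroup.closure T, ∃ k ∈ σ.ker,
      x = y * k := by
    intro x hx
    rw [Subgroup.mem_comap] at hx
    unfold ESub at hx
    rw [← himg, ← MonoidHom.map_closure] at hx
    obtain ⟨y, hy, hyx⟩ := hx
    refine ⟨y, hy, y⁻¹ * x, ?_, by group⟩
    rw [MonoidHom.mem_ker, map_mul, map_inv, hyx, inv_mul_cancel]
  intro x hx x' hx'
  obtain ⟨y, hy, k, hk, rfl⟩ := hlift x hx
  obtain ⟨y', hy', k', hk', rfl⟩ := hlift x' hx'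
  have ck : ∀ t, Commute t k := fun t => Subgroup.mem_center_iff.mp (hc hk) t
  have ck' : ∀ t, Commute t k' := fun t => Subgroup.mem_center_iff.mp (hc hk') t
  have cy : Commute y y' := hR y hy y' hy'
  exact ((cy.mul_right (ck' y)).mul_left ((ck y').symm.mul_right (ck' k))).eq

theorem stem_trivial_frob [Finite Γ] (hcard : Nat.card G = 175560)
    (he1 : e ≠ 1) (he2 : e * e = 1) (hg7 : g ^ 7 = 1)
    (hrel : e * g * e * g ^ 2 = g ^ 3 * e)
    (hsurj : Function.Surjective σ) (hc : σ.ker ≤ Subgroup.center Γ)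
    (hd : σ.ker ≤ commutator Γ) : σ.ker = ⊥ := by
  rw [Subgroup.eq_bot_iff_forall]
  intro z hz
  have E8 : z ^ 21945 = 1 := by
    have := pow_index_eq_one_of_comm ((ESub g e).comap σ)
      (comm_over_E g e σ he2 hg7 hrel hsurj hc) (hc hz) (hd hz)
    rwa [Subgroup.index_comap_of_surjective _ hsurj, index_ESub g e he1 he2 hg7 hrel hcard] at this
  have cauchy : ∀ (r k : ℕ), r.Prime → r * k = 175560 → z ^ k = 1 := by
    intro r k hr hrk
    haveI : Fact r.Prime := ⟨hr⟩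
    obtain ⟨a, ha⟩ := exists_prime_orderOf_dvd_card' (G := G) r (by rw [hcard, ← hrk]; exact dvd_mul_right _ _)
    have := pow_index_zpowers σ hsurj hc a hz (hd hz)
    have hidx : (Subgroup.zpowers a).index = k := by
      have h := Subgroup.index_mul_card (Subgroup.zpowers a)
      rw [Nat.card_zpowers, ha, hcard, ← hrk, mul_comm] at h
      exact Nat.eq_of_mul_eq_mul_left hr.pos h
    rwa [hidx] at this
  have o1 : orderOf z ∣ 58520 := orderOf_dvd_of_pow_eq_one (cauchy 3 58520 (by norm_num) (by norm_num))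
  have o2 : orderOf z ∣ 35112 := orderOf_dvd_of_pow_eq_one (cauchy 5 35112 (by norm_num) (by norm_num))
  have o3 : orderOf z ∣ 25080 := orderOf_dvd_of_pow_eq_one (cauchy 7 25080 (by norm_num) (by norm_num))
  have o4 : orderOf z ∣ 15960 := orderOf_dvd_of_pow_eq_one (cauchy 11 15960 (by norm_num) (by norm_num))
  have o5 : orderOf z ∣ 9240 := orderOf_dvd_of_pow_eq_one (cauchy 19 9240 (by norm_num) (by norm_num))
  have o6 : orderOf z ∣ 21945 := orderOf_dvd_of_pow_eq_one E8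
  have g1 : orderOf z ∣ 11704 := by
    have := Nat.dvd_gcd o1 o2
    norm_num at this
    exact this
  have g2 : orderOf z ∣ 1672 := by
    have := Nat.dvd_gcd g1 o3
    norm_num at this
    exact this
  have g3 : orderOf z ∣ 152 := by
    have := Nat.dvd_gcd g2 o4
    norm_num at this
    exact this
  have g4 : orderOf z ∣ 8 := by
    have := Nat.dvd_gcd g3 o5
    norm_num at this
    exact this
  have g5 : orderOf z ∣ Nat.gcd 8 21945 := Nat.dvd_gcd g4 o6
  have h1 : Nat.gcd 8 21945 = 1 := by norm_num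
  rw [h1] at g5
  exact orderOf_eq_one_iff.mp (Nat.dvd_one.mp g5)

end ext

end Cfsg.Agent.Lib.Helper1.JMult
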