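import Mathlib
import Cfsg.Agent.Lib.Helper9.J1.Main
import Cfsg.Agent.Lib.Helper1.JmB

/-!
# The subgroup `2³ : 7` of the Janko group `J₁` through packed matrices (helper1)
-/

set_option autoImplicit false
set_option maxHeartbeats 2000000

namespace Cfsg.Agent.Lib.Helper1.JMult

open Cfsg Cfsg.Agent.Lib.Helper9.J1

/-- the generator attached to a letter -/
def genG (b : Bool) : GL (Fin 7) (ZMod 11) := if b then Spor.jankoX else Spor.jankoY

/-- the packed generator attached to a letter -/
def genP (b : Bool) : M7 := if b then PX else PY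

theorem genG_mem (b : Bool) : genG b ∈ Spor.J1 := by
  unfold genG
  cases b
  · exact Subgroup.subset_closure (by right; rfl)
  · exact Subgroup.subset_closure (by left; rfl)

theorem valid_genP (b : Bool) : Valid (genP b) := by
  unfold genP
  cases b
  · exact valid_basic.2.2.1
  · exact valid_basic.2.1

theorem coe_genG (b : Bool) : ((genG b : GL (Fin 7) (ZMod 11)) : Mat7) = toMat (genP b) := by
  unfold genG genP
  cases b
  · simp only [Bool.false_eq_true, if_false]
    rw [toMat_PY]; rfl
  · simp only [if_true]
    rw [toMat_PX]; rfl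

/-- the element of `GL₇(11)` of a word -/
def evG (w : List Bool) : GL (Fin 7) (ZMod 11) := w.foldl (fun A b => A * genG b) 1

theorem evP_eq (w : List Bool) : evP w = w.foldl (fun A b => mm A (genP b)) I7 := rfl

theorem fold_aux (w : List Bool) : ∀ (A : GL (Fin 7) (ZMod 11)) (P : M7), Valid P →
    (A : Mat7) = toMat P → A ∈ Spor.J1 →
    Valid (w.foldl (fun A b => mm A (genP b)) P) ∧
      ((w.foldl (fun A b => A * genG b) A : GL (Fin 7) (ZMod 11)) : Mat7) =
        toMat (w.foldl (fun A b => mm A (genP b)) P) ∧
      w.foldl (fun A b => A * genG b) A ∈ Spor.J1 := by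
  induction w with
  | nil =>
    intro A P hP hA hAm
    exact ⟨hP, hA, hAm⟩
  | cons b w ih =>
    intro A P hP hA hAm
    rw [List.foldl_cons, List.foldl_cons]
    apply ih
    · exact valid_mm P (genP b) hP (valid_genP b)
    · rw [toMat_mm P (genP b) hP (valid_genP b), ← hA, ← coe_genG]
      rfl
    · exact Spor.J1.mul_mem hAm (genG_mem b)

theorem coe_evG (w : List Bool) : ((evG w : GL (Fin 7) (ZMod 11)) : Mat7) = toMat (evP w) := by
  have := (fold_aux w 1 I7 valid_basic.1 (by rw [toMat_I7]; rfl) Spor.J1.one_mem).2.1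
  exact this

theorem evG_mem (w : List Bool) : evG w ∈ Spor.J1 :=
  (fold_aux w 1 I7 valid_basic.1 (by rw [toMat_I7]; rfl) Spor.J1.one_mem).2.2

theorem fold_mul (w : List Bool) : ∀ A : GL (Fin 7) (ZMod 11),
    w.foldl (fun A b => A * genG b) A = A * w.foldl (fun A b => A * genG b) 1 := by
  induction w with
  | nil => intro A; simp
  | cons b w ih =>
    intro A
    rw [List.foldl_cons, List.foldl_cons, ih (A * genG b), ih (1 * genG b), one_mul, mul_assoc]

theorem evG_append (w w' : List Bool) : evG (w ++ w') = evG w * evG w' := by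
  unfold evG
  rw [List.foldl_append, fold_mul w']

theorem evG_nil : evG [] = 1 := rfl

theorem eq_of_evP {w w' : List Bool} (h : evP w = evP w') : evG w = evG w' := by
  apply Units.ext
  rw [coe_evG, coe_evG, h]

theorem ne_of_toMat {w w' : List Bool} (h : toMat (evP w) ≠ toMat (evP w')) : evG w ≠ evG w' := by
  intro e
  apply h
  rw [← coe_evG, ← coe_evG, e]

/-- the word of the involution -/
def wE : List Bool := [true, false, true, false, false, false, false]

/-- the element of order seven -/
def gJ : ↥Spor.J1 := ⟨evG [true], evG_mem _⟩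

/-- the involution -/
def eJ : ↥Spor.J1 := ⟨evG wE, evG_mem _⟩

theorem eJ_ne_one : eJ ≠ 1 := by
  intro h
  have h1 : evG wE = evG [] := congrArg Subtype.val h
  exact ne_of_toMat (w := wE) (w' := []) (by decide +kernel) h1

theorem eJ_sq : eJ * eJ = 1 := by
  apply Subtype.ext
  show evG wE * evG wE = evG []
  rw [← evG_append]
  exact eq_of_evP (by decide +kernel)

theorem gJ_pow : gJ ^ 7 = 1 := by
  apply Subtype.ext
  show (evG [true]) ^ 7 = evG []
  have hp7 : ∀ x : GL (Fin 7) (ZMod 11), x ^ 7 = x * x * x * x * x * x * x := by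
    intro x
    simp only [pow_succ, pow_zero, one_mul]
  have : (evG [true]) ^ 7 = evG [true, true, true, true, true, true, true] := by
    rw [hp7]
    simp only [← evG_append]
    rfl
  rw [this]
  exact eq_of_evP (by decide +kernel)

theorem rel_J : eJ * gJ * eJ * gJ ^ 2 = gJ ^ 3 * eJ := by
  apply Subtype.ext
  show evG wE * evG [true] * evG wE * (evG [true]) ^ 2 = (evG [true]) ^ 3 * evG wE
  have h2 : (evG [true]) ^ 2 = evG [true, true] := by
    rw [pow_two, ← evG_append]
    rfl
  have h3 : (evG [true]) ^ 3 = evG [true, true, true] := by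
    rw [pow_succ, pow_two, ← evG_append, ← evG_append]
    rfl
  rw [h2, h3, ← evG_append, ← evG_append, ← evG_append, ← evG_append]
  exact eq_of_evP (by decide +kernel)

end Cfsg.Agent.Lib.Helper1.JMult
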