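import Mathlib
import Cfsg.Prelude.Def_ConjugacyFunctors
import Cfsg.Agent.S1975
import Cfsg.Agent.S1980

set_option autoImplicit false

/-! Transport of the K-infinity families along an injective homomorphism, interlacing of the
K-sequences of a subgroup containing all terms, invariance under isomorphisms. -/

namespace Cfsg.Agent.Lib.Helper1.KInf

open Cfsg

variable {Q : Type*} {P : Type*} [Group Q] [Group P]

lemma map_inf_centralizer (f : Q →* P) (hf : Function.Injective f) (B : Subgroup Q) :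
    (B ⊓ Subgroup.centralizer (B : Set Q)).map f =
      B.map f ⊓ Subgroup.centralizer ((B.map f : Subgroup P) : Set P) := by
  ext x
  constructor
  · rintro ⟨y, hy, rfl⟩
    obtain ⟨hyB, hyC⟩ := Subgroup.mem_inf.1 hy
    refine Subgroup.mem_inf.2 ⟨Subgroup.mem_map_of_mem f hyB, ?_⟩
    rw [Subgroup.mem_centralizer_iff]
    rintro _ ⟨b, hb, rfl⟩
    rw [Subgroup.mem_centralizer_iff] at hyC
    rw [← map_mul, ← map_mul, hyC b hb]
  · intro hx
    obtain ⟨⟨y, hyB, rfl⟩, hC⟩ := Subgroup.mem_inf.1 hx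
    refine ⟨y, Subgroup.mem_inf.2 ⟨hyB, ?_⟩, rfl⟩
    rw [Subgroup.mem_centralizer_iff] at hC ⊢
    intro b hb
    apply hf
    rw [map_mul, map_mul]
    exact hC _ (Subgroup.mem_map_of_mem f hb)

lemma le_normalizer_map_iff (f : Q →* P) (hf : Function.Injective f) (B A : Subgroup Q) :
    B.map f ≤ Subgroup.normalizer ((A.map f : Subgroup P) : Set P) ↔
      B ≤ Subgroup.normalizer (A : Set Q) := by
  constructor
  · intro h b hb
    have h1 := h (Subgroup.mem_map_of_mem f hb)
    rw [Subgroup.mem_normalizer_iff] at h1 ⊢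
    intro a
    have h2 := h1 (f a)
    rw [← map_inv, ← map_mul, ← map_mul, Subgroup.mem_map_iff_mem hf, Subgroup.mem_map_iff_mem hf] at h2
    exact h2
  · intro h
    rw [Subgroup.map_le_iff_le_comap]
    intro b hb
    have h1 := h hb
    rw [Subgroup.mem_comap]
    rw [Subgroup.mem_normalizer_iff] at h1 ⊢
    intro x
    constructor
    · rintro ⟨a, ha, rfl⟩
      exact ⟨b * a * b⁻¹, (h1 a).1 ha, by simp⟩
    · rintro ⟨a', ha', heq⟩
      refine ⟨b⁻¹ * a' * b, (h1 _).2 ?_, ?_⟩
      · have : b * (b⁻¹ * a' * b) * b⁻¹ = a' := by group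
        rw [this]; exact ha'
      · rw [map_mul, map_mul, heq, map_inv]; group

lemma classTwo_iff_le_inf {G : Type*} [Group G] (B : Subgroup G) :
    ⁅B, B⁆ ≤ Subgroup.centralizer (B : Set G) ↔ ⁅B, B⁆ ≤ B ⊓ Subgroup.centralizer (B : Set G) := by
  constructor
  · intro h
    refine le_inf ?_ h
    rw [Subgroup.commutator_le]
    intro a ha b hb
    exact B.mul_mem (B.mul_mem (B.mul_mem ha hb) (B.inv_mem ha)) (B.inv_mem hb)
  · intro h; exact h.trans inf_le_right

lemma classTwo_map_iff (f : Q →* P) (hf : Function.Injective f) (B : Subgroup Q) :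
    B.map f ∈ classTwoSubgroups P ↔ B ∈ classTwoSubgroups Q := by
  unfold classTwoSubgroups
  rw [Set.mem_ofPred_eq, Set.mem_ofPred_eq, classTwo_iff_le_inf, classTwo_iff_le_inf B,
    ← map_inf_centralizer f hf, ← Subgroup.map_commutator,
    Subgroup.map_le_map_iff_of_injective hf]

lemma upper_map_iff (f : Q →* P) (hf : Function.Injective f) (R B : Subgroup Q) :
    B.map f ∈ kUpperStarFamily (R.map f) ↔ B ∈ kUpperStarFamily R := by
  unfold kUpperStarFamily
  rw [Set.mem_ofPred_eq, Set.mem_ofPred_eq, classTwo_map_iff f hf, ← map_inf_centralizer f hf,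
    ← Subgroup.map_commutator, Subgroup.map_le_map_iff_of_injective hf]

lemma lower_map_iff (f : Q →* P) (hf : Function.Injective f) (R B : Subgroup Q) :
    B.map f ∈ kLowerStarFamily (R.map f) ↔ B ∈ kLowerStarFamily R := by
  unfold kLowerStarFamily
  rw [Set.mem_ofPred_eq, Set.mem_ofPred_eq, classTwo_map_iff f hf, le_normalizer_map_iff f hf]
  refine and_congr_right fun _ => and_congr_right fun _ => ?_
  have key : ∀ A : Subgroup Q,
      ((A.map f ∈ classTwoSubgroups P → A.map f ≤ R.map f →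
        B.map f ≤ Subgroup.normalizer ((A.map f : Subgroup P) : Set P) →
        ⁅B.map f, ⁅A.map f, A.map f⁆⁆ = ⊥ →
        ⁅⁅B.map f ⊓ Subgroup.centralizer ((B.map f : Subgroup P) : Set P), A.map f⁆, A.map f⁆ = ⊥ →
        ⁅B.map f, A.map f⁆ ≤ B.map f ⊓ Subgroup.centralizer ((B.map f : Subgroup P) : Set P)) ↔
      (A ∈ classTwoSubgroups Q → A ≤ R → B ≤ Subgroup.normalizer (A : Set Q) →
        ⁅B, ⁅A, A⁆⁆ = ⊥ → ⁅⁅B ⊓ Subgroup.centralizer (B : Set Q), A⁆, A⁆ = ⊥ →
        ⁅B, A⁆ ≤ B ⊓ Subgroup.centralizer (B : Set Q))) := by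
    intro A
    rw [classTwo_map_iff f hf, Subgroup.map_le_map_iff_of_injective hf, le_normalizer_map_iff f hf,
      ← map_inf_centralizer f hf, ← Subgroup.map_commutator, ← Subgroup.map_commutator,
      ← Subgroup.map_commutator, ← Subgroup.map_commutator, ← Subgroup.map_commutator,
      Subgroup.map_eq_bot_iff_of_injective _ hf, Subgroup.map_eq_bot_iff_of_injective _ hf,
      Subgroup.map_le_map_iff_of_injective hf]
  constructor
  · intro h A
    exact (key A).1 (h (A.map f))
  · intro h A hA hAR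
    have hAr : A ≤ f.range := hAR.trans (Subgroup.map_le_range f R)
    obtain ⟨A', rfl⟩ : ∃ A' : Subgroup Q, A = A'.map f :=
      ⟨A.comap f, (Subgroup.map_comap_eq_self hAr).symm⟩
    exact (key A').2 (h A') hA hAR

lemma map_sSup_lower (f : Q →* P) (hf : Function.Injective f) (R : Subgroup Q) :
    (sSup (kLowerStarFamily R)).map f =
      sSup {B | B ∈ kLowerStarFamily (R.map f) ∧ B ≤ f.range} := by
  apply le_antisymm
  · rw [Subgroup.map_le_iff_le_comap]
    apply sSup_le
    intro B hB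
    rw [← Subgroup.map_le_iff_le_comap]
    exact le_sSup ⟨(lower_map_iff f hf R B).2 hB, Subgroup.map_le_range f B⟩
  · apply sSup_le
    rintro B ⟨hB, hBr⟩
    obtain ⟨B', rfl⟩ : ∃ B' : Subgroup Q, B = B'.map f :=
      ⟨B.comap f, (Subgroup.map_comap_eq_self hBr).symm⟩
    exact Subgroup.map_mono (le_sSup ((lower_map_iff f hf R B').1 hB))

lemma map_sSup_upper (f : Q →* P) (hf : Function.Injective f) (R : Subgroup Q) :
    (sSup (kUpperStarFamily R)).map f =
      sSup {B | B ∈ kUpperStarFamily (R.map f) ∧ B ≤ f.range} := by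
  apply le_antisymm
  · rw [Subgroup.map_le_iff_le_comap]
    apply sSup_le
    intro B hB
    rw [← Subgroup.map_le_iff_le_comap]
    exact le_sSup ⟨(upper_map_iff f hf R B).2 hB, Subgroup.map_le_range f B⟩
  · apply sSup_le
    rintro B ⟨hB, hBr⟩
    obtain ⟨B', rfl⟩ : ∃ B' : Subgroup Q, B = B'.map f :=
      ⟨B.comap f, (Subgroup.map_comap_eq_self hBr).symm⟩
    exact Subgroup.map_mono (le_sSup ((upper_map_iff f hf R B').1 hB))

lemma kSeqOdd_succ (P : Type*) [Group P] (n : ℕ) :
    kSeqOdd P (n + 1) = sSup (kUpperStarFamily (kSeqEven P n)) := rfl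

lemma kSeqEven_def (P : Type*) [Group P] (n : ℕ) :
    kSeqEven P n = sSup (kLowerStarFamily (kSeqOdd P n)) := rfl

section interlace

variable (f : Q →* P) (hf : Function.Injective f)
  (hQ : ∀ n : ℕ, kSeqEven P n ≤ f.range ∧ kSeqOdd P (n + 1) ≤ f.range)

include hf hQ

lemma interlace_stepA (n : ℕ) (h : (kSeqOdd Q n).map f ≤ kSeqOdd P n) :
    kSeqEven P n ≤ (kSeqEven Q n).map f := by
  rw [kSeqEven_def Q, map_sSup_lower f hf, kSeqEven_def P]
  apply sSup_le
  intro B hB
  refine le_sSup ⟨Cfsg.Agent.S1975.lower_anti h hB, ?_⟩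
  exact (le_sSup hB).trans (hQ n).1

omit hQ in
lemma interlace_stepB (n : ℕ) (h : kSeqEven P n ≤ (kSeqEven Q n).map f) :
    (kSeqOdd Q (n + 1)).map f ≤ kSeqOdd P (n + 1) := by
  rw [kSeqOdd_succ Q, map_sSup_upper f hf, kSeqOdd_succ P]
  apply sSup_le
  rintro B ⟨hB, -⟩
  exact le_sSup (Cfsg.Agent.S1975.upper_anti h hB)

lemma interlace1_odd (n : ℕ) : (kSeqOdd Q n).map f ≤ kSeqOdd P n := by
  induction n with
  | zero => exact le_top
  | succ n ih => exact interlace_stepB f hf n (interlace_stepA f hf hQ n ih)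

lemma interlace1_even (n : ℕ) : kSeqEven P n ≤ (kSeqEven Q n).map f :=
  interlace_stepA f hf hQ n (interlace1_odd f hf hQ n)

omit hQ in
lemma interlace_stepA' (n : ℕ) (h : kSeqOdd P (n + 1) ≤ (kSeqOdd Q n).map f) :
    (kSeqEven Q n).map f ≤ kSeqEven P (n + 1) := by
  rw [kSeqEven_def Q, map_sSup_lower f hf, kSeqEven_def P]
  apply sSup_le
  rintro B ⟨hB, -⟩
  exact le_sSup (Cfsg.Agent.S1975.lower_anti h hB)

lemma interlace_stepB' (n : ℕ) (h : (kSeqEven Q n).map f ≤ kSeqEven P (n + 1)) :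
    kSeqOdd P (n + 2) ≤ (kSeqOdd Q (n + 1)).map f := by
  rw [kSeqOdd_succ Q, map_sSup_upper f hf, kSeqOdd_succ P]
  apply sSup_le
  intro B hB
  refine le_sSup ⟨Cfsg.Agent.S1975.upper_anti h hB, ?_⟩
  exact (le_sSup hB).trans (hQ (n + 1)).2

lemma interlace2_odd (n : ℕ) : kSeqOdd P (n + 1) ≤ (kSeqOdd Q n).map f := by
  induction n with
  | zero =>
    have : (kSeqOdd Q 0).map f = f.range := by
      show (⊤ : Subgroup Q).map f = f.range
      rw [← MonoidHom.range_eq_map]
    rw [this]; exact (hQ 0).2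
  | succ n ih => exact interlace_stepB' f hf hQ n (interlace_stepA' f hf n ih)

lemma interlace2_even (n : ℕ) : (kSeqEven Q n).map f ≤ kSeqEven P (n + 1) :=
  interlace_stepA' f hf n (interlace2_odd f hf hQ n)

end interlace

theorem map_kInfLower {Q P : Type _} [Group Q] [Group P] (f : Q →* P) (hf : Function.Injective f)
    (hQ : ∀ n : ℕ, kSeqEven P n ≤ f.range ∧ kSeqOdd P (n + 1) ≤ f.range) :
    (kInfLower Q).map f = kInfLower P := by
  unfold kInfLower
  rw [Subgroup.map_iSup]
  apply le_antisymm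
  · exact iSup_le fun n => (interlace2_even f hf hQ n).trans (le_iSup (kSeqEven P) (n + 1))
  · exact iSup_le fun n => (interlace1_even f hf hQ n).trans
      (le_iSup (fun n => (kSeqEven Q n).map f) n)

theorem map_kInfUpper {Q P : Type _} [Group Q] [Group P] (f : Q →* P) (hf : Function.Injective f)
    (hQ : ∀ n : ℕ, kSeqEven P n ≤ f.range ∧ kSeqOdd P (n + 1) ≤ f.range) :
    (kInfUpper Q).map f = kInfUpper P := by
  unfold kInfUpper
  rw [Subgroup.map_iInf f hf]
  apply le_antisymm
  · refine le_iInf fun n => ?_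
    exact (iInf_le _ n).trans (interlace1_odd f hf hQ n)
  · refine le_iInf fun n => ?_
    exact (iInf_le _ (n + 1)).trans (interlace2_odd f hf hQ n)


theorem map_equiv_kInfLower {Q P : Type _} [Group Q] [Group P] (e : Q ≃* P) :
    (kInfLower Q).map e.toMonoidHom = kInfLower P := by
  refine map_kInfLower e.toMonoidHom e.injective ?_
  intro n
  have : e.toMonoidHom.range = ⊤ := MonoidHom.range_eq_top.2 e.surjective
  rw [this]; exact ⟨le_top, le_top⟩

theorem map_equiv_kInfUpper {Q P : Type _} [Group Q] [Group P] (e : Q ≃* P) :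
    (kInfUpper Q).map e.toMonoidHom = kInfUpper P := by
  refine map_kInfUpper e.toMonoidHom e.injective ?_
  intro n
  have : e.toMonoidHom.range = ⊤ := MonoidHom.range_eq_top.2 e.surjective
  rw [this]; exact ⟨le_top, le_top⟩

end Cfsg.Agent.Lib.Helper1.KInf
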