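import Mathlib
import Cfsg.Agent.Lib.Helper1.KInf
import Cfsg.Agent.Lib.Helper1.SectionTransfer
import Cfsg.Agent.S1978
import Cfsg.Prelude.Def_Amalgam
import Cfsg.Prelude.Def_PLocal

set_option autoImplicit false

/-! The K-infinity functors are isomorphism-invariant p-group functors; the "quadratic offender"
criterion for normality of K-infinity of a Sylow subgroup. -/

namespace Cfsg.Agent.Lib.Helper1.KInfC

open Cfsg Cfsg.Agent.Lib.Helper1.KInf Cfsg.Agent.Lib.Helper1.SecT

universe u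

variable {p : ℕ} [Fact p.Prime]

theorem center_le_kInfLower {P : Type u} [Group P] [Finite P] (hP : IsPGroup p P) :
    Subgroup.center P ≤ kInfLower P := by
  obtain ⟨h1, h2, -, -⟩ := Cfsg.Agent.S1978.result hP
  exact h2.trans h1

theorem center_le_kInfUpper {P : Type u} [Group P] [Finite P] (hP : IsPGroup p P) :
    Subgroup.center P ≤ kInfUpper P := by
  obtain ⟨-, -, h1, h2⟩ := Cfsg.Agent.S1978.result hP
  exact h2.trans h1

theorem isCharPFunctor_kInfLower : IsCharPFunctor.{u} p kInfLower := by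
  refine ⟨?_, ?_⟩
  · intro Q _ _ hQ hnt hbot
    have h := center_le_kInfLower hQ
    rw [hbot] at h
    have hn := hQ.center_nontrivial
    have : Subgroup.center Q = ⊥ := le_bot_iff.1 h
    rw [this] at hn
    exact not_nontrivial _ hn
  · intro Q R _ _ _ hQ φ
    exact map_equiv_kInfLower φ

theorem isCharPFunctor_kInfUpper : IsCharPFunctor.{u} p kInfUpper := by
  refine ⟨?_, ?_⟩
  · intro Q _ _ hQ hnt hbot
    have h := center_le_kInfUpper hQ
    rw [hbot] at h
    have hn := hQ.center_nontrivial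
    have : Subgroup.center Q = ⊥ := le_bot_iff.1 h
    rw [this] at hn
    exact not_nontrivial _ hn
  · intro Q R _ _ _ hQ φ
    exact map_equiv_kInfUpper φ

/-- `Z(P) ≤ W(P)` for the induced functor of a functor containing centres. -/
theorem center_le_induced {G : Type u} [Group G] [Finite G] (W : ∀ (Q : Type u) [Group Q], Subgroup Q)
    (hWc : ∀ (P : Type u) [Group P] [Finite P], IsPGroup p P → Subgroup.center P ≤ W P)
    (P : Subgroup G) (hP : IsPGroup p ↥P) :
    P ⊓ Subgroup.centralizer ((P : Subgroup G) : Set G) ≤ inducedFunctor W P := by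
  intro x hx
  obtain ⟨hxP, hxC⟩ := Subgroup.mem_inf.1 hx
  refine ⟨⟨x, hxP⟩, ?_, rfl⟩
  apply hWc ↥P hP
  rw [Subgroup.mem_center_iff]
  intro y
  apply Subtype.ext
  exact Subgroup.mem_centralizer_iff.1 hxC y y.2

/-- Theorem Kb: if every element of `S` acting quadratically on `Z(O_p(X))` lies in `O_p(X)` then
`W(S)` is normal in `X`, for `W` one of the K-infinity functors. -/
theorem kb_normal {X : Type u} [Group X] [Finite X] (W : ∀ (Q : Type u) [Group Q], Subgroup Q)
    (hW : IsCharPFunctor.{u} p W)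
    (hsub : ∀ (P : Type u) [Group P] [Finite P], IsPGroup p P → ∀ Q : Subgroup P,
      (∀ n : ℕ, kSeqEven P n ≤ Q ∧ kSeqOdd P (n + 1) ≤ Q) → (W ↥Q).map Q.subtype = W P)
    (S : Sylow p X)
    (hq : ∀ g ∈ (S : Subgroup X),
      ⁅⁅pCore p X ⊓ Subgroup.centralizer ((pCore p X : Subgroup X) : Set X), Subgroup.zpowers g⁆,
        Subgroup.zpowers g⁆ = ⊥ → g ∈ pCore p X) :
    (inducedFunctor W (S : Subgroup X)).Normal := by
  haveI hTn : (pCore p X).Normal := Cfsg.Agent.Lib.Helper2.pCore_normal p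
  set T := pCore p X with hT
  have hTS : T ≤ (S : Subgroup X) := Cfsg.Agent.Lib.Helper2.pCore_le_sylow p S
  haveI hCn : (Subgroup.centralizer ((T : Subgroup X) : Set X)).Normal := Subgroup.normal_centralizer
  set Z := T ⊓ Subgroup.centralizer ((T : Subgroup X) : Set X) with hZ
  haveI hZn : Z.Normal := inferInstance
  have hZS : Z ≤ (S : Subgroup X) := inf_le_left.trans hTS
  have hP : IsPGroup p ↥(S : Subgroup X) := S.isPGroup'
  set Q : Subgroup ↥(S : Subgroup X) := T.subgroupOf S with hQ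
  set Z' : Subgroup ↥(S : Subgroup X) := Z.subgroupOf S with hZ'
  haveI hZ'n : Z'.Normal := inferInstance
  have hZ'c : IsMulCommutative ↥Z' := by
    refine ⟨⟨fun a b => ?_⟩⟩
    apply Subtype.ext
    apply Subtype.ext
    have ha : ((a : ↥(S : Subgroup X)) : X) ∈ Z := a.2
    have hb : ((b : ↥(S : Subgroup X)) : X) ∈ Z := b.2
    exact (Subgroup.mem_centralizer_iff.1 (Subgroup.mem_inf.1 hb).2 _ (Subgroup.mem_inf.1 ha).1)
  have keyB : ∀ B : Subgroup ↥(S : Subgroup X),
      ⁅B, Z'⁆ ≤ B ⊓ Subgroup.centralizer (B : Set ↥(S : Subgroup X)) → B ≤ Q := by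
    intro B hB b hb
    show (b : X) ∈ T
    apply hq (b : X) b.2
    have h1 : ⁅⁅Z', Subgroup.zpowers b⁆, Subgroup.zpowers b⁆ = ⊥ := by
      rw [eq_bot_iff]
      have hzb : Subgroup.zpowers b ≤ B := (Subgroup.zpowers_le).2 hb
      calc ⁅⁅Z', Subgroup.zpowers b⁆, Subgroup.zpowers b⁆ ≤ ⁅⁅Z', B⁆, B⁆ :=
            Subgroup.commutator_mono (Subgroup.commutator_mono le_rfl hzb) hzb
        _ ≤ ⁅B ⊓ Subgroup.centralizer (B : Set ↥(S : Subgroup X)), B⁆ :=
            Subgroup.commutator_mono (by rw [Subgroup.commutator_comm]; exact hB) le_rfl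
        _ = ⊥ := Subgroup.commutator_eq_bot_iff_le_centralizer.2 inf_le_right
    have h2 := congrArg (Subgroup.map (S : Subgroup X).subtype) h1
    rw [Subgroup.map_commutator, Subgroup.map_commutator, MonoidHom.map_zpowers, Subgroup.map_bot,
      Subgroup.map_subgroupOf_eq_of_le hZS] at h2
    exact h2
  have h80 := Cfsg.Agent.S1980.result hP Z' hZ'c
  have hZterms : ∀ n, Z' ≤ kSeqOdd ↥(S : Subgroup X) n ∧ Z' ≤ kSeqEven ↥(S : Subgroup X) n := by
    intro n
    constructor
    · cases n with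
      | zero => exact le_top
      | succ n => exact le_sSup (h80.2 n).2
    · exact le_sSup (h80.2 n).1
  have hZZ : ⁅Z', Z'⁆ = ⊥ :=
    Subgroup.commutator_eq_bot_iff_le_centralizer.2 (Cfsg.Agent.S1980.abelian_le_centralizer Z' hZ'c)
  have hall : ∀ n : ℕ, kSeqEven ↥(S : Subgroup X) n ≤ Q ∧ kSeqOdd ↥(S : Subgroup X) (n + 1) ≤ Q := by
    intro n
    constructor
    · apply sSup_le
      intro B hB
      apply keyB
      apply hB.2.2 Z' h80.1 (hZterms n).1
      · rw [Subgroup.normalizer_eq_top_iff.2 hZ'n]; exact le_top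
      · rw [hZZ]; exact Subgroup.commutator_bot_right _
      · rw [eq_bot_iff, ← hZZ]
        exact Subgroup.commutator_mono (Subgroup.commutator_le_right _ _) le_rfl
    · rw [kSeqOdd_succ]
      apply sSup_le
      intro B hB
      apply keyB
      exact (Subgroup.commutator_mono le_rfl (hZterms n).2).trans hB.2
  have h79 := hsub ↥(S : Subgroup X) hP Q hall
  have hST : inducedFunctor W (S : Subgroup X) = inducedFunctor W T := by
    unfold inducedFunctor
    rw [← h79, Subgroup.map_map]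
    let e : ↥Q ≃* ↥T := Subgroup.subgroupOfEquivOfLe hTS
    rw [← hW.2 ↥Q ↥T (hP.to_subgroup Q) e, Subgroup.map_map]
    congr 1
  rw [hST]
  obtain ⟨-, -, h3⟩ := isConjugacyFunctor_induced (X := X) W hW T (Cfsg.Agent.Lib.Helper2.pCore_isPGroup p)
  constructor
  intro x hx g
  have h4 := h3 g
  have hTg : T.map (MulAut.conj g).toMonoidHom = T := by
    apply le_antisymm
    · rintro _ ⟨t, ht, rfl⟩
      exact hTn.conj_mem t ht g
    · intro t ht
      refine ⟨g⁻¹ * t * g, ?_, ?_⟩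
      · have := hTn.conj_mem t ht g⁻¹
        rwa [inv_inv] at this
      · simp [mul_assoc]
  rw [hTg] at h4
  rw [h4]
  exact ⟨x, hx, rfl⟩

/-- Contrapositive form. -/
theorem exists_quadratic_of_not_normal {X : Type u} [Group X] [Finite X]
    (W : ∀ (Q : Type u) [Group Q], Subgroup Q) (hW : IsCharPFunctor.{u} p W)
    (hsub : ∀ (P : Type u) [Group P] [Finite P], IsPGroup p P → ∀ Q : Subgroup P,
      (∀ n : ℕ, kSeqEven P n ≤ Q ∧ kSeqOdd P (n + 1) ≤ Q) → (W ↥Q).map Q.subtype = W P)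
    (S : Sylow p X) (hn : ¬ (inducedFunctor W (S : Subgroup X)).Normal) :
    ∃ g : X, g ∈ (S : Subgroup X) ∧ g ∉ pCore p X ∧
      ⁅⁅pCore p X ⊓ Subgroup.centralizer ((pCore p X : Subgroup X) : Set X), Subgroup.zpowers g⁆,
        Subgroup.zpowers g⁆ = ⊥ := by
  by_contra hcon
  apply hn
  apply kb_normal W hW hsub S
  intro g hg hq
  by_contra hgT
  exact hcon ⟨g, hg, hgT, hq⟩

/-- The local hypothesis of the weak closure theorems, for the functor induced by `W₀`. -/
theorem hloc_quadratic {G : Type u} [Group G] [Finite G] (W₀ : ∀ (Q : Type u) [Group Q], Subgroup Q)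
    (hW₀ : IsCharPFunctor.{u} p W₀)
    (hsub : ∀ (P : Type u) [Group P] [Finite P], IsPGroup p P → ∀ Q : Subgroup P,
      (∀ n : ℕ, kSeqEven P n ≤ Q ∧ kSeqOdd P (n + 1) ≤ Q) → (W₀ ↥Q).map Q.subtype = W₀ P)
    (H T : Subgroup G) (hTH : T ≤ H) (hTp : IsPGroup p ↥T) (hTs : ¬ p ∣ T.relIndex H)
    (hnot : ¬ H ≤ Subgroup.normalizer ((inducedFunctor W₀ T : Subgroup G) : Set G)) :
    ∃ g : G, g ∈ T ∧ g ∉ pCoreOf p H ∧
      ⁅⁅pCoreOf p H ⊓ Subgroup.centralizer ((pCoreOf p H : Subgroup G) : Set G), Subgroup.zpowers g⁆,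
        Subgroup.zpowers g⁆ = ⊥ := by
  have hT'p : IsPGroup p ↥(T.subgroupOf H) :=
    hTp.comap_of_injective (H.subtype) H.subtype_injective |>.to_le (by
      intro x hx; exact hx)
  have hT's : ¬ p ∣ (T.subgroupOf H).index := hTs
  set S' : Sylow p ↥H := hT'p.toSylow hT's with hS'
  have hS'c : (S' : Subgroup ↥H) = T.subgroupOf H := IsPGroup.toSylow_coe _ _
  have hmapT : (T.subgroupOf H).map H.subtype = T := Subgroup.map_subgroupOf_eq_of_le hTH
  have hind : (inducedFunctor W₀ (T.subgroupOf H)).map H.subtype = inducedFunctor W₀ T := by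
    rw [induced_map_inj W₀ hW₀ H.subtype H.subtype_injective _ hT'p, hmapT]
  have hn' : ¬ (inducedFunctor W₀ (S' : Subgroup ↥H)).Normal := by
    intro hnorm
    apply hnot
    intro h hh
    rw [← hind]
    apply Subgroup.mem_normalizer_fintype
    rintro _ ⟨y, hy, rfl⟩
    rw [hS'c] at hnorm
    exact ⟨(⟨h, hh⟩ : ↥H) * y * (⟨h, hh⟩ : ↥H)⁻¹, hnorm.conj_mem y hy _, rfl⟩
  obtain ⟨g', hg'S, hg'P, hg'q⟩ := exists_quadratic_of_not_normal W₀ hW₀ hsub S' hn'
  refine ⟨(g' : G), ?_, ?_, ?_⟩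
  · rw [hS'c] at hg'S
    exact hg'S
  · intro hmem
    exact hg'P ((Subgroup.mem_map_iff_mem H.subtype_injective).1 hmem)
  · have h2 := congrArg (Subgroup.map H.subtype) hg'q
    rw [Subgroup.map_commutator, Subgroup.map_commutator, MonoidHom.map_zpowers, Subgroup.map_bot,
      map_inf_centralizer H.subtype H.subtype_injective] at h2
    exact h2

theorem iterCommutator_eq_bot_of_two {L : Type*} [Group L] (N K : Subgroup L)
    (h : ⁅⁅N, K⁆, K⁆ = ⊥) (n : ℕ) (hn : 2 ≤ n) : iterCommutator N K n = ⊥ := by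
  obtain ⟨k, rfl⟩ := Nat.exists_eq_add_of_le hn
  induction k with
  | zero => exact h
  | succ k ih =>
    show ⁅iterCommutator N K (2 + k), K⁆ = ⊥
    rw [ih (by omega)]
    exact Subgroup.commutator_bot_left _


theorem hsub_lower (P : Type u) [Group P] [Finite P] (hP : IsPGroup p P) (Q : Subgroup P)
    (hQ : ∀ n : ℕ, kSeqEven P n ≤ Q ∧ kSeqOdd P (n + 1) ≤ Q) :
    (kInfLower ↥Q).map Q.subtype = kInfLower P := by
  have hr : Q.subtype.range = Q := Subgroup.range_subtype Q
  apply map_kInfLower Q.subtype Q.subtype_injective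
  rw [hr]; exact hQ

theorem hsub_upper (P : Type u) [Group P] [Finite P] (hP : IsPGroup p P) (Q : Subgroup P)
    (hQ : ∀ n : ℕ, kSeqEven P n ≤ Q ∧ kSeqOdd P (n + 1) ≤ Q) :
    (kInfUpper ↥Q).map Q.subtype = kInfUpper P := by
  have hr : Q.subtype.range = Q := Subgroup.range_subtype Q
  apply map_kInfUpper Q.subtype Q.subtype_injective
  rw [hr]; exact hQ

end Cfsg.Agent.Lib.Helper1.KInfC
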