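import Mathlib
import Cfsg.Agent.Lib.Helper1.ThompsonAxB
import Cfsg.Agent.Lib.Helper11.PGroupFrattini
import Cfsg.Agent.S0096

set_option autoImplicit false

namespace Cfsg.Agent.Lib.Helper1

open scoped commutatorElement

/-- In a group where commutators and `p`-th powers are central (`p` an odd prime), the `p`-th
power map is multiplicative. -/
theorem mul_pow_prime_of_central {P : Type*} [Group P] {p : ℕ} (hp : p.Prime) (hp2 : p ≠ 2)
    (hcen : ∀ a b : P, ⁅a, b⁆ ∈ Subgroup.center P) (hpow : ∀ a : P, a ^ p ∈ Subgroup.center P)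
    (x y : P) : (x * y) ^ p = x ^ p * y ^ p := by
  have hc := hcen y x
  have hcp : ⁅y, x⁆ ^ p = 1 := by
    have h1 := Cfsg.Agent.S0094.pow_mul_eq_of_commutator_central y x hc p
    have h2 : y ^ p * x = x * y ^ p := (Subgroup.mem_center_iff.mp (hpow y) x).symm
    rw [h2, mul_assoc] at h1
    have h3 : 1 * (x * y ^ p) = ⁅y, x⁆ ^ p * (x * y ^ p) := by rw [one_mul]; exact h1
    exact (mul_right_cancel h3).symm
  rw [Cfsg.Agent.S0096.mul_pow_of_commutator_central x y hc p]
  obtain ⟨k, hk⟩ := Cfsg.Agent.S0096.dvd_sum_range_of_odd_prime hp hp2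
  rw [hk, pow_mul, hcp, one_pow, mul_one]

/-- Conjugation by an element of the normalizer, as an automorphism of the subgroup. -/
def conjNormalizer {G : Type*} [Group G] (P : Subgroup G) (a : G)
    (ha : a ∈ Subgroup.normalizer (P : Set G)) : P ≃* P where
  toFun x := ⟨a * x * a⁻¹, (Subgroup.mem_normalizer_iff.mp ha x).mp x.2⟩
  invFun x := ⟨a⁻¹ * x * a, by
    have := (Subgroup.mem_normalizer_iff.mp (inv_mem ha) x).mp x.2
    simpa using this⟩
  left_inv x := by ext; simp [mul_assoc]
  right_inv x := by ext; simp [mul_assoc]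
  map_mul' x y := by ext; simp [mul_assoc]

@[simp] theorem conjNormalizer_coe {G : Type*} [Group G] (P : Subgroup G) (a : G)
    (ha : a ∈ Subgroup.normalizer (P : Set G)) (x : P) :
    ((conjNormalizer P a ha x : P) : G) = a * x * a⁻¹ := rfl

/-- The normalizer of `P` normalizes the image of every characteristic subgroup of `P`. -/
theorem mem_normalizer_map_of_characteristic {G : Type*} [Group G] (P : Subgroup G)
    (K : Subgroup P) [hK : K.Characteristic] (a : G) (ha : a ∈ Subgroup.normalizer (P : Set G)) :
    a ∈ Subgroup.normalizer ((K.map P.subtype : Subgroup G) : Set G) := by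
  have key : ∀ b : G, ∀ hb : b ∈ Subgroup.normalizer (P : Set G), ∀ x ∈ K.map P.subtype,
      b * x * b⁻¹ ∈ K.map P.subtype := by
    intro b hb x hx
    obtain ⟨y, hy, rfl⟩ := hx
    refine ⟨conjNormalizer P b hb y, ?_, rfl⟩
    have h1 := hK.fixed (conjNormalizer P b hb)
    have h2 : y ∈ K.comap (conjNormalizer P b hb).toMonoidHom := by rw [h1]; exact hy
    exact h2
  rw [Subgroup.mem_normalizer_iff]
  intro x
  constructor
  · exact key a ha x
  · intro hx
    have := key a⁻¹ (inv_mem ha) _ hx
    have e : a⁻¹ * (a * x * a⁻¹) * a⁻¹⁻¹ = x := by group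
    rwa [e] at this

/-- The Frattini subgroup of a nontrivial finite group is proper. -/
theorem map_frattini_lt {G : Type*} [Group G] [Finite G] (P : Subgroup G) (hne : P ≠ ⊥) :
    (frattini P).map P.subtype < P := by
  have hnt : Nontrivial P := (Subgroup.nontrivial_iff_ne_bot P).mpr hne
  have hle : (frattini P).map P.subtype ≤ P := Subgroup.map_subtype_le _
  refine lt_of_le_of_ne hle ?_
  intro heq
  have htop : frattini P = ⊤ := by
    rw [eq_top_iff]
    intro x _
    have hx : (x : G) ∈ (frattini P).map P.subtype := by rw [heq]; exact x.2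
    obtain ⟨y, hy, hyx⟩ := hx
    have : y = x := Subtype.ext hyx
    rw [← this]; exact hy
  rcases IsCoatomic.eq_top_or_exists_le_coatom (⊥ : Subgroup P) with h | ⟨M, hM, _⟩
  · exact bot_ne_top h
  · have := frattini_le_coatom hM
    rw [htop, top_le_iff] at this
    exact hM.1 this

/-- If `X ≤ P` is normalized by `P`, centralized by `A`, and `[P, A] = P`, then `X` is central
in `P`. -/
theorem le_centralizer_of_commutator_eq {G : Type*} [Group G] (P A X : Subgroup G)
    (hXP : P ≤ Subgroup.normalizer (X : Set G))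
    (hAX : A ≤ Subgroup.centralizer (X : Set G)) (hPA : ⁅P, A⁆ = P) :
    X ≤ Subgroup.centralizer (P : Set G) := by
  have hXA : ⁅X, A⁆ = ⊥ := by
    rw [Subgroup.commutator_eq_bot_iff_le_centralizer]
    exact Subgroup.le_centralizer_iff.mp hAX
  have h1 : ⁅⁅A, X⁆, P⁆ = ⊥ := by
    rw [Subgroup.commutator_comm A X, hXA, Subgroup.commutator_bot_left]
  have h2 : ⁅⁅X, P⁆, A⁆ = ⊥ := by
    have hle : ⁅X, P⁆ ≤ X := Subgroup.le_normalizer_iff_commutator_le_left.mp hXP
    rw [eq_bot_iff, ← hXA]
    exact Subgroup.commutator_mono hle le_rfl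
  have h3 : ⁅⁅P, A⁆, X⁆ = ⊥ := Subgroup.commutator_commutator_eq_bot_of_rotate h1 h2
  rw [hPA, Subgroup.commutator_eq_bot_iff_le_centralizer] at h3
  exact Subgroup.le_centralizer_iff.mp h3

/-- For odd `p`, a `p'`-group `A` normalizing the `p`-group `P` and centralizing all elements
of `P` of order dividing `p` centralizes `P` (internal version). -/
theorem centralizes_of_centralizes_omega_one {G : Type*} [Group G] [Finite G] (p : ℕ)
    [Fact p.Prime] (hp : p ≠ 2) (A : Subgroup G) (hAcop : (Nat.card A).Coprime p) :
    ∀ (n : ℕ) (P : Subgroup G), Nat.card P = n → IsPGroup p P →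
      A ≤ Subgroup.normalizer (P : Set G) →
      (∀ x ∈ P, x ^ p = 1 → A ≤ Subgroup.centralizer ({x} : Set G)) →
      A ≤ Subgroup.centralizer (P : Set G) := by
  intro n
  induction n using Nat.strong_induction_on with
  | _ n ih =>
    intro P hn hP hAP hfix
    have hcopP := coprime_card_of_isPGroup p A P hP hAcop
    -- conclusion from `[P, A, A] = 1`
    have finish : ⁅⁅P, A⁆, A⁆ = ⊥ → A ≤ Subgroup.centralizer (P : Set G) := by
      intro h6
      have h7 : ⁅P, A⁆ = ⊥ := commutator_eq_bot_of_commutator_commutator_eq_bot P A hAP hcopP h6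
      rw [Subgroup.commutator_eq_bot_iff_le_centralizer] at h7
      exact Subgroup.le_centralizer_iff.mp h7
    -- induction hypothesis for A-invariant proper subgroups
    have ihQ : ∀ Q : Subgroup G, Q < P → A ≤ Subgroup.normalizer (Q : Set G) →
        A ≤ Subgroup.centralizer (Q : Set G) := by
      intro Q hQ hAQ
      exact ih _ (hn ▸ natCard_lt_of_lt hQ) Q rfl (hP.to_le hQ.le) hAQ
        (fun x hx hxp => hfix x (hQ.le hx) hxp)
    by_cases hne : P = ⊥
    · rw [hne]
      intro a _
      rw [Subgroup.mem_centralizer_iff]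
      intro h hh
      have : h = 1 := by simpa using hh
      rw [this, one_mul, mul_one]
    have hPAle : ⁅P, A⁆ ≤ P := Subgroup.le_normalizer_iff_commutator_le_left.mp hAP
    rcases lt_or_eq_of_le hPAle with hlt | heq
    · -- `[P, A] < P`
      have h1 := ihQ ⁅P, A⁆ hlt (Subgroup.normalizer_commutator_ge_right P A)
      apply finish
      rw [Subgroup.commutator_eq_bot_iff_le_centralizer]
      exact Subgroup.le_centralizer_iff.mp h1
    · -- `[P, A] = P`
      have hD : ⁅P, P⁆ < P := commutator_lt_of_isPGroup p P P hP hP Subgroup.le_normalizer hne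
      have hAD : A ≤ Subgroup.centralizer ((⁅P, P⁆ : Subgroup G) : Set G) :=
        ihQ _ hD (fun a ha => mem_normalizer_commutator P P a (hAP ha) (hAP ha))
      have hΦ := map_frattini_lt P hne
      have hAΦ : A ≤ Subgroup.centralizer (((frattini P).map P.subtype : Subgroup G) : Set G) :=
        ihQ _ hΦ (fun a ha => mem_normalizer_map_of_characteristic P (frattini P) a (hAP ha))
      have hDc : ⁅P, P⁆ ≤ Subgroup.centralizer (P : Set G) :=
        le_centralizer_of_commutator_eq P A ⁅P, P⁆
          (Subgroup.normalizer_commutator_ge_left P P) hAD heq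
      have hΦc : (frattini P).map P.subtype ≤ Subgroup.centralizer (P : Set G) :=
        le_centralizer_of_commutator_eq P A _
          (fun x hx => mem_normalizer_map_of_characteristic P (frattini P) x
            (Subgroup.le_normalizer hx)) hAΦ heq
      -- centrality inside the type `P`
      have hcen : ∀ a b : P, ⁅a, b⁆ ∈ Subgroup.center P := by
        intro a b
        rw [Subgroup.mem_center_iff]
        intro g
        have h1 : ((⁅a, b⁆ : P) : G) ∈ ⁅P, P⁆ := by
          have : ((⁅a, b⁆ : P) : G) = ⁅(a : G), (b : G)⁆ := by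
            simp [commutatorElement_def]
          rw [this]
          exact Subgroup.commutator_mem_commutator a.2 b.2
        have h2 := hDc h1
        rw [Subgroup.mem_centralizer_iff] at h2
        apply Subtype.ext
        have := h2 (g : G) g.2
        simpa using this
      have hpowΦ : ∀ a : P, ((a ^ p : P) : G) ∈ (frattini P).map P.subtype := fun a =>
        ⟨a ^ p, Cfsg.Agent.Lib.Helper11.pow_mem_frattini_of_isPGroup hP a, rfl⟩
      have hpow : ∀ a : P, a ^ p ∈ Subgroup.center P := by
        intro a
        rw [Subgroup.mem_center_iff]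
        intro g
        have h2 := hΦc (hpowΦ a)
        rw [Subgroup.mem_centralizer_iff] at h2
        apply Subtype.ext
        have := h2 (g : G) g.2
        simpa using this
      have hmul := mul_pow_prime_of_central (P := P) (Fact.out : p.Prime) hp hcen hpow
      apply finish
      rw [Subgroup.commutator_eq_bot_iff_le_centralizer, Subgroup.commutator_le]
      intro x hx a ha
      -- w = ⁅x, a⁆ = x * (a x⁻¹ a⁻¹)
      set φ := conjNormalizer P a (hAP ha) with hφ
      set x' : P := ⟨x, hx⟩ with hx'
      have hw : ⁅x, a⁆ = ((x' * φ x'⁻¹ : P) : G) := by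
        simp [commutatorElement_def, hφ, hx', mul_assoc]
      have hwp : (x' * φ x'⁻¹) ^ p = 1 := by
        rw [hmul, ← map_pow, inv_pow]
        have hfix' : φ ((x' ^ p)⁻¹) = (x' ^ p)⁻¹ := by
          apply Subtype.ext
          rw [conjNormalizer_coe]
          have h2 := hAΦ ha
          rw [Subgroup.mem_centralizer_iff] at h2
          have h3 := h2 _ (inv_mem (hpowΦ x'))
          have h4 : (((x' ^ p)⁻¹ : P) : G) = ((x' ^ p : P) : G)⁻¹ := rfl
          rw [h4, ← h3, mul_inv_cancel_right]
        rw [hfix', mul_inv_cancel]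
      have hwG : (⁅x, a⁆) ^ p = 1 := by
        rw [hw]
        have := congrArg (fun y : P => (y : G)) hwp
        simpa using this
      have hwP : ⁅x, a⁆ ∈ P := by rw [hw]; exact (x' * φ x'⁻¹).2
      have := hfix _ hwP hwG
      rw [Subgroup.mem_centralizer_iff]
      intro b hb
      have h5 := this hb
      rw [Subgroup.mem_centralizer_iff] at h5
      exact (h5 _ rfl).symm

end Cfsg.Agent.Lib.Helper1
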