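import Mathlib
import Cfsg.Prelude.Def_LocalEven
import Cfsg.Prelude.Def_PLocal
import Cfsg.Agent.S1952
import Cfsg.Agent.Lib.Helper1.AlperinGoldschmidt
import Cfsg.Agent.Lib.Helper1.WellPlaced
import Cfsg.Agent.Lib.Helper1.OmegaOne
import Cfsg.Agent.Lib.Helper1.SectionTransfer
import Cfsg.Agent.Lib.Helper2.PGroupFrattini
import Cfsg.Agent.Lib.Helper16.Frattini2

/-!
Transfer and weak closures (helper1): if a conjugacy class of `p`-elements acts on every chief
factor inside `O_p(X)` with nilpotency degree `< p`, then `O_p(X) ∩ X'` lies in the derived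
group of the normalizer of the weak closure.  Used for Glauberman's "Engel element" criterion
for control of transfer (S1972).
-/

set_option autoImplicit false
universe u
open Cfsg
open scoped Pointwise commutatorElement

namespace Cfsg.Agent.Lib.Helper1.WCT

open Cfsg.Agent.S1952 Cfsg.Agent.Lib.Helper1 Cfsg.Agent.Lib.Helper29 Cfsg.Agent.Lib.Helper1.SecT

/-- In an abelian group of exponent `p`, if `(t - 1)^(p-1) = 0` then the norm `1 + t + ... + t^(p-1)` vanishes. -/
theorem norm_eq_one_of_nilp {B : Type*} [CommGroup B] {p : ℕ} [Fact p.Prime] (hB : ∀ b : B, b ^ p = 1)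
    (t : B →* B) (hnil : ∀ b : B, ((fun c : B => t c * c⁻¹)^[p - 1]) b = 1) (x : B) :
    ((List.range p).map (fun i => (t^[i]) x)).prod = 1 := by
  have _i2 : Module (ZMod p) (Additive B) := AddCommGroup.zmodModule (n := p) (by
    intro a
    have : p • a = Additive.ofMul ((Additive.toMul a : B) ^ p) := rfl
    rw [this, hB]; rfl)
  let T : Module.End (ZMod p) (Additive B) := (MonoidHom.toAdditive t).toZModLinearMap p
  have hT1 : ∀ a : Additive B, T a = Additive.ofMul (t (Additive.toMul a)) := fun a => rfl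
  have hTi : ∀ (i : ℕ) (a : Additive B), (T ^ i) a = Additive.ofMul ((t^[i]) (Additive.toMul a)) := by
    intro i
    induction i with
    | zero => intro a; simp
    | succ i ih =>
      intro a
      rw [pow_succ, Module.End.mul_apply, ih, hT1, Function.iterate_succ_apply]
      rfl
  have hD1 : ∀ a : Additive B, (T - 1) a = Additive.ofMul (t (Additive.toMul a) * (Additive.toMul a)⁻¹) := by
    intro a
    rw [LinearMap.sub_apply, hT1, Module.End.one_apply, sub_eq_add_neg]
    rfl
  have hDi : ∀ (i : ℕ) (a : Additive B), ((T - 1) ^ i) a =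
      Additive.ofMul (((fun c : B => t c * c⁻¹)^[i]) (Additive.toMul a)) := by
    intro i
    induction i with
    | zero => intro a; simp
    | succ i ih =>
      intro a
      rw [pow_succ, Module.End.mul_apply, ih, hD1, Function.iterate_succ_apply]
      rfl
  have hsum : ∀ n : ℕ, Additive.toMul (∑ i ∈ Finset.range n, (T ^ i) (Additive.ofMul x))
      = ((List.range n).map (fun i => (t^[i]) x)).prod := by
    intro n
    induction n with
    | zero => simp
    | succ n ih =>
      rw [Finset.sum_range_succ, toMul_add, ih, List.range_succ, List.map_append,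
        List.prod_append, hTi]
      simp
  have h0 : ((T - 1) ^ (p - 1)) (Additive.ofMul x) = 0 := by
    rw [hDi, hnil]; rfl
  rw [end_id, LinearMap.sum_apply] at h0
  rw [← hsum, h0]
  rfl

theorem norm_mem_of_iterCommutator {X : Type*} [Group X] {p : ℕ} [Fact p.Prime]
    (U E₀ : Subgroup X) [hU : U.Normal] [hE : E₀.Normal]
    (hab : ⁅U, U⁆ ≤ E₀) (hexp : ∀ u ∈ U, u ^ p ∈ E₀) (h : X)
    (hnil : iterCommutator U (Subgroup.zpowers h) (p - 1) ≤ E₀) (u : X) (hu : u ∈ U) :
    ((List.range p).map (fun i => h ^ i * u * (h ^ i)⁻¹)).prod ∈ E₀ := by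
  set π := QuotientGroup.mk' E₀ with hπ
  have hπs : Function.Surjective π := QuotientGroup.mk'_surjective E₀
  set Ub : Subgroup (X ⧸ E₀) := U.map π with hUb
  haveI hUbn : Ub.Normal := hU.map π hπs
  have hker : ∀ x : X, π x = 1 ↔ x ∈ E₀ := fun x => QuotientGroup.eq_one_iff x
  have hcomm : ∀ a b : Ub, a * b = b * a := by
    rintro ⟨_, ⟨a, ha, rfl⟩⟩ ⟨_, ⟨b, hb, rfl⟩⟩
    apply Subtype.ext
    show π a * π b = π b * π a
    have h1 : ⁅a, b⁆ ∈ E₀ := hab (Subgroup.commutator_mem_commutator ha hb)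
    have h2 : π ⁅a, b⁆ = 1 := (hker _).2 h1
    rw [commutatorElement_def, map_mul, map_mul, map_mul, map_inv, map_inv] at h2
    have : π a * π b = (π a * π b * (π a)⁻¹ * (π b)⁻¹) * (π b * π a) := by group
    rw [this, h2, one_mul]
  letI : CommGroup Ub := { (inferInstance : Group Ub) with mul_comm := hcomm }
  have hexp' : ∀ b : Ub, b ^ p = 1 := by
    rintro ⟨_, ⟨a, ha, rfl⟩⟩
    apply Subtype.ext
    show (π a) ^ p = 1
    rw [← map_pow]
    exact (hker _).2 (hexp a ha)
  let t : Ub →* Ub := (MulAut.conjNormal (π h) : MulAut Ub).toMonoidHom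
  have ht1 : ∀ b : Ub, ((t b : Ub) : X ⧸ E₀) = π h * (b : X ⧸ E₀) * (π h)⁻¹ :=
    fun b => MulAut.conjNormal_apply _ _
  have hti : ∀ (i : ℕ) (b : Ub), (((t^[i]) b : Ub) : X ⧸ E₀) = π h ^ i * (b : X ⧸ E₀) * (π h ^ i)⁻¹ := by
    intro i
    induction i with
    | zero => intro b; simp
    | succ i ih =>
      intro b
      rw [Function.iterate_succ_apply', ht1, ih, pow_succ']
      group
  have hD : ∀ (k : ℕ) (b : Ub),
      ((((fun c : Ub => t c * c⁻¹)^[k]) b : Ub) : X ⧸ E₀) ∈ (iterCommutator U (Subgroup.zpowers h) k).map π := by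
    intro k
    induction k with
    | zero =>
      intro b
      exact b.2
    | succ k ih =>
      intro b
      rw [Function.iterate_succ_apply']
      obtain ⟨w, hw, hwc⟩ := ih b
      set c := ((fun c : Ub => t c * c⁻¹)^[k]) b with hc
      show ((t c * c⁻¹ : Ub) : X ⧸ E₀) ∈ _
      rw [Subgroup.coe_mul, ht1, Subgroup.coe_inv, ← hwc]
      refine ⟨⁅h, w⁆, ?_, ?_⟩
      · show ⁅h, w⁆ ∈ ⁅iterCommutator U (Subgroup.zpowers h) k, Subgroup.zpowers h⁆
        rw [Subgroup.commutator_comm]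
        exact Subgroup.commutator_mem_commutator (Subgroup.mem_zpowers h) hw
      · rw [commutatorElement_def, map_mul, map_mul, map_mul, map_inv, map_inv]
  have hnil' : ∀ b : Ub, ((fun c : Ub => t c * c⁻¹)^[p - 1]) b = 1 := by
    intro b
    apply Subtype.ext
    obtain ⟨w, hw, hwc⟩ := hD (p - 1) b
    rw [← hwc]
    exact (hker _).2 (hnil hw)
  have key := norm_eq_one_of_nilp hexp' t hnil' ⟨π u, Subgroup.mem_map_of_mem _ hu⟩
  rw [← hker, map_list_prod, List.map_map]
  have h2 := congrArg (Subgroup.subtype Ub) key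
  rw [map_list_prod, List.map_map, map_one] at h2
  rw [← h2]
  congr 1
  apply List.map_congr_left
  intro i _
  simp only [Function.comp, Subgroup.coe_subtype, hti, map_mul, map_pow, map_inv]

theorem chief_elementary {X : Type*} [Group X] [Finite X] {p : ℕ} [Fact p.Prime]
    (U E₀ : Subgroup X) (hch : IsChiefFactor U E₀) (hUp : IsPGroup p U) :
    ⁅U, U⁆ ≤ E₀ ∧ ∀ u ∈ U, u ^ p ∈ E₀ := by
  obtain ⟨hlt, hUn, hEn, hmin⟩ := hch
  haveI := hUn
  haveI := hEn
  set π := QuotientGroup.mk' E₀ with hπ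
  have hπs : Function.Surjective π := QuotientGroup.mk'_surjective E₀
  have hker : ∀ x : X, π x = 1 ↔ x ∈ E₀ := fun x => QuotientGroup.eq_one_iff x
  set Ub : Subgroup (X ⧸ E₀) := U.map π with hUb
  have hUbn : Ub.Normal := hUn.map π hπs
  have hUbp : IsPGroup p Ub := hUp.map π
  have hUbne : Ub ≠ ⊥ := by
    intro h
    have h1 : U ≤ π.ker := (Subgroup.map_eq_bot_iff U).1 h
    rw [QuotientGroup.ker_mk'] at h1
    exact absurd (le_antisymm h1 hlt.le) hlt.ne'
  set Φ : Subgroup (X ⧸ E₀) := (frattini ↥Ub).map Ub.subtype with hΦ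
  have hΦlt : Φ < Ub := Cfsg.Agent.Lib.Helper1.map_frattini_lt Ub hUbne
  have hΦn : Φ.Normal := by
    apply Subgroup.normalizer_eq_top_iff.1
    rw [eq_top_iff]
    refine le_trans ?_ (Cfsg.Agent.Lib.Helper16.normalizer_le_normalizer_map_frattini Ub)
    exact (Subgroup.normalizer_eq_top_iff.2 hUbn).ge
  set Y := Φ.comap π with hY
  have hYn : Y.Normal := hΦn.comap π
  have hEY : E₀ ≤ Y := by
    intro x hx
    show π x ∈ Φ
    rw [(hker x).2 hx]; exact Φ.one_mem
  have hYU : Y ≤ U := by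
    intro y hy
    have h1 : π y ∈ Ub := hΦlt.le hy
    obtain ⟨u, hu, huy⟩ := h1
    have h2 : u⁻¹ * y ∈ E₀ := by rw [← QuotientGroup.eq]; exact huy
    have : y = u * (u⁻¹ * y) := by group
    rw [this]
    exact U.mul_mem hu (hlt.le h2)
  have hΦbot : frattini ↥Ub = ⊥ := by
    rcases hmin Y hYn hEY hYU with h | h
    · have h1 : Φ = ⊥ := by
        have : Y.map π = Φ := Subgroup.map_comap_eq_self_of_surjective hπs _
        rw [← this, h, hπ, QuotientGroup.map_mk'_self]
      exact (Subgroup.map_eq_bot_iff_of_injective _ (Subgroup.subtype_injective Ub)).1 h1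
    · exfalso
      have : Ub ≤ Φ := by
        rintro _ ⟨u, hu, rfl⟩
        have : u ∈ Y := h ▸ hu
        exact this
      exact absurd (le_antisymm this hΦlt.le) hΦlt.ne'
  have hUbp' : IsPGroup p ↥Ub := hUbp
  constructor
  · rw [Subgroup.commutator_le]
    intro a ha b hb
    have h1 : ⁅(⟨π a, Subgroup.mem_map_of_mem _ ha⟩ : Ub), ⟨π b, Subgroup.mem_map_of_mem _ hb⟩⁆ ∈ commutator ↥Ub := by
      rw [commutator_def]
      exact Subgroup.commutator_mem_commutator (Subgroup.mem_top _) (Subgroup.mem_top _)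
    have h2 := Cfsg.Agent.Lib.Helper2.commutator_le_frattini_of_isPGroup hUbp' h1
    rw [hΦbot, Subgroup.mem_bot] at h2
    have h3 := congrArg Subtype.val h2
    rw [← hker]
    simpa [commutatorElement_def] using h3
  · intro u hu
    have h2 := Cfsg.Agent.Lib.Helper2.pow_mem_frattini_of_isPGroup hUbp'
      (⟨π u, Subgroup.mem_map_of_mem _ hu⟩ : Ub)
    rw [hΦbot, Subgroup.mem_bot] at h2
    have h3 := congrArg Subtype.val h2
    rw [← hker, map_pow]
    simpa using h3

section psi
variable {X : Type*} [Group X] {H : Subgroup X} {A : Type*} [CommGroup A] (φ : ↥H →* A)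

/-- the coset function `yH ↦ φ(y⁻¹ u y)` -/
noncomputable def psi (u : X) (ω : X ⧸ H) : A :=
  open Classical in
  if h : ω.out⁻¹ * u * ω.out ∈ H then φ ⟨ω.out⁻¹ * u * ω.out, h⟩ else 1

variable {φ}

theorem psi_mk (P : Subgroup X) [hP : P.Normal] (hPH : P ≤ H) (u : X) (hu : u ∈ P) (y : X) :
    psi φ u (y : X ⧸ H) = φ ⟨y⁻¹ * u * y, hPH (by
      have := hP.conj_mem u hu y⁻¹; rwa [inv_inv] at this)⟩ := by
  obtain ⟨h, hh⟩ := QuotientGroup.mk_out_eq_mul H y
  have hmem : ∀ z : X, z⁻¹ * u * z ∈ H := fun z => hPH (by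
    have := hP.conj_mem u hu z⁻¹; rwa [inv_inv] at this)
  unfold psi
  rw [dif_pos (hmem _)]
  have e : (⟨(y : X ⧸ H).out⁻¹ * u * (y : X ⧸ H).out, hmem _⟩ : ↥H) =
      h⁻¹ * ⟨y⁻¹ * u * y, hmem y⟩ * h := by
    apply Subtype.ext
    show (y : X ⧸ H).out⁻¹ * u * (y : X ⧸ H).out = (h : X)⁻¹ * (y⁻¹ * u * y) * h
    rw [hh]; group
  rw [e, map_mul, map_mul, map_inv, mul_comm, ← mul_assoc, mul_inv_cancel, one_mul]

theorem psi_smul (P : Subgroup X) [hP : P.Normal] (hPH : P ≤ H) (u : X) (hu : u ∈ P) (x : X)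
    (ω : X ⧸ H) : psi φ u (x • ω) = psi φ (x⁻¹ * u * x) ω := by
  induction ω using QuotientGroup.induction_on with
  | H y =>
    have hu' : x⁻¹ * u * x ∈ P := by
      have := hP.conj_mem u hu x⁻¹; rwa [inv_inv] at this
    have e1 : x • (y : X ⧸ H) = ((x * y : X) : X ⧸ H) := rfl
    rw [e1, psi_mk P hPH u hu, psi_mk P hPH _ hu']
    congr 1
    apply Subtype.ext
    show (x * y)⁻¹ * u * (x * y) = y⁻¹ * (x⁻¹ * u * x) * y
    group

theorem psi_mul (P : Subgroup X) [hP : P.Normal] (hPH : P ≤ H) (u v : X) (hu : u ∈ P) (hv : v ∈ P)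
    (ω : X ⧸ H) : psi φ (u * v) ω = psi φ u ω * psi φ v ω := by
  induction ω using QuotientGroup.induction_on with
  | H y =>
    rw [psi_mk P hPH u hu, psi_mk P hPH v hv, psi_mk P hPH _ (P.mul_mem hu hv), ← map_mul]
    congr 1
    apply Subtype.ext
    show y⁻¹ * (u * v) * y = (y⁻¹ * u * y) * (y⁻¹ * v * y)
    group

theorem psi_one (P : Subgroup X) [hP : P.Normal] (hPH : P ≤ H) (ω : X ⧸ H) : psi φ 1 ω = 1 := by
  induction ω using QuotientGroup.induction_on with
  | H y =>
    rw [psi_mk P hPH 1 P.one_mem]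
    have : (⟨y⁻¹ * 1 * y, hPH (by simp [P.one_mem])⟩ : ↥H) = 1 := Subtype.ext (by simp)
    rw [this, map_one]

theorem psi_list_prod (P : Subgroup X) [hP : P.Normal] (hPH : P ≤ H) (ω : X ⧸ H) :
    ∀ (l : List X), (∀ u ∈ l, u ∈ P) → psi φ l.prod ω = (l.map (fun u => psi φ u ω)).prod := by
  intro l
  induction l with
  | nil => intro _; simp [psi_one P hPH]
  | cons a l ih =>
    intro hl
    have ha : a ∈ P := hl a (List.mem_cons_self)
    have hl' : ∀ u ∈ l, u ∈ P := fun u hu => hl u (List.mem_cons_of_mem _ hu)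
    rw [List.prod_cons, psi_mul P hPH a _ ha (P.list_prod_mem hl'), ih hl', List.map_cons,
      List.prod_cons]

theorem psi_eq_one_of_mem (P : Subgroup X) [hP : P.Normal] (hPH : P ≤ H) (E₀ : Subgroup X)
    [hE : E₀.Normal] (hEP : E₀ ≤ P) (hker : ∀ (e : X) (he : e ∈ E₀), φ ⟨e, hPH (hEP he)⟩ = 1)
    (u : X) (hu : u ∈ E₀) (ω : X ⧸ H) : psi φ u ω = 1 := by
  induction ω using QuotientGroup.induction_on with
  | H y =>
    rw [psi_mk P hPH u (hEP hu)]
    have : y⁻¹ * u * y ∈ E₀ := by
      have := hE.conj_mem u hu y⁻¹; rwa [inv_inv] at this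
    exact hker _ this

theorem psi_base (P : Subgroup X) [hP : P.Normal] (hPH : P ≤ H) (u : X) (hu : u ∈ P) :
    psi φ u ((1 : X) : X ⧸ H) = φ ⟨u, hPH hu⟩ := by
  rw [psi_mk P hPH u hu]
  congr 1
  apply Subtype.ext
  show (1 : X)⁻¹ * u * 1 = u
  simp

theorem transfer_eq_prod_psi [H.FiniteIndex] [Fintype (X ⧸ H)] (P : Subgroup X) [hP : P.Normal]
    (hPH : P ≤ H) (u : X) (hu : u ∈ P) :
    MonoidHom.transfer φ u = ∏ ω : X ⧸ H, psi φ u ω := by
  classical
  have hmem : ∀ z : X, z⁻¹ * u * z ∈ H := fun z => hPH (by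
    have := hP.conj_mem u hu z⁻¹; rwa [inv_inv] at this)
  have hfix : ∀ ω : X ⧸ H, u • ω = ω := by
    intro ω
    induction ω using QuotientGroup.induction_on with
    | H y =>
      show ((u * y : X) : X ⧸ H) = (y : X ⧸ H)
      rw [eq_comm, QuotientGroup.eq]
      have : y⁻¹ * (u * y) = y⁻¹ * u * y := by group
      rw [this]; exact hmem y
  rw [MonoidHom.transfer_eq_prod_quotient_orbitRel_zpowers_quot]
  have hper : ∀ ω : X ⧸ H, Function.minimalPeriod (u • ·) ω = 1 := by
    intro ω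
    rw [Function.minimalPeriod_eq_one_iff_isFixedPt]
    exact hfix ω
  have hterm : ∀ q : Quotient (MulAction.orbitRel (Subgroup.zpowers u) (X ⧸ H)),
      φ ⟨q.out.out⁻¹ * u ^ Function.minimalPeriod (u • ·) q.out * q.out.out,
        QuotientGroup.out_conj_pow_minimalPeriod_mem H u q.out⟩ = psi φ u q.out := by
    intro q
    unfold psi
    rw [dif_pos (hmem _)]
    congr 1
    apply Subtype.ext
    show q.out.out⁻¹ * u ^ Function.minimalPeriod (u • ·) q.out * q.out.out = _
    rw [hper, pow_one]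
  simp only [hterm]
  have hbij : Function.Bijective
      (fun q : Quotient (MulAction.orbitRel (Subgroup.zpowers u) (X ⧸ H)) => q.out) := by
    refine ⟨Quotient.out_injective, fun ω => ⟨Quotient.mk _ ω, ?_⟩⟩
    have h1 := Quotient.mk_out (s := MulAction.orbitRel (Subgroup.zpowers u) (X ⧸ H)) ω
    obtain ⟨⟨z, hz⟩, hzz⟩ := h1
    obtain ⟨k, rfl⟩ := Subgroup.mem_zpowers_iff.1 hz
    have hzz' : (u ^ k) • ω = (Quotient.mk (MulAction.orbitRel (Subgroup.zpowers u) (X ⧸ H)) ω).out := hzz
    show (Quotient.mk (MulAction.orbitRel (Subgroup.zpowers u) (X ⧸ H)) ω).out = ω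
    rw [← hzz']
    have : ∀ n : ℕ, (u ^ n) • ω = ω := by
      intro n
      induction n with
      | zero => simp
      | succ n ih => rw [pow_succ, mul_smul, hfix, ih]
    have hinv : u⁻¹ • ω = ω := by
      have := hfix ω
      rw [← this, inv_smul_smul, this]
    have : ∀ n : ℕ, (u⁻¹ ^ n) • ω = ω := by
      intro n
      induction n with
      | zero => simp
      | succ n ih => rw [pow_succ, mul_smul, hinv, ih]
    cases k with
    | ofNat n => simpa using ‹∀ n : ℕ, (u ^ n) • ω = ω› n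
    | negSucc n =>
      rw [zpow_negSucc, ← inv_pow]
      exact this (n + 1)
  exact hbij.prod_comp (fun ω => psi φ u ω)
end psi

/-- Product over a set permuted freely in orbits of length `p`, all orbit products trivial. -/
theorem prod_eq_one_of_orbits {Ω A : Type*} [DecidableEq Ω] [CommGroup A] (σ : Equiv.Perm Ω) (p : ℕ)
    (hp : p.Prime) (f : Ω → A) :
    ∀ (n : ℕ) (B : Finset Ω), B.card = n → (∀ ω ∈ B, σ ω ∈ B) → (∀ ω ∈ B, (σ ^ p) ω = ω) →
      (∀ ω ∈ B, σ ω ≠ ω) → (∀ ω ∈ B, ∏ i ∈ Finset.range p, f ((σ ^ i) ω) = 1) →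
      ∏ ω ∈ B, f ω = 1 := by
  intro n
  induction n using Nat.strong_induction_on with
  | _ n ih =>
    intro B hcard hst hper hfree horb
    rcases B.eq_empty_or_nonempty with rfl | ⟨ω₀, hω₀⟩
    · simp
    have hpow : ∀ i : ℕ, (σ ^ i) ω₀ ∈ B := by
      intro i
      induction i with
      | zero => simpa using hω₀
      | succ i ih' =>
        rw [pow_succ', Equiv.Perm.mul_apply]
        exact hst _ ih'
    have hmp : Function.minimalPeriod σ ω₀ = p := by
      have h1 : Function.IsPeriodicPt σ p ω₀ := by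
        have := hper ω₀ hω₀
        rw [Function.IsPeriodicPt, Function.IsFixedPt, ← Equiv.Perm.iterate_eq_pow] at *
        exact this
      have h2 := h1.minimalPeriod_dvd
      rcases (Nat.dvd_prime hp).1 h2 with h | h
      · exfalso
        rw [Function.minimalPeriod_eq_one_iff_isFixedPt] at h
        exact hfree ω₀ hω₀ h
      · exact h
    set O : Finset Ω := (Finset.range p).image (fun i => (σ ^ i) ω₀) with hO
    have hinj : Set.InjOn (fun i => (σ ^ i) ω₀) (Finset.range p : Set ℕ) := by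
      intro i hi j hj hij
      have hi' : i ∈ Set.Iio (Function.minimalPeriod σ ω₀) := by
        rw [hmp]; simpa using hi
      have hj' : j ∈ Set.Iio (Function.minimalPeriod σ ω₀) := by
        rw [hmp]; simpa using hj
      apply Function.iterate_injOn_Iio_minimalPeriod hi' hj'
      simp only [Equiv.Perm.iterate_eq_pow]
      exact hij
    have hOB : O ⊆ B := by
      intro ω hω
      obtain ⟨i, _, rfl⟩ := Finset.mem_image.1 hω
      exact hpow i
    have hOprod : ∏ ω ∈ O, f ω = 1 := by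
      rw [hO, Finset.prod_image hinj]
      exact horb ω₀ hω₀
    have hsplit := Finset.prod_sdiff (f := f) hOB
    rw [← hsplit, hOprod, mul_one]
    have hω₀O : ω₀ ∈ O := Finset.mem_image.2 ⟨0, Finset.mem_range.2 hp.pos, by simp⟩
    have hlt : (B \ O).card < n := by
      rw [← hcard]
      apply Finset.card_lt_card
      refine ⟨Finset.sdiff_subset, fun h => ?_⟩
      have := h hω₀
      rw [Finset.mem_sdiff] at this
      exact this.2 hω₀O
    apply ih _ hlt (B \ O) rfl
    · intro ω hω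
      rw [Finset.mem_sdiff] at hω ⊢
      refine ⟨hst ω hω.1, fun h => hω.2 ?_⟩
      obtain ⟨i, hi, hiω⟩ := Finset.mem_image.1 h
      rw [Finset.mem_range] at hi
      -- ω = σ^(i-1) ω₀ or σ^(p-1) ω₀
      rcases Nat.eq_zero_or_pos i with rfl | hipos
      · -- σ ω = ω₀ = σ^p ω₀
        have h1 : σ ω = (σ ^ p) ω₀ := by rw [hper ω₀ hω₀]; simpa using hiω.symm
        have h2 : ω = (σ ^ (p - 1)) ω₀ := by
          apply σ.injective
          rw [h1, ← Equiv.Perm.mul_apply, ← pow_succ', Nat.sub_add_cancel hp.pos]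
        rw [h2]
        exact Finset.mem_image.2 ⟨p - 1, Finset.mem_range.2 (Nat.sub_lt hp.pos one_pos), rfl⟩
      · have h2 : ω = (σ ^ (i - 1)) ω₀ := by
          apply σ.injective
          rw [← hiω, ← Equiv.Perm.mul_apply, ← pow_succ', Nat.sub_add_cancel hipos]
        rw [h2]
        exact Finset.mem_image.2 ⟨i - 1, Finset.mem_range.2 (by omega), rfl⟩
    · intro ω hω
      exact hper ω (Finset.mem_sdiff.1 hω).1
    · intro ω hω
      exact hfree ω (Finset.mem_sdiff.1 hω).1
    · intro ω hω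
      exact horb ω (Finset.mem_sdiff.1 hω).1

section step
variable {X : Type*} [Group X] {H : Subgroup X} {A : Type*} [CommGroup A] {φ : ↥H →* A}

open Classical in
/-- fixed points of a subgroup on the coset space, as a finset -/
noncomputable def fixF [Fintype (X ⧸ H)] (K : Subgroup X) : Finset (X ⧸ H) :=
  Finset.univ.filter (fun ω => ∀ k ∈ K, k • ω = ω)

theorem mem_fixF [Fintype (X ⧸ H)] (K : Subgroup X) (ω : X ⧸ H) :
    ω ∈ fixF (H := H) K ↔ ∀ k ∈ K, k • ω = ω := by
  classical
  simp [fixF]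

theorem fixF_bot [Fintype (X ⧸ H)] : fixF (H := H) (⊥ : Subgroup X) = Finset.univ := by
  ext ω
  rw [mem_fixF]
  simp

theorem step [Fintype (X ⧸ H)] {p : ℕ} [Fact p.Prime] (P U E₀ : Subgroup X) [hP : P.Normal]
    [hU : U.Normal] [hE : E₀.Normal]
    (hPH : P ≤ H) (hUP : U ≤ P) (hEU : E₀ ≤ U)
    (hker : ∀ (e : X) (he : e ∈ E₀), φ ⟨e, hPH (hUP (hEU he))⟩ = 1)
    (K : Subgroup X) (h : X) (hK : ∀ k ∈ K, h⁻¹ * k * h ∈ K) (hhp : h ^ p ∈ K)
    (hN : ∀ u ∈ U, ((List.range p).map (fun i => h⁻¹ ^ i * u * (h⁻¹ ^ i)⁻¹)).prod ∈ E₀)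
    (u : X) (hu : u ∈ U) :
    ∏ ω ∈ fixF (H := H) (K ⊔ Subgroup.zpowers h), psi φ u ω = ∏ ω ∈ fixF (H := H) K, psi φ u ω := by
  classical
  have hp : p.Prime := Fact.out
  have hfilter : fixF (H := H) (K ⊔ Subgroup.zpowers h) =
      (fixF (H := H) K).filter (fun ω => h • ω = ω) := by
    ext ω
    rw [Finset.mem_filter, mem_fixF, mem_fixF]
    constructor
    · intro hω
      exact ⟨fun k hk => hω k (Subgroup.mem_sup_left hk),
        hω h (Subgroup.mem_sup_right (Subgroup.mem_zpowers h))⟩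
    · rintro ⟨h1, h2⟩ k hk
      have hle : K ⊔ Subgroup.zpowers h ≤ MulAction.stabilizer X ω := by
        apply sup_le
        · intro k hk; exact MulAction.mem_stabilizer_iff.2 (h1 k hk)
        · rw [Subgroup.zpowers_le]; exact MulAction.mem_stabilizer_iff.2 h2
      exact MulAction.mem_stabilizer_iff.1 (hle hk)
  rw [hfilter, ← Finset.prod_filter_mul_prod_filter_not (fixF (H := H) K) (fun ω => h • ω = ω)]
  suffices hs : ∏ ω ∈ (fixF (H := H) K).filter (fun ω => ¬ h • ω = ω), psi φ u ω = 1 by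
    rw [hs, mul_one]
  set σ : Equiv.Perm (X ⧸ H) := MulAction.toPerm h with hσ
  have hσi : ∀ (i : ℕ) (ω : X ⧸ H), (σ ^ i) ω = h ^ i • ω := by
    intro i
    induction i with
    | zero => intro ω; simp
    | succ i ih =>
      intro ω
      rw [pow_succ', Equiv.Perm.mul_apply, ih, pow_succ', mul_smul]
      rfl
  apply prod_eq_one_of_orbits σ p hp (psi φ u) _ _ rfl
  · intro ω hω
    rw [Finset.mem_filter, mem_fixF] at hω ⊢
    refine ⟨fun k hk => ?_, fun h2 => hω.2 ?_⟩
    · show k • (h • ω) = h • ω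
      have h3 := hω.1 _ (hK k hk)
      calc k • (h • ω) = h • ((h⁻¹ * k * h) • ω) := by
            rw [← mul_smul, ← mul_smul]; congr 1; group
        _ = h • ω := by rw [h3]
    · have h3 : h • (h • ω) = h • ω := h2
      exact smul_left_cancel h h3
  · intro ω hω
    rw [Finset.mem_filter, mem_fixF] at hω
    rw [hσi]
    exact hω.1 _ hhp
  · intro ω hω
    rw [Finset.mem_filter] at hω
    exact hω.2
  · intro ω hω
    have hterm : ∀ i : ℕ, psi φ u ((σ ^ i) ω) = psi φ (h⁻¹ ^ i * u * (h⁻¹ ^ i)⁻¹) ω := by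
      intro i
      rw [hσi, psi_smul P hPH u (hUP hu)]
      congr 1
      rw [inv_pow, inv_inv]
    have hmem : ∀ v ∈ (List.range p).map (fun i => h⁻¹ ^ i * u * (h⁻¹ ^ i)⁻¹), v ∈ P := by
      intro v hv
      obtain ⟨i, _, rfl⟩ := List.mem_map.1 hv
      exact hP.conj_mem u (hUP hu) _
    have h1 := psi_list_prod (φ := φ) P hPH ω _ hmem
    rw [psi_eq_one_of_mem P hPH E₀ (hEU.trans hUP) hker _ (hN u hu) ω, List.map_map] at h1
    rw [← List.toFinset_range, List.prod_toFinset _ (List.nodup_range), h1]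
    congr 1
    apply List.map_congr_left
    intro i _
    exact hterm i
end step

theorem chain_good {X : Type*} [Group X] [Finite X] {p : ℕ} [Fact p.Prime]
    (Good : Subgroup X → Prop) (𝒟 : Set X) (hconj : ∀ d ∈ 𝒟, ∀ x : X, x * d * x⁻¹ ∈ 𝒟)
    (Tw : Subgroup X) (hTwp : IsPGroup p Tw) (D : Set X) (hD : D ⊆ 𝒟) (hTw : Tw = Subgroup.closure D)
    (hbot : Good ⊥)
    (hstep : ∀ (K : Subgroup X) (h : X), Good K → (∀ k ∈ K, h⁻¹ * k * h ∈ K) → h ^ p ∈ K →
      (∃ d ∈ 𝒟, h ∈ Subgroup.zpowers d) → Good (K ⊔ Subgroup.zpowers h)) :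
    Good Tw := by
  have hp : p.Prime := Fact.out
  set 𝒦 : Set (Subgroup X) := {K | K ≤ Tw ∧ Good K ∧ K = Subgroup.closure {x | x ∈ K ∧ x ∈ 𝒟}} with h𝒦
  have hne : 𝒦.Nonempty := by
    refine ⟨⊥, bot_le, hbot, ?_⟩
    symm
    rw [eq_bot_iff, Subgroup.closure_le]
    rintro x ⟨hx, _⟩
    exact hx
  obtain ⟨K, hK𝒦, hKmax⟩ := (Set.toFinite 𝒦).exists_maximal hne
  obtain ⟨hKTw, hKgood, hKgen⟩ := hK𝒦
  by_cases hKeq : K = Tw
  · rw [← hKeq]; exact hKgood
  exfalso
  have hKlt : K < Tw := lt_of_le_of_ne hKTw hKeq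
  -- adding a conjugate normalizing K
  have hadd : ∀ d ∈ 𝒟, d ∈ Tw → d ∈ Subgroup.normalizer (K : Set X) → d ∈ K := by
    intro d hd𝒟 hdTw hdN
    by_contra hdK
    -- the groups K ⊔ ⟨d^(p^j)⟩ are good
    have hgoodj : ∀ m j : ℕ, d ^ (p ^ (j + m)) ∈ K → Good (K ⊔ Subgroup.zpowers (d ^ (p ^ j))) := by
      intro m
      induction m with
      | zero =>
        intro j hj
        have : K ⊔ Subgroup.zpowers (d ^ (p ^ j)) = K := by
          rw [sup_eq_left, Subgroup.zpowers_le]; simpa using hj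
        rw [this]; exact hKgood
      | succ m ih =>
        intro j hj
        have h1 : Good (K ⊔ Subgroup.zpowers (d ^ (p ^ (j + 1)))) := by
          apply ih (j + 1)
          have : j + 1 + m = j + (m + 1) := by ring
          rw [this]; exact hj
        have h2 := hstep (K ⊔ Subgroup.zpowers (d ^ (p ^ (j + 1)))) (d ^ (p ^ j)) h1 ?_ ?_ ?_
        · have h3 : K ⊔ Subgroup.zpowers (d ^ (p ^ (j + 1))) ⊔ Subgroup.zpowers (d ^ (p ^ j)) =
              K ⊔ Subgroup.zpowers (d ^ (p ^ j)) := by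
            rw [sup_assoc]
            congr 1
            rw [sup_eq_right, Subgroup.zpowers_le, pow_succ, pow_mul]
            exact Subgroup.pow_mem _ (Subgroup.mem_zpowers _) _
          rwa [h3] at h2
        · -- normalizes
          intro k hk
          have hdn : (d ^ (p ^ j))⁻¹ ∈ Subgroup.normalizer ((K ⊔ Subgroup.zpowers (d ^ (p ^ (j + 1))) : Subgroup X) : Set X) := by
            apply Subgroup.inv_mem
            apply Subgroup.pow_mem
            have h4 : Subgroup.normalizer (K : Set X) ⊓ Subgroup.normalizer ((Subgroup.zpowers (d ^ (p ^ (j + 1))) : Subgroup X) : Set X) ≤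
                Subgroup.normalizer ((K ⊔ Subgroup.zpowers (d ^ (p ^ (j + 1))) : Subgroup X) : Set X) := by
              intro x hx
              rw [Subgroup.mem_normalizer_iff]
              intro y
              have hx1 := hx.1
              have hx2 := hx.2
              have hmap : (K ⊔ Subgroup.zpowers (d ^ (p ^ (j + 1)))).map (MulAut.conj x).toMonoidHom =
                  K ⊔ Subgroup.zpowers (d ^ (p ^ (j + 1))) := by
                rw [Subgroup.map_sup]
                have e1 : K.map (MulAut.conj x).toMonoidHom = K := cj_eq_of_mem_normalizer hx1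
                have e2 : (Subgroup.zpowers (d ^ (p ^ (j + 1)))).map (MulAut.conj x).toMonoidHom =
                    Subgroup.zpowers (d ^ (p ^ (j + 1))) := cj_eq_of_mem_normalizer hx2
                rw [e1, e2]
              constructor
              · intro hy
                rw [← hmap]
                exact ⟨y, hy, rfl⟩
              · intro hy
                rw [← hmap] at hy
                obtain ⟨z, hz, hzy⟩ := hy
                have : z = y := by
                  have h5 : x * z * x⁻¹ = x * y * x⁻¹ := hzy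
                  have h6 := congrArg (fun w => x⁻¹ * w * x) h5
                  simpa [mul_assoc] using h6
                rwa [← this]
            apply h4
            refine ⟨hdN, ?_⟩
            apply Subgroup.mem_normalizer_fintype
            intro y hy
            obtain ⟨n, rfl⟩ := Subgroup.mem_zpowers_iff.1 hy
            have : d * (d ^ (p ^ (j + 1))) ^ n * d⁻¹ = (d ^ (p ^ (j + 1))) ^ n := by
              have hc : Commute d ((d ^ (p ^ (j + 1))) ^ n) :=
                ((Commute.refl d).pow_right _).zpow_right _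
              rw [hc.eq, mul_inv_cancel_right]
            rw [this]
            exact Subgroup.zpow_mem_zpowers _ _
          have := (Subgroup.mem_normalizer_iff.1 hdn k).1 hk
          simpa using this
        · rw [← pow_mul, ← pow_succ]
          exact Subgroup.mem_sup_right (Subgroup.mem_zpowers _)
        · exact ⟨d, hd𝒟, Subgroup.pow_mem _ (Subgroup.mem_zpowers d) _⟩
    obtain ⟨m, hm⟩ := hTwp ⟨d, hdTw⟩
    have hm' : d ^ (p ^ m) = 1 := by simpa using congrArg Subtype.val hm
    have hK'good : Good (K ⊔ Subgroup.zpowers d) := by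
      have := hgoodj m 0 (by rw [zero_add, hm']; exact K.one_mem)
      simpa using this
    have hK'mem : K ⊔ Subgroup.zpowers d ∈ 𝒦 := by
      refine ⟨sup_le hKTw (by rw [Subgroup.zpowers_le]; exact hdTw), hK'good, ?_⟩
      apply le_antisymm
      · apply sup_le
        · refine hKgen.le.trans (Subgroup.closure_mono ?_)
          rintro x ⟨hx, hx𝒟⟩
          exact ⟨Subgroup.mem_sup_left hx, hx𝒟⟩
        · rw [Subgroup.zpowers_le]
          exact Subgroup.subset_closure ⟨Subgroup.mem_sup_right (Subgroup.mem_zpowers d), hd𝒟⟩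
      · rw [Subgroup.closure_le]
        rintro x ⟨hx, _⟩
        exact hx
    have hle : K ⊔ Subgroup.zpowers d ≤ K := hKmax hK'mem le_sup_left
    exact hdK (hle (Subgroup.mem_sup_right (Subgroup.mem_zpowers d)))
  -- now the normalizer argument
  set N := Tw ⊓ Subgroup.normalizer (K : Set X) with hN
  have hKN : K < N := lt_inf_normalizer_of_lt hTwp hKlt
  by_cases hNTw : N = Tw
  · -- K is normal in Tw, so contains D
    have hDK : D ⊆ K := by
      intro d hd
      have hdTw : d ∈ Tw := hTw ▸ Subgroup.subset_closure hd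
      have hdN : d ∈ N := hNTw ▸ hdTw
      exact hadd d (hD hd) hdTw hdN.2
    have : Tw ≤ K := by
      rw [hTw, Subgroup.closure_le]; exact hDK
    exact hKeq (le_antisymm hKTw this)
  · have hNlt : N < Tw := lt_of_le_of_ne inf_le_left hNTw
    have hNN : N < Tw ⊓ Subgroup.normalizer (N : Set X) := lt_inf_normalizer_of_lt hTwp hNlt
    obtain ⟨x, hx, hxN⟩ := SetLike.exists_of_lt hNN
    apply hxN
    refine ⟨hx.1, ?_⟩
    apply Subgroup.mem_normalizer_fintype
    intro k hk
    -- x k x⁻¹ ∈ K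
    have hgen : K ≤ (Subgroup.closure {y | y ∈ K ∧ y ∈ 𝒟}) := hKgen.le
    have hsub : Subgroup.closure {y | y ∈ K ∧ y ∈ 𝒟} ≤ K.comap (MulAut.conj x).toMonoidHom := by
      rw [Subgroup.closure_le]
      rintro y ⟨hyK, hy𝒟⟩
      show x * y * x⁻¹ ∈ K
      have h1 : x * y * x⁻¹ ∈ N := by
        have := (Subgroup.mem_normalizer_iff.1 hx.2 y).1 (hKN.le hyK)
        exact this
      exact hadd _ (hconj y hy𝒟 x) h1.1 h1.2
    exact hsub (hgen hk)

theorem iterCommutator_map {X Y : Type*} [Group X] [Group Y] (f : X →* Y) (N G : Subgroup X) :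
    ∀ k : ℕ, (iterCommutator N G k).map f = iterCommutator (N.map f) (G.map f) k := by
  intro k
  induction k with
  | zero => rfl
  | succ k ih =>
    show (⁅iterCommutator N G k, G⁆).map f = ⁅iterCommutator (N.map f) (G.map f) k, G.map f⁆
    rw [Subgroup.map_commutator, ih]

theorem iterCommutator_mono_right {X : Type*} [Group X] (N G G' : Subgroup X) (h : G ≤ G') :
    ∀ k : ℕ, iterCommutator N G k ≤ iterCommutator N G' k := by
  intro k
  induction k with
  | zero => exact le_rfl
  | succ k ih => exact Subgroup.commutator_mono ih h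

/-- the weak closure of `g` in `S` -/
def weakCl {X : Type*} [Group X] (S : Subgroup X) (g : X) : Subgroup X :=
  Subgroup.closure {x | x ∈ S ∧ ∃ y : X, x = y * g * y⁻¹}

theorem weakCl_le {X : Type*} [Group X] (S : Subgroup X) (g : X) : weakCl S g ≤ S := by
  unfold weakCl
  rw [Subgroup.closure_le]
  exact fun x hx => hx.1

theorem cj_weakCl_le {X : Type*} [Group X] (S : Subgroup X) (g z : X)
    (h : cj z (weakCl S g) ≤ S) : cj z (weakCl S g) ≤ weakCl S g := by
  rw [Subgroup.map_le_iff_le_comap]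
  unfold weakCl
  rw [Subgroup.closure_le]
  rintro d ⟨hdS, y, rfl⟩
  show z * (y * g * y⁻¹) * z⁻¹ ∈ Subgroup.closure _
  apply Subgroup.subset_closure
  refine ⟨h ⟨_, Subgroup.subset_closure ⟨hdS, y, rfl⟩, rfl⟩, z * y, by group⟩

theorem sylow_le_normalizer_weakCl {X : Type*} [Group X] [Finite X] (S : Subgroup X) (g : X) :
    S ≤ Subgroup.normalizer ((weakCl S g : Subgroup X) : Set X) := by
  intro s hs
  apply Subgroup.mem_normalizer_fintype
  intro t ht
  have h1 : cj s (weakCl S g) ≤ S := by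
    rintro _ ⟨t', ht', rfl⟩
    exact S.mul_mem (S.mul_mem hs (weakCl_le S g ht')) (S.inv_mem hs)
  exact cj_weakCl_le S g s h1 ⟨t, ht, rfl⟩

theorem fixF_weakCl {X : Type*} [Group X] [Finite X] {p : ℕ} [Fact p.Prime] (S : Sylow p X) (g : X)
    (H : Subgroup X) (hH : H = Subgroup.normalizer ((weakCl (S : Subgroup X) g : Subgroup X) : Set X))
    [Fintype (X ⧸ H)] :
    fixF (H := H) (weakCl (S : Subgroup X) g) = {((1 : X) : X ⧸ H)} := by
  have hSH : (S : Subgroup X) ≤ H := hH ▸ sylow_le_normalizer_weakCl _ g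
  have hsyl : IsSylowSub p (S : Subgroup X) H := by
    apply isSylowSub_of_not_dvd_relIndex hSH S.isPGroup'
    intro hd
    apply S.not_dvd_index
    rw [← Subgroup.relIndex_mul_index hSH]
    exact hd.mul_right _
  ext ω
  rw [mem_fixF, Finset.mem_singleton]
  induction ω using QuotientGroup.induction_on with
  | H y =>
    constructor
    · intro hfix
      have h1 : cj y⁻¹ (weakCl (S : Subgroup X) g) ≤ H := by
        rintro _ ⟨t, ht, rfl⟩
        show y⁻¹ * t * y⁻¹⁻¹ ∈ H
        rw [inv_inv]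
        have h2 : ((t * y : X) : X ⧸ H) = (y : X ⧸ H) := hfix t ht
        rw [QuotientGroup.eq] at h2
        have h3 := H.inv_mem h2
        have e : ((t * y)⁻¹ * y)⁻¹ = y⁻¹ * t * y := by group
        rwa [e] at h3
      obtain ⟨m, hmH, hm⟩ := exists_cj_le_of_isSylowSub hsyl h1
        (isPGroup_cj (S.isPGroup'.to_le (weakCl_le _ g)))
      rw [cj_cj] at hm
      have h4 : cj (m * y⁻¹) (weakCl (S : Subgroup X) g) ≤ weakCl (S : Subgroup X) g :=
        cj_weakCl_le _ g _ hm
      have h5 : m * y⁻¹ ∈ H := by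
        rw [hH]
        apply Subgroup.mem_normalizer_fintype
        intro t ht
        exact h4 ⟨t, ht, rfl⟩
      have h6 : y⁻¹ ∈ H := by
        have := H.mul_mem (H.inv_mem hmH) h5
        simpa using this
      rw [QuotientGroup.eq]
      simpa using h6
    · intro hω t ht
      rw [hω]
      show ((t * 1 : X) : X ⧸ H) = ((1 : X) : X ⧸ H)
      rw [QuotientGroup.eq]
      have : (t * 1)⁻¹ * 1 = t⁻¹ := by group
      rw [this]
      exact H.inv_mem (hSH (weakCl_le _ g ht))

/-- **Lemma G**: if `g ∈ S` acts on every chief factor below `O_p(X)` with `[U, g; p-1] ≤ V`,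
then `O_p(X) ∩ X' ≤ N_X(weak closure of g in S)'`. -/
theorem pCore_inf_commutator_le_weakCl {X : Type*} [Group X] [Finite X] {p : ℕ} [Fact p.Prime]
    (S : Sylow p X) (g : X)
    (hg : ∀ U V : Subgroup X, IsChiefFactor U V → U ≤ pCore p X →
      iterCommutator U (Subgroup.zpowers g) (p - 1) ≤ V)
    (H : Subgroup X) (hH : H = Subgroup.normalizer ((weakCl (S : Subgroup X) g : Subgroup X) : Set X)) :
    pCore p X ⊓ commutator X ≤ ⁅H, H⁆ := by
  classical
  haveI hPn : (pCore p X).Normal := Cfsg.Agent.Lib.Helper2.pCore_normal p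
  set P := pCore p X with hP
  have hPS : P ≤ (S : Subgroup X) := Cfsg.Agent.Lib.Helper2.pCore_le_sylow p S
  have hSH : (S : Subgroup X) ≤ H := hH ▸ sylow_le_normalizer_weakCl _ g
  have hPH : P ≤ H := hPS.trans hSH
  haveI hcn : (commutator X).Normal := inferInstance
  set E := P ⊓ commutator X with hE
  haveI hEn : E.Normal := inferInstance
  set E₁ := E ⊓ ⁅H, H⁆ with hE₁
  set E₀ := E₁.normalCore with hE₀
  haveI hE₀n : E₀.Normal := Subgroup.normalCore_normal _
  have hE₀E₁ : E₀ ≤ E₁ := Subgroup.normalCore_le _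
  have hE₀E : E₀ ≤ E := hE₀E₁.trans inf_le_left
  by_cases hEE : E₀ = E
  · rw [← hEE]; exact hE₀E₁.trans inf_le_right
  exfalso
  have hlt : E₀ < E := lt_of_le_of_ne hE₀E hEE
  set 𝒰 : Set (Subgroup X) := {U | U.Normal ∧ E₀ < U ∧ U ≤ E} with h𝒰
  obtain ⟨U, hU𝒰, hUmin⟩ := (Set.toFinite 𝒰).exists_minimal ⟨E, hEn, hlt, le_rfl⟩
  obtain ⟨hUn, hE₀U, hUE⟩ := hU𝒰
  haveI := hUn
  have hUP : U ≤ P := hUE.trans inf_le_left
  have hch : IsChiefFactor U E₀ := by
    refine ⟨hE₀U, hUn, hE₀n, ?_⟩
    intro Y hYn hEY hYU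
    by_cases hY : Y = E₀
    · exact Or.inl hY
    · right
      have hY𝒰 : Y ∈ 𝒰 := ⟨hYn, lt_of_le_of_ne hEY (Ne.symm hY), hYU.trans hUE⟩
      exact le_antisymm hYU (hUmin hY𝒰 hYU)
  have hUp : IsPGroup p U := (S.isPGroup'.to_le hPS).to_le hUP
  obtain ⟨hab, hexp⟩ := chief_elementary U E₀ hch hUp
  have hnil0 : iterCommutator U (Subgroup.zpowers g) (p - 1) ≤ E₀ := hg U E₀ hch hUP
  -- the abelianization of H
  set φ : ↥H →* Abelianization ↥H := Abelianization.of with hφ
  have hφker : ∀ (x : X) (hx : x ∈ H), φ ⟨x, hx⟩ = 1 ↔ x ∈ ⁅H, H⁆ := by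
    intro x hx
    rw [← MonoidHom.mem_ker, hφ, Abelianization.ker_of, ← Subgroup.map_subtype_commutator]
    constructor
    · intro h; exact ⟨⟨x, hx⟩, h, rfl⟩
    · rintro ⟨⟨y, hy⟩, h, rfl⟩; exact h
  have hker : ∀ (e : X) (he : e ∈ E₀), φ ⟨e, hPH (hUP (hE₀U.le he))⟩ = 1 := by
    intro e he
    rw [hφker]
    exact (hE₀E₁ he).2
  haveI : Fintype (X ⧸ H) := Fintype.ofFinite _
  -- conjugates of g
  set 𝒟 : Set X := {d | ∃ y : X, d = y * g * y⁻¹} with h𝒟
  have hconj : ∀ d ∈ 𝒟, ∀ x : X, x * d * x⁻¹ ∈ 𝒟 := by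
    rintro _ ⟨y, rfl⟩ x
    exact ⟨x * y, by group⟩
  set Tw := weakCl (S : Subgroup X) g with hTw
  have hTwp : IsPGroup p Tw := S.isPGroup'.to_le (weakCl_le _ g)
  set Good : Subgroup X → Prop := fun K => ∀ u ∈ U,
    ∏ ω ∈ fixF (H := H) K, psi φ u ω = ∏ ω ∈ fixF (H := H) (⊥ : Subgroup X), psi φ u ω with hGood
  have hnilh : ∀ (h : X), (∃ d ∈ 𝒟, h ∈ Subgroup.zpowers d) →
      iterCommutator U (Subgroup.zpowers h⁻¹) (p - 1) ≤ E₀ := by
    rintro h ⟨_, ⟨y, rfl⟩, hh⟩
    have h1 : Subgroup.zpowers h⁻¹ ≤ (Subgroup.zpowers g).map (MulAut.conj y).toMonoidHom := by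
      rw [Subgroup.zpowers_inv, Subgroup.zpowers_le, MonoidHom.map_zpowers]
      exact hh
    refine (iterCommutator_mono_right U _ _ h1 (p - 1)).trans ?_
    have h2 : U.map (MulAut.conj y).toMonoidHom = U := cj_normal_eq U y
    have h3 := iterCommutator_map (MulAut.conj y).toMonoidHom U (Subgroup.zpowers g) (p - 1)
    rw [h2] at h3
    rw [← h3]
    have h4 : E₀.map (MulAut.conj y).toMonoidHom = E₀ := cj_normal_eq E₀ y
    rw [← h4]
    exact Subgroup.map_mono hnil0
  have hgood : Good Tw := by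
    apply chain_good (p := p) Good 𝒟 hconj Tw hTwp {x | x ∈ (S : Subgroup X) ∧ ∃ y : X, x = y * g * y⁻¹}
      (fun x hx => hx.2) rfl
    · intro u _; rfl
    · intro K h hK hnorm hhp hd u hu
      rw [← hK u hu]
      apply step (φ := φ) P U E₀ hPH hUP hE₀U.le hker K h hnorm hhp _ u hu
      intro v hv
      exact norm_mem_of_iterCommutator U E₀ hab hexp h⁻¹ (hnilh h hd) v hv
  -- conclusion: U ≤ H'
  have hUH : U ≤ ⁅H, H⁆ := by
    intro u hu
    have h1 := hgood u hu
    rw [fixF_weakCl S g H hH, Finset.prod_singleton, fixF_bot,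
      psi_base P hPH u (hUP hu)] at h1
    haveI : H.FiniteIndex := inferInstance
    have h2 := transfer_eq_prod_psi (φ := φ) P hPH u (hUP hu)
    rw [← h1] at h2
    have h3 : MonoidHom.transfer φ u = 1 := by
      have h4 : u ∈ commutator X := (hUE hu).2
      exact Abelianization.commutator_subset_ker (MonoidHom.transfer φ) h4
    rw [h3] at h2
    exact (hφker u (hPH (hUP hu))).1 h2.symm
  have hUE₁ : U ≤ E₁ := le_inf hUE hUH
  have hUE₀ : U ≤ E₀ := Subgroup.normal_le_normalCore.2 hUE₁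
  exact absurd (le_antisymm hUE₀ hE₀U.le) hE₀U.ne'

/-- The local hypothesis `Hloc` follows from the existence of "Engel" elements. -/
theorem hloc_of_engel {X : Type u} [Group X] [Finite X] {p : ℕ} [Fact p.Prime]
    (W : ∀ (Q : Type u) [Group Q], Subgroup Q) (hW : IsCharPFunctor.{u} p W)
    (hM : ∀ M : Subgroup X, M ≠ ⊤ → Ctl p W ↥M)
    (T : Sylow p X)
    (hg : ¬ (inducedFunctor (G := X) W (T : Subgroup X)).Normal →
      ∃ g : X, g ∈ (T : Subgroup X) ∧ g ∉ pCore p X ∧ ∀ U V : Subgroup X, IsChiefFactor U V →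
        U ≤ pCore p X → iterCommutator U (Subgroup.zpowers g) (p - 1) ≤ V) :
    pCore p X ⊓ commutator X ≤ ⁅NW W (T : Subgroup X), NW W (T : Subgroup X)⁆ := by
  by_cases hn : (inducedFunctor (G := X) W (T : Subgroup X)).Normal
  · have : NW W (T : Subgroup X) = ⊤ := Subgroup.normalizer_eq_top_iff.2 hn
    rw [this, ← commutator_def]
    exact inf_le_right
  obtain ⟨g, hgT, hgP, hgc⟩ := hg hn
  set H := Subgroup.normalizer ((weakCl (T : Subgroup X) g : Subgroup X) : Set X) with hH
  have hTH : (T : Subgroup X) ≤ H := sylow_le_normalizer_weakCl _ g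
  have hgTw : g ∈ weakCl (T : Subgroup X) g :=
    Subgroup.subset_closure ⟨hgT, 1, by simp⟩
  have hHtop : H ≠ ⊤ := by
    intro htop
    have hn' : (weakCl (T : Subgroup X) g).Normal := Subgroup.normalizer_eq_top_iff.1 htop
    have : weakCl (T : Subgroup X) g ≤ pCore p X :=
      Cfsg.Agent.Lib.Helper2.le_pCore hn' (T.isPGroup'.to_le (weakCl_le _ g))
    exact hgP (this hgTw)
  have h1 := ctl_sub_le W hW H (hM H hHtop) T hTH
  have h2 := pCore_inf_commutator_le_weakCl T g hgc H hH
  have hPT : pCore p X ≤ (T : Subgroup X) := Cfsg.Agent.Lib.Helper2.pCore_le_sylow p T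
  exact (le_inf (inf_le_left.trans hPT) h2).trans h1

/-- Variant of `main_ctl` where the local hypothesis may use the inductive hypothesis. -/
theorem main_ctl' {G : Type u} [Group G] {p : ℕ} [Fact p.Prime]
    (W : ∀ (Q : Type u) [Group Q], Subgroup Q) (hW : IsCharPFunctor.{u} p W)
    (hloc : ∀ (X : Type u) [Group X] [Finite X], IsSec G X →
      (∀ (Y : Type u) [Group Y] [Finite Y], Nat.card Y < Nat.card X → IsSec G Y → Ctl p W Y) →
      Hloc p W X) :
    ∀ n : ℕ, ∀ (X : Type u) [Group X] [Finite X], Nat.card X = n → IsSec G X → Ctl p W X := by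
  intro n
  induction n using Nat.strong_induction_on with
  | _ n ih =>
    intro X _ _ hcard hsec S
    have hM : ∀ M : Subgroup X, M ≠ ⊤ → Ctl p W ↥M := fun M hM =>
      ih _ (hcard ▸ card_lt_of_ne_top M hM) ↥M rfl (hsec.sub M)
    have hlocX : Hloc p W X := hloc X hsec (fun Y _ _ hlt hY => ih _ (hcard ▸ hlt) Y rfl hY)
    haveI hOn : (pPrimeCore p X).Normal := Cfsg.Agent.Lib.Helper2.pPrimeCore_normal p
    haveI hPn : (pCore p X).Normal := Cfsg.Agent.Lib.Helper2.pCore_normal p
    by_cases hO : pPrimeCore p X = ⊥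
    · by_cases hP : pCore p X = ⊥
      · -- local-to-global
        have hWf := isConjugacyFunctor_induced (X := X) W hW
        have hl : ∀ T : Subgroup X, T ≠ ⊥ → IsWellPlaced p (inducedFunctor (G := X) W) (S : Subgroup X) T →
            ControlsTransferIn p (inducedFunctor (G := X) W) (Subgroup.normalizer ((T : Subgroup X) : Set X)) := by
          intro T hTne hT
          apply controls_sub W hW
          apply hM
          intro htop
          have hTn : T.Normal := Subgroup.normalizer_eq_top_iff.1 htop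
          have : T ≤ pCore p X := Cfsg.Agent.Lib.Helper2.le_pCore hTn (S.isPGroup'.to_le hT.1)
          rw [hP] at this
          exact hTne (le_bot_iff.1 this)
        exact ctl_of_controls W hW (controls_transfer_of_local S _ hWf hl) S
      · have hq : Ctl p W (X ⧸ pCore p X) :=
          ih _ (hcard ▸ card_quot_lt_of_ne_bot _ hP) _ rfl (hsec.quot _)
        have hPle := pCore_inf_commutator_le W hW hO hlocX hM S
        exact ctl_of_quot_pCore W hW hPn hq hM S hPle
    · have hq : Ctl p W (X ⧸ pPrimeCore p X) :=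
        ih _ (hcard ▸ card_quot_lt_of_ne_bot _ hO) _ rfl (hsec.quot _)
      exact ctl_of_quot_coprime W hW _ (Cfsg.Agent.Lib.Helper2.pPrimeCore_coprime p) hq S

end Cfsg.Agent.Lib.Helper1.WCT
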