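import Mathlib
import Cfsg.Agent.Lib.Helper1.PStabTools
import Cfsg.Agent.Lib.Helper1.KInfQuartic
import Cfsg.Agent.Lib.Helper11.NPSIso

set_option autoImplicit false

/-! Theorem K, part (c): if all quotients of `X` are `p`-stable (normalizer form) and
`C_X(O_p(X)) ≤ O_p(X)` then the K-infinity subgroups of a Sylow `p`-subgroup are normal in `X`. -/

namespace Cfsg.Agent.Lib.Helper1.KStab

open Cfsg Cfsg.Agent.Lib.Helper1.KInf Cfsg.Agent.Lib.Helper1.SecT Cfsg.Agent.Lib.Helper1.StabAct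
  Cfsg.Agent.Lib.Helper1.QC Cfsg.Agent.Lib.Helper1.PST Cfsg.Agent.Lib.Helper1.KInfQ
open scoped commutatorElement

universe u

variable {p : ℕ} [Fact p.Prime]
variable {X : Type u} [Group X]

/-- The largest normal subgroup acting on `M` as a `p`-group. -/
def DD (p : ℕ) (M : Subgroup X) : Subgroup X := sSup {E : Subgroup X | E.Normal ∧ PAct p E M}

theorem DD_normal (M : Subgroup X) : (DD p M).Normal := Subgroup.sSup_normal _ (fun _ h => h.1)

theorem le_DD {E M : Subgroup X} (hE : E.Normal) (h : PAct p E M) : E ≤ DD p M := le_sSup ⟨hE, h⟩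

theorem DD_pact (M : Subgroup X) [hM : M.Normal] : PAct p (DD p M) M := by
  set D₀ : Subgroup X := (pCore p (X ⧸ Subgroup.centralizer (M : Set X))).comap
    (QuotientGroup.mk' (Subgroup.centralizer (M : Set X))) with hD₀
  have hle : DD p M ≤ D₀ := by
    apply sSup_le
    rintro E ⟨hEn, hEact⟩
    rw [hD₀, ← Subgroup.map_le_iff_le_comap]
    apply Cfsg.Agent.Lib.Helper2.le_pCore
    · exact hEn.map _ (QuotientGroup.mk'_surjective _)
    · rintro ⟨_, e, he, rfl⟩
      obtain ⟨k, hk⟩ := hEact e he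
      refine ⟨k, ?_⟩
      apply Subtype.ext
      show (QuotientGroup.mk' (Subgroup.centralizer (M : Set X))) e ^ p ^ k = 1
      rw [← map_pow, QuotientGroup.mk'_apply, QuotientGroup.eq_one_iff]
      exact hk
  intro e he
  have h1 := hle he
  rw [hD₀, Subgroup.mem_comap] at h1
  obtain ⟨k, hk⟩ := (Cfsg.Agent.Lib.Helper2.pCore_isPGroup p) ⟨_, h1⟩
  refine ⟨k, ?_⟩
  have h2 := congrArg Subtype.val hk
  simp only [SubgroupClass.coe_pow, Subgroup.coe_one] at h2
  rw [← map_pow, QuotientGroup.mk'_apply, QuotientGroup.eq_one_iff] at h2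
  exact h2

theorem mem_centralizer_sup {M₁ M₂ : Subgroup X} {c : X} (h1 : c ∈ Subgroup.centralizer (M₁ : Set X))
    (h2 : c ∈ Subgroup.centralizer (M₂ : Set X)) : c ∈ Subgroup.centralizer ((M₁ ⊔ M₂ : Subgroup X) : Set X) := by
  have : M₁ ⊔ M₂ ≤ Subgroup.centralizer ((Subgroup.zpowers c : Subgroup X) : Set X) := by
    apply sup_le
    · rw [Subgroup.le_centralizer_iff, Subgroup.zpowers_le]; exact h1
    · rw [Subgroup.le_centralizer_iff, Subgroup.zpowers_le]; exact h2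
  rw [Subgroup.le_centralizer_iff, Subgroup.zpowers_le] at this
  exact this

theorem DD_inf_le (M₁ M₂ : Subgroup X) [M₁.Normal] [M₂.Normal] : DD p M₁ ⊓ DD p M₂ ≤ DD p (M₁ ⊔ M₂) := by
  haveI := DD_normal (p := p) M₁
  haveI := DD_normal (p := p) M₂
  apply le_DD inferInstance
  intro e he
  obtain ⟨k₁, hk₁⟩ := DD_pact (p := p) M₁ e he.1
  obtain ⟨k₂, hk₂⟩ := DD_pact (p := p) M₂ e he.2
  refine ⟨k₁ + k₂, ?_⟩
  apply mem_centralizer_sup
  · rw [pow_add, pow_mul]; exact pow_mem hk₁ _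
  · rw [pow_add, mul_comm, pow_mul]; exact pow_mem hk₂ _

theorem DD_bot : DD p (⊥ : Subgroup X) = ⊤ := by
  rw [eq_top_iff]
  apply le_DD inferInstance
  intro e _
  refine ⟨0, ?_⟩
  rw [Subgroup.mem_centralizer_iff]
  intro x hx
  have : x = 1 := by simpa using hx
  rw [this]; simp

theorem DD_pCore_le [Finite X]
    (hcent : Subgroup.centralizer ((pCore p X : Subgroup X) : Set X) ≤ pCore p X) :
    DD p (pCore p X) ≤ pCore p X := by
  haveI := Cfsg.Agent.Lib.Helper2.pCore_normal (G := X) p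
  apply Cfsg.Agent.Lib.Helper2.le_pCore (DD_normal _)
  intro g
  obtain ⟨k, hk⟩ := DD_pact (p := p) (pCore p X) (g : X) g.2
  obtain ⟨j, hj⟩ := (Cfsg.Agent.Lib.Helper2.pCore_isPGroup (G := X) p) ⟨_, hcent hk⟩
  refine ⟨k + j, ?_⟩
  apply Subtype.ext
  have h2 := congrArg Subtype.val hj
  simp only [SubgroupClass.coe_pow, Subgroup.coe_one] at h2 ⊢
  rw [pow_add, pow_mul]
  exact h2

/-- `N₀` is the unique maximal `X`-normal proper subgroup of the normal subgroup `N ≤ O_p(X)`, it is central in `N`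
and contains `[N, O_p(X)]`. -/
structure Nice (p : ℕ) (N N₀ : Subgroup X) : Prop where
  le_T : N ≤ pCore p X
  le_N : N₀ ≤ N
  le_Z : N₀ ≤ Subgroup.centralizer (N : Set X)
  comm_T : ⁅N, pCore p X⁆ ≤ N₀
  ne : N₀ ≠ N
  max : ∀ M : Subgroup X, M.Normal → M ≤ N → M = N ∨ M ≤ N₀

theorem exists_nice [Finite X]
    (hcent : Subgroup.centralizer ((pCore p X : Subgroup X) : Set X) ≤ pCore p X)
    (B : Subgroup X) (hB : ¬ B ≤ pCore p X) :
    ∃ (N N₀ : Subgroup X) (_ : N.Normal) (_ : N₀.Normal), Nice p N N₀ ∧ ¬ B ≤ DD p N ∧ B ≤ DD p N₀ := by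
  haveI hTn := Cfsg.Agent.Lib.Helper2.pCore_normal (G := X) p
  have hTp : IsPGroup p ↥(pCore p X) := Cfsg.Agent.Lib.Helper2.pCore_isPGroup p
  set T := pCore p X with hT
  set 𝒮 : Set (Subgroup X) := {N | N.Normal ∧ N ≤ T ∧ ¬ B ≤ DD p N} with h𝒮
  have hne : 𝒮.Nonempty := ⟨T, hTn, le_rfl, fun h => hB (h.trans (DD_pCore_le hcent))⟩
  obtain ⟨N, hN⟩ := (Set.toFinite 𝒮).exists_minimal hne
  obtain ⟨hNn, hNT, hBN⟩ := hN.1
  haveI := hNn
  have hNbot : N ≠ ⊥ := by
    intro h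
    apply hBN
    rw [h, DD_bot]; exact le_top
  set 𝒟 : Set (Subgroup X) := {M | M.Normal ∧ M ≤ N ∧ M ≠ N} with h𝒟
  have hne2 : 𝒟.Nonempty := ⟨⊥, inferInstance, bot_le, fun h => hNbot h.symm⟩
  obtain ⟨N₀, hN₀⟩ := (Set.toFinite 𝒟).exists_maximal hne2
  obtain ⟨hN₀n, hN₀N, hN₀ne⟩ := hN₀.1
  haveI := hN₀n
  have hproper : ∀ M : Subgroup X, M ∈ 𝒟 → B ≤ DD p M := by
    intro M hM
    by_contra hcon
    have : M ∈ 𝒮 := ⟨hM.1, hM.2.1.trans hNT, hcon⟩
    exact hM.2.2 (le_antisymm hM.2.1 (hN.2 this hM.2.1))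
  have hmax : ∀ M : Subgroup X, M.Normal → M ≤ N → M = N ∨ M ≤ N₀ := by
    intro M hMn hMN
    by_cases hMeq : M = N
    · exact Or.inl hMeq
    · right
      haveI := hMn
      have hM𝒟 : M ∈ 𝒟 := ⟨hMn, hMN, hMeq⟩
      have hsupn : (N₀ ⊔ M).Normal := inferInstance
      have hsupN : N₀ ⊔ M ≤ N := sup_le hN₀N hMN
      by_cases hsup : N₀ ⊔ M = N
      · exfalso
        apply hBN
        rw [← hsup]
        exact (le_inf (hproper N₀ hN₀.1) (hproper M hM𝒟)).trans (DD_inf_le N₀ M)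
      · have : N₀ ⊔ M ≤ N₀ := hN₀.2 ⟨hsupn, hsupN, hsup⟩ le_sup_left
        exact le_sup_right.trans this
  have hBN₀ : B ≤ DD p N₀ := hproper N₀ hN₀.1
  have hNp : IsPGroup p ↥N := hTp.to_le hNT
  -- `N₀ ≤ Z(N)`
  set K := DD p N₀ with hK
  haveI hKn : K.Normal := DD_normal N₀
  set H := K ⊓ Subgroup.centralizer (N₀ : Set X) with hH
  haveI hHn : H.Normal := inferInstance
  have hNH : ⁅N, H⁆ = N := by
    rcases hmax ⁅N, H⁆ inferInstance (Subgroup.commutator_le_left N H) with h | h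
    · exact h
    · exfalso
      apply hBN
      refine hBN₀.trans ?_
      apply le_DD hKn
      have hHact : PAct p H N := by
        intro w hw
        apply pact_of_stab N N₀ hNp hN₀N w hw.2
        intro a ha
        exact h (Subgroup.commutator_mem_commutator ha hw)
      intro g hg
      obtain ⟨k, hk⟩ := DD_pact (p := p) N₀ g hg
      have hgH : g ^ p ^ k ∈ H := ⟨pow_mem hg _, hk⟩
      obtain ⟨j, hj⟩ := hHact _ hgH
      refine ⟨k + j, ?_⟩
      rw [pow_add, pow_mul]; exact hj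
  have hN₀H : ⁅N₀, H⁆ = ⊥ := by
    rw [Subgroup.commutator_eq_bot_iff_le_centralizer, Subgroup.le_centralizer_iff]
    exact inf_le_right
  have hZ : N₀ ≤ Subgroup.centralizer (N : Set X) := by
    have h1 : ⁅⁅N, N₀⁆, H⁆ = ⊥ := by
      rw [eq_bot_iff, ← hN₀H]
      exact Subgroup.commutator_mono (Subgroup.commutator_le_right N N₀) le_rfl
    have h2 : ⁅⁅N₀, H⁆, N⁆ = ⊥ := by rw [hN₀H]; exact Subgroup.commutator_bot_left _
    have h3 := Subgroup.commutator_commutator_eq_bot_of_rotate h1 h2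
    rw [Subgroup.commutator_comm H N, hNH] at h3
    rw [← Subgroup.commutator_eq_bot_iff_le_centralizer, Subgroup.commutator_comm]
    exact h3
  have hcommT : ⁅N, T⁆ ≤ N₀ := by
    rcases hmax ⁅N, T⁆ inferInstance (Subgroup.commutator_le_left N T) with h | h
    · exact absurd h (commutator_lt_of_pgroup T hTp N hNT hNbot).ne
    · exact h
  exact ⟨N, N₀, hNn, hN₀n, ⟨hNT, hN₀N, hZ, hcommT, hN₀ne, hmax⟩, hBN, hBN₀⟩


section chief

variable [Finite X] {N N₀ : Subgroup X} [hNn : N.Normal] [hN₀n : N₀.Normal]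

theorem Nice.comm_le (h : Nice p N N₀) : ⁅N, N⁆ ≤ N₀ :=
  (Subgroup.commutator_mono le_rfl h.le_T).trans h.comm_T

theorem Nice.isPGroup (h : Nice p N N₀) : IsPGroup p ↥N :=
  (Cfsg.Agent.Lib.Helper2.pCore_isPGroup p).to_le h.le_T

omit [Fact p.Prime] [Finite X] hNn in
theorem mem_of_map_eq_one {x : X} (h : (QuotientGroup.mk' N₀) x = 1) : x ∈ N₀ := by
  rwa [QuotientGroup.mk'_apply, QuotientGroup.eq_one_iff] at h

/-- The chief factor `N / N₀` as a minimal normal subgroup of `X / N₀`. -/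
theorem Nice.chief (h : Nice p N N₀) :
    (N.map (QuotientGroup.mk' N₀)).Normal ∧
    (∀ a ∈ N.map (QuotientGroup.mk' N₀), ∀ b ∈ N.map (QuotientGroup.mk' N₀), a * b = b * a) ∧
    IsPGroup p ↥(N.map (QuotientGroup.mk' N₀)) ∧ N.map (QuotientGroup.mk' N₀) ≠ ⊥ ∧
    (∀ M : Subgroup (X ⧸ N₀), M.Normal → M ≤ N.map (QuotientGroup.mk' N₀) →
      M = ⊥ ∨ M = N.map (QuotientGroup.mk' N₀)) := by
  set π := QuotientGroup.mk' N₀ with hπ
  have hsurj : Function.Surjective π := QuotientGroup.mk'_surjective N₀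
  refine ⟨hNn.map π hsurj, ?_, h.isPGroup.map π, ?_, ?_⟩
  · rintro _ ⟨x, hx, rfl⟩ _ ⟨y, hy, rfl⟩
    have hc : ⁅x, y⁆ ∈ N₀ := h.comm_le (Subgroup.commutator_mem_commutator hx hy)
    have h1 : π ⁅x, y⁆ = 1 := by
      rw [hπ, QuotientGroup.mk'_apply, QuotientGroup.eq_one_iff]; exact hc
    rw [map_commutatorElement] at h1
    exact commutatorElement_eq_one_iff_mul_comm.1 h1
  · intro hbot
    apply h.ne
    apply le_antisymm h.le_N
    intro x hx
    have : π x ∈ N.map π := ⟨x, hx, rfl⟩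
    rw [hbot, Subgroup.mem_bot] at this
    exact mem_of_map_eq_one this
  · intro M hMn hMle
    have hcn : (M.comap π).Normal := hMn.comap π
    have hcle : M.comap π ≤ N := by
      intro x hx
      rw [Subgroup.mem_comap] at hx
      obtain ⟨y, hy, hyx⟩ := hMle hx
      have h1 : π (y⁻¹ * x) = 1 := by rw [map_mul, map_inv, hyx, inv_mul_cancel]
      have h2 : y⁻¹ * x ∈ N := h.le_N (mem_of_map_eq_one h1)
      have : x = y * (y⁻¹ * x) := by group
      rw [this]; exact mul_mem hy h2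
    rcases h.max _ hcn hcle with h1 | h1
    · right
      rw [← h1, Subgroup.map_comap_eq_self_of_surjective hsurj]
    · left
      rw [eq_bot_iff]
      intro y hy
      obtain ⟨x, rfl⟩ := hsurj y
      have : x ∈ N₀ := h1 (by rw [Subgroup.mem_comap]; exact hy)
      rw [Subgroup.mem_bot, hπ, QuotientGroup.mk'_apply, QuotientGroup.eq_one_iff]
      exact this

/-- A normal subgroup acting on `N / N₀` as a `p`-group centralizes `N / N₀`. -/
theorem Nice.comm_le_of_pact (h : Nice p N N₀) (D : Subgroup X) [hDn : D.Normal]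
    (hact : ∀ d ∈ D, ∃ k : ℕ, ∀ a ∈ N, ⁅a, d ^ (p ^ k)⁆ ∈ N₀) : ⁅N, D⁆ ≤ N₀ := by
  set π := QuotientGroup.mk' N₀ with hπ
  have hsurj : Function.Surjective π := QuotientGroup.mk'_surjective N₀
  obtain ⟨hVn, -, hVp, hVne, hmin⟩ := h.chief
  haveI := hVn
  haveI : (D.map π).Normal := hDn.map π hsurj
  have hpact : PAct p (D.map π) (N.map π) := by
    rintro _ ⟨d, hd, rfl⟩
    obtain ⟨k, hk⟩ := hact d hd
    refine ⟨k, ?_⟩
    rw [Subgroup.mem_centralizer_iff]
    rintro _ ⟨a, ha, rfl⟩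
    have h1 : π ⁅a, d ^ p ^ k⁆ = 1 := by
      rw [hπ, QuotientGroup.mk'_apply, QuotientGroup.eq_one_iff]; exact hk a ha
    rw [map_commutatorElement, map_pow] at h1
    exact commutatorElement_eq_one_iff_mul_comm.1 h1
  have hcent := le_centralizer_of_minimal (N.map π) (D.map π) hVp hVne hmin hpact
  rw [Subgroup.commutator_le]
  intro a ha d hd
  apply mem_of_map_eq_one (N₀ := N₀)
  rw [map_commutatorElement]
  apply commutatorElement_eq_one_iff_mul_comm.2
  have := Subgroup.mem_centralizer_iff.1 (hcent ⟨d, hd, rfl⟩) (π a) ⟨a, ha, rfl⟩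
  exact this

theorem Nice.comm_DD_le (h : Nice p N N₀) : ⁅N, DD p N⁆ ≤ N₀ := by
  haveI := DD_normal (p := p) N
  apply h.comm_le_of_pact
  intro d hd
  obtain ⟨k, hk⟩ := DD_pact (p := p) N d hd
  refine ⟨k, fun a ha => ?_⟩
  have : ⁅a, d ^ p ^ k⁆ = 1 := by
    apply commutatorElement_eq_one_iff_mul_comm.2
    exact (Subgroup.mem_centralizer_iff.1 hk a ha)
  rw [this]; exact one_mem _

/-- An element acting quadratically on `N / N₀` centralizes `N / N₀`. -/
theorem Nice.triv_of_quad (h : Nice p N N₀) (hst : IsNormalizerPStable p (X ⧸ N₀)) (a : X)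
    (hq : ⁅⁅N, Subgroup.zpowers a⁆, Subgroup.zpowers a⁆ ≤ N₀) : ⁅N, Subgroup.zpowers a⁆ ≤ N₀ := by
  set π := QuotientGroup.mk' N₀ with hπ
  have hsurj : Function.Surjective π := QuotientGroup.mk'_surjective N₀
  obtain ⟨hVn, -, hVp, hVne, hmin⟩ := h.chief
  haveI := hVn
  set V := N.map π with hV
  have hNV : Subgroup.normalizer (V : Set (X ⧸ N₀)) = ⊤ := Subgroup.normalizer_eq_top_iff.2 hVn
  have hquad : ⁅⁅V, Subgroup.zpowers (π a)⁆, Subgroup.zpowers (π a)⁆ = ⊥ := by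
    rw [eq_bot_iff, hV, ← MonoidHom.map_zpowers, ← Subgroup.map_commutator, ← Subgroup.map_commutator]
    intro y hy
    obtain ⟨x, hx, rfl⟩ := hy
    rw [Subgroup.mem_bot, hπ, QuotientGroup.mk'_apply, QuotientGroup.eq_one_iff]
    exact hq hx
  have hmem : π a ∈ DN p V := mem_DN_of_stable hst V hVp (π a) (by rw [hNV]; trivial) hquad
  have hDn : (DN p V).Normal := by
    rw [← Subgroup.normalizer_eq_top_iff, eq_top_iff, ← hNV]
    exact normalizer_le_normalizer_DN V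
  haveI := hDn
  have hcent := le_centralizer_of_minimal V (DN p V) hVp hVne hmin (DN_pact V)
  have hac := hcent hmem
  rw [Subgroup.commutator_le]
  intro x hx y hy
  obtain ⟨n, rfl⟩ := Subgroup.mem_zpowers_iff.1 hy
  apply mem_of_map_eq_one (N₀ := N₀)
  rw [map_commutatorElement]
  apply commutatorElement_eq_one_iff_mul_comm.2
  have h1 : π (a ^ n) ∈ Subgroup.centralizer (V : Set (X ⧸ N₀)) := by
    rw [map_zpow]; exact zpow_mem hac n
  exact Subgroup.mem_centralizer_iff.1 h1 (π x) ⟨x, hx, rfl⟩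

end chief

/-- An element acting quadratically on a normal `p`-subgroup lies in `DD`. -/
theorem mem_DD_of_quad [Finite X] (hX : IsNormalizerPStable p X) (N : Subgroup X) [hNn : N.Normal]
    (hNp : IsPGroup p ↥N) (g : X)
    (hq : ⁅⁅N, Subgroup.zpowers g⁆, Subgroup.zpowers g⁆ = ⊥) : g ∈ DD p N := by
  have hNN : Subgroup.normalizer (N : Set X) = ⊤ := Subgroup.normalizer_eq_top_iff.2 hNn
  have hmem : g ∈ DN p N := mem_DN_of_stable hX N hNp g (by rw [hNN]; trivial) hq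
  have hDn : (DN p N).Normal := by
    rw [← Subgroup.normalizer_eq_top_iff, eq_top_iff, ← hNN]
    exact normalizer_le_normalizer_DN N
  exact le_DD hDn (DN_pact N) hmem

theorem le_DD_of_quad [Finite X] (hX : IsNormalizerPStable p X) (N : Subgroup X) [hNn : N.Normal]
    (hNp : IsPGroup p ↥N) (B : Subgroup X) (hq : ⁅⁅N, B⁆, B⁆ = ⊥) : B ≤ DD p N := by
  intro b hb
  apply mem_DD_of_quad hX N hNp b
  rw [eq_bot_iff, ← hq]
  have hzb : Subgroup.zpowers b ≤ B := Subgroup.zpowers_le.2 hb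
  exact Subgroup.commutator_mono (Subgroup.commutator_mono le_rfl hzb) hzb

/-- Claim 2. -/
theorem claim2 [Finite X] (hX : IsNormalizerPStable p X)
    (hcent : Subgroup.centralizer ((pCore p X : Subgroup X) : Set X) ≤ pCore p X)
    (B : Subgroup X)
    (hq : ∀ (N N₀ : Subgroup X) (_ : N.Normal) (_ : N₀.Normal), Nice p N N₀ → ⁅⁅N, B⁆, B⁆ = ⊥) :
    B ≤ pCore p X := by
  by_contra hB
  obtain ⟨N, N₀, hNn, hN₀n, hnice, hBN, -⟩ := exists_nice hcent B hB
  haveI := hNn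
  haveI := hN₀n
  exact hBN (le_DD_of_quad hX N hnice.isPGroup B (hq N N₀ hNn hN₀n hnice))

/-- Claim 1. -/
theorem claim1 [Finite X] (hst : ∀ (Y : Subgroup X) [Y.Normal], IsNormalizerPStable p (X ⧸ Y))
    (N N₀ : Subgroup X) [hNn : N.Normal] [hN₀n : N₀.Normal] (h : Nice p N N₀) (A₁ : Subgroup X)
    (hnorm : N ≤ Subgroup.normalizer (A₁ : Set X)) (hc : ⁅N, ⁅A₁, A₁⁆⁆ = ⊥) :
    ⁅N, A₁⁆ ≤ N ⊓ Subgroup.centralizer (N : Set X) := by
  apply le_inf (Subgroup.commutator_le_left N A₁)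
  have h1 : ⁅N, A₁⁆ ≤ A₁ := commutator_le_right_of_le_normalizer N A₁ hnorm
  have h2 : ⁅⁅N, A₁⁆, A₁⁆ ≤ N ⊓ Subgroup.centralizer (N : Set X) := by
    apply le_inf
    · exact (Subgroup.commutator_mono (Subgroup.commutator_le_left N A₁) le_rfl).trans
        (Subgroup.commutator_le_left N A₁)
    · refine (Subgroup.commutator_mono h1 le_rfl).trans ?_
      rw [← Subgroup.commutator_eq_bot_iff_le_centralizer, Subgroup.commutator_comm]
      exact hc
  haveI : (Subgroup.centralizer (N : Set X)).Normal := Subgroup.normal_centralizer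
  rcases h.max (N ⊓ Subgroup.centralizer (N : Set X)) inferInstance inf_le_left with hZ | hZ
  · -- `N` abelian
    exact (Subgroup.commutator_le_left N A₁).trans (inf_eq_left.1 hZ)
  · rw [Subgroup.commutator_le]
    intro x hx a ha
    have hzp : ⁅N, Subgroup.zpowers a⁆ ≤ N₀ := by
      apply h.triv_of_quad (hst N₀) a
      have hza : Subgroup.zpowers a ≤ A₁ := Subgroup.zpowers_le.2 ha
      exact ((Subgroup.commutator_mono (Subgroup.commutator_mono le_rfl hza) hza).trans h2).trans hZ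
    exact h.le_Z (hzp (Subgroup.commutator_mem_commutator hx (Subgroup.mem_zpowers a)))


/-- Elements of `N` whose commutators with `N` lie in `Y`. -/
def NE (N Y : Subgroup X) (h2 : ⁅N, N⁆ ≤ Subgroup.centralizer (N : Set X)) : Subgroup X where
  carrier := {a | a ∈ N ∧ ∀ c ∈ N, ⁅a, c⁆ ∈ Y}
  one_mem' := ⟨one_mem _, fun c _ => by simp⟩
  mul_mem' := by
    rintro a b ⟨ha, ha'⟩ ⟨hb, hb'⟩
    refine ⟨mul_mem ha hb, fun c hc => ?_⟩
    have e : ⁅a * b, c⁆ = a * ⁅b, c⁆ * a⁻¹ * ⁅a, c⁆ := by simp only [commutatorElement_def]; group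
    have hbc : ⁅b, c⁆ ∈ Subgroup.centralizer (N : Set X) := h2 (Subgroup.commutator_mem_commutator hb hc)
    have h3 : a * ⁅b, c⁆ * a⁻¹ = ⁅b, c⁆ := by
      have := Subgroup.mem_centralizer_iff.1 hbc a ha
      rw [this]; group
    rw [e, h3]
    exact mul_mem (hb' c hc) (ha' c hc)
  inv_mem' := by
    rintro a ⟨ha, ha'⟩
    refine ⟨inv_mem ha, fun c hc => ?_⟩
    have e : ⁅a⁻¹, c⁆ = a⁻¹ * ⁅a, c⁆⁻¹ * a := by simp only [commutatorElement_def]; group
    have hac : ⁅a, c⁆⁻¹ ∈ Subgroup.centralizer (N : Set X) :=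
      inv_mem (h2 (Subgroup.commutator_mem_commutator ha hc))
    have h3 : a⁻¹ * ⁅a, c⁆⁻¹ * a = ⁅a, c⁆⁻¹ := by
      have := Subgroup.mem_centralizer_iff.1 hac a⁻¹ (inv_mem ha)
      rw [this]; group
    rw [e, h3]
    exact inv_mem (ha' c hc)

theorem kinv_map {Γ' : Type*} [Group Γ'] (f : X →* Γ') {K Y : Subgroup X} (h : KInv K Y) :
    KInv (K.map f) (Y.map f) := by
  rintro _ ⟨k, hk, rfl⟩ _ ⟨y, hy, rfl⟩
  exact ⟨k * y * k⁻¹, h k hk y hy, by simp⟩

theorem comm_self_le (B : Subgroup X) : ⁅B, B⁆ ≤ B := by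
  rw [Subgroup.commutator_le]
  intro a ha b hb
  rw [commutatorElement_def]
  exact mul_mem (mul_mem (mul_mem ha hb) (inv_mem ha)) (inv_mem hb)

/-- Claim 3. -/
theorem claim3 [Finite X] (hst : ∀ (Y : Subgroup X) [Y.Normal], IsNormalizerPStable p (X ⧸ Y))
    (hX : IsNormalizerPStable p X)
    (hcent : Subgroup.centralizer ((pCore p X : Subgroup X) : Set X) ≤ pCore p X)
    (B : Subgroup X) (hBp : IsPGroup p ↥B) (hB2 : ⁅B, B⁆ ≤ Subgroup.centralizer (B : Set X))
    (hnorm : ∀ (N N₀ : Subgroup X) (_ : N.Normal) (_ : N₀.Normal), Nice p N N₀ →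
      N ≤ Subgroup.normalizer (B : Set X))
    (hstar : ∀ (N N₀ : Subgroup X) (_ : N.Normal) (_ : N₀.Normal), Nice p N N₀ →
      ∀ A₁ : Subgroup X, A₁ ≤ N → B ≤ Subgroup.normalizer (A₁ : Set X) → ⁅B, ⁅A₁, A₁⁆⁆ = ⊥ →
      ⁅⁅B ⊓ Subgroup.centralizer (B : Set X), A₁⁆, A₁⁆ = ⊥ →
      ⁅B, A₁⁆ ≤ B ⊓ Subgroup.centralizer (B : Set X)) :
    B ≤ pCore p X := by
  by_contra hBT
  obtain ⟨N, N₀, hNn, hN₀n, hnice, hBN, hBN₀⟩ := exists_nice hcent B hBT
  haveI := hNn
  haveI := hN₀n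
  have hNB : N ≤ Subgroup.normalizer (B : Set X) := hnorm N N₀ hNn hN₀n hnice
  have hNp : IsPGroup p ↥N := hnice.isPGroup
  set Z := B ⊓ Subgroup.centralizer (B : Set X) with hZ
  have hBN' : B ≤ Subgroup.normalizer (N : Set X) := Subgroup.le_normalizer_of_normal
  have hZB : ⁅Z, B⁆ = ⊥ := Subgroup.commutator_eq_bot_iff_le_centralizer.2 inf_le_right
  -- `N` is not abelian
  have hNnab : ⁅N, N⁆ ≠ ⊥ := by
    intro hab
    apply hBN
    apply le_DD_of_quad hX N hNp B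
    have h1 : ⁅B, N⁆ ≤ Z := hstar N N₀ hNn hN₀n hnice N le_rfl hBN'
      (by rw [hab]; exact Subgroup.commutator_bot_right _)
      (by rw [eq_bot_iff, ← hab]; exact Subgroup.commutator_mono (Subgroup.commutator_le_right _ N) le_rfl)
    rw [eq_bot_iff, ← hZB]
    exact Subgroup.commutator_mono (by rw [Subgroup.commutator_comm]; exact h1) le_rfl
  haveI : (Subgroup.centralizer (N : Set X)).Normal := Subgroup.normal_centralizer
  have hZN : N ⊓ Subgroup.centralizer (N : Set X) ≤ N₀ := by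
    rcases hnice.max (N ⊓ Subgroup.centralizer (N : Set X)) inferInstance inf_le_left with h | h
    · exfalso
      apply hNnab
      rw [Subgroup.commutator_eq_bot_iff_le_centralizer]
      exact inf_eq_left.1 h
    · exact h
  have hN2 : ⁅N, N⁆ ≤ Subgroup.centralizer (N : Set X) := hnice.comm_le.trans hnice.le_Z
  -- the centre of `B`
  have hNinvB : KInv N B := kinv_of_le_normalizer hNB
  have hNinvZ : KInv N Z := kinv_inf hNinvB (kinv_centralizer hNinvB)
  have hZNcomm : ⁅Z, N⁆ ≤ Z := commutator_le_of_kinv hNinvZ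
  have hZZ : ⁅Z, Z⁆ = ⊥ := by
    rw [eq_bot_iff, ← hZB]; exact Subgroup.commutator_mono le_rfl inf_le_left
  have hZDD : Z ≤ DD p N := by
    apply le_DD_of_quad hX N hNp Z
    rw [eq_bot_iff, ← hZZ]
    exact Subgroup.commutator_mono (by rw [Subgroup.commutator_comm]; exact hZNcomm) le_rfl
  have hZNN₀ : ⁅Z, N⁆ ≤ N₀ := by
    rw [Subgroup.commutator_comm]
    exact (Subgroup.commutator_mono le_rfl hZDD).trans hnice.comm_DD_le
  have hZNN : ⁅⁅Z, N⁆, N⁆ = ⊥ := by
    rw [eq_bot_iff]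
    calc ⁅⁅Z, N⁆, N⁆ ≤ ⁅N₀, N⁆ := Subgroup.commutator_mono hZNN₀ le_rfl
      _ = ⊥ := by rw [Subgroup.commutator_eq_bot_iff_le_centralizer]; exact hnice.le_Z
  -- the subgroup `E`
  set Y := ⁅N, N⁆ ⊓ Subgroup.centralizer (B : Set X) with hY
  set E := NE N Y hN2 with hE
  have hEN : E ≤ N := fun a ha => ha.1
  have hBinvE : KInv B E := by
    intro b hb a ha
    refine ⟨hNn.conj_mem a ha.1 b, fun c hc => ?_⟩
    have e : ⁅b * a * b⁻¹, c⁆ = b * ⁅a, b⁻¹ * c * b⁆ * b⁻¹ := by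
      simp only [commutatorElement_def]; group
    have hc' : b⁻¹ * c * b ∈ N := by
      have := hNn.conj_mem c hc b⁻¹
      simpa using this
    have hy := ha.2 _ hc'
    have h3 : b * ⁅a, b⁻¹ * c * b⁆ * b⁻¹ = ⁅a, b⁻¹ * c * b⁆ := by
      have := Subgroup.mem_centralizer_iff.1 hy.2 b hb
      rw [this]; group
    rw [e, h3]; exact hy
  set K := DD p N₀ with hK
  haveI hKn : K.Normal := DD_normal N₀
  set H := K ⊓ Subgroup.centralizer (N₀ : Set X) with hH
  haveI : (Subgroup.centralizer (N₀ : Set X)).Normal := Subgroup.normal_centralizer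
  haveI hHn : H.Normal := inferInstance
  have hHinvE : KInv H E := by
    intro h hh a ha
    refine ⟨hNn.conj_mem a ha.1 h, fun c hc => ?_⟩
    have e : ⁅h * a * h⁻¹, c⁆ = h * ⁅a, h⁻¹ * c * h⁆ * h⁻¹ := by
      simp only [commutatorElement_def]; group
    have hc' : h⁻¹ * c * h ∈ N := by
      have := hNn.conj_mem c hc h⁻¹
      simpa using this
    have hy := ha.2 _ hc'
    have hyN₀ : ⁅a, h⁻¹ * c * h⁆ ∈ N₀ := hnice.comm_le hy.1
    have h3 : h * ⁅a, h⁻¹ * c * h⁆ * h⁻¹ = ⁅a, h⁻¹ * c * h⁆ := by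
      have := Subgroup.mem_centralizer_iff.1 hh.2 _ hyN₀
      rw [← this]; group
    rw [e, h3]; exact hy
  have hEE : ⁅E, E⁆ ≤ Y := by
    rw [Subgroup.commutator_le]
    intro a ha c hc
    exact ha.2 c (hEN hc)
  have hstarE : ⁅B, E⁆ ≤ Z := hstar N N₀ hNn hN₀n hnice E hEN (le_normalizer_of_kinv hBinvE)
    (by rw [Subgroup.commutator_comm, Subgroup.commutator_eq_bot_iff_le_centralizer]
        exact hEE.trans inf_le_right)
    (by rw [eq_bot_iff, ← hZNN]
        exact Subgroup.commutator_mono (Subgroup.commutator_mono le_rfl hEN) hEN)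
  have hEquad : ⁅⁅E, B⁆, B⁆ = ⊥ := by
    rw [eq_bot_iff, ← hZB]
    exact Subgroup.commutator_mono (by rw [Subgroup.commutator_comm]; exact hstarE) le_rfl
  -- `[N, B, B] ≤ E`
  have hNBB : ⁅⁅N, B⁆, B⁆ ≤ E := by
    have h1 : ⁅N, B⁆ ≤ B := commutator_le_right_of_le_normalizer N B hNB
    have h2 : ⁅⁅N, B⁆, B⁆ ≤ Z := by
      apply le_inf
      · exact (Subgroup.commutator_mono h1 le_rfl).trans (comm_self_le B)
      · exact (Subgroup.commutator_mono h1 le_rfl).trans hB2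
    have h3 : ⁅⁅N, B⁆, B⁆ ≤ N :=
      (Subgroup.commutator_mono (Subgroup.commutator_le_left N B) le_rfl).trans
        (Subgroup.commutator_le_left N B)
    intro c' hc'
    have hc'Z := h2 hc'
    have hc'N := h3 hc'
    refine ⟨hc'N, fun c hc => Subgroup.mem_inf.2 ⟨Subgroup.commutator_mem_commutator hc'N hc, ?_⟩⟩
    rw [Subgroup.mem_centralizer_iff]
    intro b hb
    set w := ⁅b, c⁆ with hw
    have hwB : w ∈ B := by
      have : w = b * (c * b⁻¹ * c⁻¹) := by rw [hw]; simp only [commutatorElement_def]; group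
      rw [this]
      exact mul_mem hb (hNinvB c hc _ (inv_mem hb))
    have hwN : w ∈ N := by
      have : w = (b * c * b⁻¹) * c⁻¹ := by rw [hw]; simp only [commutatorElement_def]
      rw [this]
      exact mul_mem (hNn.conj_mem c hc b) (inv_mem hc)
    have hcb : b * c' = c' * b := Subgroup.mem_centralizer_iff.1 hc'Z.2 b hb
    have hcw : ⁅c', w⁆ = 1 := by
      apply commutatorElement_eq_one_iff_mul_comm.2
      exact (Subgroup.mem_centralizer_iff.1 hc'Z.2 w hwB).symm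
    have hyc : ⁅c', c⁆ ∈ Subgroup.centralizer (N : Set X) :=
      hN2 (Subgroup.commutator_mem_commutator hc'N hc)
    have hwy : w * ⁅c', c⁆ * w⁻¹ = ⁅c', c⁆ := by
      have := Subgroup.mem_centralizer_iff.1 hyc w hwN
      rw [this]; group
    have e1 : b * ⁅c', c⁆ * b⁻¹ = ⁅b * c' * b⁻¹, w * c⁆ := by
      rw [hw]; simp only [commutatorElement_def]; group
    have e2 : b * c' * b⁻¹ = c' := by rw [hcb]; group
    have e3 : ⁅c', w * c⁆ = ⁅c', w⁆ * (w * ⁅c', c⁆ * w⁻¹) := by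
      simp only [commutatorElement_def]; group
    have e4 : b * ⁅c', c⁆ * b⁻¹ = ⁅c', c⁆ := by
      rw [e1, e2, e3, hcw, hwy, one_mul]
    calc b * ⁅c', c⁆ = b * ⁅c', c⁆ * b⁻¹ * b := by group
      _ = ⁅c', c⁆ * b := by rw [e4]
  -- Lemma Q in `X ⧸ N₀`
  set π := QuotientGroup.mk' N₀ with hπ
  have hsurj : Function.Surjective π := QuotientGroup.mk'_surjective N₀
  obtain ⟨hVn, hVab, hVp, hVne, hmin⟩ := hnice.chief
  haveI := hVn
  haveI : (H.map π).Normal := hHn.map π hsurj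
  have hQ := lemmaQ (hst N₀) (N.map π) (H.map π) (B.map π) (E.map π) hVab hVp hVne hmin
    (Subgroup.map_mono hEN) (kinv_map π hHinvE) (kinv_map π hBinvE)
    (by rw [← Subgroup.map_commutator, ← Subgroup.map_commutator]; exact Subgroup.map_mono hNBB)
    (by rw [← Subgroup.map_commutator, ← Subgroup.map_commutator, hEquad, Subgroup.map_bot])
  haveI : (Subgroup.centralizer ((N.map π : Subgroup (X ⧸ N₀)) : Set (X ⧸ N₀))).Normal :=
    Subgroup.normal_centralizer
  set HV : Subgroup X := H ⊓ (Subgroup.centralizer ((N.map π : Subgroup (X ⧸ N₀)) : Set (X ⧸ N₀))).comap π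
    with hHV
  haveI hHVn : HV.Normal := inferInstance
  have hHB_HV : ⁅H, B⁆ ≤ HV := by
    apply le_inf (Subgroup.commutator_le_left H B)
    intro w hw
    rw [Subgroup.mem_comap]
    apply hQ
    rw [← Subgroup.map_commutator]
    exact ⟨w, hw, rfl⟩
  have hHVact : PAct p HV N := by
    intro w hw
    apply pact_of_stab N N₀ hNp hnice.le_N w hw.1.2
    intro a ha
    apply mem_of_map_eq_one (N₀ := N₀)
    rw [map_commutatorElement]
    apply commutatorElement_eq_one_iff_mul_comm.2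
    exact Subgroup.mem_centralizer_iff.1 (Subgroup.mem_comap.1 hw.2) (π a) ⟨a, ha, rfl⟩
  have hHVO : HV ≤ DD p N := le_DD hHVn hHVact
  -- Lemma R in `X ⧸ DD p N`
  set O := DD p N with hO
  haveI hOn : O.Normal := DD_normal N
  set π' := QuotientGroup.mk' O with hπ'
  have hsurj' : Function.Surjective π' := QuotientGroup.mk'_surjective O
  have hcore : pCore p (X ⧸ O) = ⊥ := by
    set O₂ := (pCore p (X ⧸ O)).comap π' with hO₂
    have hO₂n : O₂.Normal := (Cfsg.Agent.Lib.Helper2.pCore_normal p).comap π'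
    have hO₂act : PAct p O₂ N := by
      intro g hg
      obtain ⟨k, hk⟩ := (Cfsg.Agent.Lib.Helper2.pCore_isPGroup (G := X ⧸ O) p) ⟨π' g, hg⟩
      have hgO : g ^ p ^ k ∈ O := by
        have h2 := congrArg Subtype.val hk
        simp only [SubgroupClass.coe_pow, Subgroup.coe_one] at h2
        rw [← map_pow, hπ', QuotientGroup.mk'_apply, QuotientGroup.eq_one_iff] at h2
        exact h2
      obtain ⟨j, hj⟩ := DD_pact (p := p) N _ hgO
      exact ⟨k + j, by rw [pow_add, pow_mul]; exact hj⟩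
    have hO₂O : O₂ ≤ O := le_DD hO₂n hO₂act
    rw [eq_bot_iff]
    intro y hy
    obtain ⟨x, rfl⟩ := hsurj' y
    have : x ∈ O := hO₂O hy
    rw [Subgroup.mem_bot, hπ', QuotientGroup.mk'_apply, QuotientGroup.eq_one_iff]
    exact this
  haveI : (H.map π').Normal := hHn.map π' hsurj'
  haveI : (K.map π').Normal := hKn.map π' hsurj'
  have hR := lemmaR hcore (H.map π') (K.map π') (B.map π')
    (by
      rintro _ ⟨g, hg, rfl⟩
      obtain ⟨k, hk⟩ := DD_pact (p := p) N₀ g hg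
      exact ⟨k, ⟨g ^ p ^ k, ⟨pow_mem hg _, hk⟩, by rw [map_pow]⟩⟩)
    (Subgroup.map_mono hBN₀) (hBp.map π')
    (by
      rw [← Subgroup.map_commutator, eq_bot_iff]
      rintro _ ⟨w, hw, rfl⟩
      rw [Subgroup.mem_bot, hπ', QuotientGroup.mk'_apply, QuotientGroup.eq_one_iff]
      exact hHVO (hHB_HV hw))
  apply hBN
  intro b hb
  have : π' b ∈ B.map π' := ⟨b, hb, rfl⟩
  rw [hR, Subgroup.mem_bot, hπ', QuotientGroup.mk'_apply, QuotientGroup.eq_one_iff] at this
  exact this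

end Cfsg.Agent.Lib.Helper1.KStab
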