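import Mathlib
import Cfsg.Agent.Lib.Helper1.KInfStable
import Cfsg.Agent.Lib.Helper11.KInfGlue

set_option autoImplicit false

/-! Theorem K, part (c), final form: normality of the K-infinity subgroups in a constrained group all of whose
quotients are `p`-stable. -/

namespace Cfsg.Agent.Lib.Helper1.KStab

open Cfsg Cfsg.Agent.Lib.Helper1.KInf Cfsg.Agent.Lib.Helper1.SecT Cfsg.Agent.Lib.Helper1.StabAct
  Cfsg.Agent.Lib.Helper1.QC Cfsg.Agent.Lib.Helper1.PST Cfsg.Agent.Lib.Helper1.KInfQ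
open scoped commutatorElement

universe u

variable {p : ℕ} [Fact p.Prime]
variable {X : Type u} [Group X]

theorem nps_self [Finite X] (hst : ∀ (Y : Subgroup X) [Y.Normal], IsNormalizerPStable p (X ⧸ Y)) :
    IsNormalizerPStable p X :=
  Cfsg.Agent.Lib.Helper11.NPSIso.nps_of_equiv (QuotientGroup.quotientBot (G := X)) (hst ⊥)

/-- All terms of the K-sequence of `S` lie in `O_p(X)`. -/
theorem kc_terms [Finite X] (hst : ∀ (Y : Subgroup X) [Y.Normal], IsNormalizerPStable p (X ⧸ Y))
    (hcent : Subgroup.centralizer ((pCore p X : Subgroup X) : Set X) ≤ pCore p X) (S : Sylow p X) :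
    ∀ n : ℕ, kSeqEven ↥(S : Subgroup X) n ≤ (pCore p X).subgroupOf S ∧
      kSeqOdd ↥(S : Subgroup X) (n + 1) ≤ (pCore p X).subgroupOf S := by
  have hX : IsNormalizerPStable p X := nps_self hst
  haveI hTn : (pCore p X).Normal := Cfsg.Agent.Lib.Helper2.pCore_normal p
  set T := pCore p X with hT
  have hTS : T ≤ (S : Subgroup X) := Cfsg.Agent.Lib.Helper2.pCore_le_sylow p S
  have hP : IsPGroup p ↥(S : Subgroup X) := S.isPGroup'
  set f : ↥(S : Subgroup X) →* X := (S : Subgroup X).subtype with hf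
  have hfi : Function.Injective f := Subgroup.subtype_injective _
  set T' : Subgroup ↥(S : Subgroup X) := T.subgroupOf S with hT'
  have hTmap : T'.map f = T := Subgroup.map_subgroupOf_eq_of_le hTS
  -- facts on nice subgroups
  have hNmap : ∀ N N₀ : Subgroup X, Nice p N N₀ → (N.subgroupOf S).map f = N := fun N N₀ h =>
    Subgroup.map_subgroupOf_eq_of_le (h.le_T.trans hTS)
  have hN2 : ∀ (N N₀ : Subgroup X) (_ : N.Normal) (_ : N₀.Normal), Nice p N N₀ →
      N ∈ classTwoSubgroups X := fun N N₀ hNn hN₀n h => by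
    haveI := hNn
    haveI := hN₀n
    exact h.comm_le.trans h.le_Z
  have hN'2 : ∀ (N N₀ : Subgroup X) (_ : N.Normal) (_ : N₀.Normal), Nice p N N₀ →
      N.subgroupOf S ∈ classTwoSubgroups ↥(S : Subgroup X) := by
    intro N N₀ hNn hN₀n h
    rw [← classTwo_map_iff f hfi, hNmap N N₀ h]
    exact hN2 N N₀ hNn hN₀n h
  -- Lemma A
  have lemA : ∀ (N N₀ : Subgroup X) (_ : N.Normal) (_ : N₀.Normal), Nice p N N₀ →
      ∀ Q : Subgroup ↥(S : Subgroup X), N.subgroupOf S ∈ kLowerStarFamily Q := by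
    intro N N₀ hNn hN₀n h Q
    haveI := hNn
    haveI := hN₀n
    haveI : (N.subgroupOf S).Normal := inferInstance
    refine ⟨hN'2 N N₀ hNn hN₀n h, ?_, ?_⟩
    · rw [Subgroup.normalizer_eq_top_iff.2 inferInstance]; exact le_top
    · intro A _ _ hnorm hc _
      rw [← Subgroup.map_le_map_iff_of_injective hfi, map_inf_centralizer f hfi, Subgroup.map_commutator,
        hNmap N N₀ h]
      apply claim1 hst N N₀ h (A.map f)
      · rw [← hNmap N N₀ h, le_normalizer_map_iff f hfi]; exact hnorm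
      · have := congrArg (Subgroup.map f) hc
        rw [Subgroup.map_commutator, Subgroup.map_commutator, hNmap N N₀ h, Subgroup.map_bot] at this
        exact this
  -- Lemma B
  have lemB : ∀ R B : Subgroup ↥(S : Subgroup X),
      (∀ (N N₀ : Subgroup X) (_ : N.Normal) (_ : N₀.Normal), Nice p N N₀ → N.subgroupOf S ≤ R) →
      B ∈ kUpperStarFamily R → B ≤ T' := by
    intro R B hR hB
    rw [hT', Subgroup.subgroupOf, ← Subgroup.map_le_iff_le_comap]
    apply claim2 hX hcent (B.map f)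
    intro N N₀ hNn hN₀n h
    have h1 : ⁅⁅N.subgroupOf S, B⁆, B⁆ = ⊥ := by
      rw [eq_bot_iff]
      calc ⁅⁅N.subgroupOf S, B⁆, B⁆ ≤ ⁅B ⊓ Subgroup.centralizer (B : Set ↥(S : Subgroup X)), B⁆ :=
            Subgroup.commutator_mono (by
              rw [Subgroup.commutator_comm]
              exact (Subgroup.commutator_mono le_rfl (hR N N₀ hNn hN₀n h)).trans hB.2) le_rfl
        _ = ⊥ := Subgroup.commutator_eq_bot_iff_le_centralizer.2 inf_le_right
    have := congrArg (Subgroup.map f) h1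
    rw [Subgroup.map_commutator, Subgroup.map_commutator, hNmap N N₀ h, Subgroup.map_bot] at this
    exact this
  -- Lemma C
  have lemC : ∀ R B : Subgroup ↥(S : Subgroup X),
      (∀ (N N₀ : Subgroup X) (_ : N.Normal) (_ : N₀.Normal), Nice p N N₀ → N.subgroupOf S ≤ R) →
      B ∈ kLowerStarFamily R → B ≤ T' := by
    intro R B hR hB
    rw [hT', Subgroup.subgroupOf, ← Subgroup.map_le_iff_le_comap]
    apply claim3 hst hX hcent (B.map f)
    · exact S.isPGroup'.to_le (Subgroup.map_subtype_le B)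
    · exact (classTwo_map_iff f hfi B).2 hB.1
    · intro N N₀ hNn hN₀n h
      rw [← hNmap N N₀ h, le_normalizer_map_iff f hfi]
      exact (hR N N₀ hNn hN₀n h).trans hB.2.1
    · intro N N₀ hNn hN₀n h A₁ hA₁N hnorm hc hquad
      have hA₁S : A₁ ≤ (S : Subgroup X) := hA₁N.trans (h.le_T.trans hTS)
      have hA₁map : (A₁.subgroupOf S).map f = A₁ := Subgroup.map_subgroupOf_eq_of_le hA₁S
      have hA₁2 : A₁ ∈ classTwoSubgroups X := by
        show ⁅A₁, A₁⁆ ≤ Subgroup.centralizer (A₁ : Set X)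
        exact (Subgroup.commutator_mono hA₁N hA₁N).trans
          ((hN2 N N₀ hNn hN₀n h).trans (Subgroup.centralizer_le hA₁N))
      rw [← hA₁map, ← map_inf_centralizer f hfi, ← Subgroup.map_commutator,
        Subgroup.map_le_map_iff_of_injective hfi]
      apply hB.2.2 (A₁.subgroupOf S)
      · rw [← classTwo_map_iff f hfi, hA₁map]; exact hA₁2
      · refine le_trans ?_ (hR N N₀ hNn hN₀n h)
        intro x hx
        exact hA₁N hx
      · rw [← le_normalizer_map_iff f hfi, hA₁map]; exact hnorm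
      · rw [← Subgroup.map_eq_bot_iff_of_injective _ hfi, Subgroup.map_commutator, Subgroup.map_commutator,
          hA₁map]
        exact hc
      · rw [← Subgroup.map_eq_bot_iff_of_injective _ hfi, Subgroup.map_commutator, Subgroup.map_commutator,
          map_inf_centralizer f hfi, hA₁map]
        exact hquad
  -- induction
  have hQ : ∀ n, (∀ (N N₀ : Subgroup X) (_ : N.Normal) (_ : N₀.Normal), Nice p N N₀ →
      N.subgroupOf S ≤ kSeqOdd ↥(S : Subgroup X) n) ∧ kSeqEven ↥(S : Subgroup X) n ≤ T' := by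
    intro n
    induction n with
    | zero =>
      have h0 : ∀ (N N₀ : Subgroup X) (_ : N.Normal) (_ : N₀.Normal), Nice p N N₀ →
          N.subgroupOf S ≤ kSeqOdd ↥(S : Subgroup X) 0 := fun _ _ _ _ _ => le_top
      refine ⟨h0, ?_⟩
      apply sSup_le
      intro B hB
      exact lemC _ B h0 hB
    | succ n ih =>
      have h1 : ∀ (N N₀ : Subgroup X) (_ : N.Normal) (_ : N₀.Normal), Nice p N N₀ →
          N.subgroupOf S ≤ kSeqOdd ↥(S : Subgroup X) (n + 1) := by
        intro N N₀ hNn hN₀n h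
        rw [kSeqOdd_succ]
        apply le_sSup
        refine ⟨hN'2 N N₀ hNn hN₀n h, ?_⟩
        refine (Subgroup.commutator_mono le_rfl ih.2).trans ?_
        rw [← Subgroup.map_le_map_iff_of_injective hfi, map_inf_centralizer f hfi, Subgroup.map_commutator,
          hNmap N N₀ h, hTmap]
        exact h.comm_T.trans (le_inf h.le_N h.le_Z)
      refine ⟨h1, ?_⟩
      apply sSup_le
      intro B hB
      exact lemC _ B h1 hB
  intro n
  refine ⟨(hQ n).2, ?_⟩
  rw [kSeqOdd_succ]
  apply sSup_le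
  intro B hB
  refine lemB _ B ?_ hB
  intro N N₀ hNn hN₀n h
  exact le_sSup (lemA N N₀ hNn hN₀n h _)

/-- Theorem K(c). -/
theorem kc_normal [Finite X] (W : ∀ (Q : Type u) [Group Q], Subgroup Q)
    (hW : IsCharPFunctor.{u} p W)
    (hsub : ∀ (P : Type u) [Group P] [Finite P], IsPGroup p P → ∀ Q : Subgroup P,
      (∀ n : ℕ, kSeqEven P n ≤ Q ∧ kSeqOdd P (n + 1) ≤ Q) → (W ↥Q).map Q.subtype = W P)
    (hst : ∀ (Y : Subgroup X) [Y.Normal], IsNormalizerPStable p (X ⧸ Y))
    (hcent : Subgroup.centralizer ((pCore p X : Subgroup X) : Set X) ≤ pCore p X) (S : Sylow p X) :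
    (inducedFunctor W (S : Subgroup X)).Normal :=
  normal_of_terms_le W hW hsub S (kc_terms hst hcent S)

theorem hNonNormal_of_hsub (W : ∀ (Q : Type u) [Group Q], Subgroup Q)
    (hW : IsCharPFunctor.{u} p W)
    (hsub : ∀ (P : Type u) [Group P] [Finite P], IsPGroup p P → ∀ Q : Subgroup P,
      (∀ n : ℕ, kSeqEven P n ≤ Q ∧ kSeqOdd P (n + 1) ≤ Q) → (W ↥Q).map Q.subtype = W P) :
    Cfsg.Agent.Lib.Helper11.KInfGlue.HNonNormal.{u} p W := by
  intro Y _ _ T hn hcent
  by_contra hcon
  apply hn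
  apply kc_normal W hW hsub _ hcent T
  intro N hN
  by_contra h
  exact hcon ⟨N, hN, h⟩

theorem hNonNormal_lower : Cfsg.Agent.Lib.Helper11.KInfGlue.HNonNormal.{u} p kInfLower :=
  hNonNormal_of_hsub kInfLower Cfsg.Agent.Lib.Helper1.KInfC.isCharPFunctor_kInfLower
    (fun P _ _ hP Q hQ => Cfsg.Agent.Lib.Helper1.KInfC.hsub_lower P hP Q hQ)

theorem hNonNormal_upper : Cfsg.Agent.Lib.Helper11.KInfGlue.HNonNormal.{u} p kInfUpper :=
  hNonNormal_of_hsub kInfUpper Cfsg.Agent.Lib.Helper1.KInfC.isCharPFunctor_kInfUpper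
    (fun P _ _ hP Q hQ => Cfsg.Agent.Lib.Helper1.KInfC.hsub_upper P hP Q hQ)

end Cfsg.Agent.Lib.Helper1.KStab
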