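import Mathlib
import Cfsg.Agent.Lib.Helper1.KInfStableNormal

set_option autoImplicit false

/-! Theorem K, parts (a)+(b) together: the element acting quartically on chief factors also acts
quadratically on `Z(O_p(X))`. -/

namespace Cfsg.Agent.Lib.Helper1.KInfQ2

open Cfsg Cfsg.Agent.Lib.Helper1.KInf Cfsg.Agent.Lib.Helper1.SecT Cfsg.Agent.Lib.Helper1.StabAct
  Cfsg.Agent.Lib.Helper1.QC Cfsg.Agent.Lib.Helper1.KInfQ
open scoped commutatorElement

universe u

variable {p : ℕ} [Fact p.Prime]

/-- Theorem K(a). -/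
theorem ka_normal' {X : Type u} [Group X] [Finite X] (W : ∀ (Q : Type u) [Group Q], Subgroup Q)
    (hW : IsCharPFunctor.{u} p W)
    (hsub : ∀ (P : Type u) [Group P] [Finite P], IsPGroup p P → ∀ Q : Subgroup P,
      (∀ n : ℕ, kSeqEven P n ≤ Q ∧ kSeqOdd P (n + 1) ≤ Q) → (W ↥Q).map Q.subtype = W P)
    (S : Sylow p X)
    (hq : ∀ g ∈ (S : Subgroup X), Good (Subgroup.zpowers g) 4 (pCore p X) →
      ⁅⁅pCore p X ⊓ Subgroup.centralizer ((pCore p X : Subgroup X) : Set X), Subgroup.zpowers g⁆,
        Subgroup.zpowers g⁆ = ⊥ → g ∈ pCore p X) :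
    (inducedFunctor W (S : Subgroup X)).Normal := by
  apply normal_of_terms_le W hW hsub S
  haveI hTn : (pCore p X).Normal := Cfsg.Agent.Lib.Helper2.pCore_normal p
  set T := pCore p X with hT
  have hTS : T ≤ (S : Subgroup X) := Cfsg.Agent.Lib.Helper2.pCore_le_sylow p S
  have hTp : IsPGroup p ↥T := Cfsg.Agent.Lib.Helper2.pCore_isPGroup p
  have hP : IsPGroup p ↥(S : Subgroup X) := S.isPGroup'
  obtain ⟨M, hMn, hMT, hMab, hMmax⟩ := exists_max_abelian_normal T
  haveI := hMn
  set A := critA T M with hA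
  haveI hAn : A.Normal := critA_normal T M
  have hMA : M ≤ A := le_critA T M hMT hMab
  have hAT : A ≤ T := (critA_le T M).trans inf_le_left
  have hAS : A ≤ (S : Subgroup X) := hAT.trans hTS
  have hMS : M ≤ (S : Subgroup X) := hMT.trans hTS
  set T' : Subgroup ↥(S : Subgroup X) := T.subgroupOf S with hT'
  set A' : Subgroup ↥(S : Subgroup X) := A.subgroupOf S with hA'
  set M' : Subgroup ↥(S : Subgroup X) := M.subgroupOf S with hM'
  haveI hA'n : A'.Normal := inferInstance
  haveI hM'n : M'.Normal := inferInstance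
  have hZM : T ⊓ Subgroup.centralizer (T : Set X) ≤ M := by
    haveI : (Subgroup.centralizer (T : Set X)).Normal := Subgroup.normal_centralizer
    have hle : M ⊔ (T ⊓ Subgroup.centralizer (T : Set X)) ≤ M := by
      apply hMmax _ inferInstance (sup_le hMT inf_le_left) _ le_sup_left
      have hcent : M ⊔ (T ⊓ Subgroup.centralizer (T : Set X)) ≤
          Subgroup.centralizer ((M ⊔ (T ⊓ Subgroup.centralizer (T : Set X)) : Subgroup X) : Set X) := by
        apply sup_le
        · intro a ha
          apply Cfsg.Agent.Lib.Helper1.KStab.mem_centralizer_sup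
          · rw [Subgroup.mem_centralizer_iff]
            intro m hm
            exact hMab m hm a ha
          · rw [Subgroup.mem_centralizer_iff]
            intro z hz
            exact (Subgroup.mem_centralizer_iff.1 (Subgroup.mem_inf.1 hz).2 a (hMT ha)).symm
        · intro z hz
          apply Cfsg.Agent.Lib.Helper1.KStab.mem_centralizer_sup
          · rw [Subgroup.mem_centralizer_iff]
            intro m hm
            exact Subgroup.mem_centralizer_iff.1 (Subgroup.mem_inf.1 hz).2 m (hMT hm)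
          · rw [Subgroup.mem_centralizer_iff]
            intro z' hz'
            exact Subgroup.mem_centralizer_iff.1 (Subgroup.mem_inf.1 hz).2 z' (Subgroup.mem_inf.1 hz').1
      intro a ha b hb
      exact (Subgroup.mem_centralizer_iff.1 (hcent hb) a ha)
    exact le_sup_right.trans hle
  -- the offender lemma
  have offender : ∀ B : Subgroup ↥(S : Subgroup X), ⁅⁅⁅A', B⁆, B⁆, B⁆ = ⊥ → ⁅⁅M', B⁆, B⁆ = ⊥ → B ≤ T' := by
    intro B h3 h2 b hb
    show (b : X) ∈ T
    have hzb : Subgroup.zpowers b ≤ B := (Subgroup.zpowers_le).2 hb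
    have hMb : ⁅⁅M, Subgroup.zpowers (b : X)⁆, Subgroup.zpowers (b : X)⁆ = ⊥ := by
      have h1 : ⁅⁅M', Subgroup.zpowers b⁆, Subgroup.zpowers b⁆ = ⊥ := by
        rw [eq_bot_iff, ← h2]
        exact Subgroup.commutator_mono (Subgroup.commutator_mono le_rfl hzb) hzb
      have h4 := congrArg (Subgroup.map (S : Subgroup X).subtype) h1
      rw [Subgroup.map_commutator, Subgroup.map_commutator,
        MonoidHom.map_zpowers, Subgroup.map_bot, Subgroup.map_subgroupOf_eq_of_le hMS] at h4
      exact h4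
    apply hq (b : X) b.2 _ (by
      rw [eq_bot_iff, ← hMb]
      exact Subgroup.commutator_mono (Subgroup.commutator_mono hZM le_rfl) le_rfl)
    apply good_of_cubic T hTp M hMT hMab hMmax (Subgroup.zpowers (b : X)) 4 le_rfl
    · have h1 : ⁅⁅⁅A', Subgroup.zpowers b⁆, Subgroup.zpowers b⁆, Subgroup.zpowers b⁆ = ⊥ := by
        rw [eq_bot_iff, ← h3]
        exact Subgroup.commutator_mono (Subgroup.commutator_mono (Subgroup.commutator_mono le_rfl hzb) hzb) hzb
      have h4 := congrArg (Subgroup.map (S : Subgroup X).subtype) h1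
      rw [Subgroup.map_commutator, Subgroup.map_commutator, Subgroup.map_commutator,
        MonoidHom.map_zpowers, Subgroup.map_bot, Subgroup.map_subgroupOf_eq_of_le hAS] at h4
      exact h4
    · have h1 : ⁅⁅M', Subgroup.zpowers b⁆, Subgroup.zpowers b⁆ = ⊥ := by
        rw [eq_bot_iff, ← h2]
        exact Subgroup.commutator_mono (Subgroup.commutator_mono le_rfl hzb) hzb
      have h4 := congrArg (Subgroup.map (S : Subgroup X).subtype) h1
      rw [Subgroup.map_commutator, Subgroup.map_commutator,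
        MonoidHom.map_zpowers, Subgroup.map_bot, Subgroup.map_subgroupOf_eq_of_le hMS] at h4
      exact h4
  -- facts inside `S`
  have hM'c : IsMulCommutative ↥M' := by
    refine ⟨⟨fun a b => ?_⟩⟩
    apply Subtype.ext
    apply Subtype.ext
    have ha : ((a : ↥(S : Subgroup X)) : X) ∈ M := a.2
    have hb : ((b : ↥(S : Subgroup X)) : X) ∈ M := b.2
    exact hMab _ ha _ hb
  have hM'A' : M' ≤ A' := fun x hx => hMA hx
  have hA'T' : A' ≤ T' := fun x hx => hAT hx
  have hAT' : ⁅A', T'⁆ ≤ M' := by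
    rw [Subgroup.commutator_le]
    intro a ha t ht
    show ((⁅a, t⁆ : ↥(S : Subgroup X)) : X) ∈ M
    have ha' : (a : X) ∈ critA T M := ha
    exact ha'.2 (t : X) ht
  have hM'Z : M' ≤ A' ⊓ Subgroup.centralizer (A' : Set ↥(S : Subgroup X)) := by
    intro m hm
    refine Subgroup.mem_inf.2 ⟨hM'A' hm, ?_⟩
    rw [Subgroup.mem_centralizer_iff]
    intro a ha
    apply Subtype.ext
    have ha' : (a : X) ∈ critA T M := ha
    have := Subgroup.mem_centralizer_iff.1 (Subgroup.mem_inf.1 ha'.1).2 (m : X) hm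
    exact this.symm
  have hA'cl2 : A' ∈ classTwoSubgroups ↥(S : Subgroup X) := by
    show ⁅A', A'⁆ ≤ Subgroup.centralizer (A' : Set ↥(S : Subgroup X))
    exact ((Subgroup.commutator_mono le_rfl hA'T').trans hAT').trans (hM'Z.trans inf_le_right)
  have hZM' : ⁅M', M'⁆ = ⊥ :=
    Subgroup.commutator_eq_bot_iff_le_centralizer.2 (Cfsg.Agent.S1980.abelian_le_centralizer M' hM'c)
  have h80 := Cfsg.Agent.S1980.result hP M' hM'c
  -- Claim 1
  have claim1 : ∀ Q : Subgroup ↥(S : Subgroup X), A' ∈ kLowerStarFamily Q := by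
    intro Q
    refine ⟨hA'cl2, ?_, ?_⟩
    · rw [Subgroup.normalizer_eq_top_iff.2 hA'n]; exact le_top
    · intro A₁ hA₁ _ hnorm _ hquad
      have hA₁T : A₁ ≤ T' := by
        apply offender
        · have h1 : ⁅A', A₁⁆ ≤ A₁ := commutator_le_right_of_le_normalizer A' A₁ hnorm
          have h2 : ⁅⁅A', A₁⁆, A₁⁆ ≤ Subgroup.centralizer (A₁ : Set ↥(S : Subgroup X)) :=
            (Subgroup.commutator_mono h1 le_rfl).trans hA₁
          exact Subgroup.commutator_eq_bot_iff_le_centralizer.2 h2
        · rw [eq_bot_iff, ← hquad]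
          exact Subgroup.commutator_mono (Subgroup.commutator_mono hM'Z le_rfl) le_rfl
      exact ((Subgroup.commutator_mono le_rfl hA₁T).trans hAT').trans hM'Z
  -- Claim 2
  have claim2 : ∀ R B : Subgroup ↥(S : Subgroup X), A' ≤ R → B ∈ kUpperStarFamily R → B ≤ T' := by
    intro R B hAR hB
    have h1 : ⁅⁅A', B⁆, B⁆ = ⊥ := by
      rw [eq_bot_iff]
      calc ⁅⁅A', B⁆, B⁆ ≤ ⁅B ⊓ Subgroup.centralizer (B : Set ↥(S : Subgroup X)), B⁆ :=
            Subgroup.commutator_mono (by
              rw [Subgroup.commutator_comm]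
              exact (Subgroup.commutator_mono le_rfl hAR).trans hB.2) le_rfl
        _ = ⊥ := Subgroup.commutator_eq_bot_iff_le_centralizer.2 inf_le_right
    apply offender
    · rw [h1]; exact Subgroup.commutator_bot_left _
    · rw [eq_bot_iff, ← h1]
      exact Subgroup.commutator_mono (Subgroup.commutator_mono hM'A' le_rfl) le_rfl
  -- Claim 3
  have claim3 : ∀ R B : Subgroup ↥(S : Subgroup X), A' ≤ R → B ∈ kLowerStarFamily R → B ≤ T' := by
    intro R B hAR hB
    apply offender
    · have h1 : ⁅A', B⁆ ≤ B := commutator_le_right_of_le_normalizer A' B (hAR.trans hB.2.1)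
      have h2 : ⁅⁅A', B⁆, B⁆ ≤ Subgroup.centralizer (B : Set ↥(S : Subgroup X)) :=
        (Subgroup.commutator_mono h1 le_rfl).trans hB.1
      exact Subgroup.commutator_eq_bot_iff_le_centralizer.2 h2
    · have h1 : ⁅B, M'⁆ ≤ B ⊓ Subgroup.centralizer (B : Set ↥(S : Subgroup X)) := by
        apply hB.2.2 M' h80.1 (hM'A'.trans hAR)
        · rw [Subgroup.normalizer_eq_top_iff.2 hM'n]; exact le_top
        · rw [hZM']; exact Subgroup.commutator_bot_right _
        · rw [eq_bot_iff, ← hZM']
          exact Subgroup.commutator_mono (Subgroup.commutator_le_right _ _) le_rfl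
      rw [eq_bot_iff]
      calc ⁅⁅M', B⁆, B⁆ ≤ ⁅B ⊓ Subgroup.centralizer (B : Set ↥(S : Subgroup X)), B⁆ :=
            Subgroup.commutator_mono (by rw [Subgroup.commutator_comm]; exact h1) le_rfl
        _ = ⊥ := Subgroup.commutator_eq_bot_iff_le_centralizer.2 inf_le_right
  -- induction
  have hAeven : ∀ n, A' ≤ kSeqEven ↥(S : Subgroup X) n := fun n => le_sSup (claim1 _)
  have hQ : ∀ n, A' ≤ kSeqOdd ↥(S : Subgroup X) n ∧ kSeqEven ↥(S : Subgroup X) n ≤ T' := by
    intro n
    induction n with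
    | zero =>
      refine ⟨le_top, ?_⟩
      apply sSup_le
      intro B hB
      exact claim3 _ B le_top hB
    | succ n ih =>
      have hAo : A' ≤ kSeqOdd ↥(S : Subgroup X) (n + 1) := by
        rw [kSeqOdd_succ]
        apply le_sSup
        refine ⟨hA'cl2, ?_⟩
        exact ((Subgroup.commutator_mono le_rfl ih.2).trans hAT').trans hM'Z
      refine ⟨hAo, ?_⟩
      apply sSup_le
      intro B hB
      exact claim3 _ B hAo hB
  intro n
  refine ⟨(hQ n).2, ?_⟩
  rw [kSeqOdd_succ]
  apply sSup_le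
  intro B hB
  exact claim2 _ B (hAeven n) hB

/-- Contrapositive form. -/
theorem exists_quartic_of_not_normal' {X : Type u} [Group X] [Finite X]
    (W : ∀ (Q : Type u) [Group Q], Subgroup Q) (hW : IsCharPFunctor.{u} p W)
    (hsub : ∀ (P : Type u) [Group P] [Finite P], IsPGroup p P → ∀ Q : Subgroup P,
      (∀ n : ℕ, kSeqEven P n ≤ Q ∧ kSeqOdd P (n + 1) ≤ Q) → (W ↥Q).map Q.subtype = W P)
    (S : Sylow p X) (hn : ¬ (inducedFunctor W (S : Subgroup X)).Normal) :
    ∃ g : X, g ∈ (S : Subgroup X) ∧ g ∉ pCore p X ∧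
      (∀ U V : Subgroup X, IsChiefFactor U V → U ≤ pCore p X →
        iterCommutator U (Subgroup.zpowers g) 4 ≤ V) ∧
      ⁅⁅pCore p X ⊓ Subgroup.centralizer ((pCore p X : Subgroup X) : Set X), Subgroup.zpowers g⁆,
        Subgroup.zpowers g⁆ = ⊥ := by
  by_contra hcon
  apply hn
  apply ka_normal' W hW hsub S
  intro g hg hgood hz
  by_contra hgT
  exact hcon ⟨g, hg, hgT, hgood, hz⟩

end Cfsg.Agent.Lib.Helper1.KInfQ2
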