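import Mathlib

/-!
Metacyclic relations (helper1): elements `a, b` of a group with `a ^ M = 1`, `b * a * b⁻¹ = a ^ R`,
`b ^ n = a ^ T`. Normal forms `a ^ i * b ^ j` and the bound `M * n` for the subgroup they generate.
-/

set_option autoImplicit false

namespace Cfsg.Agent.Lib.Helper1.MetaC

/-- the metacyclic relations -/
structure MC {Γ : Type*} [Group Γ] (M n R T : ℕ) (a b : Γ) : Prop where
  hM : a ^ M = 1
  hconj : b * a * b⁻¹ = a ^ R
  hbn : b ^ n = a ^ T

variable {Γ : Type*} [Group Γ] {M n R T : ℕ} {a b : Γ}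

theorem MC.conj_pow (h : MC M n R T a b) (i : ℕ) : b * a ^ i * b⁻¹ = a ^ (R * i) := by
  rw [pow_mul, ← h.hconj]
  exact (_root_.conj_pow (a := b) (b := a) (i := i)).symm

theorem MC.conj_iter (h : MC M n R T a b) (j i : ℕ) :
    b ^ j * a ^ i * (b ^ j)⁻¹ = a ^ (R ^ j * i) := by
  induction j generalizing i with
  | zero => simp
  | succ j ih =>
    have : b ^ (j + 1) * a ^ i * (b ^ (j + 1))⁻¹ = b ^ j * (b * a ^ i * b⁻¹) * (b ^ j)⁻¹ := by
      rw [pow_succ]; group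
    rw [this, h.conj_pow, ih]
    congr 1
    ring

theorem MC.swap (h : MC M n R T a b) (j i : ℕ) : b ^ j * a ^ i = a ^ (R ^ j * i) * b ^ j := by
  rw [← h.conj_iter j i]; group

theorem MC.nf_mul (h : MC M n R T a b) (i j i' j' : ℕ) :
    (a ^ i * b ^ j) * (a ^ i' * b ^ j') = a ^ (i + R ^ j * i') * b ^ (j + j') := by
  calc (a ^ i * b ^ j) * (a ^ i' * b ^ j') = a ^ i * (b ^ j * a ^ i') * b ^ j' := by group
    _ = a ^ i * (a ^ (R ^ j * i') * b ^ j) * b ^ j' := by rw [h.swap]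
    _ = a ^ (i + R ^ j * i') * b ^ (j + j') := by rw [pow_add, pow_add]; group

theorem MC.b_pow_nM (h : MC M n R T a b) : b ^ (n * M) = 1 := by
  rw [pow_mul, h.hbn, ← pow_mul, mul_comm, pow_mul, h.hM, one_pow]

theorem MC.a_inv (h : MC M n R T a b) (hM : 0 < M) : a⁻¹ = a ^ (M - 1) := by
  have : a ^ (M - 1) * a = 1 := by rw [← pow_succ, Nat.sub_add_cancel hM, h.hM]
  exact inv_eq_of_mul_eq_one_left this

theorem MC.b_inv (h : MC M n R T a b) (hM : 0 < M) (hn : 0 < n) : b⁻¹ = b ^ (n * M - 1) := by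
  have : b ^ (n * M - 1) * b = 1 := by
    rw [← pow_succ, Nat.sub_add_cancel (Nat.mul_pos hn hM), h.b_pow_nM]
  exact inv_eq_of_mul_eq_one_left this

/-- normal forms in the subgroup generated by `a` and `b` -/
theorem MC.nf (h : MC M n R T a b) (hM : 0 < M) (hn : 0 < n) {g : Γ}
    (hg : g ∈ Subgroup.closure ({a, b} : Set Γ)) : ∃ i j : ℕ, g = a ^ i * b ^ j := by
  rw [← Subgroup.mem_toSubmonoid, Subgroup.closure_toSubmonoid] at hg
  induction hg using Submonoid.closure_induction with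
  | mem x hx =>
    rcases hx with hx | hx
    · rcases hx with rfl | rfl
      · exact ⟨1, 0, by simp⟩
      · exact ⟨0, 1, by simp⟩
    · have hx' : x⁻¹ ∈ ({a, b} : Set Γ) := hx
      rcases hx' with hx' | hx'
      · refine ⟨M - 1, 0, ?_⟩
        rw [pow_zero, mul_one, ← h.a_inv hM, ← hx', inv_inv]
      · refine ⟨0, n * M - 1, ?_⟩
        rw [pow_zero, one_mul, ← h.b_inv hM hn, ← hx', inv_inv]
  | one => exact ⟨0, 0, by simp⟩
  | mul x y _ _ hx hy =>
    obtain ⟨i, j, rfl⟩ := hx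
    obtain ⟨i', j', rfl⟩ := hy
    exact ⟨_, _, h.nf_mul i j i' j'⟩

theorem MC.a_pow_mod (h : MC M n R T a b) (i : ℕ) : a ^ i = a ^ (i % M) := by
  conv_lhs => rw [← Nat.div_add_mod i M]
  rw [pow_add, pow_mul, h.hM, one_pow, one_mul]

theorem MC.b_pow_mod (h : MC M n R T a b) (j : ℕ) : b ^ j = a ^ (T * (j / n)) * b ^ (j % n) := by
  conv_lhs => rw [← Nat.div_add_mod j n]
  rw [pow_add, pow_mul, h.hbn, ← pow_mul]

/-- reduced normal forms -/
theorem MC.nf_red (h : MC M n R T a b) (hM : 0 < M) (hn : 0 < n) {g : Γ}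
    (hg : g ∈ Subgroup.closure ({a, b} : Set Γ)) :
    ∃ i j : ℕ, i < M ∧ j < n ∧ g = a ^ i * b ^ j := by
  obtain ⟨i, j, rfl⟩ := h.nf hM hn hg
  refine ⟨(i + T * (j / n)) % M, j % n, Nat.mod_lt _ hM, Nat.mod_lt _ hn, ?_⟩
  rw [← h.a_pow_mod, h.b_pow_mod j, pow_add, mul_assoc]

/-- the group generated by `a` and `b` is finite of order at most `M * n` -/
theorem MC.card_le (h : MC M n R T a b) (hM : 0 < M) (hn : 0 < n)
    (htop : Subgroup.closure ({a, b} : Set Γ) = ⊤) : Finite Γ ∧ Nat.card Γ ≤ M * n := by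
  have hsurj : Function.Surjective (fun p : Fin M × Fin n => a ^ (p.1 : ℕ) * b ^ (p.2 : ℕ)) := by
    intro g
    obtain ⟨i, j, hi, hj, rfl⟩ := h.nf_red hM hn (g := g) (by rw [htop]; trivial)
    exact ⟨(⟨i, hi⟩, ⟨j, hj⟩), rfl⟩
  have hfin : Finite Γ := Finite.of_surjective _ hsurj
  refine ⟨hfin, ?_⟩
  have := Nat.card_le_card_of_surjective _ hsurj
  simpa [Nat.card_prod] using this

end Cfsg.Agent.Lib.Helper1.MetaC
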