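import Cfsg.Agent.Lib.Helper1.MetaA

/-!
A permutation model of the metacyclic relations (helper1): permutations `A₀, B₀` of
`ZMod n × ZMod M` with `A₀ ^ M = 1`, `B₀ * A₀ * B₀⁻¹ = A₀ ^ R`, `B₀ ^ n = A₀ ^ T`, generating a
transitive group, `A₀` of order `M`.
-/

set_option autoImplicit false

namespace Cfsg.Agent.Lib.Helper1.MetaC

section model

variable (M n R T : ℕ) [NeZero M] [NeZero n]

/-- the twist: `u⁻¹ ^ j` -/
def cc (u : (ZMod M)ˣ) (j : ZMod n) : ZMod M := ((u⁻¹ ^ j.val : (ZMod M)ˣ) : ZMod M)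

theorem pow_val_mod {G : Type*} [Monoid G] (x : G) (hx : x ^ n = 1) (k : ℕ) :
    x ^ (k % n) = x ^ k := by
  conv_rhs => rw [← Nat.div_add_mod k n]
  rw [pow_add, pow_mul, hx, one_pow, one_mul]

theorem cc_succ (u : (ZMod M)ˣ) (hu : u ^ n = 1) (j : ZMod n) :
    cc M n u (j + 1) * (u : ZMod M) = cc M n u j := by
  unfold cc
  have h1 : (j + 1).val = (j.val + 1) % n := by
    rw [ZMod.val_add, ZMod.val_one_eq_one_mod, Nat.add_mod_mod]
  have hu' : (u⁻¹) ^ n = 1 := by rw [inv_pow, hu, inv_one]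
  rw [h1, pow_val_mod n _ hu', pow_succ, ← Units.val_mul, mul_assoc, inv_mul_cancel, mul_one]

theorem cc_zero (u : (ZMod M)ˣ) : cc M n u 0 = 1 := by
  unfold cc
  rw [ZMod.val_zero, pow_zero, Units.val_one]

/-- the permutation of `a` -/
def permA (u : (ZMod M)ˣ) : Equiv.Perm (ZMod n × ZMod M) where
  toFun p := (p.1, p.2 + cc M n u p.1)
  invFun p := (p.1, p.2 - cc M n u p.1)
  left_inv p := by simp
  right_inv p := by simp

/-- the permutation of `b` -/
def permB : Equiv.Perm (ZMod n × ZMod M) where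
  toFun p := (p.1 + 1, p.2 + if p.1 + 1 = 0 then (T : ZMod M) else 0)
  invFun p := (p.1 - 1, p.2 - if p.1 = 0 then (T : ZMod M) else 0)
  left_inv p := by simp
  right_inv p := by simp

theorem permA_pow (u : (ZMod M)ˣ) (s : ℕ) (p : ZMod n × ZMod M) :
    (permA M n u ^ s) p = (p.1, p.2 + s * cc M n u p.1) := by
  induction s with
  | zero => simp
  | succ s ih =>
    rw [pow_succ', Equiv.Perm.mul_apply, ih]
    show ((p.1, p.2 + ↑s * cc M n u p.1).1, (p.1, p.2 + ↑s * cc M n u p.1).2 +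
      cc M n u (p.1, p.2 + ↑s * cc M n u p.1).1) = _
    simp only
    congr 1
    push_cast
    ring

theorem permB_pow (s : ℕ) (p : ZMod n × ZMod M) :
    (permB M n T ^ s) p = (p.1 + s, p.2 + (T : ZMod M) * (((p.1.val + s) / n : ℕ) : ZMod M)) := by
  induction s with
  | zero =>
    have : p.1.val / n = 0 := Nat.div_eq_of_lt (ZMod.val_lt _)
    simp [this]
  | succ s ih =>
    rw [pow_succ', Equiv.Perm.mul_apply, ih]
    show ((p.1 + ↑s) + 1, (p.2 + (T : ZMod M) * (((p.1.val + s) / n : ℕ) : ZMod M)) +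
      if (p.1 + ↑s) + 1 = 0 then (T : ZMod M) else 0) = _
    have hz : ((p.1 + ↑s) + 1 = 0) ↔ n ∣ p.1.val + s + 1 := by
      rw [← ZMod.natCast_eq_zero_iff]
      push_cast
      rw [ZMod.natCast_zmod_val]
    have hdiv : (p.1.val + (s + 1)) / n = (p.1.val + s) / n + if n ∣ p.1.val + s + 1 then 1 else 0 := by
      rw [← add_assoc, Nat.succ_div]
    rw [hdiv]
    congr 1
    · push_cast; ring
    · by_cases hd : n ∣ p.1.val + s + 1
      · rw [if_pos (hz.2 hd), if_pos hd]; push_cast; ring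
      · rw [if_neg (fun h => hd (hz.1 h)), if_neg hd]; push_cast; ring

end model

/-- the model -/
theorem exists_model (M n R T : ℕ) (hM : 0 < M) (hn : 0 < n) (hR : R ^ n ≡ 1 [MOD M])
    (hT : T * R ≡ T [MOD M]) :
    ∃ (X : Type) (_ : Fintype X) (A₀ B₀ : Equiv.Perm X) (x₀ : X), MC M n R T A₀ B₀ ∧
      orderOf A₀ = M ∧ Fintype.card X = M * n ∧ ∀ x : X, ∃ i j : ℕ, (B₀ ^ j * A₀ ^ i) x₀ = x := by
  have : NeZero M := ⟨hM.ne'⟩
  have : NeZero n := ⟨hn.ne'⟩
  have hRn : ((R : ZMod M)) ^ n = 1 := by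
    have := (ZMod.natCast_eq_natCast_iff _ _ _).2 hR
    push_cast at this
    exact this
  let u : (ZMod M)ˣ := Units.ofPowEqOne (R : ZMod M) n hRn hn.ne'
  have hu : u ^ n = 1 := Units.pow_ofPowEqOne hRn hn.ne'
  have huv : (u : ZMod M) = R := rfl
  have hTR : (T : ZMod M) * (R : ZMod M) = T := by
    have := (ZMod.natCast_eq_natCast_iff _ _ _).2 hT
    push_cast at this
    exact this
  have hTc : ∀ j : ZMod n, (T : ZMod M) * cc M n u j = T := by
    intro j
    unfold cc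
    generalize j.val = k
    induction k with
    | zero => simp
    | succ k ih =>
      rw [pow_succ, Units.val_mul, ← mul_assoc, ih]
      have : (T : ZMod M) * ((u⁻¹ : (ZMod M)ˣ) : ZMod M) =
          (T : ZMod M) * (u : ZMod M) * ((u⁻¹ : (ZMod M)ˣ) : ZMod M) := by rw [huv, hTR]
      rw [this, mul_assoc, ← Units.val_mul, mul_inv_cancel, Units.val_one, mul_one]
  refine ⟨ZMod n × ZMod M, inferInstance, permA M n u, permB M n T, (0, 0), ⟨?_, ?_, ?_⟩, ?_, ?_, ?_⟩
  · ext p : 1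
    rw [permA_pow]
    simp
  · rw [mul_inv_eq_iff_eq_mul]
    ext p : 1
    rw [Equiv.Perm.mul_apply, Equiv.Perm.mul_apply, permA_pow]
    show ((p.1, p.2 + cc M n u p.1).1 + 1, (p.1, p.2 + cc M n u p.1).2 +
      if (p.1, p.2 + cc M n u p.1).1 + 1 = 0 then (T : ZMod M) else 0) =
      ((p.1 + 1, p.2 + if p.1 + 1 = 0 then (T : ZMod M) else 0).1,
        (p.1 + 1, p.2 + if p.1 + 1 = 0 then (T : ZMod M) else 0).2 + (R : ZMod M) *
          cc M n u (p.1 + 1, p.2 + if p.1 + 1 = 0 then (T : ZMod M) else 0).1)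
    simp only
    congr 1
    rw [← cc_succ M n u hu p.1, huv]
    ring
  · ext p : 1
    rw [permB_pow, permA_pow]
    have h1 : (p.1.val + n) / n = 1 := by
      rw [Nat.add_div_right _ hn, Nat.div_eq_of_lt (ZMod.val_lt _)]
    rw [h1, hTc]
    simp
  · apply Nat.dvd_antisymm
    · apply orderOf_dvd_of_pow_eq_one
      ext p : 1
      rw [permA_pow]
      simp
    · have h1 := pow_orderOf_eq_one (permA M n u)
      have h2 := congrArg (fun f : Equiv.Perm (ZMod n × ZMod M) => (f (0, 0)).2) h1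
      simp only [permA_pow, cc_zero, Equiv.Perm.coe_one, id_eq, mul_one, zero_add] at h2
      exact (ZMod.natCast_eq_zero_iff _ _).1 h2
  · rw [Fintype.card_prod, ZMod.card, ZMod.card, mul_comm]
  · rintro ⟨j, i⟩
    refine ⟨i.val, j.val, ?_⟩
    rw [Equiv.Perm.mul_apply, permA_pow, permB_pow]
    have h1 : ((0 : ZMod n).val + j.val) / n = 0 := by
      rw [ZMod.val_zero, zero_add]
      exact Nat.div_eq_of_lt (ZMod.val_lt _)
    simp only [h1, cc_zero]
    simp

end Cfsg.Agent.Lib.Helper1.MetaC
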