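import Cfsg.Agent.Lib.Helper1.MetaB

/-!
The presented metacyclic group (helper1): order `M * n`, the generator `a` has order `M`.
-/

set_option autoImplicit false

namespace Cfsg.Agent.Lib.Helper1.MetaC

/-- the relators -/
def rels (M n R T : ℕ) : Set (FreeGroup Bool) :=
  {FreeGroup.of true ^ M, (FreeGroup.of false) ^ n * (FreeGroup.of true ^ T)⁻¹,
    FreeGroup.of false * FreeGroup.of true * (FreeGroup.of false)⁻¹ * (FreeGroup.of true ^ R)⁻¹}

/-- the presented group -/
abbrev PG (M n R T : ℕ) : Type := PresentedGroup (rels M n R T)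

variable {M n R T : ℕ}

/-- the generator `a` -/
def pa : PG M n R T := PresentedGroup.of true

/-- the generator `b` -/
def pb : PG M n R T := PresentedGroup.of false

theorem mc_PG : MC M n R T (pa : PG M n R T) pb := by
  refine ⟨?_, ?_, ?_⟩
  · have := PresentedGroup.one_of_mem (rels := rels M n R T) (x := FreeGroup.of true ^ M)
      (by unfold rels; simp)
    rw [map_pow] at this
    exact this
  · have := PresentedGroup.one_of_mem (rels := rels M n R T)
      (x := FreeGroup.of false * FreeGroup.of true * (FreeGroup.of false)⁻¹ *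
        (FreeGroup.of true ^ R)⁻¹) (by unfold rels; simp)
    rw [map_mul, map_mul, map_mul, map_inv, map_inv, map_pow] at this
    exact mul_inv_eq_one.1 this
  · have := PresentedGroup.one_of_mem (rels := rels M n R T)
      (x := (FreeGroup.of false) ^ n * (FreeGroup.of true ^ T)⁻¹) (by unfold rels; simp)
    rw [map_mul, map_inv, map_pow, map_pow] at this
    exact mul_inv_eq_one.1 this

theorem closure_PG : Subgroup.closure ({pa, pb} : Set (PG M n R T)) = ⊤ := by
  have h := PresentedGroup.closure_range_of (rels M n R T)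
  have : Set.range (PresentedGroup.of : Bool → PG M n R T) = {pa, pb} := by
    ext x
    constructor
    · rintro ⟨c, rfl⟩
      cases c
      · right; rfl
      · left; rfl
    · rintro (rfl | rfl)
      · exact ⟨true, rfl⟩
      · exact ⟨false, rfl⟩
  rw [this] at h
  exact h

/-- homomorphisms out of the presented group -/
theorem lift_MC {Γ : Type*} [Group Γ] {a b : Γ} (h : MC M n R T a b) :
    ∃ φ : PG M n R T →* Γ, φ pa = a ∧ φ pb = b := by
  have hrel : ∀ r ∈ rels M n R T, FreeGroup.lift (fun c : Bool => if c then a else b) r = 1 := by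
    intro r hr
    unfold rels at hr
    rcases hr with rfl | rfl | rfl
    · simp [h.hM]
    · simp [h.hbn]
    · simp only [map_mul, map_inv, map_pow, FreeGroup.lift_apply_of, if_true, if_false,
        Bool.false_eq_true]
      rw [h.hconj, mul_inv_cancel]
  refine ⟨PresentedGroup.toGroup hrel, ?_, ?_⟩
  · show PresentedGroup.toGroup hrel (PresentedGroup.of true) = a
    rw [PresentedGroup.toGroup.of]; rfl
  · show PresentedGroup.toGroup hrel (PresentedGroup.of false) = b
    rw [PresentedGroup.toGroup.of]; rfl

/-- order and size of the presented metacyclic group -/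
theorem PG_props (hM : 0 < M) (hn : 0 < n) (hR : R ^ n ≡ 1 [MOD M]) (hT : T * R ≡ T [MOD M]) :
    Finite (PG M n R T) ∧ Nat.card (PG M n R T) = M * n ∧ orderOf (pa : PG M n R T) = M := by
  obtain ⟨hfin, hle⟩ := (mc_PG (M := M) (n := n) (R := R) (T := T)).card_le hM hn closure_PG
  obtain ⟨X, _, A₀, B₀, x₀, hmc, hord, hcard, htr⟩ := exists_model M n R T hM hn hR hT
  obtain ⟨φ, hφa, hφb⟩ := lift_MC hmc
  refine ⟨hfin, le_antisymm hle ?_, ?_⟩
  · have hsurj : Function.Surjective (fun g : PG M n R T => φ g x₀) := by
      intro x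
      obtain ⟨i, j, hx⟩ := htr x
      refine ⟨pb ^ j * pa ^ i, ?_⟩
      show φ (pb ^ j * pa ^ i) x₀ = x
      rw [map_mul, map_pow, map_pow, hφa, hφb, hx]
    have := Nat.card_le_card_of_surjective _ hsurj
    rw [Nat.card_eq_fintype_card, hcard] at this
    exact this
  · apply Nat.dvd_antisymm
    · exact orderOf_dvd_of_pow_eq_one mc_PG.hM
    · have := orderOf_map_dvd φ (pa : PG M n R T)
      rw [hφa, hord] at this
      exact this

end Cfsg.Agent.Lib.Helper1.MetaC
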