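import Cfsg.Agent.Lib.Helper1.MetaCc
import Cfsg.Prelude.Def_KGroupFacts

/-!
Stem extensions of the presented metacyclic group (helper1): the kernel is cyclic, generated by an
element `e` with `e ^ d = 1`, `e ^ l = 1`, `e ^ S' = 1`.
-/

set_option autoImplicit false

namespace Cfsg.Agent.Lib.Helper1.MetaC

open scoped commutatorElement

section central

variable {Γ : Type*} [Group Γ] {α β z₁ : Γ} {r : ℕ}

theorem conjP (hz : ∀ g : Γ, g * z₁ = z₁ * g) (hconj : β * α * β⁻¹ = α ^ r * z₁) (k : ℕ) :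
    β * α ^ k * β⁻¹ = α ^ (r * k) * z₁ ^ k := by
  have hc : Commute (α ^ r) z₁ := hz _
  rw [pow_mul, ← hc.mul_pow, ← hconj]
  exact (_root_.conj_pow (a := β) (b := α) (i := k)).symm

theorem conjI (hz : ∀ g : Γ, g * z₁ = z₁ * g) (hconj : β * α * β⁻¹ = α ^ r * z₁) (j : ℕ) :
    β ^ j * α * (β ^ j)⁻¹ = α ^ (r ^ j) * z₁ ^ (∑ i ∈ Finset.range j, r ^ i) := by
  induction j with
  | zero => simp
  | succ j ih =>
    have h1 : β ^ (j + 1) * α * (β ^ (j + 1))⁻¹ = β * (β ^ j * α * (β ^ j)⁻¹) * β⁻¹ := by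
      rw [pow_succ']; group
    rw [h1, ih]
    have h2 : β * (α ^ r ^ j * z₁ ^ ∑ i ∈ Finset.range j, r ^ i) * β⁻¹ =
        (β * α ^ r ^ j * β⁻¹) * z₁ ^ ∑ i ∈ Finset.range j, r ^ i := by
      have hc : Commute (z₁ ^ ∑ i ∈ Finset.range j, r ^ i) β⁻¹ :=
        (show Commute z₁ β⁻¹ from (hz β⁻¹).symm).pow_left _
      rw [mul_assoc, mul_assoc, hc.eq]
      group
    rw [h2, conjP hz hconj, mul_assoc, ← pow_add, Finset.sum_range_succ, ← pow_succ']
    congr 2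
    ring

end central

theorem comm_mul_central {Γ : Type*} [Group Γ] {g h z : Γ} (hz : ∀ x : Γ, x * z = z * x) :
    ⁅g * z, h⁆ = ⁅g, h⁆ := by
  rw [commutatorElement_def, commutatorElement_def]
  have : z * h = h * z := (hz h).symm
  calc g * z * h * (g * z)⁻¹ * h⁻¹ = g * (z * h) * z⁻¹ * g⁻¹ * h⁻¹ := by group
    _ = g * (h * z) * z⁻¹ * g⁻¹ * h⁻¹ := by rw [this]
    _ = g * h * g⁻¹ * h⁻¹ := by group

theorem comm_mul_central' {Γ : Type*} [Group Γ] {g h z : Γ} (hz : ∀ x : Γ, x * z = z * x) :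
    ⁅g, h * z⁆ = ⁅g, h⁆ := by
  rw [commutatorElement_def, commutatorElement_def]
  have : z * g⁻¹ = g⁻¹ * z := (hz g⁻¹).symm
  calc g * (h * z) * g⁻¹ * (h * z)⁻¹ = g * h * (z * g⁻¹) * z⁻¹ * h⁻¹ := by group
    _ = g * h * (g⁻¹ * z) * z⁻¹ * h⁻¹ := by rw [this]
    _ = g * h * g⁻¹ * h⁻¹ := by group

section stem

variable {Γ : Type*} [Group Γ] [Finite Γ] {m n r t : ℕ}

/-- the lifts of the generators generate a stem extension -/
theorem stem_closure_top (σ : Γ →* PG m n r t) (hσ : Cfsg.IsStemExtension σ) {α β : Γ}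
    (hα : σ α = pa) (hβ : σ β = pb) : Subgroup.closure ({α, β} : Set Γ) = ⊤ := by
  obtain ⟨hsurj, hcen, hcomm⟩ := hσ
  set K := Subgroup.closure ({α, β} : Set Γ) with hK
  have hdec : ∀ g : Γ, ∃ k ∈ K, ∃ z ∈ σ.ker, g = k * z := by
    intro g
    have hmap : K.map σ = ⊤ := by
      rw [hK, MonoidHom.map_closure, Set.image_pair, hα, hβ, closure_PG]
    have hg : σ g ∈ K.map σ := by rw [hmap]; trivial
    obtain ⟨k, hk, hkg⟩ := hg
    refine ⟨k, hk, k⁻¹ * g, ?_, by group⟩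
    rw [MonoidHom.mem_ker, map_mul, map_inv, hkg, inv_mul_cancel]
  have hcK : commutator Γ ≤ K := by
    rw [commutator_def, Subgroup.commutator_le]
    intro g₁ _ g₂ _
    obtain ⟨k₁, hk₁, z₁, hz₁, rfl⟩ := hdec g₁
    obtain ⟨k₂, hk₂, z₂, hz₂, rfl⟩ := hdec g₂
    have c₁ := Subgroup.mem_center_iff.1 (hcen hz₁)
    have c₂ := Subgroup.mem_center_iff.1 (hcen hz₂)
    rw [comm_mul_central c₁, comm_mul_central' c₂, commutatorElement_def]
    exact K.mul_mem (K.mul_mem (K.mul_mem hk₁ hk₂) (K.inv_mem hk₁)) (K.inv_mem hk₂)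
  rw [eq_top_iff]
  intro g _
  obtain ⟨k, hk, z, hz, rfl⟩ := hdec g
  exact K.mul_mem hk (hcK (hcomm hz))

end stem

end Cfsg.Agent.Lib.Helper1.MetaC
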