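import Cfsg.Agent.Lib.Helper1.MetaD

/-!
Stem extensions of the presented metacyclic group (helper1), continued: the commutator subgroup
is cyclic, the kernel is generated by `e = c ^ x`.
-/

set_option autoImplicit false

namespace Cfsg.Agent.Lib.Helper1.MetaC

open scoped commutatorElement

theorem comm_closure2 {H : Type*} [Group H] {s : Set H} (h : ∀ x ∈ s, ∀ y ∈ s, x * y = y * x) :
    ∀ x ∈ Subgroup.closure s, ∀ y ∈ Subgroup.closure s, x * y = y * x := by
  intro x hx y hy
  have := (Subgroup.closureCommGroupOfComm h).mul_comm ⟨x, hx⟩ ⟨y, hy⟩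
  exact congrArg Subtype.val this

theorem geom_nat (q n : ℕ) : (q + 1) ^ n = q * (∑ i ∈ Finset.range n, (q + 1) ^ i) + 1 := by
  induction n with
  | zero => simp
  | succ n ih =>
    rw [Finset.sum_range_succ, pow_succ]
    have e : q * (∑ x ∈ Finset.range n, (q + 1) ^ x + (q + 1) ^ n) + 1 =
        (q * (∑ x ∈ Finset.range n, (q + 1) ^ x) + 1) + q * (q + 1) ^ n := by ring
    rw [e, ← ih]
    ring

/-- a cyclic subgroup whose generator is mapped into it by the generators of a finite group is
normal -/
theorem zpowers_normal {Γ : Type*} [Group Γ] [Finite Γ] {α β c : Γ}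
    (htop : Subgroup.closure ({α, β} : Set Γ) = ⊤)
    (hα : α * c * α⁻¹ ∈ Subgroup.zpowers c) (hβ : β * c * β⁻¹ ∈ Subgroup.zpowers c) :
    (Subgroup.zpowers c).Normal := by
  have key : ∀ g : Γ, g * c * g⁻¹ ∈ Subgroup.zpowers c → ∀ z ∈ Subgroup.zpowers c,
      g * z * g⁻¹ ∈ Subgroup.zpowers c := by
    intro g hg z hz
    obtain ⟨i, rfl⟩ := Subgroup.mem_zpowers_iff.1 hz
    rw [← conj_zpow]
    exact Subgroup.zpow_mem _ hg i
  have hall : ∀ g : Γ, ∀ z ∈ Subgroup.zpowers c, g * z * g⁻¹ ∈ Subgroup.zpowers c := by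
    intro g
    have hg : g ∈ Subgroup.closure ({α, β} : Set Γ) := by rw [htop]; trivial
    induction hg using Subgroup.closure_induction with
    | mem x hx =>
      rcases hx with rfl | rfl
      · exact key _ hα
      · exact key _ hβ
    | one => intro z hz; simpa using hz
    | mul x y _ _ hx hy =>
      intro z hz
      have := hx _ (hy z hz)
      have e : x * y * z * (x * y)⁻¹ = x * (y * z * y⁻¹) * x⁻¹ := by group
      rw [e]; exact this
    | inv x _ hx =>
      have hpow : ∀ k : ℕ, ∀ z ∈ Subgroup.zpowers c, x ^ k * z * (x ^ k)⁻¹ ∈ Subgroup.zpowers c := by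
        intro k
        induction k with
        | zero => intro z hz; simpa using hz
        | succ k ih =>
          intro z hz
          have := hx _ (ih z hz)
          have e : x ^ (k + 1) * z * (x ^ (k + 1))⁻¹ = x * (x ^ k * z * (x ^ k)⁻¹) * x⁻¹ := by
            rw [pow_succ']; group
          rw [e]; exact this
      have hinv : x⁻¹ = x ^ (orderOf x - 1) := by
        have : x ^ (orderOf x - 1) * x = 1 := by
          rw [← pow_succ, Nat.sub_add_cancel (orderOf_pos x), pow_orderOf_eq_one]
        exact inv_eq_of_mul_eq_one_left this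
      rw [hinv]
      exact hpow _
  exact ⟨fun z hz g => hall g z hz⟩

/-- the commutator subgroup of a finite group generated by `α, β` lies in the cyclic group
generated by `⁅β, α⁆`, if that group is normal -/
theorem commutator_le_zpowers {Γ : Type*} [Group Γ] {α β : Γ}
    (htop : Subgroup.closure ({α, β} : Set Γ) = ⊤) (hn : (Subgroup.zpowers ⁅β, α⁆).Normal) :
    commutator Γ ≤ Subgroup.zpowers ⁅β, α⁆ := by
  set Z := Subgroup.zpowers ⁅β, α⁆ with hZ
  let π := QuotientGroup.mk' Z
  have hπc : π β * π α = π α * π β := by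
    have h1 : π ⁅β, α⁆ = 1 := (QuotientGroup.eq_one_iff _).2 (Subgroup.mem_zpowers _)
    rw [map_commutatorElement, commutatorElement_eq_one_iff_mul_comm] at h1
    exact h1
  have hπtop : Subgroup.closure ({π α, π β} : Set (Γ ⧸ Z)) = ⊤ := by
    have := MonoidHom.map_closure π ({α, β} : Set Γ)
    rw [htop, Set.image_pair] at this
    rw [← this, ← MonoidHom.range_eq_map]
    exact MonoidHom.range_eq_top.2 (QuotientGroup.mk'_surjective Z)
  have hcomm : ∀ u v : Γ ⧸ Z, u * v = v * u := by
    intro u v
    apply comm_closure2 (s := ({π α, π β} : Set (Γ ⧸ Z)))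
    · rintro p (rfl | rfl) q (rfl | rfl)
      · rfl
      · exact hπc.symm
      · exact hπc
      · rfl
    · rw [hπtop]; trivial
    · rw [hπtop]; trivial
  rw [commutator_def, Subgroup.commutator_le]
  intro g₁ _ g₂ _
  have : π ⁅g₁, g₂⁆ = 1 := by
    rw [map_commutatorElement, commutatorElement_eq_one_iff_mul_comm]
    exact hcomm _ _
  exact (QuotientGroup.eq_one_iff _).1 this

end Cfsg.Agent.Lib.Helper1.MetaC
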