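import Cfsg.Agent.Lib.Helper1.MetaE

/-!
Stem extensions of the presented metacyclic group (helper1): generator of the kernel and its
relations.
-/

set_option autoImplicit false

namespace Cfsg.Agent.Lib.Helper1.MetaC

open scoped commutatorElement

section ff

variable {Γ : Type*} [Group Γ] {α z₁ : Γ}

/-- products `α ^ A * z₁ ^ B` with `z₁` central -/
def ff (α z₁ : Γ) (A B : ℕ) : Γ := α ^ A * z₁ ^ B

theorem ff_pow (hz : ∀ g : Γ, g * z₁ = z₁ * g) (A B k : ℕ) :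
    ff α z₁ A B ^ k = ff α z₁ (A * k) (B * k) := by
  unfold ff
  have hc : Commute (α ^ A) (z₁ ^ B) := (show Commute (α ^ A) z₁ from hz _).pow_right _
  rw [hc.mul_pow, ← pow_mul, ← pow_mul]

theorem ff_cancel (hz : ∀ g : Γ, g * z₁ = z₁ * g) (A B C : ℕ)
    (h : α ^ C = α ^ (A + C) * z₁ ^ B) : ff α z₁ A B = 1 := by
  unfold ff
  have hc : Commute (α ^ C) (z₁ ^ B) := (show Commute (α ^ C) z₁ from hz _).pow_right _
  rw [pow_add, mul_assoc, hc.eq, ← mul_assoc] at h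
  have := mul_right_cancel (b := α ^ C) (a := 1) (c := α ^ A * z₁ ^ B) (by rw [one_mul]; exact h)
  exact this.symm

end ff

variable {Γ : Type*} [Group Γ] [Finite Γ] {m n r t : ℕ}

theorem ker_gen (σ : Γ →* PG m n r t) (hσ : Cfsg.IsStemExtension σ)
    (x y d l S' : ℕ) (hm : m = x * d) (hr : r = y * d + 1) (hxy : Nat.Coprime x y)
    (ht : t = x * l) (hS : ∑ i ∈ Finset.range n, r ^ i = x * S')
    (hord : orderOf (pa : PG m n r t) = m) (hmpos : 0 < m) :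
    ∃ e ∈ σ.ker, (∀ z ∈ σ.ker, z ∈ Subgroup.zpowers e) ∧ e ^ d = 1 ∧ e ^ l = 1 ∧ e ^ S' = 1 := by
  have hσ' := hσ
  obtain ⟨hsurj, hcen, hcomm⟩ := hσ
  obtain ⟨α, hα⟩ := hsurj pa
  obtain ⟨β, hβ⟩ := hsurj pb
  have htop := stem_closure_top σ hσ' hα hβ
  have hmc : MC m n r t (pa : PG m n r t) pb := mc_PG
  have hdpos : 0 < d := by
    rcases Nat.eq_zero_or_pos d with h | h
    · rw [h, mul_zero] at hm; omega
    · exact h
  -- the central elements
  have hz₁k : β * α * β⁻¹ * (α ^ r)⁻¹ ∈ σ.ker := by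
    rw [MonoidHom.mem_ker, map_mul, map_mul, map_mul, map_inv, map_inv, map_pow, hα, hβ, hmc.hconj,
      mul_inv_cancel]
  obtain ⟨z₁, hz₁def⟩ : ∃ z : Γ, z = β * α * β⁻¹ * (α ^ r)⁻¹ := ⟨_, rfl⟩
  rw [← hz₁def] at hz₁k
  have hz₁ : ∀ g : Γ, g * z₁ = z₁ * g := Subgroup.mem_center_iff.1 (hcen hz₁k)
  have hconj : β * α * β⁻¹ = α ^ r * z₁ := by
    rw [hz₁ (α ^ r), hz₁def]; group
  have hz₂k : α ^ m ∈ σ.ker := by rw [MonoidHom.mem_ker, map_pow, hα, hmc.hM]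
  have hz₂ : ∀ g : Γ, g * α ^ m = α ^ m * g := Subgroup.mem_center_iff.1 (hcen hz₂k)
  have hz₃k : β ^ n * (α ^ t)⁻¹ ∈ σ.ker := by
    rw [MonoidHom.mem_ker, map_mul, map_inv, map_pow, map_pow, hα, hβ, hmc.hbn, mul_inv_cancel]
  have hz₃ : ∀ g : Γ, g * (β ^ n * (α ^ t)⁻¹) = (β ^ n * (α ^ t)⁻¹) * g :=
    Subgroup.mem_center_iff.1 (hcen hz₃k)
  -- the three relations
  have rel1 : ff α z₁ (y * d * m) m = 1 := by
    apply ff_cancel hz₁ _ _ m
    have h1 := conjP hz₁ hconj m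
    have h2 : β * α ^ m * β⁻¹ = α ^ m := by rw [hz₂ β]; group
    rw [h2] at h1
    rw [h1]
    congr 2
    rw [hr]; ring
  have rel2 : ff α z₁ (y * d * t) t = 1 := by
    apply ff_cancel hz₁ _ _ t
    have h1 := conjP hz₁ hconj t
    have h2 : β * α ^ t * β⁻¹ = α ^ t := by
      have e : α ^ t = (β ^ n * (α ^ t)⁻¹)⁻¹ * β ^ n := by group
      have hc : β * (β ^ n * (α ^ t)⁻¹)⁻¹ = (β ^ n * (α ^ t)⁻¹)⁻¹ * β := by
        have := hz₃ β
        calc β * (β ^ n * (α ^ t)⁻¹)⁻¹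
            = (β ^ n * (α ^ t)⁻¹)⁻¹ * ((β ^ n * (α ^ t)⁻¹) * β) * (β ^ n * (α ^ t)⁻¹)⁻¹ := by group
          _ = (β ^ n * (α ^ t)⁻¹)⁻¹ * (β * (β ^ n * (α ^ t)⁻¹)) * (β ^ n * (α ^ t)⁻¹)⁻¹ := by
              rw [this]
          _ = (β ^ n * (α ^ t)⁻¹)⁻¹ * β := by group
      calc β * α ^ t * β⁻¹ = β * ((β ^ n * (α ^ t)⁻¹)⁻¹ * β ^ n) * β⁻¹ := by rw [← e]
        _ = (β * (β ^ n * (α ^ t)⁻¹)⁻¹) * β ^ n * β⁻¹ := by group
        _ = ((β ^ n * (α ^ t)⁻¹)⁻¹ * β) * β ^ n * β⁻¹ := by rw [hc]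
        _ = (β ^ n * (α ^ t)⁻¹)⁻¹ * β ^ n := by
            have : β * β ^ n * β⁻¹ = β ^ n := by
              rw [← pow_succ', pow_succ, mul_assoc, mul_inv_cancel, mul_one]
            rw [mul_assoc, mul_assoc, ← mul_assoc β, this]
        _ = α ^ t := e.symm
    rw [h2] at h1
    rw [h1]
    congr 2
    rw [hr]; ring
  have rel3 : ff α z₁ (y * d * (∑ i ∈ Finset.range n, r ^ i)) (∑ i ∈ Finset.range n, r ^ i) = 1 := by
    apply ff_cancel hz₁ _ _ 1
    have h1 := conjI hz₁ hconj n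
    have h2 : β ^ n * α * (β ^ n)⁻¹ = α := by
      have e : β ^ n = (β ^ n * (α ^ t)⁻¹) * α ^ t := by group
      have hc := hz₃ α
      calc β ^ n * α * (β ^ n)⁻¹
          = ((β ^ n * (α ^ t)⁻¹) * α ^ t) * α * ((β ^ n * (α ^ t)⁻¹) * α ^ t)⁻¹ := by rw [← e]
        _ = (β ^ n * (α ^ t)⁻¹) * α * (β ^ n * (α ^ t)⁻¹)⁻¹ := by
            have : α ^ t * α = α * α ^ t := by rw [← pow_succ, ← pow_succ']
            calc ((β ^ n * (α ^ t)⁻¹) * α ^ t) * α * ((β ^ n * (α ^ t)⁻¹) * α ^ t)⁻¹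
                = (β ^ n * (α ^ t)⁻¹) * (α ^ t * α) * (α ^ t)⁻¹ * (β ^ n * (α ^ t)⁻¹)⁻¹ := by group
              _ = (β ^ n * (α ^ t)⁻¹) * (α * α ^ t) * (α ^ t)⁻¹ * (β ^ n * (α ^ t)⁻¹)⁻¹ := by
                  rw [this]
              _ = _ := by group
        _ = (α * (β ^ n * (α ^ t)⁻¹)) * (β ^ n * (α ^ t)⁻¹)⁻¹ := by rw [hc]
        _ = α := by group
    rw [h2] at h1
    have h3 : r ^ n = y * d * (∑ i ∈ Finset.range n, r ^ i) + 1 := by
      rw [hr]; exact geom_nat (y * d) n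
    rw [pow_one]
    conv_lhs => rw [h1]
    rw [h3]
  -- the commutator
  obtain ⟨c, hcdef⟩ : ∃ c : Γ, c = α ^ (y * d) * z₁ := ⟨_, rfl⟩
  have hcc : ⁅β, α⁆ = c := by
    rw [commutatorElement_def, hconj, hcdef, hr, pow_succ, mul_assoc, mul_assoc]
    have : α * (z₁ * α⁻¹) = z₁ := by rw [← mul_assoc, hz₁ α]; group
    rw [this]
  have hαc : α * c * α⁻¹ = c := by
    rw [hcdef]
    have h1 : α * (α ^ (y * d) * z₁) = (α ^ (y * d) * z₁) * α := by
      calc α * (α ^ (y * d) * z₁) = α ^ (y * d) * (α * z₁) := by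
            rw [← mul_assoc, ← pow_succ', pow_succ, mul_assoc]
        _ = α ^ (y * d) * (z₁ * α) := by rw [hz₁ α]
        _ = _ := by rw [mul_assoc]
    rw [h1]; group
  have hβc : β * c * β⁻¹ = c ^ r := by
    have h1 : β * c * β⁻¹ = (β * α ^ (y * d) * β⁻¹) * z₁ := by
      rw [hcdef]
      have : z₁ * β⁻¹ = β⁻¹ * z₁ := (hz₁ β⁻¹).symm
      calc β * (α ^ (y * d) * z₁) * β⁻¹ = β * α ^ (y * d) * (z₁ * β⁻¹) := by group
        _ = β * α ^ (y * d) * (β⁻¹ * z₁) := by rw [this]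
        _ = _ := by group
    rw [h1, conjP hz₁ hconj]
    have h2 : c ^ r = ff α z₁ (y * d * r) r := by
      rw [hcdef]
      have := ff_pow (α := α) hz₁ (y * d) 1 r
      unfold ff at this ⊢
      rw [pow_one, one_mul] at this
      exact this
    rw [h2]
    unfold ff
    rw [mul_assoc, ← pow_succ]
    congr 2
    · ring
    · exact hr.symm
  have hnorm : (Subgroup.zpowers ⁅β, α⁆).Normal := by
    rw [hcc]
    apply zpowers_normal htop
    · rw [hαc]; exact Subgroup.mem_zpowers _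
    · rw [hβc]; exact Subgroup.pow_mem _ (Subgroup.mem_zpowers _) _
  have hcle := commutator_le_zpowers htop hnorm
  rw [hcc] at hcle
  -- the generator of the kernel
  have hσc : σ c = pa ^ (y * d) := by
    rw [hcdef, map_mul, map_pow, hα, MonoidHom.mem_ker.1 hz₁k, mul_one]
  have he : c ^ x = ff α z₁ (y * d * x) x := by
    have := ff_pow (α := α) hz₁ (y * d) 1 x
    unfold ff at this ⊢
    rw [pow_one, one_mul] at this
    rw [hcdef]; exact this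
  refine ⟨c ^ x, ?_, ?_, ?_, ?_, ?_⟩
  · rw [MonoidHom.mem_ker, map_pow, hσc, ← pow_mul]
    have : y * d * x = m * y := by rw [hm]; ring
    rw [this, pow_mul, hmc.hM, one_pow]
  · intro z hz
    obtain ⟨i, rfl⟩ := Subgroup.mem_zpowers_iff.1 (hcle (hcomm hz))
    have h1 : (pa : PG m n r t) ^ (((y * d : ℕ) : ℤ) * i) = 1 := by
      have := MonoidHom.mem_ker.1 hz
      rw [map_zpow, hσc] at this
      rw [zpow_mul, zpow_natCast]
      exact this
    have h2 := orderOf_dvd_iff_zpow_eq_one.2 h1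
    rw [hord, hm] at h2
    have h3 : (x : ℤ) ∣ (y : ℤ) * i := by
      have h4 : ((x * d : ℕ) : ℤ) = (d : ℤ) * x := by push_cast; ring
      have h5 : ((y * d : ℕ) : ℤ) * i = (d : ℤ) * ((y : ℤ) * i) := by push_cast; ring
      rw [h4, h5] at h2
      exact (mul_dvd_mul_iff_left (by exact_mod_cast hdpos.ne')).1 h2
    have h6 : (x : ℤ) ∣ i := by
      have hco : IsCoprime (x : ℤ) (y : ℤ) := Nat.isCoprime_iff_coprime.2 hxy
      exact hco.dvd_of_dvd_mul_left h3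
    obtain ⟨i', rfl⟩ := h6
    rw [zpow_mul, zpow_natCast]
    exact Subgroup.zpow_mem _ (Subgroup.mem_zpowers _) _
  · rw [he, ff_pow hz₁, ← rel1]
    congr 1
    · rw [hm]; ring
    · exact hm.symm
  · rw [he, ff_pow hz₁, ← rel2]
    congr 1
    · rw [ht]; ring
    · exact ht.symm
  · rw [he, ff_pow hz₁, ← rel3, hS]
    congr 1
    ring

end Cfsg.Agent.Lib.Helper1.MetaC
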