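import Mathlib

/-!
Number theory for the Schur multiplier of metacyclic groups (helper1).
-/

set_option autoImplicit false

namespace Cfsg.Agent.Lib.Helper1.MetaC

/-- a unit modulo `n` has a representative prime to `m` (from the proof of
`ZMod.unitsMap_surjective`) -/
theorem exists_coprime_add_mul (x n m : ℕ) (hm : m ≠ 0) (hx : x.Coprime n) :
    ∃ k : ℕ, (x + k * n).Coprime m := by
  let ps : Finset ℕ := {p ∈ m.primeFactors | ¬p ∣ x}
  use ps.prod id
  apply Nat.coprime_of_dvd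
  intro p pp hp hpn
  by_cases hpx : p ∣ x
  · have h := Nat.dvd_sub hp hpx
    rw [add_comm, Nat.add_sub_cancel] at h
    rcases pp.dvd_mul.mp h with h | h
    · have ⟨q, hq, hq'⟩ := (pp.prime.dvd_finsetProd_iff id).mp h
      rw [Finset.mem_filter, Nat.mem_primeFactors,
        ← (Nat.prime_dvd_prime_iff_eq pp hq.1.1).mp hq'] at hq
      exact hq.2 hpx
    · exact Nat.Prime.not_coprime_iff_dvd.mpr ⟨p, pp, hpx, h⟩ hx
  · have pps : p ∈ ps := Finset.mem_filter.mpr ⟨Nat.mem_primeFactors.mpr ⟨pp, hpn, hm⟩, hpx⟩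
    have h := Nat.dvd_sub hp ((Finset.dvd_prod_of_mem id pps).mul_right n)
    rw [Nat.add_sub_cancel] at h
    contradiction

theorem geom_nat' (q n : ℕ) : (q + 1) ^ n = q * (∑ i ∈ Finset.range n, (q + 1) ^ i) + 1 := by
  induction n with
  | zero => simp
  | succ n ih =>
    rw [Finset.sum_range_succ, pow_succ]
    have e : q * (∑ x ∈ Finset.range n, (q + 1) ^ x + (q + 1) ^ n) + 1 =
        (q * (∑ x ∈ Finset.range n, (q + 1) ^ x) + 1) + q * (q + 1) ^ n := by ring
    rw [e, ← ih]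
    ring

theorem sum_pow_modEq (d r n : ℕ) (h : r ≡ 1 [MOD d]) :
    ∑ i ∈ Finset.range n, r ^ i ≡ n [MOD d] := by
  induction n with
  | zero => simp [Nat.ModEq]
  | succ n ih =>
    rw [Finset.sum_range_succ]
    have h1 : r ^ n ≡ 1 [MOD d] := by simpa using h.pow n
    exact ih.add h1

theorem pow_add_eps {A : Type*} [CommRing A] (r e : A) (he : e * e = 0) (j : ℕ) :
    (r + e) ^ (j + 1) = r ^ (j + 1) + ((j : A) + 1) * r ^ j * e := by
  induction j with
  | zero => simp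
  | succ j ih =>
    rw [pow_succ, ih]
    push_cast
    linear_combination (((j : A) + 1) * r ^ j) * he

/-- the arithmetic data of the metacyclic group -/
structure Data (m n r l : ℕ) where
  d : ℕ
  x : ℕ
  y : ℕ
  S' : ℕ
  hd : d = Nat.gcd m (r - 1)
  hm : m = x * d
  hr : r = y * d + 1
  hxy : Nat.Coprime x y
  ht : m * l / Nat.gcd m (r - 1) = x * l
  hS : ∑ i ∈ Finset.range n, r ^ i = x * S'
  hk : Nat.gcd l (Nat.gcd m (r - 1) * Nat.gcd m (∑ i ∈ Finset.range n, r ^ i) / m) =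
    Nat.gcd l (Nat.gcd d S')
  hdpos : 0 < d
  hxpos : 0 < x

theorem exists_data (m n r l : ℕ) (hm : 0 < m) (hr : 0 < r) (hrn : r ^ n ≡ 1 [MOD m]) :
    Nonempty (Data m n r l) := by
  set d := Nat.gcd m (r - 1) with hd
  have hdpos : 0 < d := Nat.gcd_pos_of_pos_left _ hm
  obtain ⟨x, hx⟩ : d ∣ m := Nat.gcd_dvd_left _ _
  obtain ⟨y, hy⟩ : d ∣ r - 1 := Nat.gcd_dvd_right _ _
  have hm' : m = x * d := by rw [hx, mul_comm]
  have hr' : r = y * d + 1 := by rw [mul_comm, ← hy]; omega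
  have hxpos : 0 < x := by
    rcases Nat.eq_zero_or_pos x with h | h
    · rw [h, zero_mul] at hm'; omega
    · exact h
  have hxy : Nat.Coprime x y := by
    have h1 := Nat.coprime_div_gcd_div_gcd (m := m) (n := r - 1) hdpos
    rw [← hd] at h1
    have e1 : m / d = x := by rw [hx]; exact Nat.mul_div_cancel_left _ hdpos
    have e2 : (r - 1) / d = y := by rw [hy]; exact Nat.mul_div_cancel_left _ hdpos
    rw [e1, e2] at h1
    exact h1
  have ht : m * l / d = x * l := by
    rw [hm', mul_right_comm, Nat.mul_div_cancel _ hdpos]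
  -- x divides S
  have hgeo : r ^ n = y * d * (∑ i ∈ Finset.range n, r ^ i) + 1 := by
    rw [hr']; exact geom_nat' (y * d) n
  have hmS : m ∣ y * d * (∑ i ∈ Finset.range n, r ^ i) := by
    have h1 : r ^ n ≡ 1 [MOD m] := hrn
    rw [hgeo] at h1
    have h2 : y * d * (∑ i ∈ Finset.range n, r ^ i) + 1 ≡ 0 + 1 [MOD m] := by simpa using h1
    have h3 := Nat.ModEq.add_right_cancel' 1 h2
    exact (Nat.modEq_zero_iff_dvd).1 h3
  have hxS : x ∣ ∑ i ∈ Finset.range n, r ^ i := by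
    have h1 : x * d ∣ d * (y * (∑ i ∈ Finset.range n, r ^ i)) := by
      rw [← hm']
      have : d * (y * (∑ i ∈ Finset.range n, r ^ i)) = y * d * (∑ i ∈ Finset.range n, r ^ i) := by ring
      rw [this]; exact hmS
    rw [mul_comm x d] at h1
    have h2 : x ∣ y * (∑ i ∈ Finset.range n, r ^ i) := (Nat.mul_dvd_mul_iff_left hdpos).1 h1
    exact hxy.dvd_of_dvd_mul_left h2
  obtain ⟨S', hS'⟩ := hxS
  have hk : Nat.gcd l (d * Nat.gcd m (∑ i ∈ Finset.range n, r ^ i) / m) = Nat.gcd l (Nat.gcd d S') := by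
    congr 1
    rw [hS', hm', Nat.gcd_mul_left]
    have : d * (x * Nat.gcd d S') = Nat.gcd d S' * (x * d) := by ring
    rw [this, Nat.mul_div_cancel _ (Nat.mul_pos hxpos hdpos)]
  exact ⟨⟨d, x, y, S', rfl, hm', hr', hxy, ht, hS', hk, hdpos, hxpos⟩⟩

end Cfsg.Agent.Lib.Helper1.MetaC
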