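import Cfsg.Agent.Lib.Helper1.MetaG

/-!
Parameters of a covering group of a metacyclic group (helper1).
-/

set_option autoImplicit false

namespace Cfsg.Agent.Lib.Helper1.MetaC

/-- the parameters of the cover: `r' = r + m * lam = d * u + 1`, modulus `m * k` -/
theorem exists_cover_params (m n r l : ℕ) (D : Data m n r l) (hm : 0 < m) (hn : 0 < n) :
    ∃ lam u j : ℕ, 0 < Nat.gcd l (Nat.gcd D.d D.S') ∧
      Nat.gcd l (Nat.gcd D.d D.S') ∣ D.d ∧
      r + m * lam = D.d * u + 1 ∧
      (r + m * lam) ^ n ≡ 1 [MOD m * Nat.gcd l (Nat.gcd D.d D.S')] ∧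
      (D.x * l) * (r + m * lam) ≡ D.x * l [MOD m * Nat.gcd l (Nat.gcd D.d D.S')] ∧
      (D.d * u) * j ≡ m [MOD m * Nat.gcd l (Nat.gcd D.d D.S')] := by
  obtain ⟨d, x, y, S', hd, hmx, hr, hxy, ht, hS, hk, hdpos, hxpos⟩ := D
  simp only
  set k := Nat.gcd l (Nat.gcd d S') with hkdef
  have hkl : k ∣ l := Nat.gcd_dvd_left _ _
  have hkd : k ∣ d := (Nat.gcd_dvd_right l _).trans (Nat.gcd_dvd_left d S')
  have hkS' : k ∣ S' := (Nat.gcd_dvd_right l _).trans (Nat.gcd_dvd_right d S')
  have hkpos : 0 < k := Nat.pos_of_dvd_of_pos hkd hdpos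
  -- k divides n
  have hkn : k ∣ n := by
    have h1 : r ≡ 1 [MOD d] := by
      rw [hr]
      have : y * d + 1 ≡ 0 + 1 [MOD d] := by
        apply Nat.ModEq.add_right
        exact (Nat.modEq_zero_iff_dvd).2 (Dvd.intro_left y rfl)
      simpa using this
    have h2 := (sum_pow_modEq d r n h1).of_dvd hkd
    have h3 : ∑ i ∈ Finset.range n, r ^ i ≡ 0 [MOD k] := by
      rw [hS]
      exact (Nat.modEq_zero_iff_dvd).2 (Dvd.dvd.mul_left hkS' x)
    exact (Nat.modEq_zero_iff_dvd).1 (h2.symm.trans h3)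
  obtain ⟨lam, hlam⟩ := exists_coprime_add_mul y x k hkpos.ne' hxy.symm
  set u := y + lam * x with hu
  have hr' : r + m * lam = d * u + 1 := by rw [hr, hmx, hu]; ring
  have hux : Nat.Coprime u x := (Nat.coprime_add_mul_right_left y x lam).2 hxy.symm
  have huxk : Nat.Coprime u (x * k) := Nat.Coprime.mul_right hux hlam
  obtain ⟨j, -, hj⟩ := Nat.exists_mul_mod_eq_of_coprime x huxk (Nat.mul_pos hxpos hkpos).ne'
  refine ⟨lam, u, j, hkpos, hkd, hr', ?_, ?_, ?_⟩
  · -- r' ^ n ≡ 1
    obtain ⟨n', rfl⟩ : ∃ n', n = n' + 1 := ⟨n - 1, by omega⟩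
    rw [← ZMod.natCast_eq_natCast_iff]
    push_cast
    have he : ((m : ZMod (m * k)) * (lam : ZMod (m * k))) * ((m : ZMod (m * k)) * (lam : ZMod (m * k))) = 0 := by
      have : ((m * lam * (m * lam) : ℕ) : ZMod (m * k)) = 0 := by
        rw [ZMod.natCast_eq_zero_iff]
        obtain ⟨q, hq⟩ := hkd
        rw [hmx, hq]
        exact ⟨x * q * lam * lam, by ring⟩
      push_cast at this
      exact this
    rw [pow_add_eps _ _ he]
    have h1 : ((r : ZMod (m * k))) ^ (n' + 1) = 1 := by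
      have hgeo : r ^ (n' + 1) = y * d * (∑ i ∈ Finset.range (n' + 1), r ^ i) + 1 := by
        rw [hr]; exact geom_nat' (y * d) (n' + 1)
      obtain ⟨s'', hs''⟩ := hkS'
      have h2 : r ^ (n' + 1) = (m * k) * (y * s'') + 1 := by
        rw [hgeo, hS, hs'', hmx]; ring
      have h3 : ((r ^ (n' + 1) : ℕ) : ZMod (m * k)) = 1 := by
        rw [h2]
        push_cast
        have : ((m : ZMod (m * k)) * (k : ZMod (m * k))) = 0 := by
          have := ZMod.natCast_self (m * k)
          push_cast at this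
          exact this
        rw [this]; ring
      push_cast at h3
      exact h3
    have h4 : ((n' : ZMod (m * k)) + 1) * ((m : ZMod (m * k)) * (lam : ZMod (m * k))) = 0 := by
      have : (((n' + 1) * (m * lam) : ℕ) : ZMod (m * k)) = 0 := by
        rw [ZMod.natCast_eq_zero_iff]
        obtain ⟨q, hq⟩ := hkn
        rw [hq]
        exact ⟨q * lam, by ring⟩
      push_cast at this
      exact this
    rw [h1]
    have : ((n' : ZMod (m * k)) + 1) * (r : ZMod (m * k)) ^ n' * ((m : ZMod (m * k)) * (lam : ZMod (m * k))) =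
        (r : ZMod (m * k)) ^ n' * (((n' : ZMod (m * k)) + 1) * ((m : ZMod (m * k)) * (lam : ZMod (m * k)))) := by ring
    rw [this, h4]
    ring
  · -- t * r' ≡ t
    obtain ⟨l', hl'⟩ := hkl
    rw [hr']
    have : x * l * (d * u + 1) = x * l + (m * k) * (l' * u) := by
      rw [hmx]
      conv_lhs => rw [hl']
      conv_rhs => rw [hl']
      ring
    rw [this]
    unfold Nat.ModEq
    exact Nat.add_mul_mod_self_left _ _ _
  · have h1 : u * j ≡ x [MOD x * k] := hj
    have h2 := h1.mul_left' d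
    have e1 : d * (u * j) = d * u * j := by ring
    have e2 : d * x = m := by rw [hmx]; ring
    have e3 : d * (x * k) = m * k := by rw [hmx]; ring
    rw [e1, e2, e3] at h2
    exact h2

end Cfsg.Agent.Lib.Helper1.MetaC
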