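import Cfsg.Agent.Lib.Helper1.MetaF
import Cfsg.Agent.Lib.Helper1.MetaH

/-!
The Schur multiplier of the presented metacyclic group (helper1): the bound for the kernels of stem
extensions and a stem extension attaining it.
-/

set_option autoImplicit false

namespace Cfsg.Agent.Lib.Helper1.MetaC

open scoped commutatorElement

theorem exists_surj_of_gen {A : Type*} [Group A] (e : A) (k : ℕ) (hk : e ^ k = 1)
    (hgen : ∀ z : A, z ∈ Subgroup.zpowers e) :
    ∃ π : Multiplicative (ZMod k) →* A, Function.Surjective π := by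
  let f : ℤ →+ Additive A := zmultiplesHom (Additive A) (Additive.ofMul e)
  have hf : f k = 0 := by
    show (k : ℤ) • Additive.ofMul e = 0
    rw [natCast_zsmul, ← ofMul_pow, hk]
    rfl
  let g := ZMod.lift k ⟨f, hf⟩
  refine ⟨AddMonoidHom.toMultiplicativeLeft g, ?_⟩
  intro z
  obtain ⟨i, hi⟩ := Subgroup.mem_zpowers_iff.1 (hgen z)
  refine ⟨Multiplicative.ofAdd (i : ZMod k), ?_⟩
  show (g (i : ZMod k)).toMul = z
  rw [ZMod.lift_coe]
  show (i • Additive.ofMul e).toMul = z
  rw [← ofMul_zpow, hi]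
  rfl

theorem hT_of_data (m n r l : ℕ) (D : Data m n r l) :
    (D.x * l) * r ≡ D.x * l [MOD m] := by
  obtain ⟨d, x, y, S', hd, hmx, hr, hxy, ht, hS, hk, hdpos, hxpos⟩ := D
  simp only
  have h1 : x * l * r = x * l + m * (l * y) := by
    subst hr
    subst hmx
    ring
  rw [h1]
  unfold Nat.ModEq
  exact Nat.add_mul_mod_self_left _ _ _

/-- the kernel of every finite stem extension is a quotient of the cyclic group of order `k` -/
theorem ker_bound (m n r l : ℕ) (hm : 0 < m) (hn : 0 < n) (hr : 0 < r) (hrn : r ^ n ≡ 1 [MOD m])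
    {Γ : Type*} [Group Γ] [Finite Γ]
    (σ : Γ →* PG m n r (m * l / Nat.gcd m (r - 1))) (hσ : Cfsg.IsStemExtension σ) :
    ∃ π : Multiplicative (ZMod (Nat.gcd l (Nat.gcd m (r - 1) *
      Nat.gcd m (∑ i ∈ Finset.range n, r ^ i) / m))) →* σ.ker, Function.Surjective π := by
  obtain ⟨D⟩ := exists_data m n r l hm hr hrn
  rw [D.hk]
  have hT : (m * l / Nat.gcd m (r - 1)) * r ≡ m * l / Nat.gcd m (r - 1) [MOD m] := by
    rw [D.ht]; exact hT_of_data m n r l D
  obtain ⟨_, _, hord⟩ := PG_props (M := m) (n := n) (R := r) (T := m * l / Nat.gcd m (r - 1))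
    hm hn hrn hT
  obtain ⟨e, hek, hgen, hed, hel, heS⟩ :=
    ker_gen σ hσ D.x D.y D.d l D.S' D.hm D.hr D.hxy D.ht D.hS hord hm
  have hek' : e ^ Nat.gcd l (Nat.gcd D.d D.S') = 1 := by
    apply orderOf_dvd_iff_pow_eq_one.1
    exact Nat.dvd_gcd (orderOf_dvd_of_pow_eq_one hel)
      (Nat.dvd_gcd (orderOf_dvd_of_pow_eq_one hed) (orderOf_dvd_of_pow_eq_one heS))
  apply exists_surj_of_gen (⟨e, hek⟩ : σ.ker)
  · apply Subtype.ext
    rw [Subgroup.coe_pow]
    exact hek'
  · intro z
    obtain ⟨i, hi⟩ := Subgroup.mem_zpowers_iff.1 (hgen z.1 z.2)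
    refine Subgroup.mem_zpowers_iff.2 ⟨i, ?_⟩
    apply Subtype.ext
    rw [Subgroup.coe_zpow]
    exact hi

theorem nonempty_equiv_of_cyclic {A : Type*} [Group A] (hA : IsCyclic A) (k : ℕ)
    (h : Nat.card A = k) : Nonempty (A ≃* Multiplicative (ZMod k)) := by
  subst h
  exact ⟨(zmodCyclicMulEquiv hA).symm⟩

/-- a stem extension with kernel cyclic of order `k` -/
theorem exists_cover (m n r l : ℕ) (hm : 0 < m) (hn : 0 < n) (hr : 0 < r)
    (hrn : r ^ n ≡ 1 [MOD m]) :
    ∃ (Γ : Type) (_ : Group Γ) (_ : Finite Γ)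
      (σ : Γ →* PG m n r (m * l / Nat.gcd m (r - 1))), Cfsg.IsStemExtension σ ∧
      Nonempty (σ.ker ≃* Multiplicative (ZMod (Nat.gcd l (Nat.gcd m (r - 1) *
        Nat.gcd m (∑ i ∈ Finset.range n, r ^ i) / m)))) := by
  obtain ⟨D⟩ := exists_data m n r l hm hr hrn
  rw [D.hk, D.ht]
  obtain ⟨lam, u, j, hkpos, hkd, hr', hR', hT', hj⟩ := exists_cover_params m n r l D hm hn
  set k := Nat.gcd l (Nat.gcd D.d D.S') with hkdef
  set t := D.x * l with htdef
  have hT : t * r ≡ t [MOD m] := hT_of_data m n r l D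
  have hMpos : 0 < m * k := Nat.mul_pos hm hkpos
  -- the two groups
  obtain ⟨hfinG, hcardG, hordG⟩ := PG_props (M := m) (n := n) (R := r) (T := t) hm hn hrn hT
  obtain ⟨hfinC, hcardC, hordC⟩ :=
    PG_props (M := m * k) (n := n) (R := r + m * lam) (T := t) hMpos hn hR' hT'
  have hmcG : MC m n r t (pa : PG m n r t) pb := mc_PG
  have hmcC : MC (m * k) n (r + m * lam) t (pa : PG (m * k) n (r + m * lam) t) pb := mc_PG
  -- the map
  have hmc' : MC (m * k) n (r + m * lam) t (pa : PG m n r t) pb := by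
    refine ⟨?_, ?_, hmcG.hbn⟩
    · rw [pow_mul, hmcG.hM, one_pow]
    · rw [hmcG.hconj, pow_add, pow_mul, hmcG.hM, one_pow, mul_one]
  obtain ⟨σ, hσa, hσb⟩ := lift_MC hmc'
  have hsurj : Function.Surjective σ := by
    rw [← MonoidHom.range_eq_top, eq_top_iff, ← closure_PG (M := m) (n := n) (R := r) (T := t),
      Subgroup.closure_le]
    rintro g (rfl | rfl)
    · exact ⟨pa, hσa⟩
    · exact ⟨pb, hσb⟩
  -- the kernel
  have hcardK : Nat.card σ.ker = k := by
    have h1 := Subgroup.card_eq_card_quotient_mul_card_subgroup σ.ker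
    have h2 : Nat.card (PG (m * k) n (r + m * lam) t ⧸ σ.ker) = Nat.card (PG m n r t) :=
      Nat.card_congr (QuotientGroup.quotientKerEquivOfSurjective σ hsurj).toEquiv
    rw [h2, hcardC, hcardG] at h1
    have h3 : m * n * k = m * n * Nat.card σ.ker := by rw [← h1]; ring
    exact (Nat.eq_of_mul_eq_mul_left (Nat.mul_pos hm hn) h3).symm
  have hamk : (pa : PG (m * k) n (r + m * lam) t) ^ m ∈ σ.ker := by
    rw [MonoidHom.mem_ker, map_pow, hσa, hmcG.hM]
  have horda : orderOf ((pa : PG (m * k) n (r + m * lam) t) ^ m) = k := by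
    rw [orderOf_pow, hordC, Nat.gcd_mul_right_left, Nat.mul_div_cancel_left _ hm]
  have hker : σ.ker = Subgroup.zpowers ((pa : PG (m * k) n (r + m * lam) t) ^ m) := by
    symm
    apply Subgroup.eq_of_le_of_card_ge
    · rw [Subgroup.zpowers_le]; exact hamk
    · rw [hcardK, Nat.card_zpowers, horda]
  -- central
  have hcen : (pa : PG (m * k) n (r + m * lam) t) ^ m ∈ Subgroup.center _ := by
    have h1 : Subgroup.closure ({pa, pb} : Set (PG (m * k) n (r + m * lam) t)) ≤
        Subgroup.centralizer {(pa : PG (m * k) n (r + m * lam) t) ^ m} := by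
      rw [Subgroup.closure_le]
      rintro g (rfl | rfl)
      · rw [SetLike.mem_coe, Subgroup.mem_centralizer_iff]
        rintro h rfl
        rw [← pow_succ, ← pow_succ']
      · rw [SetLike.mem_coe, Subgroup.mem_centralizer_iff]
        rintro h rfl
        have h2 := hmcC.conj_pow m
        have h3 : (pa : PG (m * k) n (r + m * lam) t) ^ ((r + m * lam) * m) = pa ^ m := by
          rw [pow_eq_pow_iff_modEq, hordC, hr']
          obtain ⟨q, hq⟩ := hkd
          have : (D.d * u + 1) * m = m + (m * k) * (q * u) := by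
            conv_lhs => rw [hq]
            ring
          rw [this]
          unfold Nat.ModEq
          exact Nat.add_mul_mod_self_left _ _ _
        rw [h3] at h2
        exact (mul_inv_eq_iff_eq_mul.1 h2).symm
    rw [closure_PG] at h1
    rw [Subgroup.mem_center_iff]
    intro g
    have := Subgroup.mem_centralizer_iff.1 (h1 (Subgroup.mem_top g)) _ rfl
    exact this.symm
  -- in the commutator subgroup
  have hcom : (pa : PG (m * k) n (r + m * lam) t) ^ m ∈ commutator _ := by
    have h1 : ⁅(pb : PG (m * k) n (r + m * lam) t), (pa : PG (m * k) n (r + m * lam) t)⁆ =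
        pa ^ (D.d * u) := by
      rw [commutatorElement_def, hmcC.hconj, hr', pow_succ, mul_assoc, mul_inv_cancel, mul_one]
    have h2 : (pa : PG (m * k) n (r + m * lam) t) ^ m = (pa ^ (D.d * u)) ^ j := by
      rw [← pow_mul, pow_eq_pow_iff_modEq, hordC]
      exact hj.symm
    rw [h2, ← h1, commutator_def]
    exact Subgroup.pow_mem _ (Subgroup.commutator_mem_commutator (Subgroup.mem_top _)
      (Subgroup.mem_top _)) _
  refine ⟨PG (m * k) n (r + m * lam) t, inferInstance, hfinC, σ, ⟨hsurj, ?_, ?_⟩, ?_⟩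
  · rw [hker, Subgroup.zpowers_le]; exact hcen
  · rw [hker, Subgroup.zpowers_le]; exact hcom
  · apply nonempty_equiv_of_cyclic _ k hcardK
    rw [hker]
    exact Subgroup.isCyclic_zpowers _

end Cfsg.Agent.Lib.Helper1.MetaC
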