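import Mathlib
import Cfsg.Agent.Lib.Helper1.SlMa

/-!
# Central extensions of dicyclic-like groups have no central commutators (helper1)
-/

set_option autoImplicit false
set_option maxHeartbeats 2000000

namespace Cfsg.Agent.Lib.Helper1.SlMult

open Cfsg.Agent.Lib.Helper1.SzMult

open scoped commutatorElement

section dic

variable {S : Type*} [Group S]

theorem conj_mem_zpowers {a w : S} (hinv : w * a * w⁻¹ = a⁻¹) :
    ∀ x ∈ Subgroup.zpowers a, w * x * w⁻¹ ∈ Subgroup.zpowers a := by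
  intro x hx
  obtain ⟨i, rfl⟩ := Subgroup.mem_zpowers_iff.mp hx
  have : w * a ^ i * w⁻¹ = (a⁻¹) ^ i := by
    rw [← hinv]
    exact (conj_zpow (a := w) (b := a) (i := i)).symm
  rw [this, inv_zpow]
  exact Subgroup.inv_mem _ (Subgroup.zpow_mem_zpowers a i)

variable {Γ : Type*} [Group Γ] (σ : Γ →* S)

theorem dic_ext [Finite Γ] (hc : σ.ker ≤ Subgroup.center Γ) (â ŵ : Γ) (m : ℕ) (hm : 0 < m)
    (hord : orderOf (σ â) = 2 * m)
    (hinv : σ ŵ * σ â * (σ ŵ)⁻¹ = (σ â)⁻¹) (hw2 : σ ŵ * σ ŵ = σ â ^ m)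
    (hw : ∀ x ∈ Subgroup.zpowers (σ â), σ ŵ * x * (σ ŵ)⁻¹ ∈ Subgroup.zpowers (σ â))
    (hw2' : σ ŵ * σ ŵ ∈ Subgroup.zpowers (σ â))
    {z : Γ} (hz : z ∈ σ.ker)
    (hz' : z ∈ ⁅(dicSub (Subgroup.zpowers (σ â)) (σ ŵ) hw hw2').comap σ,
      (dicSub (Subgroup.zpowers (σ â)) (σ ŵ) hw hw2').comap σ⁆) : z = 1 := by
  set a := σ â with ha
  set w := σ ŵ with hwdef
  set c := ⁅â, ŵ⁆ with hcdef
  have hσc : σ c = a * a := by
    rw [hcdef, map_commutatorElement, commutatorElement_def, ← ha, ← hwdef]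
    have h1 : w * a⁻¹ * w⁻¹ = a := by
      have : w * a⁻¹ * w⁻¹ = (w * a * w⁻¹)⁻¹ := by group
      rw [this, hinv, inv_inv]
    calc a * w * a⁻¹ * w⁻¹ = a * (w * a⁻¹ * w⁻¹) := by group
      _ = a * a := by rw [h1]
  have hover : ∀ {x y : Γ}, σ x ∈ Subgroup.zpowers a → σ y ∈ Subgroup.zpowers a →
      x * y = y * x := fun hx hy => comm_of_zpowers σ hc â hx hy
  have hσpow : ∀ i : ℕ, σ (â ^ i) ∈ Subgroup.zpowers a := by
    intro i
    rw [map_pow]
    exact Subgroup.pow_mem _ (Subgroup.mem_zpowers a) i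
  have hσcpow : ∀ i : ℕ, σ (c ^ i) ∈ Subgroup.zpowers a := by
    intro i
    rw [map_pow, hσc]
    exact Subgroup.pow_mem _ (Subgroup.mul_mem _ (Subgroup.mem_zpowers a)
      (Subgroup.mem_zpowers a)) i
  have L1 : ∀ i : ℕ, ⁅â ^ i, ŵ⁆ = c ^ i := by
    intro i
    induction i with
    | zero => rw [pow_zero, pow_zero, commutatorElement_one_left]
    | succ i ih =>
      have hcm : â ^ i * ⁅â, ŵ⁆ = ⁅â, ŵ⁆ * â ^ i := by
        apply hover (hσpow i)
        have := hσcpow 1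
        rwa [pow_one] at this
      rw [pow_succ, cm_mul_left hcm, ih, pow_succ']
  have L2 : ∀ i j : ℕ, ⁅â ^ i, â ^ j * ŵ⁆ = c ^ i := by
    intro i j
    have hcm : â ^ j * ⁅â ^ i, ŵ⁆ = ⁅â ^ i, ŵ⁆ * â ^ j := by
      rw [L1]
      exact hover (hσpow j) (hσcpow i)
    rw [cm_mul_right hcm, L1]
    have : ⁅â ^ i, â ^ j⁆ = 1 := by
      rw [commutatorElement_eq_one_iff_mul_comm]
      exact hover (hσpow i) (hσpow j)
    rw [this, one_mul]
  have L3 : ∀ i : ℕ, ⁅â ^ i * ŵ, ŵ⁆ = c ^ i := by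
    intro i
    rw [← L1 i]
    simp only [commutatorElement_def]
    group
  have hfin : IsOfFinOrder a := by
    rw [← orderOf_pos_iff, hord]
    omega
  set N := dicSub (Subgroup.zpowers a) w hw hw2' with hN
  have hform : ∀ x ∈ N.comap σ, ∃ i : ℕ, σ x = σ (â ^ i) ∨ σ x = σ (â ^ i * ŵ) := by
    intro x hx
    rw [Subgroup.mem_comap, hN, mem_dicSub] at hx
    rcases hx with hx | hx
    · rw [← hfin.mem_powers_iff_mem_zpowers, Submonoid.mem_powers_iff] at hx
      obtain ⟨i, hi⟩ := hx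
      exact ⟨i, Or.inl (by rw [map_pow, ← ha, hi])⟩
    · rw [← hfin.mem_powers_iff_mem_zpowers, Submonoid.mem_powers_iff] at hx
      obtain ⟨i, hi⟩ := hx
      refine ⟨i, Or.inr ?_⟩
      rw [map_mul, map_pow, ← ha, ← hwdef, hi]
      group
  have hD : ⁅N.comap σ, N.comap σ⁆ ≤ Subgroup.zpowers c := by
    rw [Subgroup.commutator_le]
    intro x hx y hy
    obtain ⟨i, hi⟩ := hform x hx
    obtain ⟨j, hj⟩ := hform y hy
    rcases hi with hi | hi <;> rcases hj with hj | hj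
    · rw [cm_congr σ hc hi hj]
      have : ⁅â ^ i, â ^ j⁆ = 1 := by
        rw [commutatorElement_eq_one_iff_mul_comm]
        exact hover (hσpow i) (hσpow j)
      rw [this]
      exact Subgroup.one_mem _
    · rw [cm_congr σ hc hi hj, L2]
      exact Subgroup.pow_mem _ (Subgroup.mem_zpowers c) i
    · rw [cm_congr σ hc hi hj, ← commutatorElement_inv, L2]
      exact Subgroup.inv_mem _ (Subgroup.pow_mem _ (Subgroup.mem_zpowers c) j)
    · rw [cm_congr σ hc hi hj]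
      have hcm : â ^ j * ⁅â ^ i * ŵ, ŵ⁆ = ⁅â ^ i * ŵ, ŵ⁆ * â ^ j := by
        rw [L3]
        exact hover (hσpow j) (hσcpow i)
      rw [cm_mul_right hcm, L3, ← commutatorElement_inv, L2]
      exact Subgroup.mul_mem _
        (Subgroup.inv_mem _ (Subgroup.pow_mem _ (Subgroup.mem_zpowers c) j))
        (Subgroup.pow_mem _ (Subgroup.mem_zpowers c) i)
  have hzc := hD hz'
  rw [← (isOfFinOrder_of_finite c).mem_powers_iff_mem_zpowers, Submonoid.mem_powers_iff] at hzc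
  obtain ⟨i, hi⟩ := hzc
  have h1 : a ^ (2 * i) = 1 := by
    have := MonoidHom.mem_ker.mp hz
    rw [← hi, map_pow, hσc, ← pow_two, ← pow_mul] at this
    exact this
  have h2 : 2 * m ∣ 2 * i := by
    rw [← hord]
    exact orderOf_dvd_of_pow_eq_one h1
  have h3 : m ∣ i := (Nat.mul_dvd_mul_iff_left (by norm_num)).mp h2
  obtain ⟨l, rfl⟩ := h3
  have hcm : c ^ m = 1 := by
    rw [← L1 m]
    have e : σ (â ^ m) = σ (ŵ * ŵ) := by
      rw [map_pow, map_mul, ← ha, ← hwdef, hw2]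
    rw [cm_congr σ hc e rfl]
    simp only [commutatorElement_def]
    group
  rw [← hi, pow_mul, hcm, one_pow]

end dic

end Cfsg.Agent.Lib.Helper1.SlMult
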