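import Mathlib
import Cfsg.Agent.Lib.Helper1.MmA

/-!
# Stem extensions of a group of order 7920 containing `SD₁₆` and `3² : 2` are trivial (helper1)
-/

set_option autoImplicit false
set_option maxHeartbeats 2000000

namespace Cfsg.Agent.Lib.Helper1.MMult

open Cfsg.Agent.Lib.Helper1.SzMult Cfsg.Agent.Lib.Helper1.SlMult

open scoped commutatorElement

section P3

variable {G : Type*} [Group G]

theorem not_mem_zpowers_of_inverting {a b n : G} (hb3 : b ^ 3 = 1) (hb1 : b ≠ 1)
    (hna : n * a * n⁻¹ = a⁻¹) (hnb : n * b * n⁻¹ = b) : b ∉ Subgroup.zpowers a := by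
  intro hb
  obtain ⟨i, rfl⟩ := Subgroup.mem_zpowers_iff.mp hb
  have h1 : n * a ^ i * n⁻¹ = (a ^ i)⁻¹ := by
    rw [← inv_zpow, ← hna]
    exact (conj_zpow (a := n) (b := a) (i := i)).symm
  rw [hnb] at h1
  apply hb1
  have h2 : a ^ i * a ^ i = 1 := by
    nth_rewrite 1 [h1]
    exact inv_mul_cancel _
  calc a ^ i = a ^ i * ((a ^ i) ^ 3)⁻¹ := by rw [hb3, inv_one, mul_one]
    _ = (a ^ i * a ^ i)⁻¹ := by group
    _ = 1 := by rw [h2, inv_one]

theorem index_closure_pair [Finite G] (hcard : Nat.card G = 7920) (a b n : G)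
    (ha3 : a ^ 3 = 1) (ha1 : a ≠ 1) (hb3 : b ^ 3 = 1) (hb1 : b ≠ 1) (hab : a * b = b * a)
    (hna : n * a * n⁻¹ = a⁻¹) (hnb : n * b * n⁻¹ = b) :
    (Subgroup.closure ({a, b} : Set G)).index = 880 := by
  set P := Subgroup.closure ({a, b} : Set G) with hPdef
  have hcomm : ∀ x ∈ P, ∀ y ∈ P, x * y = y * x := by
    apply comm_closure'
    intro x hx y hy
    simp only [Set.mem_insert_iff, Set.mem_singleton_iff] at hx hy
    rcases hx with rfl | rfl <;> rcases hy with rfl | rfl
    · rfl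
    · exact hab
    · exact hab.symm
    · rfl
  have hcube : ∀ x ∈ P, x ^ 3 = 1 := by
    intro x hx
    refine Subgroup.closure_induction (p := fun x _ => x ^ 3 = 1) ?_ ?_ ?_ ?_ hx
    · intro x hx
      simp only [Set.mem_insert_iff, Set.mem_singleton_iff] at hx
      rcases hx with rfl | rfl
      · exact ha3
      · exact hb3
    · exact one_pow 3
    · intro x y hx hy ihx ihy
      have h : Commute x y := hcomm x hx y hy
      rw [h.mul_pow, ihx, ihy, mul_one]
    · intro x hx ih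
      rw [inv_pow, ih, inv_one]
  have hP : IsPGroup 3 P := by
    intro x
    refine ⟨1, ?_⟩
    apply Subtype.ext
    rw [pow_one, Subgroup.coe_pow, Subgroup.coe_one]
    exact hcube x.1 x.2
  obtain ⟨k, hk⟩ := IsPGroup.iff_card.mp hP
  have hdvd : Nat.card P ∣ Nat.card G := Subgroup.card_subgroup_dvd_card _
  rw [hk, hcard] at hdvd
  have hk2 : k ≤ 2 := by
    by_contra hlt
    have h3 : 3 ≤ k := by omega
    have : 3 ^ 3 ∣ 7920 := dvd_trans (pow_dvd_pow 3 h3) hdvd
    norm_num at this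
  haveI : Fact (Nat.Prime 3) := ⟨Nat.prime_three⟩
  have hoa : orderOf a = 3 := orderOf_eq_prime ha3 ha1
  have haP : Subgroup.zpowers a ≤ P := by
    rw [Subgroup.zpowers_le]
    exact Subgroup.subset_closure (by simp)
  have hbP : b ∈ P := Subgroup.subset_closure (by simp)
  have hbna := not_mem_zpowers_of_inverting hb3 hb1 hna hnb
  have hza : Nat.card (Subgroup.zpowers a) = 3 := by rw [Nat.card_zpowers, hoa]
  have hk1 : k ≠ 0 := by
    rintro rfl
    have := Subgroup.card_dvd_of_le haP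
    rw [hza, hk] at this
    norm_num at this
  have hk1' : k ≠ 1 := by
    rintro rfl
    have heq : Subgroup.zpowers a = P := by
      apply Subgroup.eq_of_le_of_card_ge haP
      rw [hza, hk]
      norm_num
    apply hbna
    rw [heq]
    exact hbP
  have hk' : k = 2 := by omega
  have h := Subgroup.index_mul_card P
  rw [hk, hk', hcard] at h
  omega

end P3

section ext

variable {G : Type*} [Group G] [Finite G]
variable {Γ : Type*} [Group Γ] (σ : Γ →* G)

theorem comm_over_P3 (a b n : G) (ha3 : a ^ 3 = 1) (hab : a * b = b * a)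
    (hna : n * a * n⁻¹ = a⁻¹) (hnb : n * b * n⁻¹ = b)
    (hsurj : Function.Surjective σ) (hc : σ.ker ≤ Subgroup.center Γ) :
    ∀ x ∈ (Subgroup.closure ({a, b} : Set G)).comap σ,
      ∀ y ∈ (Subgroup.closure ({a, b} : Set G)).comap σ, x * y = y * x := by
  obtain ⟨â, rfl⟩ := hsurj a
  obtain ⟨bh, rfl⟩ := hsurj b
  obtain ⟨nh, rfl⟩ := hsurj n
  set c := ⁅â, bh⁆ with hcdef
  have hcen : c ∈ Subgroup.center Γ := hc (cm_mem_ker σ hab)
  have hcc : ∀ t : Γ, t * c = c * t := fun t => Subgroup.mem_center_iff.mp hcen t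
  have h2 : ⁅â * â, bh⁆ = c * c := cm_mul_left (hcc â)
  have h3 : ⁅â * (â * â), bh⁆ = c * c * c := by
    have hcm : â * ⁅â * â, bh⁆ = ⁅â * â, bh⁆ * â := by
      rw [h2, ← mul_assoc, hcc â, mul_assoc, hcc â, ← mul_assoc]
    rw [cm_mul_left hcm, h2]
  have hc3 : c * c * c = 1 := by
    rw [← h3]
    have e : σ (â * (â * â)) = σ 1 := by
      rw [map_mul, map_mul, map_one, ← pow_two, ← pow_succ', ha3]
    rw [cm_congr σ hc e rfl, commutatorElement_one_left]
  have hinvc : ⁅â⁻¹, bh⁆ = c⁻¹ := by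
    have hcm : â⁻¹ * ⁅â, bh⁆ = ⁅â, bh⁆ * â⁻¹ := hcc â⁻¹
    have := cm_mul_left hcm
    rw [inv_mul_cancel, commutatorElement_one_left] at this
    exact eq_inv_of_mul_eq_one_right this.symm
  have hconj : ⁅â⁻¹, bh⁆ = c := by
    have h : ⁅nh * â * nh⁻¹, nh * bh * nh⁻¹⁆ = c := cm_conj_central nh hcen
    rw [← h]
    apply cm_congr σ hc
    · rw [map_inv, map_mul, map_mul, map_inv, hna]
    · rw [map_mul, map_mul, map_inv, hnb]
  have hc2 : c * c = 1 := by
    have : c⁻¹ = c := by rw [← hinvc, hconj]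
    calc c * c = c⁻¹ * c := by rw [this]
      _ = 1 := inv_mul_cancel c
  have hc1 : c = 1 := by
    rw [hc2, one_mul] at hc3
    exact hc3
  have hcomm : â * bh = bh * â := commutatorElement_eq_one_iff_mul_comm.mp hc1
  have key := comm_over_closure σ hc ({â, bh} : Set Γ) (by
    intro x hx y hy
    simp only [Set.mem_insert_iff, Set.mem_singleton_iff] at hx hy
    rcases hx with rfl | rfl <;> rcases hy with rfl | rfl
    · rfl
    · exact hcomm
    · exact hcomm.symm
    · rfl)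
  have himg : σ '' ({â, bh} : Set Γ) = {σ â, σ bh} := by
    rw [Set.image_insert_eq, Set.image_singleton]
  rw [himg] at key
  exact key

theorem stem_trivial_m11 [Finite Γ] (hcard : Nat.card G = 7920) (s t a b n : G)
    (hs8 : s ^ 8 = 1) (hs4 : s ^ 4 ≠ 1) (ht2 : t * t = 1) (hts : t * s = s ^ 3 * t)
    (ha3 : a ^ 3 = 1) (ha1 : a ≠ 1) (hb3 : b ^ 3 = 1) (hb1 : b ≠ 1) (hab : a * b = b * a)
    (hna : n * a = a * a * n) (hnb : n * b = b * n)
    (hsurj : Function.Surjective σ) (hc : σ.ker ≤ Subgroup.center Γ)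
    (hd : σ.ker ≤ commutator Γ) : σ.ker = ⊥ := by
  rw [Subgroup.eq_bot_iff_forall]
  intro z hz
  have cauchy : ∀ (r k : ℕ), r.Prime → r * k = 7920 → z ^ k = 1 := by
    intro r k hr hrk
    haveI : Fact r.Prime := ⟨hr⟩
    obtain ⟨x, hx⟩ := exists_prime_orderOf_dvd_card' (G := G) r
      (by rw [hcard, ← hrk]; exact dvd_mul_right _ _)
    have := pow_index_zpowers σ hsurj hc x hz (hd hz)
    have hidx : (Subgroup.zpowers x).index = k := by
      have h := Subgroup.index_mul_card (Subgroup.zpowers x)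
      rw [Nat.card_zpowers, hx, hcard, ← hrk, mul_comm] at h
      exact Nat.eq_of_mul_eq_mul_left hr.pos h
    rwa [hidx] at this
  have o1 : orderOf z ∣ 1584 :=
    orderOf_dvd_of_pow_eq_one (cauchy 5 1584 (by norm_num) (by norm_num))
  have o2 : orderOf z ∣ 720 :=
    orderOf_dvd_of_pow_eq_one (cauchy 11 720 (by norm_num) (by norm_num))
  -- the 3-part
  have hna' : n * a * n⁻¹ = a⁻¹ := by
    rw [hna, mul_inv_cancel_right]
    apply eq_inv_of_mul_eq_one_left
    rw [← pow_two, ← pow_succ, ha3]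
  have hnb' : n * b * n⁻¹ = b := by rw [hnb, mul_inv_cancel_right]
  have o3 : orderOf z ∣ 880 := by
    apply orderOf_dvd_of_pow_eq_one
    have := pow_index_eq_one_of_comm ((Subgroup.closure ({a, b} : Set G)).comap σ)
      (comm_over_P3 σ a b n ha3 hab hna' hnb' hsurj hc) (hc hz) (hd hz)
    rwa [Subgroup.index_comap_of_surjective _ hsurj,
      index_closure_pair hcard a b n ha3 ha1 hb3 hb1 hab hna' hnb'] at this
  -- the 2-part
  have hos : orderOf s = 8 := by
    have h2 : orderOf s ∣ 2 ^ 3 := orderOf_dvd_of_pow_eq_one hs8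
    obtain ⟨j, hj, hj'⟩ := (Nat.dvd_prime_pow Nat.prime_two).mp h2
    have : j = 3 := by
      by_contra hne
      have hj2 : j ≤ 2 := by omega
      apply hs4
      have : orderOf s ∣ 2 ^ 2 := by
        rw [hj']
        exact pow_dvd_pow 2 hj2
      exact orderOf_dvd_iff_pow_eq_one.mp this
    rw [hj', this]
    norm_num
  have hinv : t * s * t⁻¹ = s ^ 3 := by rw [hts, mul_inv_cancel_right]
  have o4 : orderOf z ∣ 495 := by
    apply orderOf_dvd_of_pow_eq_one
    obtain ⟨ŝ, rfl⟩ := hsurj s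
    obtain ⟨tw, rfl⟩ := hsurj t
    have hw2' : σ tw * σ tw ∈ Subgroup.zpowers (σ ŝ) := by
      rw [ht2]
      exact Subgroup.one_mem _
    have hnorm := conj_mem_zpowers_pow 3 hinv
    have htA : σ tw ∉ Subgroup.zpowers (σ ŝ) := by
      intro hmem
      obtain ⟨i, hi⟩ := Subgroup.mem_zpowers_iff.mp hmem
      have hcm : σ tw * σ ŝ = σ ŝ * σ tw := by
        rw [← hi]
        exact ((Commute.refl (σ ŝ)).zpow_left i).eq
      rw [hcm, mul_inv_cancel_right] at hinv
      have h2 : σ ŝ ^ 2 = 1 := by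
        have : σ ŝ ^ 3 = σ ŝ ^ 2 * σ ŝ := pow_succ _ 2
        rw [this] at hinv
        exact (mul_eq_right.mp hinv.symm)
      apply hs4
      rw [show 4 = 2 * 2 from rfl, pow_mul, h2, one_pow]
    set N := dicSub (Subgroup.zpowers (σ ŝ)) (σ tw) hnorm hw2' with hN
    have hNidx : N.index = 495 := by
      have h0 : 2 * N.index = (Subgroup.zpowers (σ ŝ)).index :=
        index_dicSub (Subgroup.zpowers (σ ŝ)) (σ tw) hnorm hw2' htA
      have h := Subgroup.index_mul_card (Subgroup.zpowers (σ ŝ))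
      rw [Nat.card_zpowers, hos, hcard] at h
      omega
    have h1 := transfer_central (N.comap σ) (hc hz) (hd hz)
    rw [Subgroup.index_comap_of_surjective _ hsurj, hNidx] at h1
    exact sd_ext σ hc ŝ tw hos hinv ht2 hnorm hw2' (Subgroup.pow_mem _ hz 495) h1
  have g1 : orderOf z ∣ Nat.gcd 1584 720 := Nat.dvd_gcd o1 o2
  have e1 : Nat.gcd 1584 720 = 144 := by norm_num
  rw [e1] at g1
  have g2 : orderOf z ∣ Nat.gcd 144 880 := Nat.dvd_gcd g1 o3
  have e2 : Nat.gcd 144 880 = 16 := by norm_num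
  rw [e2] at g2
  have g3 : orderOf z ∣ Nat.gcd 16 495 := Nat.dvd_gcd g2 o4
  have e3 : Nat.gcd 16 495 = 1 := by norm_num
  rw [e3] at g3
  exact orderOf_eq_one_iff.mp (Nat.dvd_one.mp g3)

end ext

end Cfsg.Agent.Lib.Helper1.MMult
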