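import Mathlib
import Cfsg.Agent.Lib.Helper9.M11Aut
import Cfsg.Agent.Lib.Helper21.GolayM12
import Cfsg.Agent.Lib.Helper1.MmB

/-!
# The subgroups `SD₁₆` and `3² : 2` of the Mathieu group `M₁₁` through words in the standard
generators (helper1)
-/

set_option autoImplicit false
set_option maxHeartbeats 2000000
set_option maxRecDepth 100000

namespace Cfsg.Agent.Lib.Helper1.MMult

open Cfsg Cfsg.Agent.Lib.Helper9.M11Aut

theorem evalW_append (w w' : List Bool) : evalW (w ++ w') = evalW w * evalW w' := by
  unfold evalW
  rw [List.map_append, List.prod_append]

theorem evalW_nil : evalW [] = 1 := rfl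

/-- the `n`-fold repetition of a word -/
def repW (n : ℕ) (w : List Bool) : List Bool := (List.replicate n w).flatten

theorem evalW_pow (w : List Bool) (n : ℕ) : evalW w ^ n = evalW (repW n w) := by
  induction n with
  | zero => rfl
  | succ n ih =>
    rw [pow_succ', ih]
    unfold repW
    rw [List.replicate_succ, List.flatten_cons, evalW_append]

theorem evalW_eq {w w' : List Bool} (h : imgs (w.map letter) = imgs (w'.map letter)) :
    evalW w = evalW w' := by
  apply Subtype.ext
  rw [evalW_coe, evalW_coe]
  exact eq_of_imgs_eq _ _ (wok_letters w).valid (wok_letters w').valid h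

theorem evalW_ne_one {w : List Bool} (h : idOn (w.map letter) = false) : evalW w ≠ 1 := by
  intro e
  have h1 : prodT (w.map letter) = 1 := by
    rw [← evalW_coe, e]
    rfl
  have := idOn_of_eq_one _ (wok_letters w).valid h1
  rw [h] at this
  exact Bool.false_ne_true this

/-- the word of an element of order eight -/
def ws : List Bool := [true, false, false, true, false, true, false, false]
/-- the word of an involution with `t s t⁻¹ = s³` -/
def wt : List Bool := [true]
/-- words of commuting elements of order three -/
def wa : List Bool := [true, false, true, false, true, false, false, true, false, false, true]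
/-- words of commuting elements of order three -/
def wb : List Bool := [false, true, false, true, false, false, true, false, false]
/-- the word of an involution inverting `a` and centralising `b` -/
def wn : List Bool := [false, false, true, false, true, false, false, true, false, false, true,
  false, true, false, false]

theorem rel_s8 : evalW ws ^ 8 = 1 := by
  rw [evalW_pow, ← evalW_nil]
  exact evalW_eq (by decide +kernel)

theorem rel_s4 : evalW ws ^ 4 ≠ 1 := by
  rw [evalW_pow]
  exact evalW_ne_one (by decide +kernel)

theorem rel_t2 : evalW wt * evalW wt = 1 := by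
  rw [← evalW_append, ← evalW_nil]
  exact evalW_eq (by decide +kernel)

theorem rel_ts : evalW wt * evalW ws = evalW ws ^ 3 * evalW wt := by
  rw [evalW_pow, ← evalW_append, ← evalW_append]
  exact evalW_eq (by decide +kernel)

theorem rel_a3 : evalW wa ^ 3 = 1 := by
  rw [evalW_pow, ← evalW_nil]
  exact evalW_eq (by decide +kernel)

theorem rel_a1 : evalW wa ≠ 1 := evalW_ne_one (by decide +kernel)

theorem rel_b3 : evalW wb ^ 3 = 1 := by
  rw [evalW_pow, ← evalW_nil]
  exact evalW_eq (by decide +kernel)

theorem rel_b1 : evalW wb ≠ 1 := evalW_ne_one (by decide +kernel)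

theorem rel_ab : evalW wa * evalW wb = evalW wb * evalW wa := by
  rw [← evalW_append, ← evalW_append]
  exact evalW_eq (by decide +kernel)

theorem rel_na : evalW wn * evalW wa = evalW wa * evalW wa * evalW wn := by
  rw [← evalW_append, ← evalW_append, ← evalW_append]
  exact evalW_eq (by decide +kernel)

theorem rel_nb : evalW wn * evalW wb = evalW wb * evalW wn := by
  rw [← evalW_append, ← evalW_append]
  exact evalW_eq (by decide +kernel)

end Cfsg.Agent.Lib.Helper1.MMult
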