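import Mathlib

/-!
Two endomorphisms `A`, `B` of a finite-dimensional vector space with `A² = B² = 0`:
* if `B A` is nilpotent they have a common kernel vector (`exists_common_kernel`);
* otherwise there are a finite extension field `K = k[t]/(f)`, `0 ≠ c ∈ K` and `k`-linear maps
  `ι₁ ι₂ : K → V` spanning a copy of `K²` inside `V` on which `1 + A`, `1 + B` act as
  `[1 1; 0 1]` and `[1 0; c 1]` (`exists_plane`).  (helper1)
-/

set_option autoImplicit false

universe u v

namespace Cfsg.Agent.Lib.Helper1.QuadPlane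

open Polynomial

section algebra

variable {k : Type u} [Field k] {R : Type v} [Ring R] [Algebra k R]

/-- intertwining passes to polynomials -/
theorem mul_aeval_of_mul (a t t' : R) (h : a * t = t' * a) (g : k[X]) :
    a * aeval t g = aeval t' g * a := by
  induction g using Polynomial.induction_on with
  | C c => rw [aeval_C, aeval_C, Algebra.commutes]
  | add p q hp hq => rw [map_add, map_add, mul_add, add_mul, hp, hq]
  | monomial n c ih =>
    have e : (C c * X ^ (n + 1) : k[X]) = (C c * X ^ n) * X := by rw [pow_succ, mul_assoc]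
    have e1 : ∀ s : R, aeval s (C c * X ^ n * X : k[X]) = aeval s (C c * X ^ n : k[X]) * s := by
      intro s; rw [map_mul, aeval_X]
    rw [e, e1, e1, ← mul_assoc, ih, mul_assoc, h, mul_assoc]

end algebra

section main

variable {k : Type u} [Field k] {V : Type v} [AddCommGroup V] [Module k V]

theorem exists_irreducible_factor [FiniteDimensional k V] (T : Module.End k V)
    (hT : ¬ IsNilpotent T) :
    ∃ f : k[X], Irreducible f ∧ ¬ (X : k[X]) ∣ f ∧ ∃ e : V, e ≠ 0 ∧ aeval T f e = 0 := by
  have hm0 : minpoly k T ≠ 0 := minpoly.ne_zero (Algebra.IsIntegral.isIntegral T)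
  have hmT : aeval T (minpoly k T) = 0 := minpoly.aeval k T
  obtain ⟨q, hq, hXq⟩ :=
    Polynomial.exists_eq_pow_rootMultiplicity_mul_and_not_dvd (minpoly k T) hm0 0
  rw [C_0, sub_zero] at hq hXq
  have hq0 : q ≠ 0 := by
    rintro rfl
    rw [mul_zero] at hq
    exact hm0 hq
  have hqu : ¬ IsUnit q := by
    intro hu
    obtain ⟨c, hc, rfl⟩ := Polynomial.isUnit_iff.mp hu
    apply hT
    refine ⟨rootMultiplicity 0 (minpoly k T), ?_⟩
    have h1 : aeval T (X ^ rootMultiplicity 0 (minpoly k T) * C c) = 0 := by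
      rw [← hq]; exact hmT
    rw [map_mul, map_pow, aeval_X, aeval_C] at h1
    have h2 : T ^ rootMultiplicity 0 (minpoly k T) * (algebraMap k (Module.End k V) c *
        algebraMap k (Module.End k V) (c⁻¹)) = 0 := by
      rw [← mul_assoc, h1, zero_mul]
    rw [← map_mul, mul_inv_cancel₀ hc.ne_zero, map_one, mul_one] at h2
    exact h2
  obtain ⟨f, hf, hfq⟩ := WfDvdMonoid.exists_irreducible_factor hqu hq0
  have hfm : f ∣ minpoly k T :=
    hfq.trans ⟨X ^ rootMultiplicity 0 (minpoly k T), hq.trans (mul_comm _ _)⟩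
  refine ⟨f, hf, fun h => hXq (h.trans hfq), ?_⟩
  by_contra hcon
  push Not at hcon
  obtain ⟨g, hg⟩ := hfm
  have hg0 : aeval T g = 0 := by
    apply LinearMap.ext
    intro v
    by_contra hv
    apply hcon _ hv
    have h1 : (aeval T (f * g)) v = 0 := by
      rw [← hg, hmT]; rfl
    rwa [map_mul] at h1
  obtain ⟨h, hh⟩ := minpoly.dvd k T hg0
  have h3 : minpoly k T * 1 = minpoly k T * (f * h) := by
    rw [mul_one]
    conv_lhs => rw [hg, hh]
    ring
  have h4 := mul_left_cancel₀ hm0 h3
  exact hf.not_isUnit (IsUnit.of_mul_eq_one h h4.symm)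

/-- if `B A` is nilpotent (and `A² = B² = 0`) then `A`, `B` have a common kernel vector -/
theorem exists_common_kernel [FiniteDimensional k V] [Nontrivial V] (A B : Module.End k V)
    (hA : A * A = 0) (hB : B * B = 0) (hT : IsNilpotent (B * A)) :
    ∃ v : V, v ≠ 0 ∧ A v = 0 ∧ B v = 0 := by
  -- a nonzero vector killed by `A`
  obtain ⟨w₀, hw₀, hAw₀⟩ : ∃ w : V, w ≠ 0 ∧ A w = 0 := by
    obtain ⟨x, hx⟩ := exists_ne (0 : V)
    by_cases h : A x = 0
    · exact ⟨x, hx, h⟩
    · refine ⟨A x, h, ?_⟩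
      have := congrArg (fun E : Module.End k V => E x) hA
      simpa using this
  -- `A B` is nilpotent
  obtain ⟨n, hn⟩ := hT
  have hT' : (A * B) ^ (n + 1) = 0 := by
    have : (A * B) ^ (n + 1) = A * (B * A) ^ n * B := by
      clear hn
      induction n with
      | zero => simp
      | succ m ih => rw [pow_succ, ih, pow_succ]; simp only [mul_assoc]
    rw [this, hn, mul_zero, zero_mul]
  -- take the last nonzero vector in the orbit of `w₀` under `A B`
  have hex : ∃ j, ((A * B) ^ j) w₀ = 0 := ⟨n + 1, by rw [hT']; rfl⟩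
  classical
  have hj0 : Nat.find hex ≠ 0 := by
    intro h0
    have := Nat.find_spec hex
    rw [h0, pow_zero] at this
    exact hw₀ this
  obtain ⟨j, hj⟩ := Nat.exists_eq_succ_of_ne_zero hj0
  set w := ((A * B) ^ j) w₀ with hw
  have hwne : w ≠ 0 := Nat.find_min hex (by omega : j < Nat.find hex)
  have hABw : A (B w) = 0 := by
    have := Nat.find_spec hex
    rw [hj, pow_succ'] at this
    exact this
  have hAw : A w = 0 := by
    rcases Nat.eq_zero_or_pos j with h0 | hpos
    · rw [hw, h0, pow_zero]; exact hAw₀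
    · obtain ⟨i, rfl⟩ := Nat.exists_eq_succ_of_ne_zero hpos.ne'
      rw [hw, pow_succ', mul_assoc]
      have := congrArg (fun E : Module.End k V => E ((B * (A * B) ^ i) w₀)) hA
      simpa using this
  by_cases hBw : B w = 0
  · exact ⟨w, hwne, hAw, hBw⟩
  · refine ⟨B w, hBw, hABw, ?_⟩
    have := congrArg (fun E : Module.End k V => E w) hB
    simpa using this

/-- evaluation map `g ↦ g(T) e` -/
noncomputable def evalAt (T : Module.End k V) (e : V) : k[X] →ₗ[k] V :=
  (LinearMap.applyₗ e).comp (aeval T).toLinearMap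

theorem evalAt_apply (T : Module.End k V) (e : V) (g : k[X]) : evalAt T e g = aeval T g e := rfl

/-- the induced map on `k[t]/(f)` when `f(T) e = 0` -/
noncomputable def liftAt (T : Module.End k V) (e : V) (f : k[X]) (h : aeval T f e = 0) :
    AdjoinRoot f →ₗ[k] V :=
  ((LinearMap.ker (AdjoinRoot.mkₐ f).toLinearMap).liftQ (evalAt T e) (by
      intro g hg
      rw [LinearMap.mem_ker] at hg ⊢
      have hd : f ∣ g := AdjoinRoot.mk_eq_zero.mp hg
      obtain ⟨q, rfl⟩ := hd
      rw [evalAt_apply, mul_comm, map_mul, Module.End.mul_apply, h, map_zero])).comp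
    ((AdjoinRoot.mkₐ f).toLinearMap.quotKerEquivOfSurjective
      (AdjoinRoot.mk_surjective (g := f))).symm.toLinearMap

theorem liftAt_mk (T : Module.End k V) (e : V) (f : k[X]) (h : aeval T f e = 0) (g : k[X]) :
    liftAt T e f h (AdjoinRoot.mk f g) = aeval T g e := by
  unfold liftAt
  rw [LinearMap.comp_apply]
  have h1 : ((AdjoinRoot.mkₐ f).toLinearMap.quotKerEquivOfSurjective
      (AdjoinRoot.mk_surjective (g := f))).symm.toLinearMap (AdjoinRoot.mk f g) =
      Submodule.Quotient.mk g :=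
    LinearMap.quotKerEquivOfSurjective_symm_apply (f := (AdjoinRoot.mkₐ f).toLinearMap)
      (AdjoinRoot.mk_surjective (g := f)) g
  rw [h1, Submodule.liftQ_apply, evalAt_apply]

theorem liftAt_mul (T : Module.End k V) (e : V) (f : k[X]) (h : aeval T f e = 0) (g : k[X])
    (κ : AdjoinRoot f) :
    liftAt T e f h (AdjoinRoot.mk f g * κ) = aeval T g (liftAt T e f h κ) := by
  induction κ using AdjoinRoot.induction_on with
  | ih q =>
    rw [← map_mul, liftAt_mk, liftAt_mk, map_mul, Module.End.mul_apply]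

/-- **The plane lemma.** -/
theorem exists_plane [FiniteDimensional k V] (A B : Module.End k V)
    (hA : A * A = 0) (hB : B * B = 0) (hT : ¬ IsNilpotent (B * A)) :
    ∃ (K : Type u) (_ : Field K) (_ : Algebra k K) (_ : Module.Finite k K) (c : K)
      (ι₁ ι₂ : K →ₗ[k] V),
      c ≠ 0 ∧ (∀ κ, A (ι₁ κ) = 0) ∧ (∀ κ, A (ι₂ κ) = ι₁ κ) ∧ (∀ κ, B (ι₂ κ) = 0) ∧
      (∀ κ, B (ι₁ κ) = ι₂ (c * κ)) ∧ (∀ κ₁ κ₂, ι₁ κ₁ + ι₂ κ₂ = 0 → κ₁ = 0 ∧ κ₂ = 0) := by
  obtain ⟨f, hf, hXf, e₂, he₂, hfe₂⟩ := exists_irreducible_factor (B * A) hT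
  haveI : Fact (Irreducible f) := ⟨hf⟩
  set T := B * A with hTdef
  set T' := A * B with hT'def
  have hAT : A * T = T' * A := by rw [hTdef, hT'def, mul_assoc]
  have hBT' : B * T' = T * B := by rw [hTdef, hT'def, mul_assoc]
  have hAint := mul_aeval_of_mul (k := k) A T T' hAT
  have hBint := mul_aeval_of_mul (k := k) B T' T hBT'
  -- vectors killed by `f(T)` are killed by `B`
  have hkerB : ∀ w : V, aeval T f w = 0 → B w = 0 := by
    intro w hw
    have hc0 : f.coeff 0 ≠ 0 := fun h0 => hXf (Polynomial.X_dvd_iff.mpr h0)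
    have hdec : f = X * f.divX + C (f.coeff 0) := (Polynomial.X_mul_divX_add f).symm
    rw [hdec, map_add, map_mul, aeval_X, aeval_C, LinearMap.add_apply, Module.End.mul_apply,
      Module.algebraMap_end_apply] at hw
    have hw' : w = -(f.coeff 0)⁻¹ • T (aeval T f.divX w) := by
      have h1 : f.coeff 0 • w = -T (aeval T f.divX w) := eq_neg_of_add_eq_zero_right hw
      rw [neg_smul, ← smul_neg, ← h1, smul_smul, inv_mul_cancel₀ hc0, one_smul]
    rw [hw', map_smul, hTdef, Module.End.mul_apply, ← Module.End.mul_apply B B, hB]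
    simp
  set e₁ := A e₂ with he₁
  have hfe₁ : aeval T' f e₁ = 0 := by
    have := congrArg (fun E : Module.End k V => E e₂) (hAint f)
    simp only [Module.End.mul_apply] at this
    rw [he₁, ← this, hfe₂, map_zero]
  have hc : AdjoinRoot.root f ≠ 0 := by
    intro h0
    rw [← AdjoinRoot.mk_X, AdjoinRoot.mk_eq_zero] at h0
    exact hXf (hf.dvd_symm Polynomial.irreducible_X h0)
  have h1 : ∀ κ, A (liftAt T' e₁ f hfe₁ κ) = 0 := by
    intro κ
    induction κ using AdjoinRoot.induction_on with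
    | ih g =>
      rw [liftAt_mk, he₁]
      have h1 := congrArg (fun E : Module.End k V => E e₂) (hAint g)
      simp only [Module.End.mul_apply] at h1
      rw [← h1, ← Module.End.mul_apply A A, hA]
      rfl
  have h2 : ∀ κ, A (liftAt T e₂ f hfe₂ κ) = liftAt T' e₁ f hfe₁ κ := by
    intro κ
    induction κ using AdjoinRoot.induction_on with
    | ih g =>
      rw [liftAt_mk, liftAt_mk, he₁]
      have h1 := congrArg (fun E : Module.End k V => E e₂) (hAint g)
      simp only [Module.End.mul_apply] at h1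
      exact h1
  have h3 : ∀ κ, B (liftAt T e₂ f hfe₂ κ) = 0 := by
    intro κ
    induction κ using AdjoinRoot.induction_on with
    | ih g =>
      rw [liftAt_mk]
      apply hkerB
      rw [← Module.End.mul_apply, ← map_mul, mul_comm, map_mul, Module.End.mul_apply, hfe₂,
        map_zero]
  have h4 : ∀ κ, B (liftAt T' e₁ f hfe₁ κ) = liftAt T e₂ f hfe₂ (AdjoinRoot.root f * κ) := by
    intro κ
    induction κ using AdjoinRoot.induction_on with
    | ih g =>
      rw [← AdjoinRoot.mk_X, ← map_mul, liftAt_mk, liftAt_mk]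
      have h1 := congrArg (fun E : Module.End k V => E e₁) (hBint g)
      simp only [Module.End.mul_apply] at h1
      rw [h1, he₁, mul_comm, map_mul, aeval_X, Module.End.mul_apply]
      rfl
  refine ⟨AdjoinRoot f, inferInstance, inferInstance,
    (AdjoinRoot.powerBasis hf.ne_zero).finite, AdjoinRoot.root f,
    liftAt T' e₁ f hfe₁, liftAt T e₂ f hfe₂, hc, h1, h2, h3, h4, ?_⟩
  -- injectivity
  have hinj : ∀ κ : AdjoinRoot f, liftAt T e₂ f hfe₂ κ = 0 → κ = 0 := by
    intro κ hκ
    by_contra hne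
    obtain ⟨g, hg⟩ := AdjoinRoot.mk_surjective (g := f) κ⁻¹
    have h1 := liftAt_mul T e₂ f hfe₂ g κ
    rw [hg, inv_mul_cancel₀ hne, hκ, map_zero] at h1
    have h2 : liftAt T e₂ f hfe₂ 1 = e₂ := by
      rw [← map_one (AdjoinRoot.mk f), liftAt_mk, map_one]; rfl
    exact he₂ (h2.symm.trans h1)
  intro κ₁ κ₂ hsum
  have hB1 : B (liftAt T' e₁ f hfe₁ κ₁ + liftAt T e₂ f hfe₂ κ₂) = 0 := by rw [hsum, map_zero]
  rw [map_add, h3, add_zero, h4] at hB1
  have hκ₁ : κ₁ = 0 := by
    have := hinj _ hB1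
    rcases mul_eq_zero.mp this with h | h
    · exact absurd h hc
    · exact h
  refine ⟨hκ₁, ?_⟩
  rw [hκ₁, map_zero, zero_add] at hsum
  exact hinj _ hsum

end main

end Cfsg.Agent.Lib.Helper1.QuadPlane
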