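import Mathlib
import Cfsg.Agent.Lib.Helper1.QuadPlane
import Cfsg.Agent.Lib.Helper15.QuadChain

/-!
Quadratic pairs on an `F_p`-space: if `G = ⟨a, b⟩` acts with `(ρ a - 1)² = (ρ b - 1)² = 0` and
`G / ker ρ` is not a `p`-group, then (given Dickson's lemma in the form `DicksonNat`) some subgroup
`K₀ ≤ G` maps onto `SL₂(p)` and stabilises a 2-dimensional `F_p`-subspace of `V` on which it acts
as on the natural module.  (helper1)
-/

set_option autoImplicit false

universe u v w

namespace Cfsg.Agent.Lib.Helper1.NaturalPlane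

open Cfsg.Agent.Lib.Helper15.QuadChain Cfsg.Agent.Lib.Helper1.QuadPlane Module Matrix

/-- Dickson's lemma in natural-module form: a finite subgroup of `SL₂(F)` (`char F = p`) containing
two non-commuting elements of order `p` contains a `GL₂(F)`-conjugate of the standard `SL₂(F_p)`. -/
def DicksonNat (p : ℕ) [Fact p.Prime] : Prop :=
  ∀ (F : Type u) [Field F] [Algebra (ZMod p) F]
    (L : Subgroup (Matrix.SpecialLinearGroup (Fin 2) F)) [Finite L]
    (x y : Matrix.SpecialLinearGroup (Fin 2) F), x ∈ L → y ∈ L → x ^ p = 1 → y ^ p = 1 →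
    x * y ≠ y * x →
    ∃ g : GL (Fin 2) F, ∀ s : Matrix.SpecialLinearGroup (Fin 2) (ZMod p), ∃ l ∈ L,
      g * Matrix.SpecialLinearGroup.toGL
        (Matrix.SpecialLinearGroup.map (algebraMap (ZMod p) F) s) =
      Matrix.SpecialLinearGroup.toGL l * g

section nilpotent

variable {F : Type u} [Field F] {G : Type w} [Group G]

/-- if `(ρ b - 1)(ρ a - 1)` is nilpotent then `G / ker ρ` is a `p`-group -/
theorem pquot_of_nilpotent (p : ℕ) [Fact p.Prime] [CharP F p] (a b : G)
    (hgen : Subgroup.closure {a, b} = ⊤) :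
    ∀ (d : ℕ) (W : Type v) [AddCommGroup W] [Module F W] [FiniteDimensional F W]
      (ρ : Representation F G W), finrank F W = d →
      (ρ a - 1) * (ρ a - 1) = 0 → (ρ b - 1) * (ρ b - 1) = 0 →
      IsNilpotent ((ρ b - 1) * (ρ a - 1)) → PQuot p ρ.ker := by
  intro d
  induction d using Nat.strong_induction_on with
  | _ d ih =>
  intro W _ _ _ ρ hd ha hb hnil
  by_cases hpos : 0 < finrank F W
  · haveI : Nontrivial W := finrank_pos_iff.1 hpos
    obtain ⟨v, hv0, hAv, hBv⟩ := exists_common_kernel (ρ a - 1) (ρ b - 1) ha hb hnil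
    have hav : ρ a v = v := by
      have : (ρ a - 1) v = 0 := hAv
      rw [LinearMap.sub_apply, Module.End.one_apply, sub_eq_zero] at this
      exact this
    have hbv : ρ b v = v := by
      have : (ρ b - 1) v = 0 := hBv
      rw [LinearMap.sub_apply, Module.End.one_apply, sub_eq_zero] at this
      exact this
    set U := Submodule.span F {v} with hUdef
    have hUa : ∀ u ∈ U, ρ a u ∈ U := by
      intro u hu
      obtain ⟨c, rfl⟩ := Submodule.mem_span_singleton.mp hu
      rw [map_smul, hav]; exact hu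
    have hUb : ∀ u ∈ U, ρ b u ∈ U := by
      intro u hu
      obtain ⟨c, rfl⟩ := Submodule.mem_span_singleton.mp hu
      rw [map_smul, hbv]; exact hu
    have hU := invariant_of_gens ρ a b hgen ha hb U hUa hUb
    have hU1 : finrank F U = 1 := finrank_span_singleton hv0
    have h1 : PQuot p (ρ.subrepresentation U hU).ker := by
      rw [ker_eq_top_of_finrank_one _ a b hgen (sub_quad ρ U hU a ha) (sub_quad ρ U hU b hb) hU1]
      exact pquot_top p
    have hlt : finrank F (W ⧸ U) < d := by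
      have := Submodule.finrank_quotient_add_finrank U
      omega
    have hnilq : IsNilpotent ((ρ.quotient U hU b - 1) * (ρ.quotient U hU a - 1)) := by
      obtain ⟨n, hn⟩ := hnil
      refine ⟨n, ?_⟩
      have key : ∀ (m : ℕ) (w : W),
          (((ρ.quotient U hU b - 1) * (ρ.quotient U hU a - 1)) ^ m) (Submodule.Quotient.mk w) =
            Submodule.Quotient.mk ((((ρ b - 1) * (ρ a - 1)) ^ m) w) := by
        intro m
        induction m with
        | zero => intro w; simp
        | succ m ihm =>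
          intro w
          rw [pow_succ, Module.End.mul_apply, pow_succ, Module.End.mul_apply (_ ^ m), ← ihm]
          congr 1
      apply LinearMap.ext
      intro x
      induction x using Submodule.Quotient.induction_on with
      | H w => rw [key, hn]; simp
    have h2 := ih _ hlt (W ⧸ U) (ρ.quotient U hU) rfl (quot_quad ρ U hU a ha)
      (quot_quad ρ U hU b hb) hnilq
    exact pquot_of_sub_quot p ρ U hU h1 h2
  · have h0' : finrank F W = 0 := by omega
    haveI : Subsingleton W := finrank_zero_iff.1 h0'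
    have : ρ.ker = ⊤ := by
      rw [eq_top_iff]; intro g _; rw [MonoidHom.mem_ker]; ext w; exact Subsingleton.elim _ _
    rw [this]; exact pquot_top p

end nilpotent

section natural

/-- upper unitriangular matrix -/
def xMat (K : Type*) [CommRing K] (t : K) : Matrix.SpecialLinearGroup (Fin 2) K :=
  ⟨!![1, t; 0, 1], by simp [Matrix.det_fin_two]⟩

/-- lower unitriangular matrix -/
def yMat (K : Type*) [CommRing K] (t : K) : Matrix.SpecialLinearGroup (Fin 2) K :=
  ⟨!![1, 0; t, 1], by simp [Matrix.det_fin_two]⟩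

theorem xMat_mulVec {K : Type*} [CommRing K] (t : K) (v : Fin 2 → K) :
    (xMat K t).1 *ᵥ v = ![v 0 + t * v 1, v 1] := by
  ext i
  fin_cases i <;> simp [xMat, Matrix.mulVec, dotProduct, Fin.sum_univ_two]

theorem yMat_mulVec {K : Type*} [CommRing K] (t : K) (v : Fin 2 → K) :
    (yMat K t).1 *ᵥ v = ![v 0, t * v 0 + v 1] := by
  ext i
  fin_cases i <;> simp [yMat, Matrix.mulVec, dotProduct, Fin.sum_univ_two]

theorem xMat_yMat_ne {K : Type*} [CommRing K] (c : K) (hc : c ≠ 0) :
    xMat K 1 * yMat K c ≠ yMat K c * xMat K 1 := by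
  intro h
  have h1 := congrArg (fun m : Matrix.SpecialLinearGroup (Fin 2) K => m.1) h
  simp only [Matrix.SpecialLinearGroup.coe_mul] at h1
  have h2 := congrFun (congrFun h1 0) 0
  simp [xMat, yMat, Matrix.mul_apply, Fin.sum_univ_two] at h2
  exact hc h2

/-- a matrix of `SL₂` is determined by its action on vectors -/
theorem sl_ext_of_mulVec {K : Type*} [CommRing K] (m m' : Matrix.SpecialLinearGroup (Fin 2) K)
    (h : ∀ v : Fin 2 → K, m.1 *ᵥ v = m'.1 *ᵥ v) : m = m' := by
  apply Subtype.ext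
  ext i j
  have := congrFun (h (Pi.single j 1)) i
  rw [Matrix.mulVec_single_one, Matrix.mulVec_single_one] at this
  exact this

/-- **Natural plane theorem.** -/
theorem exists_natural_plane {p : ℕ} [hp : Fact p.Prime] (hD : DicksonNat.{0} p)
    {G : Type w} [Group G] [Finite G] (a b : G)
    (hgen : Subgroup.closure {a, b} = ⊤) {V : Type v} [AddCommGroup V] [Module (ZMod p) V]
    [FiniteDimensional (ZMod p) V] (ρ : Representation (ZMod p) G V)
    (ha : (ρ a - 1) * (ρ a - 1) = 0) (hb : (ρ b - 1) * (ρ b - 1) = 0) (hnp : ¬ PQuot p ρ.ker) :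
    ∃ (K₀ : Subgroup G) (θ : K₀ →* Matrix.SpecialLinearGroup (Fin 2) (ZMod p))
      (j : (Fin 2 → ZMod p) →ₗ[ZMod p] V),
      Function.Surjective θ ∧ Function.Injective j ∧
        ∀ (k : K₀) (v : Fin 2 → ZMod p), ρ (k : G) (j v) = j ((θ k).1 *ᵥ v) := by
  have hnil : ¬ IsNilpotent ((ρ b - 1) * (ρ a - 1)) := fun h =>
    hnp (pquot_of_nilpotent p a b hgen _ V ρ rfl ha hb h)
  obtain ⟨K, instF, instA, instFin, c, ι₁, ι₂, hc, hA1, hA2, hB2, hB1, hinj⟩ :=
    exists_plane (ρ a - 1) (ρ b - 1) ha hb hnil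
  -- the embedding of `K²`
  set ι : (Fin 2 → K) →ₗ[ZMod p] V :=
    ι₁.comp (LinearMap.proj 0) + ι₂.comp (LinearMap.proj 1) with hιdef
  have hι : ∀ v, ι v = ι₁ (v 0) + ι₂ (v 1) := fun v => rfl
  have hιinj : Function.Injective ι := by
    rw [injective_iff_map_eq_zero]
    intro v hv
    rw [hι] at hv
    obtain ⟨h0, h1⟩ := hinj _ _ hv
    ext i
    fin_cases i
    · exact h0
    · exact h1
  have hρa : ∀ w, ρ a w = w + (ρ a - 1) w := fun w => by
    rw [LinearMap.sub_apply, Module.End.one_apply]; abel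
  have hρb : ∀ w, ρ b w = w + (ρ b - 1) w := fun w => by
    rw [LinearMap.sub_apply, Module.End.one_apply]; abel
  have ha_act : ∀ v, ρ a (ι v) = ι ((xMat K 1).1 *ᵥ v) := by
    intro v
    rw [hρa, xMat_mulVec, hι, hι, map_add, hA1, hA2]
    simp only [Matrix.cons_val_zero, Matrix.cons_val_one, one_mul, map_add]
    abel
  have hb_act : ∀ v, ρ b (ι v) = ι ((yMat K c).1 *ᵥ v) := by
    intro v
    rw [hρb, yMat_mulVec, hι, hι, map_add, hB1, hB2]
    simp only [Matrix.cons_val_zero, Matrix.cons_val_one, map_add]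
    abel
  -- every element of `G` acts on the plane through `SL₂(K)`
  have hex : ∀ g : G, ∃ m : Matrix.SpecialLinearGroup (Fin 2) K,
      ∀ v, ρ g (ι v) = ι (m.1 *ᵥ v) := by
    let S : Subgroup G :=
      { carrier := {g | ∃ m : Matrix.SpecialLinearGroup (Fin 2) K, ∀ v, ρ g (ι v) = ι (m.1 *ᵥ v)}
        one_mem' := ⟨1, fun v => by simp⟩
        mul_mem' := by
          rintro x y ⟨mx, hx⟩ ⟨my, hy⟩
          refine ⟨mx * my, fun v => ?_⟩
          rw [map_mul, Module.End.mul_apply, hy, hx, Matrix.SpecialLinearGroup.coe_mul,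
            Matrix.mulVec_mulVec]
        inv_mem' := by
          rintro x ⟨mx, hx⟩
          refine ⟨mx⁻¹, fun v => ?_⟩
          have h1 : ρ x (ι ((mx⁻¹).1 *ᵥ v)) = ι v := by
            rw [hx, Matrix.mulVec_mulVec, ← Matrix.SpecialLinearGroup.coe_mul, mul_inv_cancel,
              Matrix.SpecialLinearGroup.coe_one, Matrix.one_mulVec]
          calc ρ x⁻¹ (ι v) = ρ x⁻¹ (ρ x (ι ((mx⁻¹).1 *ᵥ v))) := by rw [h1]
            _ = ι ((mx⁻¹).1 *ᵥ v) := by
              rw [← Module.End.mul_apply, ← map_mul, inv_mul_cancel, map_one,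
                Module.End.one_apply] }
    have hS : S = ⊤ := by
      rw [eq_top_iff, ← hgen, Subgroup.closure_le]
      rintro x (rfl | rfl)
      · exact ⟨xMat K 1, ha_act⟩
      · exact ⟨yMat K c, hb_act⟩
    intro g
    have : g ∈ S := hS ▸ Subgroup.mem_top g
    exact this
  choose Θf hΘf using hex
  have huniq : ∀ (g : G) (m : Matrix.SpecialLinearGroup (Fin 2) K),
      (∀ v, ρ g (ι v) = ι (m.1 *ᵥ v)) → Θf g = m := by
    intro g m hm
    apply sl_ext_of_mulVec
    intro v
    apply hιinj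
    rw [← hΘf g v, hm v]
  let Θ : G →* Matrix.SpecialLinearGroup (Fin 2) K := MonoidHom.mk' Θf (by
    intro x y
    apply huniq
    intro v
    rw [map_mul, Module.End.mul_apply, hΘf y, hΘf x, Matrix.SpecialLinearGroup.coe_mul,
      Matrix.mulVec_mulVec])
  have hΘ : ∀ g v, ρ g (ι v) = ι ((Θ g).1 *ᵥ v) := hΘf
  have hΘa : Θ a = xMat K 1 := huniq a _ ha_act
  have hΘb : Θ b = yMat K c := huniq b _ hb_act
  have hpow : ∀ x : G, (ρ x - 1) * (ρ x - 1) = 0 → Θ x ^ p = 1 := by
    intro x hx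
    rw [← map_pow]
    apply huniq
    intro v
    rw [map_pow, pow_eq_one_of_sq_zero (F := ZMod p) p (ρ x) hx]
    simp
  haveI : Finite ↥Θ.range := Finite.of_surjective Θ.rangeRestrict Θ.rangeRestrict_surjective
  obtain ⟨g, hg⟩ := hD K Θ.range (xMat K 1) (yMat K c) ⟨a, hΘa⟩ ⟨b, hΘb⟩
    (hΘa ▸ hpow a ha) (hΘb ▸ hpow b hb) (xMat_yMat_ne c hc)
  -- the conjugated copy of `SL₂(p)`
  let μ : Matrix.SpecialLinearGroup (Fin 2) (ZMod p) →* Matrix.SpecialLinearGroup (Fin 2) K :=
    Matrix.SpecialLinearGroup.map (algebraMap (ZMod p) K)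
  have hμinj : Function.Injective μ := by
    intro s s' h
    apply Subtype.ext
    ext i j
    have h1 := congrArg (fun m : Matrix.SpecialLinearGroup (Fin 2) K => m.1 i j) h
    exact (algebraMap (ZMod p) K).injective h1
  let Φ : Matrix.SpecialLinearGroup (Fin 2) (ZMod p) →* GL (Fin 2) K :=
    (MulAut.conj g).toMonoidHom.comp (Matrix.SpecialLinearGroup.toGL.comp μ)
  have hΦ : ∀ s, Φ s = g * Matrix.SpecialLinearGroup.toGL (μ s) * g⁻¹ := fun s => rfl
  have hΦinj : Function.Injective Φ := by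
    intro s s' h
    rw [hΦ, hΦ] at h
    have h1 : Matrix.SpecialLinearGroup.toGL (μ s) = Matrix.SpecialLinearGroup.toGL (μ s') := by
      have := congrArg (fun t => g⁻¹ * t * g) h
      simpa [mul_assoc] using this
    exact hμinj (Matrix.SpecialLinearGroup.toGL_injective h1)
  let K₀ : Subgroup G := (Φ.range.comap Matrix.SpecialLinearGroup.toGL).comap Θ
  have hK₀ : ∀ k : K₀, Matrix.SpecialLinearGroup.toGL (Θ (k : G)) ∈ Φ.range := fun k => k.2
  let θ : K₀ →* Matrix.SpecialLinearGroup (Fin 2) (ZMod p) :=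
    (MonoidHom.ofInjective hΦinj).symm.toMonoidHom.comp
      (((Matrix.SpecialLinearGroup.toGL.comp Θ).comp K₀.subtype).codRestrict Φ.range hK₀)
  have hθ : ∀ k : K₀, Φ (θ k) = Matrix.SpecialLinearGroup.toGL (Θ (k : G)) := by
    intro k
    exact MonoidHom.apply_ofInjective_symm hΦinj _
  -- matrix form of the relation
  have hrel : ∀ k : K₀, g.1 * (μ (θ k)).1 = (Θ (k : G)).1 * g.1 := by
    intro k
    have h1 := hθ k
    rw [hΦ, mul_inv_eq_iff_eq_mul] at h1
    have h2 := congrArg (fun t : GL (Fin 2) K => (t : Matrix (Fin 2) (Fin 2) K)) h1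
    exact h2
  -- the embedding of the natural module
  let castL : (Fin 2 → ZMod p) →ₗ[ZMod p] (Fin 2 → K) :=
    (Algebra.linearMap (ZMod p) K).compLeft (Fin 2)
  let gL : (Fin 2 → K) →ₗ[ZMod p] (Fin 2 → K) :=
    (Matrix.mulVecLin (g : Matrix (Fin 2) (Fin 2) K)).restrictScalars (ZMod p)
  let j : (Fin 2 → ZMod p) →ₗ[ZMod p] V := ι.comp (gL.comp castL)
  have hj : ∀ v, j v = ι ((g : Matrix (Fin 2) (Fin 2) K) *ᵥ
      (fun i => algebraMap (ZMod p) K (v i))) := fun v => rfl
  refine ⟨K₀, θ, j, ?_, ?_, ?_⟩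
  · -- surjectivity
    intro s
    obtain ⟨l, ⟨k₀, rfl⟩, hl⟩ := hg s
    have hk₀ : k₀ ∈ K₀ := by
      show Matrix.SpecialLinearGroup.toGL (Θ k₀) ∈ Φ.range
      refine ⟨s, ?_⟩
      rw [hΦ, mul_inv_eq_iff_eq_mul]
      exact hl
    refine ⟨⟨k₀, hk₀⟩, ?_⟩
    apply hΦinj
    rw [hθ, hΦ, eq_mul_inv_iff_mul_eq]
    exact hl.symm
  · -- injectivity
    intro v v' h
    rw [hj, hj] at h
    have h1 := hιinj h
    have h2 : (fun i => algebraMap (ZMod p) K (v i)) = fun i => algebraMap (ZMod p) K (v' i) := by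
      have := congrArg (fun w => ((g⁻¹ : GL (Fin 2) K) : Matrix (Fin 2) (Fin 2) K) *ᵥ w) h1
      simp only [Matrix.mulVec_mulVec, ← Matrix.GeneralLinearGroup.coe_mul, inv_mul_cancel,
        Matrix.GeneralLinearGroup.coe_one, Matrix.one_mulVec] at this
      exact this
    ext i
    exact (algebraMap (ZMod p) K).injective (congrFun h2 i)
  · -- equivariance
    intro k v
    rw [hj, hj, hΘ, Matrix.mulVec_mulVec, ← hrel k, ← Matrix.mulVec_mulVec]
    congr 2
    ext i
    have := RingHom.map_mulVec (algebraMap (ZMod p) K) (θ k).1 v i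
    rw [this]
    rfl

end natural

end Cfsg.Agent.Lib.Helper1.NaturalPlane
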