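import Mathlib
import Cfsg.Agent.Lib.Helper2.Order504c

/-!
# Simple groups of order 4080: generic counting lemmas for Sylow subgroups of prime order (helper1)
-/

set_option autoImplicit false
set_option maxHeartbeats 1000000

namespace Cfsg.Agent.Lib.Helper1.O4080

open Cfsg.Agent.Lib.Helper2.Order168 (sylow_card sylow_number_ne_one card_dvd_factorial burnside
  card_dvd_factorial_index comm_of_card_prime exists_sylow_eq_zpowers)
open Cfsg.Agent.Lib.Helper2.A6 (card_sylow_mul_card_normalizer mem_of_smul_eq smul_self_of_mem)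

section Generic
variable {G : Type*} [Group G] [Finite G]

/-- a Sylow subgroup of prime order lies in its centralizer -/
theorem le_centralizer_of_card_prime {p : ℕ} [Fact p.Prime] (P : Sylow p G)
    (hP : Nat.card (P : Subgroup G) = p) :
    (P : Subgroup G) ≤ Subgroup.centralizer ((P : Subgroup G) : Set G) := by
  intro x hx
  rw [Subgroup.mem_centralizer_iff]
  intro y hy
  have := comm_of_card_prime hP ⟨y, hy⟩ ⟨x, hx⟩
  exact congrArg Subtype.val this

/-- the `N/C` theorem for a Sylow subgroup of prime order -/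
theorem nc_dvd {p : ℕ} [hp : Fact p.Prime] (P : Sylow p G)
    (hP : Nat.card (P : Subgroup G) = p) :
    ∃ e, e ∣ p - 1 ∧ Nat.card (Subgroup.normalizer ((P : Subgroup G) : Set G)) =
      e * Nat.card (Subgroup.centralizer ((P : Subgroup G) : Set G)) := by
  have key := Subgroup.card_dvd_of_injective _
    (QuotientGroup.kerLift_injective (P : Subgroup G).normalizerMonoidHom)
  rw [Subgroup.normalizerMonoidHom_ker, ← Subgroup.index, ← Subgroup.relIndex] at key
  haveI : IsCyclic (P : Subgroup G) := isCyclic_of_prime_card hP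
  rw [IsCyclic.card_mulAut, hP, Nat.totient_prime hp.out] at key
  refine ⟨_, key, ?_⟩
  have hle : Subgroup.centralizer ((P : Subgroup G) : Set G) ≤
      Subgroup.normalizer ((P : Subgroup G) : Set G) := Subgroup.centralizer_le_normalizer _
  have h1 := Subgroup.index_mul_card ((Subgroup.centralizer ((P : Subgroup G) : Set G)).subgroupOf
    (Subgroup.normalizer ((P : Subgroup G) : Set G)))
  have h2 : Nat.card ((Subgroup.centralizer ((P : Subgroup G) : Set G)).subgroupOf
      (Subgroup.normalizer ((P : Subgroup G) : Set G))) =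
      Nat.card (Subgroup.centralizer ((P : Subgroup G) : Set G)) :=
    Nat.card_congr (Subgroup.subgroupOfEquivOfLe hle).toEquiv
  rw [h2] at h1
  exact h1.symm

/-- an element centralizing a Sylow subgroup `P` of order `p`, of order divisible by `p`, has `P`
as the group generated by a suitable power -/
theorem sylow_eq_zpowers_of_centralizes {p : ℕ} [hp : Fact p.Prime] (P : Sylow p G)
    (hP : Nat.card (P : Subgroup G) = p) (g : G)
    (hg : g ∈ Subgroup.centralizer ((P : Subgroup G) : Set G)) (hpg : p ∣ orderOf g) :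
    (P : Subgroup G) = Subgroup.zpowers (g ^ (orderOf g / p)) := by
  set z := g ^ (orderOf g / p) with hz
  have hzo : orderOf z = p := orderOf_pow_orderOf_div (orderOf_pos g).ne' hpg
  have hzc : z ∈ Subgroup.centralizer ((P : Subgroup G) : Set G) := Subgroup.pow_mem _ hg _
  have hzp : IsPGroup p (Subgroup.zpowers z) := by
    apply IsPGroup.of_card (n := 1)
    rw [Nat.card_zpowers, hzo, pow_one]
  have hzn : Subgroup.zpowers z ≤ Subgroup.normalizer ((P : Subgroup G) : Set G) :=
    Subgroup.zpowers_le.2 (Subgroup.centralizer_le_normalizer _ hzc)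
  have hsup : IsPGroup p (Subgroup.zpowers z ⊔ (P : Subgroup G) : Subgroup G) :=
    hzp.to_sup_of_normal_right' P.isPGroup' hzn
  have hmax := P.is_maximal' hsup le_sup_right
  have hzP : Subgroup.zpowers z ≤ (P : Subgroup G) := by
    rw [← hmax]; exact le_sup_left
  symm
  apply Subgroup.eq_of_le_of_card_ge hzP
  rw [Nat.card_zpowers, hzo, hP]

/-- the elements of `C(P)` of order divisible by `p` -/
abbrev AP {p : ℕ} [Fact p.Prime] (P : Sylow p G) : Type _ :=
  {c : ↥(Subgroup.centralizer ((P : Subgroup G) : Set G)) // p ∣ orderOf (c : G)}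

/-- most elements of `C(P)` are `p`-singular -/
theorem card_AP_ge {p : ℕ} [hp : Fact p.Prime] (P : Sylow p G)
    (hP : Nat.card (P : Subgroup G) = p) :
    (p - 1) * Nat.card (Subgroup.centralizer ((P : Subgroup G) : Set G)) ≤
      p * Nat.card (AP P) := by
  classical
  set C := Subgroup.centralizer ((P : Subgroup G) : Set G) with hC
  have hPC : (P : Subgroup G) ≤ C := le_centralizer_of_card_prime P hP
  -- the regular elements times `P` inject into `C`
  let f : {c : ↥C // ¬ p ∣ orderOf (c : G)} × ↥(P : Subgroup G) → ↥C :=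
    fun x => x.1.1 * ⟨(x.2 : G), hPC x.2.2⟩
  have hf : Function.Injective f := by
    rintro ⟨⟨g, hg⟩, z⟩ ⟨⟨g', hg'⟩, z'⟩ hxy
    have h1 : (g : G) * (z : G) = (g' : G) * (z' : G) := congrArg Subtype.val hxy
    set w : G := (z : G) * (z' : G)⁻¹ with hw
    have hwP : w ∈ (P : Subgroup G) := Subgroup.mul_mem _ z.2 (Subgroup.inv_mem _ z'.2)
    have hg'w : (g' : G) = (g : G) * w := by
      rw [hw, ← mul_assoc, h1, mul_assoc, mul_inv_cancel, mul_one]
    have hcomm : Commute (g : G) w := by
      have := (Subgroup.mem_centralizer_iff.mp g.2) w hwP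
      exact this.symm
    have hw1 : w = 1 := by
      by_contra hne
      have hwo : orderOf w = p := by
        have hd : orderOf w ∣ p := by
          have := Subgroup.orderOf_dvd_natCard _ hwP
          rwa [hP] at this
        rcases (Nat.dvd_prime hp.out).mp hd with h | h
        · exact absurd (orderOf_eq_one_iff.mp h) hne
        · exact h
      have hcop : Nat.Coprime (orderOf (g : G)) (orderOf w) := by
        rw [hwo]
        exact ((Nat.Prime.coprime_iff_not_dvd hp.out).mpr hg).symm
      have := hcomm.orderOf_mul_eq_mul_orderOf_of_coprime hcop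
      rw [← hg'w, hwo] at this
      apply hg'
      rw [this]
      exact dvd_mul_left _ _
    have hzz : z = z' := by
      apply Subtype.ext
      have : (z : G) * (z' : G)⁻¹ = 1 := hw1
      exact mul_inv_eq_one.mp this
    have hgg : g = g' := by
      apply Subtype.ext
      rw [hg'w, hw1, mul_one]
    subst hzz
    subst hgg
    rfl
  have hle := Nat.card_le_card_of_injective f hf
  rw [Nat.card_prod, hP] at hle
  have e := Nat.card_congr (Equiv.sumCompl (fun c : ↥C => p ∣ orderOf (c : G)))
  rw [Nat.card_sum] at e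
  have hp1 : 1 ≤ p := hp.out.one_lt.le
  have key : (p - 1) * Nat.card ↥C + Nat.card ↥C = p * Nat.card ↥C := by
    have : p - 1 + 1 = p := Nat.sub_add_cancel hp1
    calc (p - 1) * Nat.card ↥C + Nat.card ↥C = (p - 1 + 1) * Nat.card ↥C := by ring
      _ = p * Nat.card ↥C := by rw [this]
  have h3 : p * Nat.card ↥C =
      p * Nat.card {c : ↥C // p ∣ orderOf (c : G)} +
        p * Nat.card {c : ↥C // ¬ p ∣ orderOf (c : G)} := by
    rw [← e]; ring
  have h4 : p * Nat.card {c : ↥C // ¬ p ∣ orderOf (c : G)} ≤ Nat.card ↥C := by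
    rw [mul_comm]; exact hle
  have h5 : (p - 1) * Nat.card ↥C + Nat.card ↥C ≤
      p * Nat.card {c : ↥C // p ∣ orderOf (c : G)} + Nat.card ↥C := by
    rw [key, h3]
    omega
  exact Nat.le_of_add_le_add_right h5

/-- counting `p`-singular elements -/
theorem card_sing_ge {p : ℕ} [hp : Fact p.Prime]
    (hcardP : ∀ P : Sylow p G, Nat.card (P : Subgroup G) = p)
    (ν : ℕ) (hν : ∀ P : Sylow p G, ν ≤ p * Nat.card (AP P)) :
    Nat.card (Sylow p G) * ν ≤ p * Nat.card {g : G // p ∣ orderOf g} := by
  classical
  haveI : Fintype (Sylow p G) := Fintype.ofFinite _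
  let f : (Σ P : Sylow p G, AP P) → {g : G // p ∣ orderOf g} := fun a => ⟨(a.2.1 : G), a.2.2⟩
  have hf : Function.Injective f := by
    rintro ⟨P, c, hc⟩ ⟨Q, c', hc'⟩ hxy
    have h1 : (c : G) = (c' : G) := congrArg Subtype.val hxy
    have hPQ : P = Q := by
      apply Sylow.ext
      rw [sylow_eq_zpowers_of_centralizes P (hcardP P) c c.2 hc,
        sylow_eq_zpowers_of_centralizes Q (hcardP Q) c' c'.2 hc', h1]
    subst hPQ
    have : c = c' := Subtype.ext h1
    subst this
    rfl
  have hle := Nat.card_le_card_of_injective f hf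
  rw [Nat.card_sigma] at hle
  calc Nat.card (Sylow p G) * ν = ∑ _P : Sylow p G, ν := by
        rw [Finset.sum_const, Finset.card_univ, Nat.card_eq_fintype_card, smul_eq_mul]
    _ ≤ ∑ P : Sylow p G, p * Nat.card (AP P) := Finset.sum_le_sum (fun P _ => hν P)
    _ = p * ∑ P : Sylow p G, Nat.card (AP P) := by rw [Finset.mul_sum]
    _ ≤ p * Nat.card {g : G // p ∣ orderOf g} := Nat.mul_le_mul_left _ hle

/-- a nontrivial element of a group of prime order has that order -/
theorem orderOf_eq_of_mem {p : ℕ} [hp : Fact p.Prime] (P : Subgroup G)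
    (hP : Nat.card P = p) (y : G) (hy : y ∈ P) (hy1 : y ≠ 1) : orderOf y = p := by
  have hd : orderOf y ∣ p := by
    have := Subgroup.orderOf_dvd_natCard _ hy
    rwa [hP] at this
  rcases (Nat.dvd_prime hp.out).mp hd with h | h
  · exact absurd (orderOf_eq_one_iff.mp h) hy1
  · exact h

/-- a subgroup of prime order is generated by any of its nontrivial elements -/
theorem eq_zpowers_of_mem {p : ℕ} [hp : Fact p.Prime] (P : Subgroup G)
    (hP : Nat.card P = p) (y : G) (hy : y ∈ P) (hy1 : y ≠ 1) : P = Subgroup.zpowers y := by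
  symm
  apply Subgroup.eq_of_le_of_card_ge (Subgroup.zpowers_le.2 hy)
  rw [Nat.card_zpowers, orderOf_eq_of_mem P hP y hy hy1, hP]

/-- counting elements of order `p` -/
theorem card_order_ge {p : ℕ} [hp : Fact p.Prime]
    (hcardP : ∀ P : Sylow p G, Nat.card (P : Subgroup G) = p) :
    Nat.card (Sylow p G) * (p - 1) ≤ Nat.card {g : G // orderOf g = p} := by
  classical
  haveI : Fintype (Sylow p G) := Fintype.ofFinite _
  let f : (Σ P : Sylow p G, {y : ↥(P : Subgroup G) // y ≠ 1}) → {g : G // orderOf g = p} :=
    fun a => ⟨((a.2.1 : ↥(a.1 : Subgroup G)) : G),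
      orderOf_eq_of_mem _ (hcardP a.1) _ a.2.1.2 (fun h => a.2.2 (Subtype.ext h))⟩
  have hf : Function.Injective f := by
    rintro ⟨P, y, hy⟩ ⟨Q, y', hy'⟩ hxy
    have h1 : (y : G) = (y' : G) := congrArg Subtype.val hxy
    have hPQ : P = Q := by
      apply Sylow.ext
      rw [eq_zpowers_of_mem _ (hcardP P) _ y.2 (fun h => hy (Subtype.ext h)),
        eq_zpowers_of_mem _ (hcardP Q) _ y'.2 (fun h => hy' (Subtype.ext h)), h1]
    subst hPQ
    have : y = y' := Subtype.ext h1
    subst this
    rfl
  have hle := Nat.card_le_card_of_injective f hf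
  rw [Nat.card_sigma] at hle
  have h8 : ∀ P : Sylow p G, Nat.card {y : ↥(P : Subgroup G) // y ≠ 1} = p - 1 := by
    intro P
    have e := Nat.card_congr (Equiv.optionSubtypeNe (1 : ↥(P : Subgroup G)))
    rw [Finite.card_option, hcardP P] at e
    omega
  rw [Finset.sum_congr rfl (fun P _ => h8 P), Finset.sum_const, Finset.card_univ,
    ← Nat.card_eq_fintype_card, smul_eq_mul] at hle
  exact hle

instance fact_prime_five : Fact (Nat.Prime 5) := ⟨by norm_num⟩

instance fact_prime_seventeen : Fact (Nat.Prime 17) := ⟨by norm_num⟩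

/-- a group of order 60 with a central element of order three has a normal Sylow 5-subgroup -/
theorem normal_sylow_five_of_card_sixty {H : Type*} [Group H] [Finite H] (h : Nat.card H = 60)
    (z : H) (hz : orderOf z = 3) (hzc : z ∈ Subgroup.center H) (P : Sylow 5 H) :
    (P : Subgroup H).Normal := by
  have hP : Nat.card (P : Subgroup H) = 5 := by
    have := sylow_card (p := 5) (n := 1) (m := 12) (by rw [h]; norm_num) (by norm_num) P
    simpa using this
  have hmod := card_sylow_modEq_one 5 H
  have hdvd := P.card_dvd_index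
  have hidx : (P : Subgroup H).index = 12 := by
    have := Subgroup.index_mul_card (P : Subgroup H)
    rw [hP, h] at this
    omega
  rw [hidx] at hdvd
  have hN := card_sylow_mul_card_normalizer P
  rw [h] at hN
  have hzN : z ∈ Subgroup.normalizer ((P : Subgroup H) : Set H) :=
    Subgroup.center_le_normalizer _ hzc
  have h3 : 3 ∣ Nat.card (Subgroup.normalizer ((P : Subgroup H) : Set H)) := by
    rw [← hz]
    exact Subgroup.orderOf_dvd_natCard _ hzN
  have hn1 : Nat.card (Sylow 5 H) = 1 := by
    have hle : Nat.card (Sylow 5 H) ≤ 12 := Nat.le_of_dvd (by norm_num) hdvd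
    have hm : Nat.card (Sylow 5 H) % 5 = 1 := hmod
    obtain ⟨k, hk⟩ := h3
    rw [hk] at hN
    generalize Nat.card (Sylow 5 H) = n at *
    interval_cases n <;> omega
  rw [Sylow.card_eq_index_normalizer P, Subgroup.index_eq_one] at hn1
  exact Subgroup.normalizer_eq_top_iff.mp hn1

end Generic

end Cfsg.Agent.Lib.Helper1.O4080
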