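import Mathlib
import Cfsg.Agent.Lib.Helper1.O4080a

/-!
# Simple groups of order 4080: the Sylow 17-, 5- and 3-subgroups (helper1)
-/

set_option autoImplicit false
set_option maxHeartbeats 1000000

namespace Cfsg.Agent.Lib.Helper1.O4080

open Cfsg.Agent.Lib.Helper2.Order168 (sylow_card sylow_number_ne_one card_dvd_factorial burnside
  card_dvd_factorial_index comm_of_card_prime exists_sylow_eq_zpowers)
open Cfsg.Agent.Lib.Helper2.A6 (card_sylow_mul_card_normalizer mem_of_smul_eq smul_self_of_mem)

section Main
variable {G : Type*} [Group G] [Finite G] [IsSimpleGroup G]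

theorem card_sylow_seventeen_sub (h : Nat.card G = 4080) (P : Sylow 17 G) :
    Nat.card (P : Subgroup G) = 17 := by
  have := sylow_card (p := 17) (n := 1) (m := 240) (by rw [h]; norm_num) (by norm_num) P
  simpa using this

theorem card_sylow_five_sub (h : Nat.card G = 4080) (P : Sylow 5 G) :
    Nat.card (P : Subgroup G) = 5 := by
  have := sylow_card (p := 5) (n := 1) (m := 816) (by rw [h]; norm_num) (by norm_num) P
  simpa using this

theorem card_sylow_three_sub (h : Nat.card G = 4080) (P : Sylow 3 G) :
    Nat.card (P : Subgroup G) = 3 := by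
  have := sylow_card (p := 3) (n := 1) (m := 1360) (by rw [h]; norm_num) (by norm_num) P
  simpa using this

theorem card_sylow_two_sub (h : Nat.card G = 4080) (P : Sylow 2 G) :
    Nat.card (P : Subgroup G) = 16 := by
  have := sylow_card (p := 2) (n := 4) (m := 255) (by rw [h]; norm_num) (by norm_num) P
  simpa using this

/-- proper subgroups have index at least 17 -/
theorem index_ge (h : Nat.card G = 4080) (M : Subgroup G) (hM : M ≠ ⊤) : 17 ≤ M.index := by
  by_contra hlt
  rw [not_le] at hlt
  have hd := card_dvd_factorial_index M hM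
  have h16 : M.index ≤ 16 := by omega
  have h2 : (M.index).factorial ∣ (16).factorial := Nat.factorial_dvd_factorial h16
  have h3 : 17 ∣ (16).factorial := by
    refine dvd_trans (dvd_trans ⟨240, ?_⟩ hd) h2
    rw [h]; norm_num
  rw [Nat.Prime.dvd_factorial (by norm_num)] at h3
  omega

/-- Sylow numbers are at least 17 -/
theorem card_sylow_ge (h : Nat.card G = 4080) {p : ℕ} [Fact p.Prime] (P : Sylow p G)
    (h1 : 1 < Nat.card (P : Subgroup G)) (h2 : Nat.card (P : Subgroup G) < Nat.card G) :
    17 ≤ Nat.card (Sylow p G) := by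
  have hne := sylow_number_ne_one P h1 h2
  rw [Sylow.card_eq_index_normalizer P] at hne ⊢
  apply index_ge h
  intro htop
  apply hne
  rw [htop, Subgroup.index_top]

theorem card_sylow_seventeen (h : Nat.card G = 4080) : Nat.card (Sylow 17 G) = 120 := by
  obtain ⟨P⟩ : Nonempty (Sylow 17 G) := inferInstance
  have hP := card_sylow_seventeen_sub h P
  have hge := card_sylow_ge h P (by rw [hP]; norm_num) (by rw [hP, h]; norm_num)
  have hmod : Nat.card (Sylow 17 G) % 17 = 1 := card_sylow_modEq_one 17 G
  have hN := card_sylow_mul_card_normalizer P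
  rw [h] at hN
  have h17 : 17 ∣ Nat.card (Subgroup.normalizer ((P : Subgroup G) : Set G)) := by
    have := Subgroup.card_dvd_of_le (Subgroup.le_normalizer (H := (P : Subgroup G)))
    rwa [hP] at this
  obtain ⟨k, hk⟩ := h17
  rw [hk] at hN
  generalize Nat.card (Sylow 17 G) = n at *
  have hk14 : k ≤ 14 := by
    by_contra hlt
    rw [not_le] at hlt
    have : n * (17 * k) ≥ 17 * (17 * 15) := by
      apply Nat.mul_le_mul hge
      omega
    omega
  interval_cases k <;> omega

/-- all normalizers of Sylow `p`-subgroups have the same order -/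
theorem card_normalizer_eq {p : ℕ} [Fact p.Prime] (P Q : Sylow p G) :
    Nat.card (Subgroup.normalizer ((P : Subgroup G) : Set G)) =
      Nat.card (Subgroup.normalizer ((Q : Subgroup G) : Set G)) := by
  have hP := card_sylow_mul_card_normalizer P
  have hQ := card_sylow_mul_card_normalizer Q
  have hpos : 0 < Nat.card (Sylow p G) := Nat.card_pos
  exact Nat.eq_of_mul_eq_mul_left hpos (hP.trans hQ.symm)

theorem card_order_seventeen (h : Nat.card G = 4080) :
    1920 ≤ Nat.card {g : G // orderOf g = 17} := by
  have := card_order_ge (G := G) (p := 17) (card_sylow_seventeen_sub h)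
  rw [card_sylow_seventeen h] at this
  exact this

theorem card_sing_three (h : Nat.card G = 4080) :
    4080 ≤ 3 * Nat.card {g : G // 3 ∣ orderOf g} := by
  obtain ⟨P0⟩ : Nonempty (Sylow 3 G) := inferInstance
  have hN0 := card_sylow_mul_card_normalizer P0
  have key := card_sing_ge (G := G) (p := 3) (card_sylow_three_sub h)
    (Nat.card (Subgroup.normalizer ((P0 : Subgroup G) : Set G))) (by
      intro P
      rw [card_normalizer_eq P0 P]
      obtain ⟨e, he, hNC⟩ := nc_dvd P (card_sylow_three_sub h P)
      have hA := card_AP_ge P (card_sylow_three_sub h P)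
      have he2 : e ≤ 2 := Nat.le_of_dvd (by norm_num) he
      rw [hNC]
      calc e * Nat.card (Subgroup.centralizer ((P : Subgroup G) : Set G))
          ≤ 2 * Nat.card (Subgroup.centralizer ((P : Subgroup G) : Set G)) :=
            Nat.mul_le_mul_right _ he2
        _ ≤ 3 * Nat.card (AP P) := hA)
  rw [hN0, h] at key
  exact key

theorem card_sing_five (h : Nat.card G = 4080) :
    4080 ≤ 5 * Nat.card {g : G // 5 ∣ orderOf g} := by
  obtain ⟨P0⟩ : Nonempty (Sylow 5 G) := inferInstance
  have hN0 := card_sylow_mul_card_normalizer P0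
  have key := card_sing_ge (G := G) (p := 5) (card_sylow_five_sub h)
    (Nat.card (Subgroup.normalizer ((P0 : Subgroup G) : Set G))) (by
      intro P
      rw [card_normalizer_eq P0 P]
      obtain ⟨e, he, hNC⟩ := nc_dvd P (card_sylow_five_sub h P)
      have hA := card_AP_ge P (card_sylow_five_sub h P)
      have he2 : e ≤ 4 := Nat.le_of_dvd (by norm_num) he
      rw [hNC]
      calc e * Nat.card (Subgroup.centralizer ((P : Subgroup G) : Set G))
          ≤ 4 * Nat.card (Subgroup.centralizer ((P : Subgroup G) : Set G)) :=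
            Nat.mul_le_mul_right _ he2
        _ ≤ 5 * Nat.card (AP P) := hA)
  rw [hN0, h] at key
  exact key

/-- there is an element of order divisible by fifteen -/
theorem exists_fifteen (h : Nat.card G = 4080) : ∃ g : G, 15 ∣ orderOf g := by
  by_contra hno
  rw [not_exists] at hno
  let f : {g : G // 3 ∣ orderOf g} ⊕ {g : G // 5 ∣ orderOf g} ⊕ {g : G // orderOf g = 17} → G :=
    fun a => match a with
      | Sum.inl x => x.1
      | Sum.inr (Sum.inl x) => x.1
      | Sum.inr (Sum.inr x) => x.1
  have hf : Function.Injective f := by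
    rintro (⟨x, hx⟩ | ⟨x, hx⟩ | ⟨x, hx⟩) (⟨y, hy⟩ | ⟨y, hy⟩ | ⟨y, hy⟩) hxy
    · have h1 : x = y := hxy
      subst h1; rfl
    · exfalso
      have h1 : x = y := hxy
      subst h1
      exact hno x (Nat.Coprime.mul_dvd_of_dvd_of_dvd (by norm_num) hx hy)
    · exfalso
      have h1 : x = y := hxy
      subst h1
      rw [hy] at hx
      omega
    · exfalso
      have h1 : x = y := hxy
      subst h1
      exact hno x (Nat.Coprime.mul_dvd_of_dvd_of_dvd (by norm_num) hy hx)
    · have h1 : x = y := hxy
      subst h1; rfl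
    · exfalso
      have h1 : x = y := hxy
      subst h1
      rw [hy] at hx
      omega
    · exfalso
      have h1 : x = y := hxy
      subst h1
      rw [hx] at hy
      omega
    · exfalso
      have h1 : x = y := hxy
      subst h1
      rw [hx] at hy
      omega
    · have h1 : x = y := hxy
      subst h1; rfl
  have hle := Nat.card_le_card_of_injective f hf
  rw [Nat.card_sum, Nat.card_sum, h] at hle
  have h1 := card_order_seventeen h
  have h2 := card_sing_three h
  have h3 := card_sing_five h
  omega

/-- commuting elements of orders five and three -/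
theorem exists_pair (h : Nat.card G = 4080) :
    ∃ a b : G, orderOf a = 5 ∧ orderOf b = 3 ∧ Commute a b := by
  obtain ⟨g, hg⟩ := exists_fifteen h
  have ho : orderOf (g ^ (orderOf g / 15)) = 15 :=
    orderOf_pow_orderOf_div (orderOf_pos g).ne' hg
  set x := g ^ (orderOf g / 15) with hx
  refine ⟨x ^ 3, x ^ 5, ?_, ?_, ?_⟩
  · rw [orderOf_pow' x (by norm_num), ho]; norm_num
  · rw [orderOf_pow' x (by norm_num), ho]; norm_num
  · exact (Commute.refl x).pow_pow 3 5

/-- an element commuting with a generator centralizes the cyclic group -/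
theorem mem_centralizer_zpowers {H : Type*} [Group H] {a b : H} (hab : Commute a b)
    (K : Subgroup H) (hK : K = Subgroup.zpowers a) : b ∈ Subgroup.centralizer (K : Set H) := by
  rw [Subgroup.mem_centralizer_iff]
  intro y hy
  rw [SetLike.mem_coe, hK] at hy
  obtain ⟨k, rfl⟩ := Subgroup.mem_zpowers_iff.mp hy
  exact (hab.zpow_left k).eq

theorem card_sylow_five_of_fifteen (h : Nat.card G = 4080) (Q : Sylow 5 G)
    (h15 : 15 ∣ Nat.card (Subgroup.centralizer ((Q : Subgroup G) : Set G))) :
    Nat.card (Sylow 5 G) = 136 := by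
  have hP := card_sylow_five_sub h Q
  have hge := card_sylow_ge h Q (by rw [hP]; norm_num) (by rw [hP, h]; norm_num)
  have hmod : Nat.card (Sylow 5 G) % 5 = 1 := card_sylow_modEq_one 5 G
  have hN := card_sylow_mul_card_normalizer Q
  rw [h] at hN
  have hCN : Nat.card (Subgroup.centralizer ((Q : Subgroup G) : Set G)) ∣
      Nat.card (Subgroup.normalizer ((Q : Subgroup G) : Set G)) :=
    Subgroup.card_dvd_of_le (Subgroup.centralizer_le_normalizer _)
  obtain ⟨k, hk⟩ := dvd_trans h15 hCN
  rw [hk] at hN
  generalize Nat.card (Sylow 5 G) = n at *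
  have hk16 : k ≤ 16 := by
    by_contra hlt
    rw [not_le] at hlt
    have : n * (15 * k) ≥ 17 * (15 * 17) := by
      apply Nat.mul_le_mul hge
      omega
    omega
  interval_cases k <;> omega

theorem card_sylow_three_or_of_fifteen (h : Nat.card G = 4080) (Q : Sylow 3 G)
    (h15 : 15 ∣ Nat.card (Subgroup.centralizer ((Q : Subgroup G) : Set G))) :
    Nat.card (Sylow 3 G) = 136 ∨ Nat.card (Sylow 3 G) = 34 := by
  have hP := card_sylow_three_sub h Q
  have hge := card_sylow_ge h Q (by rw [hP]; norm_num) (by rw [hP, h]; norm_num)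
  have hmod : Nat.card (Sylow 3 G) % 3 = 1 := card_sylow_modEq_one 3 G
  have hN := card_sylow_mul_card_normalizer Q
  rw [h] at hN
  have hCN : Nat.card (Subgroup.centralizer ((Q : Subgroup G) : Set G)) ∣
      Nat.card (Subgroup.normalizer ((Q : Subgroup G) : Set G)) :=
    Subgroup.card_dvd_of_le (Subgroup.centralizer_le_normalizer _)
  obtain ⟨k, hk⟩ := dvd_trans h15 hCN
  rw [hk] at hN
  generalize Nat.card (Sylow 3 G) = n at *
  have hk16 : k ≤ 16 := by
    by_contra hlt
    rw [not_le] at hlt
    have : n * (15 * k) ≥ 17 * (15 * 17) := by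
      apply Nat.mul_le_mul hge
      omega
    omega
  interval_cases k <;> omega

theorem card_sylow_five (h : Nat.card G = 4080) : Nat.card (Sylow 5 G) = 136 := by
  obtain ⟨a, b, ha, hb, hab⟩ := exists_pair h
  obtain ⟨Q, hQ⟩ := exists_sylow_eq_zpowers (G := G) (p := 5) (m := 816)
    (by rw [h]; norm_num) (by norm_num) ha
  have hbC := mem_centralizer_zpowers hab (Q : Subgroup G) hQ
  have haC : a ∈ Subgroup.centralizer ((Q : Subgroup G) : Set G) :=
    le_centralizer_of_card_prime Q (card_sylow_five_sub h Q)
      (by rw [hQ]; exact Subgroup.mem_zpowers a)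
  apply card_sylow_five_of_fifteen h Q
  have h5 : 5 ∣ Nat.card (Subgroup.centralizer ((Q : Subgroup G) : Set G)) := by
    have := Subgroup.orderOf_dvd_natCard _ haC
    rwa [ha] at this
  have h3 : 3 ∣ Nat.card (Subgroup.centralizer ((Q : Subgroup G) : Set G)) := by
    have := Subgroup.orderOf_dvd_natCard _ hbC
    rwa [hb] at this
  exact Nat.Coprime.mul_dvd_of_dvd_of_dvd (by norm_num : Nat.Coprime 3 5) h3 h5

theorem card_normalizer_five (h : Nat.card G = 4080) (Q : Sylow 5 G) :
    Nat.card (Subgroup.normalizer ((Q : Subgroup G) : Set G)) = 30 := by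
  have := card_sylow_mul_card_normalizer Q
  rw [card_sylow_five h, h] at this
  omega

/-- the centralizer of a Sylow subgroup is smaller than its normalizer -/
theorem card_centralizer_ne {p : ℕ} [Fact p.Prime] (P : Sylow p G)
    (h1 : 1 < Nat.card (P : Subgroup G)) (h2 : Nat.card (P : Subgroup G) < Nat.card G) :
    Nat.card (Subgroup.centralizer ((P : Subgroup G) : Set G)) ≠
      Nat.card (Subgroup.normalizer ((P : Subgroup G) : Set G)) := by
  intro heq
  apply burnside P h1 h2
  have := Subgroup.eq_of_le_of_card_ge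
    (Subgroup.centralizer_le_normalizer ((P : Subgroup G) : Set G)) (by rw [heq])
  rw [this]

theorem card_centralizer_five (h : Nat.card G = 4080) (Q : Sylow 5 G) :
    Nat.card (Subgroup.centralizer ((Q : Subgroup G) : Set G)) = 15 := by
  have hP := card_sylow_five_sub h Q
  have hne := card_centralizer_ne Q (by rw [hP]; norm_num) (by rw [hP, h]; norm_num)
  obtain ⟨e, he, hNC⟩ := nc_dvd Q hP
  rw [card_normalizer_five h Q] at hNC hne
  have he4 : e ≤ 4 := Nat.le_of_dvd (by norm_num) he
  generalize Nat.card (Subgroup.centralizer ((Q : Subgroup G) : Set G)) = c at *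
  interval_cases e <;> omega

theorem card_sylow_three (h : Nat.card G = 4080) : Nat.card (Sylow 3 G) = 136 := by
  obtain ⟨a, b, ha, hb, hab⟩ := exists_pair h
  obtain ⟨R, hR⟩ := exists_sylow_eq_zpowers (G := G) (p := 3) (m := 1360)
    (by rw [h]; norm_num) (by norm_num) hb
  obtain ⟨Q, hQ⟩ := exists_sylow_eq_zpowers (G := G) (p := 5) (m := 816)
    (by rw [h]; norm_num) (by norm_num) ha
  have hRc := card_sylow_three_sub h R
  have haC := mem_centralizer_zpowers hab.symm (R : Subgroup G) hR
  have hbR : b ∈ (R : Subgroup G) := by rw [hR]; exact Subgroup.mem_zpowers b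
  have hbC : b ∈ Subgroup.centralizer ((R : Subgroup G) : Set G) :=
    le_centralizer_of_card_prime R hRc hbR
  have h5 : 5 ∣ Nat.card (Subgroup.centralizer ((R : Subgroup G) : Set G)) := by
    have := Subgroup.orderOf_dvd_natCard _ haC
    rwa [ha] at this
  have h3 : 3 ∣ Nat.card (Subgroup.centralizer ((R : Subgroup G) : Set G)) := by
    have := Subgroup.orderOf_dvd_natCard _ hbC
    rwa [hb] at this
  have h15 : 15 ∣ Nat.card (Subgroup.centralizer ((R : Subgroup G) : Set G)) :=
    Nat.Coprime.mul_dvd_of_dvd_of_dvd (by norm_num : Nat.Coprime 3 5) h3 h5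
  rcases card_sylow_three_or_of_fifteen h R h15 with h136 | h34
  · exact h136
  exfalso
  have hN : Nat.card (Subgroup.normalizer ((R : Subgroup G) : Set G)) = 120 := by
    have := card_sylow_mul_card_normalizer R
    rw [h34, h] at this
    omega
  have hne := card_centralizer_ne R (by rw [hRc]; norm_num) (by rw [hRc, h]; norm_num)
  obtain ⟨e, he, hNC⟩ := nc_dvd R hRc
  rw [hN] at hNC hne
  have hC60 : Nat.card (Subgroup.centralizer ((R : Subgroup G) : Set G)) = 60 := by
    have he2 : e ≤ 2 := Nat.le_of_dvd (by norm_num) he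
    generalize Nat.card (Subgroup.centralizer ((R : Subgroup G) : Set G)) = c at *
    interval_cases e <;> omega
  set C := Subgroup.centralizer ((R : Subgroup G) : Set G) with hCdef
  let z : ↥C := ⟨b, hbC⟩
  let a' : ↥C := ⟨a, haC⟩
  have hz : orderOf z = 3 := by rw [← hb]; exact Subgroup.orderOf_mk b hbC
  have ha' : orderOf a' = 5 := by rw [← ha]; exact Subgroup.orderOf_mk a haC
  have hzc : z ∈ Subgroup.center ↥C := by
    rw [Subgroup.mem_center_iff]
    intro c
    apply Subtype.ext
    show (c : G) * b = b * (c : G)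
    exact ((Subgroup.mem_centralizer_iff.mp c.2) b hbR).symm
  obtain ⟨P', hP'⟩ := exists_sylow_eq_zpowers (G := ↥C) (p := 5) (m := 12)
    (by rw [hC60]; norm_num) (by norm_num) ha'
  have hnorm := normal_sylow_five_of_card_sixty hC60 z hz hzc P'
  have key : ∀ c ∈ C, ∀ y ∈ (Q : Subgroup G), c * y * c⁻¹ ∈ (Q : Subgroup G) := by
    intro c hc y hy
    rw [hQ] at hy ⊢
    obtain ⟨k, rfl⟩ := Subgroup.mem_zpowers_iff.mp hy
    have h1 : a' ^ k ∈ (P' : Subgroup ↥C) := by rw [hP']; exact Subgroup.zpow_mem_zpowers a' k
    have h2 := hnorm.conj_mem (a' ^ k) h1 ⟨c, hc⟩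
    rw [hP'] at h2
    obtain ⟨j, hj⟩ := Subgroup.mem_zpowers_iff.mp h2
    rw [Subgroup.mem_zpowers_iff]
    refine ⟨j, ?_⟩
    have := congrArg (fun t : ↥C => (t : G)) hj
    simpa using this
  have hle : C ≤ Subgroup.normalizer ((Q : Subgroup G) : Set G) := by
    intro c hc
    rw [Subgroup.mem_normalizer_iff]
    intro y
    constructor
    · exact key c hc y
    · intro hy
      have := key c⁻¹ (Subgroup.inv_mem _ hc) _ hy
      have e : c⁻¹ * (c * y * c⁻¹) * c⁻¹⁻¹ = y := by group
      rwa [e] at this
  have := Subgroup.card_dvd_of_le hle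
  rw [hC60, card_normalizer_five h Q] at this
  omega

theorem card_normalizer_three (h : Nat.card G = 4080) (Q : Sylow 3 G) :
    Nat.card (Subgroup.normalizer ((Q : Subgroup G) : Set G)) = 30 := by
  have := card_sylow_mul_card_normalizer Q
  rw [card_sylow_three h, h] at this
  omega

theorem card_centralizer_three (h : Nat.card G = 4080) (Q : Sylow 3 G) :
    Nat.card (Subgroup.centralizer ((Q : Subgroup G) : Set G)) = 15 := by
  have hP := card_sylow_three_sub h Q
  have hne := card_centralizer_ne Q (by rw [hP]; norm_num) (by rw [hP, h]; norm_num)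
  obtain ⟨e, he, hNC⟩ := nc_dvd Q hP
  rw [card_normalizer_three h Q] at hNC hne
  have he4 : e ≤ 2 := Nat.le_of_dvd (by norm_num) he
  generalize Nat.card (Subgroup.centralizer ((Q : Subgroup G) : Set G)) = c at *
  interval_cases e <;> omega

theorem card_normalizer_seventeen (h : Nat.card G = 4080) (Q : Sylow 17 G) :
    Nat.card (Subgroup.normalizer ((Q : Subgroup G) : Set G)) = 34 := by
  have := card_sylow_mul_card_normalizer Q
  rw [card_sylow_seventeen h, h] at this
  omega

theorem card_centralizer_seventeen (h : Nat.card G = 4080) (Q : Sylow 17 G) :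
    Nat.card (Subgroup.centralizer ((Q : Subgroup G) : Set G)) = 17 := by
  have hP := card_sylow_seventeen_sub h Q
  have hne := card_centralizer_ne Q (by rw [hP]; norm_num) (by rw [hP, h]; norm_num)
  have hCN : Nat.card (Subgroup.centralizer ((Q : Subgroup G) : Set G)) ∣
      Nat.card (Subgroup.normalizer ((Q : Subgroup G) : Set G)) :=
    Subgroup.card_dvd_of_le (Subgroup.centralizer_le_normalizer _)
  have hPC : Nat.card (Q : Subgroup G) ∣
      Nat.card (Subgroup.centralizer ((Q : Subgroup G) : Set G)) :=
    Subgroup.card_dvd_of_le (le_centralizer_of_card_prime Q hP)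
  rw [card_normalizer_seventeen h Q] at hCN hne
  rw [hP] at hPC
  obtain ⟨k, hk⟩ := hPC
  rw [hk] at hCN hne ⊢
  have hk2 : k ≤ 2 := by
    have := Nat.le_of_dvd (by norm_num) hCN
    omega
  interval_cases k <;> omega

end Main

end Cfsg.Agent.Lib.Helper1.O4080
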