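import Mathlib
import Cfsg.Agent.Lib.Helper1.O4080b

/-!
# Simple groups of order 4080: the 2-elements and the Sylow 2-subgroups (helper1)
-/

set_option autoImplicit false
set_option maxHeartbeats 1000000

namespace Cfsg.Agent.Lib.Helper1.O4080

open Cfsg.Agent.Lib.Helper2.Order168 (sylow_card sylow_number_ne_one card_dvd_factorial burnside
  card_dvd_factorial_index comm_of_card_prime exists_sylow_eq_zpowers)
open Cfsg.Agent.Lib.Helper2.A6 (card_sylow_mul_card_normalizer mem_of_smul_eq smul_self_of_mem)
open Cfsg.Agent.Lib.Helper9 (card_carrier_mul_card_centralizer)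

/-- elements of order 17 or 3, and 5-singular elements -/
def Bad {G : Type*} [Group G] (x : G) : Prop := orderOf x = 17 ∨ 5 ∣ orderOf x ∨ orderOf x = 3

/-- nontrivial 2-elements -/
def Two {G : Type*} [Group G] (w : G) : Prop := w ≠ 1 ∧ w ^ 16 = 1

theorem two_conj_iff {G : Type*} [Group G] (g x : G) : Two (g * x * g⁻¹) ↔ Two x := by
  unfold Two
  rw [conj_pow, Ne, conj_eq_one_iff, conj_eq_one_iff]

theorem not_bad_one {G : Type*} [Group G] : ¬ Bad (1 : G) := by
  unfold Bad
  rw [orderOf_one]
  omega

theorem not_bad_two {G : Type*} [Group G] (w : G) (hw : Two w) : ¬ Bad w := by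
  have hd : orderOf w ∣ 16 := orderOf_dvd_of_pow_eq_one hw.2
  have hle : orderOf w ≤ 16 := Nat.le_of_dvd (by norm_num) hd
  rintro (h17 | h5 | h3)
  · omega
  · have : 5 ∣ 16 := dvd_trans h5 hd
    omega
  · rw [h3] at hd
    omega

section Main
variable {G : Type*} [Group G] [Finite G] [IsSimpleGroup G]

theorem card_order_three (h : Nat.card G = 4080) :
    272 ≤ Nat.card {g : G // orderOf g = 3} := by
  have := card_order_ge (G := G) (p := 3) (card_sylow_three_sub h)
  rw [card_sylow_three h] at this
  exact this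

theorem card_sing_five' (h : Nat.card G = 4080) :
    1632 ≤ Nat.card {g : G // 5 ∣ orderOf g} := by
  have key := card_sing_ge (G := G) (p := 5) (card_sylow_five_sub h) 60 (by
      intro P
      have hA := card_AP_ge P (card_sylow_five_sub h P)
      rw [card_centralizer_five h P] at hA
      exact hA)
  rw [card_sylow_five h] at key
  omega

theorem card_bad (h : Nat.card G = 4080) : 3824 ≤ Nat.card {x : G // Bad x} := by
  let f : {g : G // orderOf g = 17} ⊕ {g : G // 5 ∣ orderOf g} ⊕ {g : G // orderOf g = 3} →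
      {x : G // Bad x} :=
    fun a => match a with
      | Sum.inl x => ⟨x.1, Or.inl x.2⟩
      | Sum.inr (Sum.inl x) => ⟨x.1, Or.inr (Or.inl x.2)⟩
      | Sum.inr (Sum.inr x) => ⟨x.1, Or.inr (Or.inr x.2)⟩
  have hf : Function.Injective f := by
    rintro (⟨x, hx⟩ | ⟨x, hx⟩ | ⟨x, hx⟩) (⟨y, hy⟩ | ⟨y, hy⟩ | ⟨y, hy⟩) hxy
    · have h1 : x = y := congrArg Subtype.val hxy
      subst h1; rfl
    · exfalso
      have h1 : x = y := congrArg Subtype.val hxy
      subst h1
      rw [hx] at hy
      omega
    · exfalso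
      have h1 : x = y := congrArg Subtype.val hxy
      subst h1
      rw [hx] at hy
      omega
    · exfalso
      have h1 : x = y := congrArg Subtype.val hxy
      subst h1
      rw [hy] at hx
      omega
    · have h1 : x = y := congrArg Subtype.val hxy
      subst h1; rfl
    · exfalso
      have h1 : x = y := congrArg Subtype.val hxy
      subst h1
      rw [hy] at hx
      omega
    · exfalso
      have h1 : x = y := congrArg Subtype.val hxy
      subst h1
      rw [hy] at hx
      omega
    · exfalso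
      have h1 : x = y := congrArg Subtype.val hxy
      subst h1
      rw [hx] at hy
      omega
    · have h1 : x = y := congrArg Subtype.val hxy
      subst h1; rfl
  have hle := Nat.card_le_card_of_injective f hf
  rw [Nat.card_sum, Nat.card_sum] at hle
  have h1 := card_order_seventeen h
  have h2 := card_sing_five' h
  have h3 := card_order_three h
  omega

theorem card_rest (h : Nat.card G = 4080) : Nat.card {x : G // ¬ Bad x} ≤ 256 := by
  classical
  have e := Nat.card_congr (Equiv.sumCompl (fun x : G => Bad x))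
  rw [Nat.card_sum, h] at e
  have := card_bad h
  omega

theorem card_two_le (h : Nat.card G = 4080) : Nat.card {w : G // Two w} ≤ 255 := by
  let f : Option {w : G // Two w} → {x : G // ¬ Bad x} := fun a => match a with
    | none => ⟨1, not_bad_one⟩
    | some w => ⟨w.1, not_bad_two w.1 w.2⟩
  have hf : Function.Injective f := by
    rintro (_ | ⟨x, hx⟩) (_ | ⟨y, hy⟩) hxy
    · rfl
    · exfalso
      have h1 : (1 : G) = y := congrArg Subtype.val hxy
      exact hy.1 h1.symm
    · exfalso
      have h1 : x = (1 : G) := congrArg Subtype.val hxy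
      exact hx.1 h1
    · have h1 : x = y := congrArg Subtype.val hxy
      subst h1; rfl
  have hle := Nat.card_le_card_of_injective f hf
  rw [Finite.card_option] at hle
  have := card_rest h
  omega

/-- no element of order 3, 5 or 17 commutes with a nontrivial 2-element -/
theorem no_commute (h : Nat.card G = 4080) (w y : G) (hw : Two w) (hc : Commute y w)
    (hy : orderOf y = 3 ∨ orderOf y = 5 ∨ orderOf y = 17) : False := by
  have hd16 : orderOf w ∣ 16 := orderOf_dvd_of_pow_eq_one hw.2
  have key : ∀ m : ℕ, Nat.gcd m 16 = 1 → orderOf w ∣ m → False := by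
    intro m hm hd
    have : orderOf w ∣ Nat.gcd m 16 := Nat.dvd_gcd hd hd16
    rw [hm] at this
    exact hw.1 (orderOf_eq_one_iff.mp (Nat.dvd_one.mp this))
  rcases hy with hy | hy | hy
  · obtain ⟨Q, hQ⟩ := exists_sylow_eq_zpowers (G := G) (p := 3) (m := 1360)
      (by rw [h]; norm_num) (by norm_num) hy
    have hwC := mem_centralizer_zpowers hc (Q : Subgroup G) hQ
    have := Subgroup.orderOf_dvd_natCard _ hwC
    rw [card_centralizer_three h Q] at this
    exact key 15 (by norm_num) this
  · obtain ⟨Q, hQ⟩ := exists_sylow_eq_zpowers (G := G) (p := 5) (m := 816)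
      (by rw [h]; norm_num) (by norm_num) hy
    have hwC := mem_centralizer_zpowers hc (Q : Subgroup G) hQ
    have := Subgroup.orderOf_dvd_natCard _ hwC
    rw [card_centralizer_five h Q] at this
    exact key 15 (by norm_num) this
  · obtain ⟨Q, hQ⟩ := exists_sylow_eq_zpowers (G := G) (p := 17) (m := 240)
      (by rw [h]; norm_num) (by norm_num) hy
    have hwC := mem_centralizer_zpowers hc (Q : Subgroup G) hQ
    have := Subgroup.orderOf_dvd_natCard _ hwC
    rw [card_centralizer_seventeen h Q] at this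
    exact key 17 (by norm_num) this

theorem card_centralizer_two_dvd (h : Nat.card G = 4080) (w : G) (hw : Two w) :
    Nat.card (Subgroup.centralizer ({w} : Set G)) ∣ 16 := by
  set C := Subgroup.centralizer ({w} : Set G) with hC
  have hdvd : Nat.card C ∣ 4080 := by rw [← h]; exact Subgroup.card_subgroup_dvd_card C
  have hnp : ∀ p : ℕ, p.Prime → (p = 3 ∨ p = 5 ∨ p = 17) → ¬ p ∣ Nat.card C := by
    intro p hpp hp hpd
    haveI : Fact p.Prime := ⟨hpp⟩
    obtain ⟨y, hy⟩ := exists_prime_orderOf_dvd_card' (G := ↥C) p hpd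
    have hyG : orderOf (y : G) = p := by rw [Subgroup.orderOf_coe]; exact hy
    have hc : Commute (y : G) w := by
      have := Subgroup.mem_centralizer_singleton_iff.mp y.2
      exact this
    apply no_commute h w y hw hc
    rcases hp with rfl | rfl | rfl <;> simp [hyG]
  have h3 : Nat.Coprime (Nat.card C) 3 :=
    ((Nat.Prime.coprime_iff_not_dvd (by norm_num)).mpr
      (hnp 3 (by norm_num) (Or.inl rfl))).symm
  have h5 : Nat.Coprime (Nat.card C) 5 :=
    ((Nat.Prime.coprime_iff_not_dvd (by norm_num)).mpr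
      (hnp 5 (by norm_num) (Or.inr (Or.inl rfl)))).symm
  have h17 : Nat.Coprime (Nat.card C) 17 :=
    ((Nat.Prime.coprime_iff_not_dvd (by norm_num)).mpr
      (hnp 17 (by norm_num) (Or.inr (Or.inr rfl)))).symm
  have hcop : Nat.Coprime (Nat.card C) (3 * (5 * 17)) :=
    Nat.Coprime.mul_right h3 (Nat.Coprime.mul_right h5 h17)
  have e : (4080 : ℕ) = 16 * (3 * (5 * 17)) := by norm_num
  rw [e] at hdvd
  exact hcop.dvd_of_dvd_mul_right hdvd

/-- all nontrivial 2-elements are conjugate, with centralizers of order 16 -/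
theorem two_class (h : Nat.card G = 4080) (w : G) (hw : Two w) :
    Nat.card (Subgroup.centralizer ({w} : Set G)) = 16 ∧
      ∀ w' : G, Two w' → ∃ c : G, c * w * c⁻¹ = w' := by
  have hcc := card_carrier_mul_card_centralizer w
  rw [h] at hcc
  have hd := card_centralizer_two_dvd h w hw
  have hle16 : Nat.card (Subgroup.centralizer ({w} : Set G)) ≤ 16 :=
    Nat.le_of_dvd (by norm_num) hd
  let f : (ConjClasses.mk w).carrier → {x : G // Two x} := fun v => ⟨v.1, by
    have hv := v.2
    rw [ConjClasses.mem_carrier_iff_mk_eq, ConjClasses.mk_eq_mk_iff_isConj, isConj_iff] at hv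
    obtain ⟨c, hc⟩ := hv
    rw [← hc] at hw
    exact (two_conj_iff c v.1).1 hw⟩
  have hf : Function.Injective f := fun a b hab =>
    Subtype.ext (congrArg (fun t : {x : G // Two x} => (t : G)) hab)
  have hle := Nat.card_le_card_of_injective f hf
  have h255 := card_two_le h
  have hcl : Nat.card (ConjClasses.mk w).carrier = 255 ∧
      Nat.card (Subgroup.centralizer ({w} : Set G)) = 16 := by
    generalize Nat.card (ConjClasses.mk w).carrier = a at *
    generalize Nat.card (Subgroup.centralizer ({w} : Set G)) = c at *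
    generalize Nat.card {x : G // Two x} = t at *
    have ha : a ≤ 255 := le_trans hle h255
    have hc1 : 1 ≤ c := by
      rcases Nat.eq_zero_or_pos c with h0 | h0
      · rw [h0] at hcc; omega
      · exact h0
    interval_cases c <;> omega
  refine ⟨hcl.2, ?_⟩
  intro w' hw'
  have hbij : Function.Bijective f := hf.bijective_of_nat_card_le (by rw [hcl.1]; exact h255)
  obtain ⟨v, hv⟩ := hbij.2 ⟨w', hw'⟩
  have hv1 : (v : G) = w' := congrArg Subtype.val hv
  have hv2 := v.2
  rw [ConjClasses.mem_carrier_iff_mk_eq, ConjClasses.mk_eq_mk_iff_isConj, isConj_iff] at hv2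
  obtain ⟨c, hc⟩ := hv2
  refine ⟨c⁻¹, ?_⟩
  have hwc : w = c * w' * c⁻¹ := by rw [← hv1]; exact hc.symm
  rw [hwc]
  group

/-- an involution exists in every Sylow 2-subgroup -/
theorem exists_involution (h : Nat.card G = 4080) (S : Sylow 2 G) :
    ∃ t ∈ (S : Subgroup G), orderOf t = 2 := by
  obtain ⟨x, hx⟩ := exists_prime_orderOf_dvd_card' (G := ↥(S : Subgroup G)) 2
    (by rw [card_sylow_two_sub h S]; norm_num)
  exact ⟨(x : G), x.2, by rw [Subgroup.orderOf_coe]; exact hx⟩

theorem two_of_mem (h : Nat.card G = 4080) (S : Sylow 2 G) (s : G)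
    (hs : s ∈ (S : Subgroup G)) (hs1 : s ≠ 1) : Two s := by
  refine ⟨hs1, ?_⟩
  have := Subgroup.orderOf_dvd_natCard _ hs
  rw [card_sylow_two_sub h S] at this
  exact orderOf_dvd_iff_pow_eq_one.mp this

theorem sq_eq_one_of_two (h : Nat.card G = 4080) (w : G) (hw : Two w) : w ^ 2 = 1 := by
  obtain ⟨S⟩ : Nonempty (Sylow 2 G) := inferInstance
  obtain ⟨t, htS, ht⟩ := exists_involution h S
  have ht1 : t ≠ 1 := by
    intro h1
    rw [h1, orderOf_one] at ht
    omega
  have ht2 : t ^ 2 = 1 := by
    have := pow_orderOf_eq_one t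
    rwa [ht] at this
  have htw := two_of_mem h S t htS ht1
  obtain ⟨c, hc⟩ := (two_class h t htw).2 w hw
  rw [← hc, conj_pow, ht2]
  group

theorem sylow_two_sq (h : Nat.card G = 4080) (S : Sylow 2 G) (s : G)
    (hs : s ∈ (S : Subgroup G)) : s ^ 2 = 1 := by
  by_cases h1 : s = 1
  · rw [h1, one_pow]
  · exact sq_eq_one_of_two h s (two_of_mem h S s hs h1)

theorem sylow_two_comm (h : Nat.card G = 4080) (S : Sylow 2 G) (s t : G)
    (hs : s ∈ (S : Subgroup G)) (ht : t ∈ (S : Subgroup G)) : s * t = t * s := by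
  have h1 := sylow_two_sq h S s hs
  have h2 := sylow_two_sq h S t ht
  have h3 := sylow_two_sq h S (s * t) (Subgroup.mul_mem _ hs ht)
  have e1 : s⁻¹ = s := by rw [inv_eq_iff_mul_eq_one, ← pow_two]; exact h1
  have e2 : t⁻¹ = t := by rw [inv_eq_iff_mul_eq_one, ← pow_two]; exact h2
  have e3 : (s * t)⁻¹ = s * t := by rw [inv_eq_iff_mul_eq_one, ← pow_two]; exact h3
  calc s * t = (s * t)⁻¹ := e3.symm
    _ = t⁻¹ * s⁻¹ := mul_inv_rev _ _
    _ = t * s := by rw [e1, e2]

theorem centralizer_two_eq (h : Nat.card G = 4080) (S : Sylow 2 G) (s : G)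
    (hs : s ∈ (S : Subgroup G)) (hs1 : s ≠ 1) :
    Subgroup.centralizer ({s} : Set G) = (S : Subgroup G) := by
  have hle : (S : Subgroup G) ≤ Subgroup.centralizer ({s} : Set G) := by
    intro x hx
    rw [Subgroup.mem_centralizer_singleton_iff]
    exact sylow_two_comm h S x s hx hs
  have hc := (two_class h s (two_of_mem h S s hs hs1)).1
  symm
  apply Subgroup.eq_of_le_of_card_ge hle
  rw [hc, card_sylow_two_sub h S]

theorem two_inf_eq_bot (h : Nat.card G = 4080) (S T : Sylow 2 G) (hST : S ≠ T) :
    (S : Subgroup G) ⊓ (T : Subgroup G) = ⊥ := by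
  rw [Subgroup.eq_bot_iff_forall]
  intro x hx
  by_contra hx1
  apply hST
  apply Sylow.ext
  rw [← centralizer_two_eq h S x hx.1 hx1, ← centralizer_two_eq h T x hx.2 hx1]

theorem card_sylow_two (h : Nat.card G = 4080) : Nat.card (Sylow 2 G) = 17 := by
  classical
  haveI : Fintype (Sylow 2 G) := Fintype.ofFinite _
  obtain ⟨S0⟩ : Nonempty (Sylow 2 G) := inferInstance
  have hS0 := card_sylow_two_sub h S0
  have hge := card_sylow_ge h S0 (by rw [hS0]; norm_num) (by rw [hS0, h]; norm_num)
  let f : (Σ S : Sylow 2 G, {y : ↥(S : Subgroup G) // y ≠ 1}) → {w : G // Two w} :=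
    fun a => ⟨((a.2.1 : ↥(a.1 : Subgroup G)) : G),
      two_of_mem h a.1 _ a.2.1.2 (fun h1 => a.2.2 (Subtype.ext h1))⟩
  have hf : Function.Injective f := by
    rintro ⟨P, y, hy⟩ ⟨Q, y', hy'⟩ hxy
    have h1 : (y : G) = (y' : G) := congrArg Subtype.val hxy
    have hPQ : P = Q := by
      by_contra hne
      have h2 : (y : G) ∈ (P : Subgroup G) ⊓ (Q : Subgroup G) := ⟨y.2, by rw [h1]; exact y'.2⟩
      rw [two_inf_eq_bot h P Q hne, Subgroup.mem_bot] at h2
      exact hy (Subtype.ext h2)
    subst hPQ
    have h3 : y = y' := Subtype.ext h1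
    subst h3
    rfl
  have hle := Nat.card_le_card_of_injective f hf
  rw [Nat.card_sigma] at hle
  have h15 : ∀ P : Sylow 2 G, Nat.card {y : ↥(P : Subgroup G) // y ≠ 1} = 15 := by
    intro P
    have e := Nat.card_congr (Equiv.optionSubtypeNe (1 : ↥(P : Subgroup G)))
    rw [Finite.card_option, card_sylow_two_sub h P] at e
    omega
  rw [Finset.sum_congr rfl (fun P _ => h15 P), Finset.sum_const, Finset.card_univ,
    ← Nat.card_eq_fintype_card, smul_eq_mul] at hle
  have := card_two_le h
  omega

theorem card_normalizer_two (h : Nat.card G = 4080) (S : Sylow 2 G) :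
    Nat.card (Subgroup.normalizer ((S : Subgroup G) : Set G)) = 240 := by
  have := card_sylow_mul_card_normalizer S
  rw [card_sylow_two h, h] at this
  omega

end Main

end Cfsg.Agent.Lib.Helper1.O4080
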