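import Mathlib
import Cfsg.Agent.Lib.Helper1.O4080c

/-!
# A simple group of order 4080 is `PSL(2, 16)` (helper1)

The action on the seventeen Sylow 2-subgroups is sharply triply transitive; the identification is
then `Cfsg.Agent.Lib.Helper16.Sharp3.main`, as in helper2's treatment of order 504.
-/

set_option autoImplicit false
set_option maxHeartbeats 1000000

namespace Cfsg.Agent.Lib.Helper1.O4080

open Cfsg.Agent.Lib.Helper2.A6 (card_sylow_mul_card_normalizer mem_of_smul_eq smul_self_of_mem)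
open Cfsg.Agent.Lib.Helper2.O504 (exists_smul_eq_of_free slCongr center_sl_eq_bot)

section Main
variable {G : Type*} [Group G] [Finite G] [IsSimpleGroup G]

theorem two_free (h : Nat.card G = 4080) (S T : Sylow 2 G) (hT : T ≠ S) (x : G)
    (hx : x ∈ (S : Subgroup G)) (hxT : x • T = T) : x = 1 := by
  have h1 := mem_of_smul_eq S T x hx hxT
  have h2 : x ∈ (S : Subgroup G) ⊓ (T : Subgroup G) := ⟨hx, h1⟩
  rw [two_inf_eq_bot h S T (Ne.symm hT), Subgroup.mem_bot] at h2
  exact h2

theorem two_regular (h : Nat.card G = 4080) (S x₀ Q : Sylow 2 G) (hx₀ : x₀ ≠ S) (hQ : Q ≠ S) :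
    ∃ x ∈ (S : Subgroup G), x • x₀ = Q :=
  exists_smul_eq_of_free S x₀ Q hx₀ hQ (fun x hx hxx => two_free h S x₀ hx₀ x hx hxx)
    (by rw [card_sylow_two h, card_sylow_two_sub h S])

/-- only the identity fixes three Sylow 2-subgroups -/
theorem eq_one_of_three_fixed (h : Nat.card G = 4080) (g : G) (a b c : Sylow 2 G) (hab : a ≠ b)
    (hac : a ≠ c) (hbc : b ≠ c) (ha : g • a = a) (hb : g • b = b) (hc : g • c = c) : g = 1 := by
  have hgN : g ∈ Subgroup.normalizer ((a : Subgroup G) : Set G) :=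
    Sylow.smul_eq_iff_mem_normalizer.1 ha
  obtain ⟨s, hs, hsc⟩ := two_regular h a b c (Ne.symm hab) (Ne.symm hac)
  have hs1 : s ≠ 1 := by
    intro h1
    rw [h1, one_smul] at hsc
    exact hbc hsc
  have hgs : g * s * g⁻¹ ∈ (a : Subgroup G) := (Subgroup.mem_normalizer_iff.1 hgN s).1 hs
  have hginv : g⁻¹ • b = b := by rw [inv_smul_eq_iff, hb]
  have e1 : (g * s * g⁻¹) • b = s • b := by
    rw [mul_smul, mul_smul, hginv, hsc, hc]
  have e2 : (s⁻¹ * (g * s * g⁻¹)) • b = b := by rw [mul_smul, e1, inv_smul_smul]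
  have e3 := two_free h a b (Ne.symm hab) _
    (Subgroup.mul_mem _ (Subgroup.inv_mem _ hs) hgs) e2
  have hcomm : g * s = s * g := by
    have e4 : g * s * g⁻¹ = s := (inv_mul_eq_one.1 e3).symm
    calc g * s = g * s * g⁻¹ * g := by group
      _ = s * g := by rw [e4]
  have hgC : g ∈ Subgroup.centralizer ({s} : Set G) :=
    Subgroup.mem_centralizer_singleton_iff.2 hcomm
  rw [centralizer_two_eq h a s hs hs1] at hgC
  exact two_free h a b (Ne.symm hab) g hgC hb

theorem stabilizer_emb_eq_bot (h : Nat.card G = 4080) (x : Fin 3 ↪ Sylow 2 G) :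
    MulAction.stabilizer G x = ⊥ := by
  rw [Subgroup.eq_bot_iff_forall]
  intro g hg
  have hgx : ∀ i, g • x i = x i := by
    intro i
    have := DFunLike.congr_fun (MulAction.mem_stabilizer_iff.mp hg) i
    exact this
  exact eq_one_of_three_fixed h g (x 0) (x 1) (x 2) (x.injective.ne (by decide))
    (x.injective.ne (by decide)) (x.injective.ne (by decide)) (hgx 0) (hgx 1) (hgx 2)

theorem three_trans (h : Nat.card G = 4080) :
    MulAction.IsMultiplyPretransitive G (Sylow 2 G) 3 := by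
  classical
  haveI : Fintype (Sylow 2 G) := Fintype.ofFinite _
  have hcard : Fintype.card (Sylow 2 G) = 17 := by
    rw [← Nat.card_eq_fintype_card, card_sylow_two h]
  obtain ⟨x₀⟩ : Nonempty (Fin 3 ↪ Sylow 2 G) :=
    Function.Embedding.nonempty_of_card_le (by rw [Fintype.card_fin, hcard]; norm_num)
  have hst := stabilizer_emb_eq_bot h x₀
  have hidx := MulAction.index_stabilizer G x₀
  rw [hst, Subgroup.index_bot, h] at hidx
  have hT : Nat.card (Fin 3 ↪ Sylow 2 G) = 4080 := by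
    rw [Nat.card_eq_fintype_card, Fintype.card_embedding_eq, Fintype.card_fin, hcard]
    rfl
  have huniv : MulAction.orbit G x₀ = Set.univ := by
    rw [Set.eq_univ_iff_ncard, hT, ← hidx]
  constructor
  intro x y
  have hx : x ∈ MulAction.orbit G x₀ := by rw [huniv]; trivial
  have hy : y ∈ MulAction.orbit G x₀ := by rw [huniv]; trivial
  obtain ⟨g₁, hg₁⟩ := hx
  obtain ⟨g₂, hg₂⟩ := hy
  have hg₁' : g₁ • x₀ = x := hg₁
  have hg₂' : g₂ • x₀ = y := hg₂
  refine ⟨g₂ * g₁⁻¹, ?_⟩
  rw [← hg₁', ← hg₂', mul_smul, inv_smul_smul]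

theorem iso_pgl (h : Nat.card G = 4080) :
    ∃ (F : Type) (_ : Field F) (_ : Fintype F), Fintype.card F = 16 ∧
      Nonempty (G ≃* Matrix.ProjGenLinGroup (Fin 2) F) := by
  classical
  haveI : Fintype (Sylow 2 G) := Fintype.ofFinite _
  have hcard : Fintype.card (Sylow 2 G) = 17 := by
    rw [← Nat.card_eq_fintype_card, card_sylow_two h]
  obtain ⟨F, iF, iFt, hc, hiso⟩ := Cfsg.Agent.Lib.Helper16.Sharp3.main (Γ := G)
    (α := Sylow 2 G) (three_trans h) (stabilizer_emb_eq_bot h)
    (by rw [hcard]; exact ⟨8, by norm_num⟩) (by rw [hcard]; norm_num)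
  refine ⟨F, iF, iFt, ?_, hiso⟩
  rw [hcard] at hc
  omega

end Main

theorem two_eq_zero_of_card {F : Type*} [Field F] [Fintype F] (hF : Fintype.card F = 16) :
    (2 : F) = 0 := by
  have h16 : ((Fintype.card F : ℕ) : F) = 0 := Nat.cast_card_eq_zero F
  rw [hF] at h16
  have h4 : (2 : F) ^ 4 = 0 := by
    have e : ((16 : ℕ) : F) = (2 : F) ^ 4 := by norm_num
    rw [← e]
    exact h16
  exact (pow_eq_zero_iff (by norm_num)).1 h4

theorem main {G : Type*} [Group G] [Finite G] [IsSimpleGroup G] (h : Nat.card G = 4080)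
    {F : Type*} [Field F] [Fintype F] (hF : Fintype.card F = 16) :
    Nonempty (G ≃* Matrix.ProjectiveSpecialLinearGroup (Fin 2) F) := by
  obtain ⟨F', iF, iFt, hc, ⟨e1⟩⟩ := iso_pgl h
  obtain ⟨e2⟩ := Cfsg.Agent.Lib.Helper16.Sharp3.sl_equiv_pgl (F := F') (two_eq_zero_of_card hc)
  let ρ : F ≃+* F' := FiniteField.ringEquivOfCardEq (by rw [hF, hc])
  let e3 := slCongr ρ
  let e4 : Matrix.ProjectiveSpecialLinearGroup (Fin 2) F ≃*
      Matrix.SpecialLinearGroup (Fin 2) F :=
    (QuotientGroup.quotientMulEquivOfEq (center_sl_eq_bot (two_eq_zero_of_card hF))).trans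
      QuotientGroup.quotientBot
  exact ⟨e1.trans (e2.symm.trans (e3.symm.trans e4.symm))⟩

end Cfsg.Agent.Lib.Helper1.O4080
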