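import Mathlib
import Cfsg.Prelude.Def_LocalEven
import Cfsg.Prelude.Def_PLocal
import Cfsg.Prelude.Def_ConjugacyFunctors
import Cfsg.Agent.Lib.Helper17.QdCharConcrete
import Cfsg.Agent.Lib.Helper16.PCore

/-!
In a group isomorphic to `Qd(p)` (p odd), no nontrivial characteristic subgroup of a Sylow
p-subgroup controls strong fusion.  (helper1)
-/

set_option autoImplicit false

universe u

namespace Cfsg.Agent.Lib.Helper1.QdConv

open Cfsg Cfsg.Agent.Lib.Helper17
open scoped commutatorElement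

/-- abstract obstruction to control of strong fusion -/
theorem not_controls_of_structure {X : Type*} [Group X] [Finite X] {p : ℕ} [hp : Fact p.Prime]
    (V : Subgroup X) [hVn : V.Normal] (hVp : IsPGroup p V) (hV : V ≠ ⊥)
    (S : Subgroup X) (hSp : IsPGroup p S) (hVS : V ≤ S) (hchar : CharNormProp S)
    (hcen : Nat.card (Subgroup.center ↥S) = p)
    (C : Subgroup ↥S) (hC : C ≠ ⊥) (hCc : C.Characteristic) :
    ¬ ControlsStrongFusion p (C.map S.subtype) := by
  have hVT : ∀ T : Sylow p X, V ≤ (T : Subgroup X) := fun T =>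
    Cfsg.Agent.Lib.Helper16.normal_pgroup_le_sylow hVn hVp T
  haveI : Group.IsNilpotent ↥S := hSp.isNilpotent
  -- the centre of `S` lies in `V`
  have hV'ne : V.subgroupOf S ≠ ⊥ := by
    intro hb
    apply hV
    rw [eq_bot_iff]
    intro v hv
    have : (⟨v, hVS hv⟩ : ↥S) ∈ V.subgroupOf S := by
      rw [Subgroup.mem_subgroupOf]; exact hv
    rw [hb, Subgroup.mem_bot] at this
    rw [Subgroup.mem_bot]
    exact congrArg Subtype.val this
  have hmeet := Cfsg.Agent.Lib.Helper2.normal_inf_center_ne_bot (V.subgroupOf S) hV'ne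
  have hcenV : Subgroup.center ↥S ≤ V.subgroupOf S := by
    have h1 : V.subgroupOf S ⊓ Subgroup.center ↥S = Subgroup.center ↥S := by
      apply Subgroup.eq_of_le_of_card_ge inf_le_right
      have hd : Nat.card ↥(V.subgroupOf S ⊓ Subgroup.center ↥S) ∣ p := by
        rw [← hcen]; exact Subgroup.card_dvd_of_le inf_le_right
      rcases (Nat.dvd_prime hp.out).mp hd with h1 | h1
      · rw [Subgroup.card_eq_one] at h1
        exact absurd h1 hmeet
      · rw [h1, hcen]
    rw [← h1]; exact inf_le_left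
  have hZne : Subgroup.center ↥S ≠ ⊥ := by
    intro hb
    rw [hb, Subgroup.card_bot] at hcen
    exact hp.out.one_lt.ne hcen
  obtain ⟨hNZ, hNS⟩ := hchar (Subgroup.center ↥S) hZne inferInstance
  obtain ⟨hNC, _⟩ := hchar C hC hCc
  -- the centre is not normal: pick a conjugate outside
  obtain ⟨g, z, hz, hgz⟩ : ∃ g z : X, z ∈ (Subgroup.center ↥S).map S.subtype ∧
      g * z * g⁻¹ ∉ (Subgroup.center ↥S).map S.subtype := by
    by_contra hcon
    push Not at hcon
    have hn : ((Subgroup.center ↥S).map S.subtype).Normal := ⟨fun z hz g => hcon g z hz⟩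
    exact hNS (hNZ ▸ Subgroup.normalizer_eq_top_iff.mpr hn)
  have hzV : z ∈ V := by
    obtain ⟨z', hz', rfl⟩ := hz
    exact Subgroup.mem_subgroupOf.mp (hcenV hz')
  rintro ⟨T, hUT, hctl⟩
  obtain ⟨_, hA⟩ := hctl {z} (Set.singleton_subset_iff.mpr (hVT T hzV))
  obtain ⟨x, hxN, hx⟩ := hA g (by
    rw [Set.image_singleton, Set.singleton_subset_iff]
    exact hVT T (hVn.conj_mem z hzV g))
  have hxe := hx z rfl
  rw [hNC, ← hNZ] at hxN
  apply hgz
  rw [hxe]
  exact (Subgroup.mem_normalizer_iff.mp hxN z).mp hz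

/-- transport of `CharNormProp` along an isomorphism -/
theorem charNormProp_map_equiv {G : Type*} {H : Type*} [Group G] [Group H] (φ : G ≃* H)
    {S : Subgroup G} (h : CharNormProp S) (S' : Subgroup H) (hS' : S' = S.map φ.toMonoidHom) :
    CharNormProp S' := by
  subst hS'
  intro T' hT' hT'c
  obtain ⟨e, he⟩ : ∃ e : ↥S ≃* ↥(S.map φ.toMonoidHom), ∀ x : ↥S, ((e x : ↥(S.map φ.toMonoidHom)) : H) = φ x :=
    ⟨φ.subgroupMap S, fun x => rfl⟩
  have hTne : T'.comap e.toMonoidHom ≠ ⊥ := by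
    intro hb
    apply hT'
    rw [eq_bot_iff]
    intro y hy
    have : e.symm y ∈ T'.comap e.toMonoidHom := by
      rw [Subgroup.mem_comap]
      show e (e.symm y) ∈ T'
      rw [e.apply_symm_apply]; exact hy
    rw [hb, Subgroup.mem_bot] at this
    rw [Subgroup.mem_bot]
    have h2 := congrArg e this
    rw [e.apply_symm_apply, map_one] at h2
    exact h2
  have hTc : (T'.comap e.toMonoidHom).Characteristic := by
    rw [Subgroup.characteristic_iff_comap_eq]
    intro ϕ
    have h1 := hT'c.fixed ((e.symm.trans ϕ).trans e)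
    ext x
    rw [Subgroup.mem_comap, Subgroup.mem_comap, Subgroup.mem_comap]
    have h2 : e x ∈ T'.comap ((e.symm.trans ϕ).trans e).toMonoidHom ↔ e x ∈ T' := by rw [h1]
    rw [Subgroup.mem_comap] at h2
    have h3 : ((e.symm.trans ϕ).trans e).toMonoidHom (e x) = e (ϕ x) := by
      show e (ϕ (e.symm (e x))) = e (ϕ x)
      rw [e.symm_apply_apply]
    rw [h3] at h2
    exact h2
  obtain ⟨h1, h2⟩ := h _ hTne hTc
  have hmap : (T'.map (S.map φ.toMonoidHom).subtype : Subgroup H) =
      ((T'.comap e.toMonoidHom).map S.subtype).map φ.toMonoidHom := by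
    ext x
    constructor
    · rintro ⟨y, hy, rfl⟩
      refine ⟨(e.symm y : ↥S), ⟨e.symm y, ?_, rfl⟩, ?_⟩
      · rw [SetLike.mem_coe, Subgroup.mem_comap]
        show e (e.symm y) ∈ T'
        rw [e.apply_symm_apply]; exact hy
      · have := he (e.symm y)
        rw [e.apply_symm_apply] at this
        exact this.symm
    · rintro ⟨_, ⟨y, hy, rfl⟩, rfl⟩
      rw [SetLike.mem_coe, Subgroup.mem_comap] at hy
      exact ⟨e y, hy, he y⟩
  constructor
  · rw [hmap, ← Subgroup.map_equiv_normalizer_eq, ← Subgroup.map_equiv_normalizer_eq, h1]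
  · rw [← Subgroup.map_equiv_normalizer_eq]
    intro htop
    apply h2
    apply Subgroup.map_injective (f := φ.toMonoidHom) φ.injective
    rw [htop]
    exact (Subgroup.map_top_of_surjective _ φ.surjective).symm

theorem card_center_congr {A : Type*} {B : Type*} [Group A] [Group B] (e : A ≃* B) :
    Nat.card (Subgroup.center A) = Nat.card (Subgroup.center B) := by
  refine Nat.card_congr ⟨fun z => ⟨e z, ?_⟩, fun z => ⟨e.symm z, ?_⟩, ?_, ?_⟩
  · rw [Subgroup.mem_center_iff]
    intro b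
    obtain ⟨a, rfl⟩ := e.surjective b
    rw [← map_mul, ← map_mul, Subgroup.mem_center_iff.mp z.2 a]
  · rw [Subgroup.mem_center_iff]
    intro b
    obtain ⟨a, rfl⟩ := e.symm.surjective b
    rw [← map_mul, ← map_mul, Subgroup.mem_center_iff.mp z.2 a]
  · intro z; apply Subtype.ext; simp
  · intro z; apply Subtype.ext; simp

theorem exists_normal_pgroup_lastRow (p : ℕ) [hp : Fact p.Prime]
    (L : Subgroup (Matrix.SpecialLinearGroup (Fin 3) (ZMod p)))
    (hL : L = lastRowSubgroup (ZMod p)) :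
    ∃ V : Subgroup ↥L, V.Normal ∧ IsPGroup p V ∧ V ≠ ⊥ := by
  subst hL
  have hcard : Nat.card (transL (ZMod p)) = p ^ 2 := by rw [card_transL, Nat.card_zmod]
  refine ⟨transL (ZMod p), inferInstance, IsPGroup.of_card hcard, ?_⟩
  intro hb
  rw [hb, Subgroup.card_bot] at hcard
  have := Nat.one_lt_pow (n := 2) (by norm_num) hp.out.one_lt
  omega

/-- the structure of a group isomorphic to `Qd(p)` needed for the obstruction -/
theorem qd_structure {p : ℕ} [hp : Fact p.Prime] (hp2 : p ≠ 2) {X : Type*} [Group X] [Finite X]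
    (φ : X ≃* ↥(qd p)) :
    (∃ V : Subgroup X, V.Normal ∧ IsPGroup p V ∧ V ≠ ⊥) ∧
    ∀ T₀ : Sylow p X, CharNormProp (T₀ : Subgroup X) ∧
      Nat.card (Subgroup.center ↥(T₀ : Subgroup X)) = p := by
  constructor
  · obtain ⟨V, hVn, hVp, hV⟩ := exists_normal_pgroup_lastRow p (qd p) (qd_eq_lastRowSubgroup p)
    refine ⟨V.comap φ.toMonoidHom, hVn.comap _, hVp.comap_of_injective _ φ.injective, ?_⟩
    intro hb
    apply hV
    rw [← Subgroup.map_comap_eq_self_of_surjective (f := φ.toMonoidHom) φ.surjective V, hb,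
      Subgroup.map_bot]
  · intro T₀
    set T₀' : Sylow p ↥(qd p) := T₀.mapSurjective (f := φ.toMonoidHom) φ.surjective with hT₀'
    have hcoe : (T₀' : Subgroup ↥(qd p)) = (T₀ : Subgroup X).map φ.toMonoidHom := rfl
    constructor
    · have h1 : CharNormProp (T₀' : Subgroup ↥(qd p)) :=
        charNormProp_sylow_of_eq p (qd p) (qd_eq_lastRowSubgroup p) T₀'
      refine charNormProp_map_equiv φ.symm h1 _ ?_
      rw [hcoe]
      ext x
      simp [Subgroup.mem_map]
    · have h1 := (qd_sylow p hp2 T₀').1.2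
      exact (card_center_congr (φ.subgroupMap (T₀ : Subgroup X))).trans h1

/-- **No control of strong fusion in `Qd(p)`**: for a group isomorphic to `Qd(p)`, `p` odd, and any
isomorphism-invariant `p`-group functor `W`, `W(T)` does not control strong fusion. -/
theorem not_controls_of_equiv_qd {p : ℕ} [hp : Fact p.Prime] (hp2 : p ≠ 2) {X : Type u} [Group X]
    [Finite X] (φ : X ≃* ↥(qd p)) (W : ∀ (Q : Type u) [Group Q], Subgroup Q)
    (hW : IsCharPFunctor.{u} p W) (T₀ : Sylow p X) :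
    ¬ ControlsStrongFusion p (inducedFunctor (G := X) W (T₀ : Subgroup X)) := by
  obtain ⟨⟨V, hVn, hVp, hV⟩, hall⟩ := qd_structure hp2 φ
  obtain ⟨hchar, hcen⟩ := hall T₀
  haveI := hVn
  have hVT : V ≤ (T₀ : Subgroup X) := Cfsg.Agent.Lib.Helper16.normal_pgroup_le_sylow hVn hVp T₀
  have hnt : Nontrivial ↥(T₀ : Subgroup X) := by
    obtain ⟨⟨v, hv⟩, hv1⟩ := (Subgroup.ne_bot_iff_exists_ne_one).mp hV
    refine ⟨⟨⟨v, hVT hv⟩, 1, fun h => hv1 (Subtype.ext ?_)⟩⟩
    have h' : ((⟨v, hVT hv⟩ : ↥(T₀ : Subgroup X)) : X) = ((1 : ↥(T₀ : Subgroup X)) : X) :=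
      congrArg Subtype.val h
    exact h' 
  have hC : W ↥(T₀ : Subgroup X) ≠ ⊥ := hW.1 _ T₀.isPGroup' hnt
  have hCc : (W ↥(T₀ : Subgroup X)).Characteristic := by
    rw [Subgroup.characteristic_iff_map_eq]
    intro ϕ
    exact hW.2 _ _ T₀.isPGroup' ϕ
  exact not_controls_of_structure V hVp hV (T₀ : Subgroup X) T₀.isPGroup' hVT hchar hcen _ hC hCc

end Cfsg.Agent.Lib.Helper1.QdConv
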