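import Mathlib
import Cfsg.Prelude.Def_LocalEven
import Cfsg.Prelude.Def_PLocal
import Cfsg.Agent.Lib.Helper17.QdCharConcrete
import Cfsg.Agent.Lib.Helper1.PStabTools

/-!
`Qd(p)` (p odd) is not p-stable in the normalizer form, and neither is any group isomorphic to it
(universe-polymorphic).  (helper1)
-/

set_option autoImplicit false

namespace Cfsg.Agent.Lib.Helper1.QdConv

open Cfsg Cfsg.Agent.Lib.Helper17 Cfsg.Agent.Lib.Helper1.PST
open scoped commutatorElement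

/-- element data witnessing the failure of normalizer-p-stability -/
def NPSWitness (p : ℕ) (X : Type*) [Group X] : Prop :=
  ∃ (V : Subgroup X) (g h t : X), V.Normal ∧ IsPGroup p V ∧
    ⁅⁅V, Subgroup.zpowers g⁆, Subgroup.zpowers g⁆ = ⊥ ∧ t ∈ V ∧
    ((g * (h * g * h⁻¹)) ^ 3) ^ 2 = 1 ∧
    (g * (h * g * h⁻¹)) ^ 3 * t ≠ t * (g * (h * g * h⁻¹)) ^ 3

theorem not_nps_of_witness {p : ℕ} [hp : Fact p.Prime] (hp2 : p ≠ 2) {X : Type*} [Group X]
    (hw : NPSWitness p X) : ¬ IsNormalizerPStable p X := by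
  obtain ⟨V, g, h, t, hVn, hVp, hq, ht, hn2, hnt⟩ := hw
  intro hst
  have htop : Subgroup.normalizer (V : Set X) = ⊤ := Subgroup.normalizer_eq_top_iff.mpr hVn
  have hgN : g ∈ Subgroup.normalizer (V : Set X) := by rw [htop]; trivial
  have hgD := mem_DN_of_stable hst V hVp g hgN hq
  have hnorm := normalizer_le_normalizer_DN (p := p) V
  have hhN : h ∈ Subgroup.normalizer ((DN p V : Subgroup X) : Set X) :=
    hnorm (by rw [htop]; trivial)
  have hconj : h * g * h⁻¹ ∈ DN p V := (Subgroup.mem_normalizer_iff.mp hhN g).mp hgD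
  have hn : (g * (h * g * h⁻¹)) ^ 3 ∈ DN p V := pow_mem (mul_mem hgD hconj) 3
  obtain ⟨k, hk⟩ := DN_pact (p := p) V _ hn
  have hodd : Odd (p ^ k) := (hp.out.eq_two_or_odd'.resolve_left hp2).pow
  obtain ⟨m, hm⟩ := hodd
  have hpow : ((g * (h * g * h⁻¹)) ^ 3) ^ (p ^ k) = (g * (h * g * h⁻¹)) ^ 3 := by
    rw [hm, pow_succ, pow_mul, hn2, one_pow, one_mul]
  rw [hpow, Subgroup.mem_centralizer_iff] at hk
  exact hnt (hk t ht).symm

theorem NPSWitness.map {p : ℕ} {Y : Type*} {X : Type*} [Group Y] [Group X] (φ : Y ≃* X)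
    (hw : NPSWitness p Y) : NPSWitness p X := by
  obtain ⟨V, g, h, t, hVn, hVp, hq, ht, hn2, hnt⟩ := hw
  have he : (φ g * (φ h * φ g * (φ h)⁻¹)) ^ 3 = φ ((g * (h * g * h⁻¹)) ^ 3) := by
    simp only [map_mul, map_pow, map_inv]
  refine ⟨V.map φ.toMonoidHom, φ g, φ h, φ t, hVn.map φ.toMonoidHom φ.surjective,
    hVp.map φ.toMonoidHom, ?_, Subgroup.mem_map_of_mem _ ht, ?_, ?_⟩
  · have h1 : Subgroup.zpowers (φ g) = (Subgroup.zpowers g).map φ.toMonoidHom := by
      rw [MonoidHom.map_zpowers]; rfl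
    rw [h1, ← Subgroup.map_commutator, ← Subgroup.map_commutator, hq, Subgroup.map_bot]
  · rw [he, ← map_pow, hn2, map_one]
  · rw [he, ← map_mul, ← map_mul]
    exact fun h' => hnt (φ.injective h')

section concrete

variable (R : Type*) [CommRing R]

/-- the monomial element `[[0,1],[-1,0]]` -/
def wL : ↥(lastRowSubgroup R) :=
  ⟨⟨!![0, 1, 0; -1, 0, 0; 0, 0, 1], by rw [Matrix.det_fin_three]; simp⟩, by
    refine ⟨?_, ?_, ?_⟩ <;> simp⟩

/-- the lower elementary matrix with entry `-1` -/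
def lowNegL : ↥(lastRowSubgroup R) :=
  ⟨⟨!![1, 0, 0; -1, 1, 0; 0, 0, 1], by rw [Matrix.det_fin_three]; simp⟩, by
    refine ⟨?_, ?_, ?_⟩ <;> simp⟩

/-- the central involution `-1` of the `SL₂` block -/
def negL : ↥(lastRowSubgroup R) :=
  ⟨⟨!![-1, 0, 0; 0, -1, 0; 0, 0, 1], by rw [Matrix.det_fin_three]; simp⟩, by
    refine ⟨?_, ?_, ?_⟩ <;> simp⟩

variable {R}

theorem lmat_wL : lmat R (wL R) = !![0, 1, 0; -1, 0, 0; 0, 0, 1] := rfl
theorem lmat_lowNegL : lmat R (lowNegL R) = !![1, 0, 0; -1, 1, 0; 0, 0, 1] := rfl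
theorem lmat_negL : lmat R (negL R) = !![-1, 0, 0; 0, -1, 0; 0, 0, 1] := rfl

theorem wL_conj : wL R * utL R 1 0 0 * (wL R)⁻¹ = lowNegL R := by
  rw [mul_inv_eq_iff_eq_mul]
  apply lmat_ext <;>
    simp [lmat_mul, lmat_wL, lmat_lowNegL, lmat_utL, Matrix.mul_apply, Fin.sum_univ_three]

theorem cube_eq : (utL R 1 0 0 * lowNegL R) ^ 3 = negL R := by
  rw [pow_three]
  apply lmat_ext <;>
    simp [lmat_mul, lmat_negL, lmat_lowNegL, lmat_utL, Matrix.mul_apply, Fin.sum_univ_three]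

theorem negL_sq : (negL R) ^ 2 = 1 := by
  rw [pow_two]
  apply lmat_ext <;>
    simp [lmat_mul, lmat_negL, lmat_one, Matrix.mul_apply, Fin.sum_univ_three]

theorem negL_not_comm (h2 : (2 : R) ≠ 0) : negL R * utL R 0 0 1 ≠ utL R 0 0 1 * negL R := by
  intro h
  have h4 := congrArg (fun M => lmat R M 0 2) h
  simp only [lmat_mul, lmat_utL, lmat_negL, Matrix.mul_apply, Fin.sum_univ_three] at h4
  simp at h4
  apply h2
  have : (2 : R) = 1 - (-1) := by ring
  rw [this, h4]; ring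

theorem comm_utL (a b c a' b' c' : R) :
    ⁅utL R a b c, utL R a' b' c'⁆ = utL R 0 0 (a * b' - a' * b) := by
  have h1 : utL R a b c * utL R a' b' c' =
      utL R 0 0 (a * b' - a' * b) * (utL R a' b' c' * utL R a b c) := by
    rw [utL_mul, utL_mul, utL_mul]
    exact utL_congr (by ring) (by ring) (by ring)
  rw [commutatorElement_def, h1]
  group

theorem quad_utL : ⁅⁅transL R, Subgroup.zpowers (utL R 1 0 0)⁆, Subgroup.zpowers (utL R 1 0 0)⁆ = ⊥ := by
  have hZU : Subgroup.zpowers (utL R 1 0 0) ≤ utLSub R :=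
    (Subgroup.zpowers_le).mpr (utL_mem _ _ _)
  have h1 : ⁅utLSub R, utLSub R⁆ ≤ zL R := by
    rw [Subgroup.commutator_le]
    intro x hx y hy
    obtain ⟨a, b, c, rfl⟩ := mem_utLSub.mp hx
    obtain ⟨a', b', c', rfl⟩ := mem_utLSub.mp hy
    rw [comm_utL]
    exact ⟨_, rfl⟩
  have h2 : ⁅zL R, utLSub R⁆ = ⊥ := by
    rw [Subgroup.commutator_eq_bot_iff_le_centralizer]
    intro z hz
    rw [Subgroup.mem_centralizer_iff]
    intro s hs
    exact (zL_comm z hz s hs).symm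
  rw [eq_bot_iff, ← h2]
  exact Subgroup.commutator_mono
    ((Subgroup.commutator_mono transL_le_utLSub hZU).trans h1) hZU

end concrete

theorem witness_lastRow (p : ℕ) [hp : Fact p.Prime] (hp2 : p ≠ 2) :
    NPSWitness p ↥(lastRowSubgroup (ZMod p)) := by
  have h2 : (2 : ZMod p) ≠ 0 := by
    intro h
    have h' : ((2 : ℕ) : ZMod p) = 0 := by exact_mod_cast h
    rw [ZMod.natCast_eq_zero_iff] at h'
    exact hp2 ((Nat.prime_dvd_prime_iff_eq hp.out Nat.prime_two).mp h')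
  refine ⟨transL (ZMod p), utL (ZMod p) 1 0 0, wL (ZMod p), utL (ZMod p) 0 0 1, inferInstance,
    IsPGroup.of_card (n := 2) (by rw [card_transL, Nat.card_zmod]), quad_utL,
    (utL_mem_transL_iff _ _ _).mpr rfl, ?_, ?_⟩
  · rw [wL_conj, cube_eq, negL_sq]
  · rw [wL_conj, cube_eq]
    exact negL_not_comm h2

theorem witness_qd (p : ℕ) [hp : Fact p.Prime] (hp2 : p ≠ 2) : NPSWitness p ↥(qd p) := by
  have h := witness_lastRow p hp2
  rw [← qd_eq_lastRowSubgroup] at h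
  exact h

/-- any group isomorphic to `Qd(p)`, `p` odd, fails to be p-stable in the normalizer form -/
theorem not_nps_of_equiv_qd {p : ℕ} [hp : Fact p.Prime] (hp2 : p ≠ 2) {X : Type*} [Group X]
    (φ : X ≃* ↥(qd p)) : ¬ IsNormalizerPStable p X :=
  not_nps_of_witness hp2 ((witness_qd p hp2).map φ.symm)

end Cfsg.Agent.Lib.Helper1.QdConv
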