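import Mathlib
import Cfsg.Prelude.Def_LocalEven
import Cfsg.Prelude.Def_PLocal
import Cfsg.Prelude.Def_ConjugacyFunctors
import Cfsg.Agent.Lib.Lead.ZJFunctor
import Cfsg.Agent.Lib.Lead.GlaubermanZJ
import Cfsg.Agent.Lib.Lead.GlaubermanZJD
import Cfsg.Agent.Lib.Helper11.KInfGlue
import Cfsg.Agent.Lib.Helper1.KInfStableNormal

/-!
`Z(J(-))` (abelian version) as an isomorphism-invariant `p`-group functor on types, and the
non-normality hypothesis `HNonNormal` for it (from Glauberman's ZJ-theorem).  (helper1)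
-/

set_option autoImplicit false

universe u

namespace Cfsg.Agent.Lib.Helper1.QdConv

open Cfsg Cfsg.Agent.Lib.Lead.GlaubermanRepl Cfsg.Agent.Lib.Lead.ZJFunctor
  Cfsg.Agent.Lib.Lead.GlaubermanZJ

/-- `Z(J(Q))` of a group `Q`, as a functor on types -/
def ZJt : ∀ (Q : Type u) [Group Q], Subgroup Q := fun Q _ => ZJ (⊤ : Subgroup Q)

theorem induced_ZJt {G : Type u} [Group G] [Finite G] (T : Subgroup G) :
    inducedFunctor (G := G) ZJt T = centerThompsonAOf T := by
  unfold inducedFunctor ZJt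
  rw [centerThompsonAOf_eq, ← ZJ_map_of_injOn T.subtype (U := ⊤)
    (fun x _ hx => T.subtype_injective (by rw [hx, map_one]))]
  congr 1
  rw [← MonoidHom.range_eq_map, Subgroup.range_subtype]

theorem ZJt_char (p : ℕ) [hp : Fact p.Prime] : IsCharPFunctor.{u} p ZJt := by
  constructor
  · intro Q _ _ hQ hnt h
    have h1 := center_le_ZJ (⊤ : Subgroup Q)
    have h2 : Subgroup.center Q ≤ (⊤ : Subgroup Q) ⊓ Subgroup.centralizer ((⊤ : Subgroup Q) : Set Q) := by
      rw [Subgroup.coe_top, Subgroup.centralizer_univ]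
      exact le_inf le_top le_rfl
    have h3 : Subgroup.center Q ≤ ⊥ := (h2.trans h1).trans (le_of_eq h)
    have h4 := hQ.bot_lt_center
    exact absurd (le_antisymm h3 bot_le) h4.ne'
  · intro Q R _ _ _ hQ φ
    show (ZJ (⊤ : Subgroup Q)).map φ.toMonoidHom = ZJ (⊤ : Subgroup R)
    rw [← ZJ_map_of_injOn φ.toMonoidHom (U := ⊤)
      (fun x _ hx => φ.injective (by rw [MulEquiv.coe_toMonoidHom] at hx; rw [hx, map_one]))]
    congr 1
    exact Subgroup.map_top_of_surjective _ φ.surjective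

theorem hNonNormal_ZJt {p : ℕ} [hp : Fact p.Prime] (hp2 : p ≠ 2) :
    Cfsg.Agent.Lib.Helper11.KInfGlue.HNonNormal.{u} p ZJt := by
  intro Y _ _ T hnn hc
  by_contra hall
  push Not at hall
  have hnps : IsNormalizerPStable p Y :=
    Cfsg.Agent.Lib.Helper1.KStab.nps_self (fun N hN => hall N hN)
  apply hnn
  rw [induced_ZJt, centerThompsonAOf_eq]
  exact ZJ_normal hp2 hc
    (fun P _ hP => Cfsg.Agent.Lib.Lead.GlaubermanZJD.isPStableOn_of_normalizerPStable hnps P hP) T

end Cfsg.Agent.Lib.Helper1.QdConv
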