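import Mathlib
import Cfsg.Prelude.Def_LocalEven
import Cfsg.Prelude.Def_PLocal
import Cfsg.Prelude.Def_ConjugacyFunctors
import Cfsg.Agent.Lib.Helper1.QdConverseNPS
import Cfsg.Agent.Lib.Helper1.QdConverseFusion
import Cfsg.Agent.Lib.Helper1.QdConverseZJ
import Cfsg.Agent.Lib.Helper1.KInfStableNormal

/-!
Assembly of the `Qd(p)`-free characterisations (S2795, S2794, S1989) from the single input
`QdFreeNPS`: "Qd(p) not involved ⇒ every section is p-stable in the normalizer form".  (helper1)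
-/

set_option autoImplicit false

universe u

namespace Cfsg.Agent.Lib.Helper1.QdConv

open Cfsg
open Cfsg.Agent.S2005 (IsSec)

/-- the hub input: `Qd(p)`-free groups have all sections `p`-stable (normalizer form) -/
def QdFreeNPS (p : ℕ) : Prop :=
  ∀ (G : Type u) [Group G] [Finite G], ¬ Involves ↥(qd p) G →
    ∀ (K R : Subgroup G) [_hR : (R.subgroupOf K).Normal],
      IsNormalizerPStable p (↥K ⧸ R.subgroupOf K)

variable {p : ℕ} [hp : Fact p.Prime]

/-- sections of a section are sections -/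
theorem sections_nps_of_section {G : Type u} [Group G] [Finite G]
    (hst : ∀ (K R : Subgroup G) [_hR : (R.subgroupOf K).Normal],
      IsNormalizerPStable p (↥K ⧸ R.subgroupOf K))
    (K R : Subgroup G) [hR : (R.subgroupOf K).Normal]
    (K' R' : Subgroup (↥K ⧸ R.subgroupOf K)) [hR' : (R'.subgroupOf K').Normal] :
    IsNormalizerPStable p (↥K' ⧸ R'.subgroupOf K') := by
  apply Cfsg.Agent.Lib.Helper11.NPSIso.nps_of_isSec hst
  apply IsSec.of_subgroup K
  apply IsSec.of_quotient (R.subgroupOf K)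
  apply IsSec.of_subgroup K'
  apply IsSec.of_quotient (R'.subgroupOf K')
  exact IsSec.refl _

theorem s2795_of (h : QdFreeNPS.{u} p) (hp2 : p ≠ 2) {G : Type u} [Group G] [Finite G] :
    ¬ Involves ↥(qd p) G ↔ ∀ (K R : Subgroup G) [_hR : (R.subgroupOf K).Normal],
      IsNormalizerPStable p (↥K ⧸ R.subgroupOf K) := by
  constructor
  · intro hqd
    exact h G hqd
  · intro hall hinv
    obtain ⟨K, R, hR, ⟨e⟩⟩ := hinv
    exact not_nps_of_equiv_qd hp2 e (hall K R)

/-- generic version for an isomorphism-invariant functor satisfying `HNonNormal` -/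
theorem controls_iff_of (h : QdFreeNPS.{u} p) (hp2 : p ≠ 2)
    (W : ∀ (Q : Type u) [Group Q], Subgroup Q) (hW : IsCharPFunctor.{u} p W)
    (hWn : Cfsg.Agent.Lib.Helper11.KInfGlue.HNonNormal.{u} p W)
    {G : Type u} [Group G] [Finite G] :
    ¬ Involves ↥(qd p) G ↔ ∀ (K R : Subgroup G) [_hR : (R.subgroupOf K).Normal],
      ∀ T : Sylow p (↥K ⧸ R.subgroupOf K),
        ControlsStrongFusion p (inducedFunctor (G := (↥K ⧸ R.subgroupOf K)) W
          (T : Subgroup (↥K ⧸ R.subgroupOf K))) := by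
  constructor
  · intro hqd K R hR T
    have hst := h G hqd
    exact Cfsg.Agent.Lib.Helper11.KInfGlue.controls_of_nps hW hWn
      (fun K' R' hR' => sections_nps_of_section hst K R K' R') T
  · intro hall hinv
    obtain ⟨K, R, hR, ⟨e⟩⟩ := hinv
    have T : Sylow p (↥K ⧸ R.subgroupOf K) := default
    exact not_controls_of_equiv_qd hp2 e W hW T (hall K R T)

theorem s1989_of (h : QdFreeNPS.{u} p) (hp2 : p ≠ 2) {G : Type u} [Group G] [Finite G] :
    ¬ Involves ↥(qd p) G ↔ ∀ (K R : Subgroup G) [_hR : (R.subgroupOf K).Normal],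
      ∀ T : Sylow p (↥K ⧸ R.subgroupOf K),
        ControlsStrongFusion p (inducedFunctor (G := (↥K ⧸ R.subgroupOf K)) kInfLower
          (T : Subgroup (↥K ⧸ R.subgroupOf K))) :=
  controls_iff_of h hp2 kInfLower Cfsg.Agent.Lib.Helper1.KInfC.isCharPFunctor_kInfLower
    Cfsg.Agent.Lib.Helper1.KStab.hNonNormal_lower

theorem s1989_upper_of (h : QdFreeNPS.{u} p) (hp2 : p ≠ 2) {G : Type u} [Group G] [Finite G] :
    ¬ Involves ↥(qd p) G ↔ ∀ (K R : Subgroup G) [_hR : (R.subgroupOf K).Normal],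
      ∀ T : Sylow p (↥K ⧸ R.subgroupOf K),
        ControlsStrongFusion p (inducedFunctor (G := (↥K ⧸ R.subgroupOf K)) kInfUpper
          (T : Subgroup (↥K ⧸ R.subgroupOf K))) :=
  controls_iff_of h hp2 kInfUpper Cfsg.Agent.Lib.Helper1.KInfC.isCharPFunctor_kInfUpper
    Cfsg.Agent.Lib.Helper1.KStab.hNonNormal_upper

theorem s2794_of (h : QdFreeNPS.{u} p) (hp2 : p ≠ 2) {G : Type u} [Group G] [Finite G] :
    ¬ Involves ↥(qd p) G ↔ ∀ (K R : Subgroup G) [_hR : (R.subgroupOf K).Normal],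
      ∀ T : Sylow p (↥K ⧸ R.subgroupOf K),
        ControlsStrongFusion p (centerThompsonAOf (T : Subgroup (↥K ⧸ R.subgroupOf K))) := by
  have h1 := controls_iff_of h hp2 ZJt (ZJt_char p) (hNonNormal_ZJt hp2) (G := G)
  rw [h1]
  constructor
  · intro hall K R hR T
    rw [← induced_ZJt]; exact hall K R T
  · intro hall K R hR T
    rw [induced_ZJt]; exact hall K R T

end Cfsg.Agent.Lib.Helper1.QdConv

namespace Cfsg.Agent.Lib.Helper1.QdConv

open Cfsg
open Cfsg.Agent.S2005 (IsSec)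

/-- Glauberman's ZJ-theorem in its `Qd(p)`-free form (S0664), from the hub input -/
theorem s0664_of {p : ℕ} [hp : Fact p.Prime] (h : QdFreeNPS.{u} p) (hp2 : p ≠ 2)
    {G : Type u} [Group G] [Finite G]
    (hfree : ¬ ∃ (K R : Subgroup G) (_hR : (R.subgroupOf K).Normal),
      Nonempty ((↥K ⧸ R.subgroupOf K) ≃* ↥(qd p)))
    (hc : Subgroup.centralizer (pCore p G : Set G) ≤ pCore p G) (S : Sylow p G) :
    (centerThompsonAOf ((S : Subgroup G))).Normal := by
  have hst := h G hfree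
  have hnps : IsNormalizerPStable p G :=
    Cfsg.Agent.Lib.Helper11.NPSIso.nps_of_isSec hst G (IsSec.refl G)
  rw [Cfsg.Agent.Lib.Lead.GlaubermanZJ.centerThompsonAOf_eq]
  exact Cfsg.Agent.Lib.Lead.GlaubermanZJ.ZJ_normal hp2 hc
    (fun P _ hP => Cfsg.Agent.Lib.Lead.GlaubermanZJD.isPStableOn_of_normalizerPStable hnps P hP) S

end Cfsg.Agent.Lib.Helper1.QdConv
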