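import Mathlib
import Cfsg.Prelude.Def_PLocal
import Cfsg.Prelude.Def_LocalEven
import Cfsg.Agent.Lib.Lead.QuadNatE
import Cfsg.Agent.Lib.Lead.BaerSuzuki
import Cfsg.Agent.Lib.Helper15.QdSection
import Cfsg.Agent.Lib.Helper15.QuadInternal
import Cfsg.Agent.Lib.Helper11.QuadFree
import Cfsg.Agent.Lib.Helper16.PCore
import Cfsg.Agent.Lib.Helper11.QuadFree2

/-!
# `Qd(p)`-free groups are `p`-stable in the normalizer form (`p` odd)  (helper1)

Glue of lead's `QuadNatural.main` (natural plane), helper15's `QdSection.involves_qd`,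
`QuadInternal` pattern and Baer–Suzuki.
-/

set_option autoImplicit false

namespace Cfsg.Agent.Lib.Helper1.QdFree

open Cfsg Module
open Cfsg.Agent.Lib.Helper15.QuadChain Cfsg.Agent.Lib.Helper15.QuadCore
open Cfsg.Agent.Lib.Helper15.QuadInternal Cfsg.Agent.Lib.Helper15.QdSection

section Element

theorem le_normalizer_of_conj {G : Type*} [Group G] {A P : Subgroup G}
    (h : ∀ a ∈ A, ∀ x ∈ P, a * x * a⁻¹ ∈ P) : A ≤ Subgroup.normalizer (P : Set G) := by
  intro a ha
  rw [Subgroup.mem_normalizer_iff]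
  intro x
  constructor
  · exact h a ha x
  · intro hx
    have := h a⁻¹ (Subgroup.inv_mem _ ha) _ hx
    have e : a⁻¹ * (a * x * a⁻¹) * a⁻¹⁻¹ = x := by group
    rwa [e] at this

/-- Baer–Suzuki step with the pair hypothesis abstracted (after helper15's `core_element`). -/
theorem core_element_of_pairs (p : ℕ) [Fact p.Prime] {K : Type*} [Field K]
    {G : Type*} [Group G] [Finite G]
    {V : Type*} [AddCommGroup V] [Module K V] (ρ : Representation K G V)
    (hpairs : ∀ x y : G, (ρ x - 1) * (ρ x - 1) = 0 → (ρ y - 1) * (ρ y - 1) = 0 →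
      ∀ g ∈ Subgroup.closure {x, y}, ∃ k : ℕ, g ^ p ^ k ∈ ρ.ker) (a : G)
    (ha : (ρ a - 1) * (ρ a - 1) = 0) :
    ∃ D : Subgroup G, D.Normal ∧ ρ.ker ≤ D ∧ a ∈ D ∧ ∀ d ∈ D, ∃ k : ℕ, d ^ p ^ k ∈ ρ.ker := by
  let π := QuotientGroup.mk' ρ.ker
  let S : Set (G ⧸ ρ.ker) := {z | ∃ g : G, z = π (g * a * g⁻¹)}
  have hS : ∀ g x, x ∈ S → g * x * g⁻¹ ∈ S := by
    rintro g _ ⟨h, rfl⟩
    obtain ⟨g', rfl⟩ := QuotientGroup.mk'_surjective ρ.ker g
    refine ⟨g' * h, ?_⟩
    rw [← map_inv, ← map_mul, ← map_mul]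
    congr 1
    group
  have hpair : ∀ x ∈ S, ∀ y ∈ S, IsPGroup p (Subgroup.closure ({x, y} : Set (G ⧸ ρ.ker))) := by
    rintro _ ⟨g, rfl⟩ _ ⟨h, rfl⟩
    have h1 := hpairs _ _ (quad_conj ρ a g ha) (quad_conj ρ a h ha)
    have h2 : Subgroup.closure ({π (g * a * g⁻¹), π (h * a * h⁻¹)} : Set (G ⧸ ρ.ker)) =
        (Subgroup.closure {g * a * g⁻¹, h * a * h⁻¹}).map π := by
      rw [MonoidHom.map_closure, Set.image_pair]
    rw [h2]
    rintro ⟨_, z, hz, rfl⟩
    obtain ⟨k, hk⟩ := h1 z hz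
    refine ⟨k, Subtype.ext ?_⟩
    rw [Subgroup.coe_pow, Subgroup.coe_one]
    change π z ^ p ^ k = 1
    rw [← map_pow]
    exact (QuotientGroup.eq_one_iff _).2 hk
  obtain ⟨hn, hpg⟩ := Cfsg.Agent.Lib.Lead.baer_suzuki_closure S hS hpair
  refine ⟨(Subgroup.closure S).comap π, ?_, ?_, ?_, ?_⟩
  · exact hn.comap π
  · intro g hg
    rw [Subgroup.mem_comap]
    have : π g = 1 := (QuotientGroup.eq_one_iff _).2 hg
    rw [this]
    exact Subgroup.one_mem _
  · rw [Subgroup.mem_comap]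
    apply Subgroup.subset_closure
    exact ⟨1, by simp⟩
  · intro d hd
    rw [Subgroup.mem_comap] at hd
    obtain ⟨k, hk⟩ := hpg ⟨π d, hd⟩
    refine ⟨k, ?_⟩
    have h1 := congrArg Subtype.val hk
    rw [Subgroup.coe_pow, Subgroup.coe_one] at h1
    change π d ^ p ^ k = 1 at h1
    rw [← map_pow] at h1
    exact (QuotientGroup.eq_one_iff _).1 h1

end Element

section MulAutForm

open Subgroup

variable {G : Type*} [Group G] [Finite G] (p : ℕ) [hp : Fact p.Prime]

/-- the pair statement for a `Qd(p)`-free group: `A` an elementary abelian quotient of a normal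
`p`-subgroup `K` of `G`, with the induced action. -/
theorem pairs_qd {A : Type*} [CommGroup A] [Finite A] [Module (ZMod p) (Additive A)]
    (hp2 : p ≠ 2) (θ : G →* MulAut A) (K : Subgroup G) [hKn : K.Normal] (hKp : IsPGroup p K)
    (π : K →* A) (hπs : Function.Surjective π)
    (hπθ : ∀ (g : G) (z : K), θ g (π z) = π ⟨g * z * g⁻¹, hKn.conj_mem _ z.2 _⟩)
    (hfree : ¬ Cfsg.Involves ↥(Cfsg.qd p) G) (x y : G)
    (hx : (linRep p θ x - 1) * (linRep p θ x - 1) = 0)
    (hy : (linRep p θ y - 1) * (linRep p θ y - 1) = 0) :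
    ∀ g ∈ Subgroup.closure {x, y}, ∃ k : ℕ, g ^ p ^ k ∈ (linRep p θ).ker := by
  by_contra hnp
  obtain ⟨K₀, θ₀, e, -, hθ₀, he, hequiv⟩ :=
    Cfsg.Agent.Lib.Lead.QuadNatural.main p hp2 (linRep p θ) x y hx hy hnp
  apply hfree
  -- the preimage of the plane
  let P₁' : Subgroup K :=
    { carrier := {z | Additive.ofMul (π z) ∈ LinearMap.range e}
      one_mem' := by
        show Additive.ofMul (π 1) ∈ LinearMap.range e
        rw [map_one]; exact (LinearMap.range e).zero_mem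
      mul_mem' := by
        intro z w hz hw
        show Additive.ofMul (π (z * w)) ∈ LinearMap.range e
        rw [map_mul]; exact (LinearMap.range e).add_mem hz hw
      inv_mem' := by
        intro z hz
        show Additive.ofMul (π z⁻¹) ∈ LinearMap.range e
        rw [map_inv]; exact (LinearMap.range e).neg_mem hz }
  let r : P₁' → (Fin 2 → ZMod p) := fun z =>
    (LinearEquiv.ofInjective e he).symm ⟨Additive.ofMul (π z), z.2⟩
  have hr : ∀ z : P₁', e (r z) = Additive.ofMul (π z) := by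
    intro z
    have := (LinearEquiv.ofInjective e he).apply_symm_apply ⟨Additive.ofMul (π z), z.2⟩
    exact congrArg Subtype.val this
  have hruniq : ∀ (z : P₁') (u : Fin 2 → ZMod p), e u = Additive.ofMul (π z) → r z = u :=
    fun z u h => he ((hr z).trans h.symm)
  let e'' : P₁' →* Multiplicative (Fin 2 → ZMod p) :=
    { toFun := fun z => Multiplicative.ofAdd (r z)
      map_one' := by
        show Multiplicative.ofAdd (r 1) = 1
        rw [hruniq 1 0 (by rw [map_zero]; show (0 : Additive A) = Additive.ofMul (π 1);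
                           rw [map_one]; rfl)]; rfl
      map_mul' := fun z w => by
        show Multiplicative.ofAdd (r (z * w)) = Multiplicative.ofAdd (r z) * Multiplicative.ofAdd (r w)
        rw [hruniq (z * w) (r z + r w) (by
          rw [map_add, hr, hr]
          show Additive.ofMul (π z) + Additive.ofMul (π w) = Additive.ofMul (π ((z * w : P₁') : K))
          rw [Subgroup.coe_mul, map_mul]; rfl)]; rfl }
  set P₁ : Subgroup G := P₁'.map K.subtype with hP₁
  let φ : P₁' ≃* P₁ := P₁'.equivMapOfInjective K.subtype K.subtype_injective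
  have hφ : ∀ z : P₁', ((φ z : P₁) : G) = ((z : K) : G) := fun z => rfl
  have hφsymm : ∀ y : P₁, (((φ.symm y : P₁') : K) : G) = (y : G) := by
    intro y
    have := hφ (φ.symm y)
    rw [φ.apply_symm_apply] at this
    exact this.symm
  -- conjugation by `K₀`
  have hconj : ∀ (k : K₀) (z : P₁'),
      ∃ hc : (⟨(k : G) * ((z : K) : G) * (k : G)⁻¹, hKn.conj_mem _ (z : K).2 _⟩ : K) ∈ P₁',
        r ⟨_, hc⟩ = ((θ₀ k : Matrix (Fin 2) (Fin 2) (ZMod p))).mulVec (r z) := by
    intro k z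
    have h1 : Additive.ofMul (π ⟨(k : G) * ((z : K) : G) * (k : G)⁻¹,
        hKn.conj_mem _ (z : K).2 _⟩) =
        e (((θ₀ k : Matrix (Fin 2) (Fin 2) (ZMod p))).mulVec (r z)) := by
      rw [← hequiv k (r z), hr z, linRep_apply, ← hπθ]
      rfl
    refine ⟨⟨_, h1.symm⟩, ?_⟩
    exact hruniq _ _ h1.symm
  have hK₀N : K₀ ≤ Subgroup.normalizer (P₁ : Set G) := by
    apply le_normalizer_of_conj
    rintro k hk _ ⟨z, hz, rfl⟩
    obtain ⟨hc, -⟩ := hconj ⟨k, hk⟩ ⟨z, hz⟩
    exact ⟨_, hc, rfl⟩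
  refine involves_qd hp2 P₁ K₀ (hKp.to_le (Subgroup.map_subtype_le _)) hK₀N
    (e''.comp φ.symm.toMonoidHom) ?_ θ₀ hθ₀ ?_
  · -- surjectivity
    intro m
    obtain ⟨z, hz⟩ := hπs (Additive.toMul (e (Multiplicative.toAdd m)))
    have hzP : z ∈ P₁' := by
      show Additive.ofMul (π z) ∈ LinearMap.range e
      rw [hz]
      exact ⟨_, rfl⟩
    refine ⟨φ ⟨z, hzP⟩, ?_⟩
    show Multiplicative.ofAdd (r (φ.symm (φ ⟨z, hzP⟩))) = m
    rw [φ.symm_apply_apply, hruniq ⟨z, hzP⟩ (Multiplicative.toAdd m) (by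
      show e (Multiplicative.toAdd m) = Additive.ofMul (π z)
      rw [hz]; rfl)]
    rfl
  · -- equivariance
    intro k y
    show r (φ.symm (conjAct P₁ K₀ hK₀N k y)) =
      ((θ₀ k : Matrix (Fin 2) (Fin 2) (ZMod p))).mulVec (r (φ.symm y))
    obtain ⟨hc, hrc⟩ := hconj k (φ.symm y)
    rw [← hrc]
    congr 1
    apply Subtype.ext
    apply Subtype.ext
    rw [hφsymm, conjAct_apply, ← hφsymm y]

theorem core_mulAut_qd {A : Type*} [CommGroup A] [Finite A]
    (hp2 : p ≠ 2) (hexp : ∀ a : A, a ^ p = 1) (θ : G →* MulAut A)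
    (K : Subgroup G) [hKn : K.Normal] (hKp : IsPGroup p K)
    (π : K →* A) (hπs : Function.Surjective π)
    (hπθ : ∀ (g : G) (z : K), θ g (π z) = π ⟨g * z * g⁻¹, hKn.conj_mem _ z.2 _⟩)
    (hfree : ¬ Cfsg.Involves ↥(Cfsg.qd p) G) (a : G)
    (ha : ∀ v : A, θ a (θ a v / v) = θ a v / v) :
    ∃ D : Subgroup G, D.Normal ∧ θ.ker ≤ D ∧ a ∈ D ∧ ∀ d ∈ D, ∃ k : ℕ, d ^ p ^ k ∈ θ.ker := by
  let inst : Module (ZMod p) (Additive A) := AddCommGroup.zmodModule (by
    intro x
    exact congrArg Additive.ofMul (hexp x.toMul))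
  have := @core_element_of_pairs p _ (ZMod p) _ G _ _ (Additive A) _ inst (linRep p θ)
    (fun x y hx hy => @pairs_qd G _ _ p _ A _ _ inst hp2 θ K hKn hKp π hπs hπθ hfree x y hx hy) a
    (linRep_quad p θ a ha)
  rwa [linRep_ker] at this

end MulAutForm

section Internal

open Subgroup
open scoped commutatorElement

variable {G : Type*} [Group G] [Finite G] (p : ℕ) [hp : Fact p.Prime]

open Cfsg.Agent.Lib.Helper3 in
/-- **Core theorem, section form, `Qd(p)`-free version.** `N ≤ K` normal in `G`, `K` a `p`-group with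
`K / N` elementary abelian, `a` quadratic on `K / N`, `Qd(p)` not involved in `G`. -/
theorem core_section_qd (hp2 : p ≠ 2) (K N : Subgroup G) [hKn : K.Normal] [hNn : N.Normal]
    (hKp : IsPGroup p K) (hcomm : ⁅K, K⁆ ≤ N) (hexp : ∀ x ∈ K, x ^ p ∈ N)
    (hfree : ¬ Cfsg.Involves ↥(Cfsg.qd p) G) (a : G)
    (hq : ⁅⁅K, zpowers a⁆, zpowers a⁆ ≤ N) :
    ∃ D : Subgroup G, D.Normal ∧ (quotAct N K).ker ≤ D ∧ a ∈ D ∧
      ∀ d ∈ D, ∃ k : ℕ, d ^ p ^ k ∈ (quotAct N K).ker := by
  letI : CommGroup (K ⧸ N.subgroupOf K) :=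
    { (inferInstance : Group (K ⧸ N.subgroupOf K)) with
      mul_comm := by
        intro x y
        induction x using QuotientGroup.induction_on with
        | H x =>
        induction y using QuotientGroup.induction_on with
        | H y =>
        rw [← QuotientGroup.mk_mul, ← QuotientGroup.mk_mul, QuotientGroup.eq, mem_subgroupOf]
        have h1 : ⁅((y : G))⁻¹, ((x : G))⁻¹⁆ ∈ ⁅K, K⁆ :=
          Subgroup.commutator_mem_commutator (K.inv_mem y.2) (K.inv_mem x.2)
        have h2 : (((x * y)⁻¹ * (y * x) : K) : G) = ⁅((y : G))⁻¹, ((x : G))⁻¹⁆ := by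
          rw [commutatorElement_def]
          simp [mul_assoc]
        rw [h2]
        exact hcomm h1 }
  have hexp' : ∀ v : K ⧸ N.subgroupOf K, v ^ p = 1 := by
    intro v
    induction v using QuotientGroup.induction_on with
    | H x =>
    rw [← QuotientGroup.mk_pow, QuotientGroup.eq_one_iff, mem_subgroupOf]
    simpa using hexp x x.2
  have ha : ∀ v : K ⧸ N.subgroupOf K,
      quotAct N K a (quotAct N K a v / v) = quotAct N K a v / v := by
    intro v
    induction v using QuotientGroup.induction_on with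
    | H x =>
    obtain ⟨x, hx⟩ := x
    have hw : a * x * a⁻¹ * x⁻¹ ∈ K :=
      K.mul_mem (hKn.conj_mem x hx a) (K.inv_mem hx)
    have h1 : quotAct N K a (QuotientGroup.mk ⟨x, hx⟩) / (QuotientGroup.mk ⟨x, hx⟩)
        = (QuotientGroup.mk (⟨a * x * a⁻¹ * x⁻¹, hw⟩ : K) : K ⧸ N.subgroupOf K) := by
      rw [quotAct_mk', div_eq_mul_inv, ← QuotientGroup.mk_inv, ← QuotientGroup.mk_mul]
      rfl
    rw [h1, quotAct_mk', QuotientGroup.eq, mem_subgroupOf]
    have hw1 : a * x * a⁻¹ * x⁻¹ ∈ ⁅K, zpowers a⁆ := by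
      rw [Subgroup.commutator_comm]
      exact Subgroup.commutator_mem_commutator (mem_zpowers a) hx
    have h2 : ⁅a, (a * x * a⁻¹ * x⁻¹)⁻¹⁆ ∈ ⁅⁅K, zpowers a⁆, zpowers a⁆ := by
      rw [Subgroup.commutator_comm]
      exact Subgroup.commutator_mem_commutator (mem_zpowers a) (Subgroup.inv_mem _ hw1)
    have h3 : (((⟨a * (a * x * a⁻¹ * x⁻¹) * a⁻¹, hKn.conj_mem _ hw a⟩ : K)⁻¹ *
        ⟨a * x * a⁻¹ * x⁻¹, hw⟩ : K) : G) = ⁅a, (a * x * a⁻¹ * x⁻¹)⁻¹⁆ := by
      rw [commutatorElement_def]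
      simp [mul_assoc]
    rw [h3]
    exact hq h2
  exact core_mulAut_qd p hp2 hexp' (quotAct N K) K hKp (QuotientGroup.mk' (N.subgroupOf K))
    (QuotientGroup.mk'_surjective _) (fun g z => quotAct_mk' N K g z.1 z.2) hfree a ha

open Cfsg.Agent.Lib.Helper3 in
/-- **Core theorem, `p`-group form, `Qd(p)`-free version.** -/
theorem core_pgroup_qd (hp2 : p ≠ 2) (P : Subgroup G) [hPn : P.Normal] (hP : IsPGroup p P)
    (hfree : ¬ Cfsg.Involves ↥(Cfsg.qd p) G) (a : G)
    (hq : ⁅⁅P, zpowers a⁆, zpowers a⁆ = ⊥) :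
    ∃ D : Subgroup G, D.Normal ∧ centralizer (P : Set G) ≤ D ∧ a ∈ D ∧
      ∀ d ∈ D, ∃ k : ℕ, d ^ p ^ k ∈ centralizer (P : Set G) := by
  set N : Subgroup G := (frattini ↥P).map P.subtype with hN
  haveI hNn : N.Normal := ConjAct.normal_of_characteristic_of_normal
  have hcomm : ⁅P, P⁆ ≤ N := by
    have h1 := Cfsg.Agent.Lib.Helper14.commutator_le_frattini_of_isPGroup' hP
    have h2 : ⁅P, P⁆ = (commutator ↥P).map P.subtype := by
      rw [commutator_def, Subgroup.map_commutator, ← MonoidHom.range_eq_map,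
        Subgroup.range_subtype]
    rw [h2]
    exact Subgroup.map_mono h1
  have hexp : ∀ x ∈ P, x ^ p ∈ N := by
    intro x hx
    exact ⟨⟨x, hx⟩ ^ p, Cfsg.Agent.Lib.Helper14.pow_mem_frattini_of_isPGroup' hP ⟨x, hx⟩, rfl⟩
  obtain ⟨D, hDn, hD1, hD2, hD3⟩ := core_section_qd p hp2 P N hP hcomm hexp hfree a (hq ▸ bot_le)
  have hC1 : centralizer (P : Set G) ≤ (quotAct N P).ker := by
    intro g hg
    rw [MonoidHom.mem_ker, quotAct_eq_one_iff]
    intro x hx
    have := mem_centralizer_iff.1 hg x hx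
    have h1 : g * x * g⁻¹ * x⁻¹ = 1 := by rw [← this]; group
    rw [h1]; exact N.one_mem
  have hC2 : ∀ g ∈ (quotAct N P).ker, ∃ j : ℕ, g ^ p ^ j ∈ centralizer (P : Set G) := by
    intro g hg
    rw [MonoidHom.mem_ker, quotAct_eq_one_iff] at hg
    have hα : (MulAut.conjNormal g : MulAut P) ∈ trivOnFrattiniQuot ↥P := by
      intro x
      obtain ⟨y, hy, hyx⟩ := hg x x.2
      have : y = (MulAut.conjNormal g : MulAut P) x * x⁻¹ := by
        apply Subtype.ext
        have hyx' : (y : G) = g * x * g⁻¹ * (x : G)⁻¹ := hyx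
        rw [hyx']
        simp [MulAut.conjNormal_apply]
      rw [← this]
      exact hy
    obtain ⟨j, hj⟩ := exists_pow_eq_one_of_trivOnFrattiniQuot hP _ hα
    refine ⟨j, ?_⟩
    rw [← map_pow] at hj
    rw [mem_centralizer_iff]
    intro x hx
    have := congrArg (fun β : MulAut P => ((β ⟨x, hx⟩ : P) : G)) hj
    simp only [MulAut.conjNormal_apply, MulAut.one_apply] at this
    have h2 : g ^ p ^ j * x = x * g ^ p ^ j := by
      have := congrArg (· * g ^ p ^ j) this
      simpa using this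
    exact h2.symm
  refine ⟨D, hDn, hC1.trans hD1, hD2, ?_⟩
  intro d hd
  obtain ⟨k, hk⟩ := hD3 d hd
  obtain ⟨j, hj⟩ := hC2 _ hk
  exact ⟨k + j, by rwa [pow_add, pow_mul]⟩

end Internal

section Transfer

open Cfsg.Agent.Lib.Helper11.QuadFree

theorem qdFree_subgroup {p : ℕ} {G : Type*} [Group G] (h : ¬ Cfsg.Involves ↥(Cfsg.qd p) G)
    (L : Subgroup G) : ¬ Cfsg.Involves ↥(Cfsg.qd p) L :=
  fun hL => h (involves_of_subgroup L hL)

theorem qdFree_of_surjective {p : ℕ} {A B : Type*} [Group A] [Group B] (f : A →* B)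
    (hf : Function.Surjective f) (h : ¬ Cfsg.Involves ↥(Cfsg.qd p) A) :
    ¬ Cfsg.Involves ↥(Cfsg.qd p) B :=
  fun hB => h (involves_of_surjective_hom f hf hB)

/-- sections of `Qd(p)`-free groups are `Qd(p)`-free -/
theorem qdFree_section {p : ℕ} {G : Type*} [Group G] (h : ¬ Cfsg.Involves ↥(Cfsg.qd p) G)
    (K R : Subgroup G) [hR : (R.subgroupOf K).Normal] :
    ¬ Cfsg.Involves ↥(Cfsg.qd p) (K ⧸ R.subgroupOf K) :=
  qdFree_of_surjective (QuotientGroup.mk' (R.subgroupOf K)) (QuotientGroup.mk'_surjective _)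
    (qdFree_subgroup h K)

end Transfer

section NormalizerForm

variable {Y : Type*} [Group Y] [Finite Y] {p : ℕ} [hp : Fact p.Prime]

/-- normalizer form: if `N_Y(P)` is `Qd(p)`-free then quadratic elements of `N_Y(P)` lie in
`O_p(N_Y(P) / C_Y(P))`. -/
theorem mem_pCore_of_quad_qd (hp2 : p ≠ 2) (P : Subgroup Y) (hP : IsPGroup p P)
    (hfree : ¬ Cfsg.Involves ↥(Cfsg.qd p) ↥(Subgroup.normalizer (P : Set Y)))
    (g : Y) (hg : g ∈ Subgroup.normalizer (P : Set Y))
    (hq : ⁅⁅P, Subgroup.zpowers g⁆, Subgroup.zpowers g⁆ = ⊥) :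
    (QuotientGroup.mk (s := (Subgroup.centralizer (P : Set Y)).subgroupOf
        (Subgroup.normalizer (P : Set Y))) (⟨g, hg⟩ : ↥(Subgroup.normalizer (P : Set Y)))) ∈
      Cfsg.pCore p (↥(Subgroup.normalizer (P : Set Y)) ⧸
        (Subgroup.centralizer (P : Set Y)).subgroupOf (Subgroup.normalizer (P : Set Y))) := by
  set X := Subgroup.normalizer (P : Set Y) with hX
  set Q : Subgroup ↥X := P.subgroupOf X with hQ
  haveI hQn : Q.Normal := Subgroup.normal_subgroupOf_of_le_normalizer le_rfl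
  have hPX : P ≤ X := Subgroup.le_normalizer
  have hQp : IsPGroup p Q := hP.of_equiv (Subgroup.subgroupOfEquivOfLe hPX).symm
  have hq' : ⁅⁅Q, Subgroup.zpowers (⟨g, hg⟩ : ↥X)⁆, Subgroup.zpowers (⟨g, hg⟩ : ↥X)⁆ = ⊥ := by
    apply Subgroup.map_injective X.subtype_injective
    rw [Subgroup.map_commutator, Subgroup.map_commutator, MonoidHom.map_zpowers, Subgroup.map_bot,
      hQ, Subgroup.map_subgroupOf_eq_of_le hPX]
    exact hq
  obtain ⟨D, hDn, -, hgD, hD⟩ := core_pgroup_qd p hp2 Q hQp hfree ⟨g, hg⟩ hq'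
  set C' := (Subgroup.centralizer (P : Set Y)).subgroupOf X with hC'
  haveI hC'n : C'.Normal :=
    Subgroup.normal_subgroupOf_of_le_normalizer
      (Cfsg.Agent.Lib.Helper11.AG.normalizer_le_normalizer_centralizer P)
  have hmem : (QuotientGroup.mk' C') ⟨g, hg⟩ ∈ D.map (QuotientGroup.mk' C') := ⟨_, hgD, rfl⟩
  have hle : D.map (QuotientGroup.mk' C') ≤ Cfsg.pCore p (↥X ⧸ C') := by
    apply Cfsg.Agent.Lib.Helper2.le_pCore
    · exact hDn.map _ (QuotientGroup.mk'_surjective _)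
    · rintro ⟨_, d, hd, rfl⟩
      obtain ⟨k, hk⟩ := hD d hd
      refine ⟨k, Subtype.ext ?_⟩
      rw [Subgroup.coe_pow, Subgroup.coe_one]
      change (QuotientGroup.mk' C' d) ^ p ^ k = 1
      rw [← map_pow, QuotientGroup.mk'_apply, QuotientGroup.eq_one_iff, hC',
        Subgroup.mem_subgroupOf, Subgroup.mem_centralizer_iff]
      intro x hx
      have := Subgroup.mem_centralizer_iff.mp hk ⟨x, hPX hx⟩ (Subgroup.mem_subgroupOf.mpr hx)
      have := congrArg Subtype.val this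
      simpa using this
  exact hle hmem

/-- **`Qd(p)`-free groups are `p`-stable in the normalizer form** (`p` odd). -/
theorem nps_of_qdFree (hp2 : p ≠ 2) (hfree : ¬ Cfsg.Involves ↥(Cfsg.qd p) Y) :
    Cfsg.IsNormalizerPStable p Y := by
  intro P hP g hg hq
  exact mem_pCore_of_quad_qd hp2 P hP (qdFree_subgroup hfree _) g hg hq

end NormalizerForm

end Cfsg.Agent.Lib.Helper1.QdFree
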