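import Mathlib
import Cfsg.Agent.Lib.Helper1.QdFreeStable
import Cfsg.Agent.Lib.Helper1.QdConverseAssembly

/-!
# `QdFreeNPS` holds for odd `p` (helper1)
-/

set_option autoImplicit false

universe u

namespace Cfsg.Agent.Lib.Helper1.QdFree

open Cfsg

/-- the hub input of `QdConverseAssembly`: every section of a `Qd(p)`-free group is `p`-stable in
the normalizer form (`p` odd). -/
theorem qdFreeNPS (p : ℕ) [hp : Fact p.Prime] (hp2 : p ≠ 2) :
    Cfsg.Agent.Lib.Helper1.QdConv.QdFreeNPS.{u} p := by
  intro G _ _ hfree K R hR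
  exact nps_of_qdFree hp2 (qdFree_section hfree K R)

end Cfsg.Agent.Lib.Helper1.QdFree
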