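import Cfsg.Agent.Lib.Helper12.C2

/-!
`2 × 2` matrix facts for S5997 (helper1): Cayley–Hamilton, commutants of non-scalar matrices,
quaternion relations and the Hurwitz unit.
-/

set_option autoImplicit false

namespace Cfsg.Agent.Lib.Helper1.QuatNorm

variable {F : Type*} [Field F]

local notation "M2" => Matrix (Fin 2) (Fin 2) F

/-- Cayley–Hamilton for `2 × 2` matrices -/
theorem ch2 (A : M2) : A * A = A.trace • A - A.det • (1 : M2) := by
  ext i j
  fin_cases i <;> fin_cases j <;>
    simp [Matrix.mul_apply, Fin.sum_univ_two, Matrix.trace_fin_two, Matrix.det_fin_two] <;> ring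

/-- scalar matrices -/
def IsScalar (A : M2) : Prop := ∃ z : F, A = z • (1 : M2)

theorem smul_eq_smul_one (A : M2) (hA : ¬ IsScalar A) (α β : F) (h : α • A = β • (1 : M2)) :
    α = 0 ∧ β = 0 := by
  have hα : α = 0 := by
    by_contra hα
    apply hA
    refine ⟨α⁻¹ * β, ?_⟩
    rw [mul_smul, ← h, smul_smul, inv_mul_cancel₀ hα, one_smul]
  refine ⟨hα, ?_⟩
  rw [hα, zero_smul] at h
  have := congrFun (congrFun h 0) 0
  simpa using this.symm

theorem not_isScalar_of_not_commute (A B : M2) (h : A * B ≠ B * A) : ¬ IsScalar A := by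
  rintro ⟨z, rfl⟩
  apply h
  simp

/-- the commutant of a non-scalar matrix -/
theorem exists_lin (c m : M2) (hc : ¬ IsScalar c) (hm : m * c = c * m) :
    ∃ s t : F, m = s • (1 : M2) + t • c := by
  have e00 := congrFun (congrFun hm 0) 0
  have e01 := congrFun (congrFun hm 0) 1
  have e10 := congrFun (congrFun hm 1) 0
  simp only [Matrix.mul_apply, Fin.sum_univ_two] at e00 e01 e10
  have hns : ¬ (c 0 1 = 0 ∧ c 1 0 = 0 ∧ c 0 0 = c 1 1) := by
    rintro ⟨h1, h2, h3⟩
    apply hc
    refine ⟨c 0 0, ?_⟩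
    ext i j
    fin_cases i <;> fin_cases j <;> simp [h1, h2, h3]
  obtain ⟨s, t, h00, h01, h10, h11⟩ : ∃ s t : F, m 0 0 = s + t * c 0 0 ∧ m 0 1 = t * c 0 1 ∧
      m 1 0 = t * c 1 0 ∧ m 1 1 = s + t * c 1 1 := by
    by_cases c10 : c 1 0 = 0
    · by_cases c01 : c 0 1 = 0
      · have hne : c 0 0 - c 1 1 ≠ 0 := fun h' => hns ⟨c01, c10, sub_eq_zero.mp h'⟩
        rw [c01] at e01
        rw [c10] at e10
        have k01 : m 0 1 = 0 := by
          have : m 0 1 * (c 0 0 - c 1 1) = 0 := by linear_combination -e01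
          exact (mul_eq_zero.mp this).resolve_right hne
        have k10 : m 1 0 = 0 := by
          have : m 1 0 * (c 0 0 - c 1 1) = 0 := by linear_combination e10
          exact (mul_eq_zero.mp this).resolve_right hne
        refine ⟨m 1 1 - (m 0 0 - m 1 1) / (c 0 0 - c 1 1) * c 1 1,
          (m 0 0 - m 1 1) / (c 0 0 - c 1 1), ?_, ?_, ?_, ?_⟩
        · field_simp; ring
        · rw [c01, k01, mul_zero]
        · rw [c10, k10, mul_zero]
        · ring
      · have k10 : m 1 0 = 0 := by
          rw [c10] at e00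
          have : c 0 1 * m 1 0 = 0 := by linear_combination -e00
          exact (mul_eq_zero.mp this).resolve_left c01
        refine ⟨m 1 1 - m 0 1 / c 0 1 * c 1 1, m 0 1 / c 0 1, ?_, ?_, ?_, ?_⟩
        · field_simp; linear_combination e01
        · field_simp
        · rw [c10, k10, mul_zero]
        · ring
    · refine ⟨m 1 1 - m 1 0 / c 1 0 * c 1 1, m 1 0 / c 1 0, ?_, ?_, ?_, ?_⟩
      · field_simp; linear_combination -e10
      · field_simp; linear_combination e00
      · field_simp
      · ring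
  refine ⟨s, t, ?_⟩
  ext i j
  fin_cases i <;> fin_cases j <;> simp [h00, h01, h10, h11]

end Cfsg.Agent.Lib.Helper1.QuatNorm
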