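import Cfsg.Agent.Lib.Helper1.QuatNorm1

/-!
Quaternion relations in `M₂(F)` and the Hurwitz unit (helper1, for S5997).
-/

set_option autoImplicit false

namespace Cfsg.Agent.Lib.Helper1.QuatNorm

variable {F : Type*} [Field F]

local notation "M2" => Matrix (Fin 2) (Fin 2) F

section rel

variable (U V : Matrix (Fin 2) (Fin 2) F) (hUU : U * U = -1) (hVV : V * V = -1) (hUV : U * V = -(V * U))

include hUU in
theorem UU' (X : M2) : U * (U * X) = -X := by
  rw [← Matrix.mul_assoc, hUU, neg_mul, one_mul]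

include hVV in
theorem VV' (X : M2) : V * (V * X) = -X := by
  rw [← Matrix.mul_assoc, hVV, neg_mul, one_mul]

include hUV in
theorem VU : V * U = -(U * V) := by rw [hUV, neg_neg]

include hUV in
theorem VU' (X : M2) : V * (U * X) = -(U * (V * X)) := by
  rw [← Matrix.mul_assoc, VU U V hUV, neg_mul, Matrix.mul_assoc]

/-- the Hurwitz unit -/
noncomputable def hur : M2 := (2⁻¹ : F) • (-1 + U + V + U * V)

/-- its conjugate -/
noncomputable def hurc : M2 := (2⁻¹ : F) • (-1 - U - V - U * V)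

include hUU hVV hUV in
theorem hur_mul_U : hur U V * U = (U * V) * hur U V := by
  unfold hur
  rw [Matrix.smul_mul, Matrix.mul_smul]
  congr 1
  simp only [mul_add, add_mul, mul_neg, neg_mul, mul_one, one_mul, Matrix.mul_assoc,
    UU' U hUU, VV' V hVV, VU U V hUV, VU' U V hUV, hUU, hVV, neg_neg]
  abel

include hUU hVV in
theorem hur_mul_V : hur U V * V = U * hur U V := by
  unfold hur
  rw [Matrix.smul_mul, Matrix.mul_smul]
  congr 1
  simp only [mul_add, add_mul, mul_neg, neg_mul, mul_one, one_mul, Matrix.mul_assoc,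
    UU' U hUU, VV' V hVV, hUU, hVV, neg_neg]
  abel

include hUU hVV hUV in
theorem hur_mul_hurc (h2 : (2 : F) ≠ 0) : hur U V * hurc U V = 1 := by
  unfold hur hurc
  rw [Matrix.smul_mul, Matrix.mul_smul, smul_smul]
  simp only [mul_add, add_mul, mul_sub, sub_mul, mul_neg, neg_mul, mul_one, one_mul,
    Matrix.mul_assoc, UU' U hUU, VV' V hVV, VU U V hUV, VU' U V hUV, hUU, hVV, neg_neg]
  have h4 : (4 : F) • (1 : Matrix (Fin 2) (Fin 2) F) = 1 + 1 + 1 + 1 := by
    rw [show (4 : F) = 1 + 1 + 1 + 1 by norm_num, add_smul, add_smul, add_smul, one_smul]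
  have hX : (-(-1 + U + V + U * V) - (-U + -1 + -(U * V) + V) - (-V + U * V + -1 + -U) -
      (-(U * V) + -V + U + -1)) = (4 : F) • (1 : Matrix (Fin 2) (Fin 2) F) := by
    rw [h4]; abel
  rw [hX, smul_smul]
  have : (2⁻¹ * 2⁻¹ * 4 : F) = 1 := by field_simp; norm_num
  rw [this, one_smul]

include hUU hVV hUV in
theorem hurc_mul_hur (h2 : (2 : F) ≠ 0) : hurc U V * hur U V = 1 :=
  mul_eq_one_comm.mp (hur_mul_hurc U V hUU hVV hUV h2)

include hUU hVV hUV in
theorem S_sq : (-1 + U + V + U * V) * (-1 + U + V + U * V) =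
    -((-1 + U + V + U * V) + (-1 + U + V + U * V)) - (1 + 1 + 1 + 1) := by
  simp only [mul_add, add_mul, mul_neg, neg_mul, mul_one, one_mul,
    Matrix.mul_assoc, UU' U hUU, VV' V hVV, VU U V hUV, VU' U V hUV, hUU, hVV, neg_neg]
  abel

include hUU hVV hUV in
theorem hur_sq (h2 : (2 : F) ≠ 0) : hur U V * hur U V + hur U V + 1 = 0 := by
  unfold hur
  rw [Matrix.smul_mul, Matrix.mul_smul, smul_smul, S_sq U V hUU hVV hUV]
  have e1 : (2⁻¹ * 2⁻¹ : F) • ((-1 + U + V + U * V) + (-1 + U + V + U * V)) =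
      (2⁻¹ : F) • (-1 + U + V + U * V) := by
    rw [← two_smul F (-1 + U + V + U * V), smul_smul]
    congr 1
    field_simp
  have e2 : (2⁻¹ * 2⁻¹ : F) • (1 + 1 + 1 + 1 : Matrix (Fin 2) (Fin 2) F) = 1 := by
    have : (1 + 1 + 1 + 1 : Matrix (Fin 2) (Fin 2) F) = (4 : F) • 1 := by
      rw [show (4 : F) = 1 + 1 + 1 + 1 by norm_num, add_smul, add_smul, add_smul, one_smul]
    rw [this, smul_smul]
    have : (2⁻¹ * 2⁻¹ * 4 : F) = 1 := by field_simp; norm_num
    rw [this, one_smul]
  rw [smul_sub, smul_neg, e1, e2]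
  abel

include hUU hVV hUV in
theorem UV_ne_VU (h2 : (2 : F) ≠ 0) : U * V ≠ V * U := by
  intro h
  have h1 : (2 : F) • (U * V) = 0 := by
    rw [two_smul]
    nth_rewrite 2 [hUV]
    rw [← h, add_neg_cancel]
  have h3 : U * V = 0 := by
    rcases smul_eq_zero.mp h1 with h | h
    · exact absurd h h2
    · exact h
  have h4 : V = 0 := by
    have := UU' U hUU V
    rw [h3, mul_zero] at this
    exact neg_eq_zero.mp this.symm
  rw [h4, mul_zero] at hVV
  exact one_ne_zero (neg_eq_zero.mp hVV.symm)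

include hUU hVV hUV in
theorem U_not_scalar (h2 : (2 : F) ≠ 0) : ¬ IsScalar U :=
  not_isScalar_of_not_commute U V (UV_ne_VU U V hUU hVV hUV h2)

include hUU hVV hUV in
theorem V_not_scalar (h2 : (2 : F) ≠ 0) : ¬ IsScalar V :=
  not_isScalar_of_not_commute V U (fun h => UV_ne_VU U V hUU hVV hUV h2 h.symm)

/-- a non-scalar matrix with `A * A = -1` has trace `0` and determinant `1` -/
theorem trace_det_of_sq (A : Matrix (Fin 2) (Fin 2) F) (hA : ¬ IsScalar A) (hAA : A * A = -1) :
    A.trace = 0 ∧ A.det = 1 := by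
  have h := ch2 A
  rw [hAA] at h
  have h' : A.trace • A = (A.det - 1) • (1 : Matrix (Fin 2) (Fin 2) F) := by
    rw [sub_smul, one_smul]
    have : A.trace • A = -1 + A.det • (1 : Matrix (Fin 2) (Fin 2) F) := by
      rw [h]; abel
    rw [this]; abel
  obtain ⟨h1, h2⟩ := smul_eq_smul_one A hA _ _ h'
  exact ⟨h1, sub_eq_zero.mp h2⟩

/-- a non-scalar matrix with `A * A + A + 1 = 0` has trace `-1` and determinant `1` -/
theorem trace_det_of_cube (A : Matrix (Fin 2) (Fin 2) F) (hA : ¬ IsScalar A)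
    (hAA : A * A + A + 1 = 0) : A.trace = -1 ∧ A.det = 1 := by
  have h := ch2 A
  have h' : (A.trace + 1) • A = (A.det - 1) • (1 : Matrix (Fin 2) (Fin 2) F) := by
    rw [sub_smul, one_smul, add_smul, one_smul]
    have e : A * A = -A - 1 := by
      have h0 : A * A = (A * A + A + 1) + (-A - 1) := by abel
      rw [h0, hAA, zero_add]
    rw [e] at h
    have : A.trace • A = -A - 1 + A.det • (1 : Matrix (Fin 2) (Fin 2) F) := by
      rw [h]; abel
    rw [this]; abel
  obtain ⟨h1, h2⟩ := smul_eq_smul_one A hA _ _ h'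
  exact ⟨eq_neg_of_add_eq_zero_left h1, sub_eq_zero.mp h2⟩

include hUU hVV hUV in
theorem hur_not_scalar (h2 : (2 : F) ≠ 0) : ¬ IsScalar (hur U V) := by
  apply not_isScalar_of_not_commute (hur U V) U
  rw [hur_mul_U U V hUU hVV hUV]
  intro h
  -- `U * V * W = U * W`, `W` invertible, so `U * V = U`, `V = 1`
  have h1 : U * V * (hur U V * hurc U V) = U * (hur U V * hurc U V) := by
    rw [← Matrix.mul_assoc, ← Matrix.mul_assoc, h]
  rw [hur_mul_hurc U V hUU hVV hUV h2, mul_one, mul_one] at h1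
  have h3 : V = 1 := by
    have := UU' U hUU V
    rw [h1, hUU] at this
    exact neg_injective this.symm
  apply UV_ne_VU U V hUU hVV hUV h2
  rw [h3, mul_one, one_mul]

include hUU hVV hUV in
theorem trace_det_hur (h2 : (2 : F) ≠ 0) : (hur U V).trace = -1 ∧ (hur U V).det = 1 :=
  trace_det_of_cube _ (hur_not_scalar U V hUU hVV hUV h2) (hur_sq U V hUU hVV hUV h2)

include hUU hVV hUV in
/-- a matrix commuting with `U` and `V` is scalar -/
theorem scalar_of_comm (h2 : (2 : F) ≠ 0) (m : Matrix (Fin 2) (Fin 2) F) (hmU : m * U = U * m)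
    (hmV : m * V = V * m) : IsScalar m := by
  obtain ⟨s, t, rfl⟩ := exists_lin U m (U_not_scalar U V hUU hVV hUV h2) hmU
  have ht : t = 0 := by
    by_contra ht
    apply UV_ne_VU U V hUU hVV hUV h2
    have h1 : t • (U * V) = t • (V * U) := by
      have : (s • (1 : Matrix (Fin 2) (Fin 2) F) + t • U) * V = V * (s • 1 + t • U) := hmV
      rw [add_mul, mul_add, Matrix.smul_mul, Matrix.smul_mul, Matrix.mul_smul, Matrix.mul_smul,
        one_mul, mul_one] at this
      exact add_left_cancel this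
    exact smul_right_injective _ ht h1
  exact ⟨s, by rw [ht, zero_smul, add_zero]⟩

end rel

end Cfsg.Agent.Lib.Helper1.QuatNorm
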