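import Cfsg.Agent.Lib.Helper1.QuatNorm2
import Cfsg.Prelude.Def_GeometricClasses

/-!
A quaternion subgroup `R` of `GL₂(F)`: its standard generators, the Hurwitz unit normalizes it,
its centralizer is scalar (helper1, for S5997).
-/

set_option autoImplicit false

namespace Cfsg.Agent.Lib.Helper1.QuatNorm

open QuaternionGroup

variable {F : Type*} [Field F]

local notation "M2" => Matrix (Fin 2) (Fin 2) F
local notation "G2" => GL (Fin 2) F

/-- data extracted from an isomorphism `R ≃* Q₈` -/
structure QData (R : Subgroup (GL (Fin 2) F)) where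
  u : GL (Fin 2) F
  v : GL (Fin 2) F
  c : GL (Fin 2) F
  hu : u ∈ R
  hv : v ∈ R
  hc : c ∈ R
  uu : u * u = c
  vv : v * v = c
  cc : c * c = 1
  c1 : c ≠ 1
  uv : u * v = c * (v * u)
  central : ∀ h ∈ R, c * h = h * c
  gen : R ≤ Subgroup.closure {u, v}

theorem exists_qdata (R : Subgroup (GL (Fin 2) F)) (e : R ≃* QuaternionGroup 2) :
    Nonempty (QData R) := by
  have key : ∀ x y : QuaternionGroup 2, ((e.symm (x * y) : R) : GL (Fin 2) F) =
      (e.symm x : R) * (e.symm y : R) := by
    intro x y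
    rw [map_mul]; rfl
  refine ⟨{
    u := (e.symm (a 1) : R)
    v := (e.symm (xa 0) : R)
    c := (e.symm (a 2) : R)
    hu := (e.symm (a 1)).2
    hv := (e.symm (xa 0)).2
    hc := (e.symm (a 2)).2
    uu := by rw [← key]; congr 2
    vv := by rw [← key]; congr 2
    cc := by
      rw [← key]
      have : (a 2 : QuaternionGroup 2) * a 2 = 1 := by decide
      rw [this, map_one]; rfl
    c1 := by
      intro h
      have h1 : e.symm (a 2) = 1 := Subtype.ext h
      have h2 : (a 2 : QuaternionGroup 2) = 1 := by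
        have := congrArg e h1
        simpa using this
      exact absurd h2 (by decide)
    uv := by
      rw [← key, ← key, ← key]
      congr 2
    central := by
      intro h hh
      have h1 : h = ((e.symm (e ⟨h, hh⟩) : R) : GL (Fin 2) F) := by simp
      rw [h1, ← key, ← key]
      congr 2
      generalize e ⟨h, hh⟩ = x
      revert x
      decide
    gen := by
      intro h hh
      have h1 : h = ((e.symm (e ⟨h, hh⟩) : R) : GL (Fin 2) F) := by simp
      have hu' : ((e.symm (a 1) : R) : GL (Fin 2) F) ∈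
          Subgroup.closure ({((e.symm (a 1) : R) : GL (Fin 2) F),
            ((e.symm (xa 0) : R) : GL (Fin 2) F)} : Set (GL (Fin 2) F)) :=
        Subgroup.subset_closure (by simp)
      have hv' : ((e.symm (xa 0) : R) : GL (Fin 2) F) ∈
          Subgroup.closure ({((e.symm (a 1) : R) : GL (Fin 2) F),
            ((e.symm (xa 0) : R) : GL (Fin 2) F)} : Set (GL (Fin 2) F)) :=
        Subgroup.subset_closure (by simp)
      have henum : ∀ x : QuaternionGroup 2, x = 1 ∨ x = a 1 * a 1 ∨ x = a 1 ∨
          x = a 1 * a 1 * a 1 ∨ x = xa 0 ∨ x = a 1 * a 1 * xa 0 ∨ x = a 1 * xa 0 ∨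
          x = a 1 * a 1 * (a 1 * xa 0) := by decide
      rw [h1]
      rcases henum (e ⟨h, hh⟩) with hx | hx | hx | hx | hx | hx | hx | hx <;> rw [hx]
      · rw [map_one]; exact Subgroup.one_mem _
      · rw [key]; exact Subgroup.mul_mem _ hu' hu'
      · exact hu'
      · rw [key, key]; exact Subgroup.mul_mem _ (Subgroup.mul_mem _ hu' hu') hu'
      · exact hv'
      · rw [key, key]; exact Subgroup.mul_mem _ (Subgroup.mul_mem _ hu' hu') hv'
      · rw [key]; exact Subgroup.mul_mem _ hu' hv'
      · rw [key, key, key]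
        exact Subgroup.mul_mem _ (Subgroup.mul_mem _ hu' hu') (Subgroup.mul_mem _ hu' hv') }⟩

end Cfsg.Agent.Lib.Helper1.QuatNorm

namespace Cfsg.Agent.Lib.Helper1.QuatNorm

variable {F : Type*} [Field F]

namespace QData

variable {R : Subgroup (GL (Fin 2) F)} (d : QData R)

/-- matrix of `u` -/
def U : Matrix (Fin 2) (Fin 2) F := (d.u : Matrix (Fin 2) (Fin 2) F)
/-- matrix of `v` -/
def V : Matrix (Fin 2) (Fin 2) F := (d.v : Matrix (Fin 2) (Fin 2) F)
/-- matrix of `c` -/
def C : Matrix (Fin 2) (Fin 2) F := (d.c : Matrix (Fin 2) (Fin 2) F)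

theorem UU_C : d.U * d.U = d.C := by
  have := congrArg (fun g : GL (Fin 2) F => (g : Matrix (Fin 2) (Fin 2) F)) d.uu
  simpa [U, C] using this

theorem VV_C : d.V * d.V = d.C := by
  have := congrArg (fun g : GL (Fin 2) F => (g : Matrix (Fin 2) (Fin 2) F)) d.vv
  simpa [V, C] using this

theorem CC : d.C * d.C = 1 := by
  have := congrArg (fun g : GL (Fin 2) F => (g : Matrix (Fin 2) (Fin 2) F)) d.cc
  simpa [C] using this

theorem C_ne_one : d.C ≠ 1 := by
  intro h
  apply d.c1
  apply Units.ext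
  exact h

theorem UV_C : d.U * d.V = d.C * (d.V * d.U) := by
  have := congrArg (fun g : GL (Fin 2) F => (g : Matrix (Fin 2) (Fin 2) F)) d.uv
  simpa [U, V, C] using this

theorem C_comm_V : d.C * d.V = d.V * d.C := by
  have := congrArg (fun g : GL (Fin 2) F => (g : Matrix (Fin 2) (Fin 2) F)) (d.central _ d.hv)
  simpa [V, C] using this

theorem UV_ne_VU' : d.U * d.V ≠ d.V * d.U := by
  intro h
  apply d.C_ne_one
  have h1 := d.UV_C
  rw [h] at h1
  -- `V * U` is invertible
  have hinv : (d.V * d.U) * (((d.v * d.u)⁻¹ : GL (Fin 2) F) : Matrix (Fin 2) (Fin 2) F) = 1 := by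
    have := Units.mul_inv (d.v * d.u)
    rwa [Units.val_mul] at this
  have h2 : d.V * d.U * (((d.v * d.u)⁻¹ : GL (Fin 2) F) : Matrix (Fin 2) (Fin 2) F) =
      d.C * (d.V * d.U) * (((d.v * d.u)⁻¹ : GL (Fin 2) F) : Matrix (Fin 2) (Fin 2) F) := by
    rw [← h1]
  rw [Matrix.mul_assoc d.C, hinv, mul_one] at h2
  exact h2.symm

theorem U_not_scalar' : ¬ IsScalar d.U := not_isScalar_of_not_commute _ _ d.UV_ne_VU'

/-- the central involution is `-1` -/
theorem C_eq : d.C = -1 := by
  have hch := ch2 d.U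
  rw [d.UU_C] at hch
  have htr : d.U.trace = 0 := by
    by_contra htr
    apply d.UV_ne_VU'
    have hU : d.U = (d.U.trace)⁻¹ • (d.C + d.U.det • (1 : Matrix (Fin 2) (Fin 2) F)) := by
      rw [hch, sub_add_cancel, smul_smul, inv_mul_cancel₀ htr, one_smul]
    rw [hU, Matrix.smul_mul, Matrix.mul_smul, add_mul, mul_add, d.C_comm_V]
    simp
  rw [htr, zero_smul, zero_sub] at hch
  -- `C = z • 1` with `z = - det U`
  have hz : (-d.U.det) * (-d.U.det) = 1 := by
    have h1 := d.CC
    rw [hch] at h1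
    have := congrFun (congrFun h1 0) 0
    simpa using this
  rcases mul_self_eq_one_iff.mp hz with h | h
  · exfalso
    apply d.C_ne_one
    rw [hch, ← neg_smul, h, one_smul]
  · rw [hch, ← neg_smul, h, neg_smul, one_smul]

theorem UU : d.U * d.U = -1 := by rw [d.UU_C, d.C_eq]

theorem VV : d.V * d.V = -1 := by rw [d.VV_C, d.C_eq]

theorem UV : d.U * d.V = -(d.V * d.U) := by
  rw [d.UV_C, d.C_eq, neg_mul, one_mul]

end QData

end Cfsg.Agent.Lib.Helper1.QuatNorm
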