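import Cfsg.Agent.Lib.Helper1.QuatNorm3

/-!
Group-level consequences for a quaternion subgroup `R ≤ GL₂(F)` (helper1, for S5997).
-/

set_option autoImplicit false

namespace Cfsg.Agent.Lib.Helper1.QuatNorm

variable {F : Type*} [Field F]

theorem mem_specialLinear_iff (g : GL (Fin 2) F) :
    g ∈ Cfsg.Geo.specialLinear (Fin 2) F ↔ (g : Matrix (Fin 2) (Fin 2) F).det = 1 := by
  unfold Cfsg.Geo.specialLinear
  rw [MonoidHom.mem_ker]
  constructor
  · intro h
    have := congrArg Units.val h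
    simpa using this
  · intro h
    apply Units.ext
    simpa using h

theorem mem_normalizer_of_conj_mem' {G : Type*} [Group G] [Finite G] (H : Subgroup G) (g : G)
    (h : ∀ x ∈ H, g * x * g⁻¹ ∈ H) : g ∈ Subgroup.normalizer (H : Set G) := by
  have hle : H ≤ H.comap (MulAut.conj g).toMonoidHom := by
    intro x hx
    exact h x hx
  have hcard : Nat.card (H.comap (MulAut.conj g).toMonoidHom) = Nat.card H := by
    have : H.comap (MulAut.conj g).toMonoidHom = H.map (MulAut.conj g).symm.toMonoidHom :=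
      (Subgroup.map_equiv_eq_comap_symm' (MulAut.conj g).symm H).symm
    rw [this]
    exact Nat.card_congr ((H.equivMapOfInjective _ (MulAut.conj g).symm.injective).symm).toEquiv
  have heq : H = H.comap (MulAut.conj g).toMonoidHom :=
    Subgroup.eq_of_le_of_card_ge hle hcard.le
  rw [Subgroup.mem_normalizer_iff]
  intro x
  constructor
  · exact h x
  · intro hx
    rw [heq]
    exact hx

namespace QData

variable {R : Subgroup (GL (Fin 2) F)} (d : QData R)

theorem u_mem_SL (h2 : (2 : F) ≠ 0) : d.u ∈ Cfsg.Geo.specialLinear (Fin 2) F := by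
  rw [mem_specialLinear_iff]
  exact (trace_det_of_sq d.U (U_not_scalar d.U d.V d.UU d.VV d.UV h2) d.UU).2

theorem trace_u (h2 : (2 : F) ≠ 0) : (d.u : Matrix (Fin 2) (Fin 2) F).trace = 0 :=
  (trace_det_of_sq d.U (U_not_scalar d.U d.V d.UU d.VV d.UV h2) d.UU).1

/-- the Hurwitz unit as an element of `GL₂` -/
noncomputable def w (h2 : (2 : F) ≠ 0) : GL (Fin 2) F :=
  ⟨hur d.U d.V, hurc d.U d.V, hur_mul_hurc d.U d.V d.UU d.VV d.UV h2,
    hurc_mul_hur d.U d.V d.UU d.VV d.UV h2⟩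

theorem w_mem_SL (h2 : (2 : F) ≠ 0) : d.w h2 ∈ Cfsg.Geo.specialLinear (Fin 2) F := by
  rw [mem_specialLinear_iff]
  exact (trace_det_hur d.U d.V d.UU d.VV d.UV h2).2

theorem trace_w (h2 : (2 : F) ≠ 0) : (d.w h2 : Matrix (Fin 2) (Fin 2) F).trace = -1 :=
  (trace_det_hur d.U d.V d.UU d.VV d.UV h2).1

theorem w_mul_u (h2 : (2 : F) ≠ 0) : d.w h2 * d.u = (d.u * d.v) * d.w h2 := by
  apply Units.ext
  exact hur_mul_U d.U d.V d.UU d.VV d.UV

theorem w_mul_v (h2 : (2 : F) ≠ 0) : d.w h2 * d.v = d.u * d.w h2 := by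
  apply Units.ext
  exact hur_mul_V d.U d.V d.UU d.VV

theorem w_mem_normalizer [Finite F] (h2 : (2 : F) ≠ 0) :
    d.w h2 ∈ Subgroup.normalizer (R : Set (GL (Fin 2) F)) := by
  apply mem_normalizer_of_conj_mem'
  intro x hx
  have hcl : Subgroup.closure {d.u, d.v} ≤ R.comap (MulAut.conj (d.w h2)).toMonoidHom := by
    rw [Subgroup.closure_le]
    rintro y (rfl | rfl)
    · show d.w h2 * d.u * (d.w h2)⁻¹ ∈ R
      rw [d.w_mul_u h2, mul_inv_cancel_right]
      exact R.mul_mem d.hu d.hv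
    · show d.w h2 * d.v * (d.w h2)⁻¹ ∈ R
      rw [d.w_mul_v h2, mul_inv_cancel_right]
      exact d.hu
  exact hcl (d.gen hx)

include d in
/-- an element commuting with `R` is scalar -/
theorem scalar_of_centralizes (h2 : (2 : F) ≠ 0) (y : GL (Fin 2) F)
    (hy : ∀ h ∈ R, y * h = h * y) : IsScalar (y : Matrix (Fin 2) (Fin 2) F) := by
  apply scalar_of_comm d.U d.V d.UU d.VV d.UV h2
  · have := congrArg (fun g : GL (Fin 2) F => (g : Matrix (Fin 2) (Fin 2) F)) (hy _ d.hu)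
    simpa [U] using this
  · have := congrArg (fun g : GL (Fin 2) F => (g : Matrix (Fin 2) (Fin 2) F)) (hy _ d.hv)
    simpa [V] using this

end QData

end Cfsg.Agent.Lib.Helper1.QuatNorm

namespace Cfsg.Agent.Lib.Helper1.QuatNorm

variable {F : Type*} [Field F]

open Cfsg.Agent.Lib.Helper12.SL2 in
/-- elements of `SL₂(F)` (inside `GL₂(F)`) with the same trace `t`, `t² ≠ 4`, are conjugate under
`SL₂(F)` -/
theorem exists_conj_of_trace_eq [Fintype F] (h2 : (2 : F) ≠ 0) (x y : GL (Fin 2) F)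
    (hx : x ∈ Cfsg.Geo.specialLinear (Fin 2) F) (hy : y ∈ Cfsg.Geo.specialLinear (Fin 2) F)
    (htr : (x : Matrix (Fin 2) (Fin 2) F).trace = (y : Matrix (Fin 2) (Fin 2) F).trace)
    (hΔ : (x : Matrix (Fin 2) (Fin 2) F).trace ^ 2 ≠ 4) :
    ∃ g ∈ Cfsg.Geo.specialLinear (Fin 2) F, g⁻¹ * x * g = y := by
  let xs : Matrix.SpecialLinearGroup (Fin 2) F :=
    ⟨(x : Matrix (Fin 2) (Fin 2) F), (mem_specialLinear_iff x).mp hx⟩
  let ys : Matrix.SpecialLinearGroup (Fin 2) F :=
    ⟨(y : Matrix (Fin 2) (Fin 2) F), (mem_specialLinear_iff y).mp hy⟩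
  have hxs : Matrix.SpecialLinearGroup.toGL xs = x := Units.ext rfl
  have hys : Matrix.SpecialLinearGroup.toGL ys = y := Units.ext rfl
  have htx : tr xs = (x : Matrix (Fin 2) (Fin 2) F).trace := by
    rw [Matrix.trace_fin_two]; rfl
  have hty : tr ys = (y : Matrix (Fin 2) (Fin 2) F).trace := by
    rw [Matrix.trace_fin_two]; rfl
  have hconj : IsConj xs ys := isConj_of_tr_eq h2 xs ys (by rw [htx]; exact hΔ)
    (by rw [htx, hty, htr])
  obtain ⟨k, hk⟩ := isConj_iff.mp hconj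
  refine ⟨Matrix.SpecialLinearGroup.toGL k⁻¹, ?_, ?_⟩
  · rw [mem_specialLinear_iff]
    exact (k⁻¹).2
  · rw [← hxs, ← hys, ← hk, map_inv, inv_inv, map_mul, map_mul, map_inv]

end Cfsg.Agent.Lib.Helper1.QuatNorm
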