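import Cfsg.Agent.Lib.Helper1.QuatNorm4

/-!
An element of prime order `r ≥ 5` normalizing a group of order `8` with a fixed non-trivial element
centralizes it (helper1, for S5997).
-/

set_option autoImplicit false

namespace Cfsg.Agent.Lib.Helper1.QuatNorm

/-- conjugation action of `⟨y⟩` on a subgroup normalized by `y` -/
def conjAct {G : Type*} [Group G] (R : Subgroup G) (y : G)
    (hy : y ∈ Subgroup.normalizer (R : Set G)) : MulAction (Subgroup.zpowers y) R where
  smul a h := ⟨(a : G) * h * (a : G)⁻¹,
    ((Subgroup.mem_normalizer_iff.mp ((Subgroup.zpowers_le.mpr hy) a.2)) h).mp h.2⟩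
  one_smul h := Subtype.ext (by
    show ((1 : Subgroup.zpowers y) : G) * h * ((1 : Subgroup.zpowers y) : G)⁻¹ = h
    simp)
  mul_smul a b h := Subtype.ext (by
    show ((a * b : Subgroup.zpowers y) : G) * h * ((a * b : Subgroup.zpowers y) : G)⁻¹ =
      (a : G) * ((b : G) * h * (b : G)⁻¹) * (a : G)⁻¹
    simp [mul_assoc])

theorem centralizes_of_prime_order {G : Type*} [Group G] (R : Subgroup G) [Finite R] (y : G)
    (hy : y ∈ Subgroup.normalizer (R : Set G)) (r : ℕ) [Fact r.Prime] (hyr : orderOf y = r)
    (hR : Nat.card R = 8) (c : G) (hcR : c ∈ R) (hc1 : c ≠ 1) (hcy : y * c = c * y)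
    (hr : 5 ≤ r) : ∀ h ∈ R, y * h = h * y := by
  letI := conjAct R y hy
  have hsmul : ∀ (a : Subgroup.zpowers y) (h : R), ((a • h : R) : G) = (a : G) * h * (a : G)⁻¹ :=
    fun a h => rfl
  have hY : IsPGroup r (Subgroup.zpowers y) :=
    IsPGroup.of_card (n := 1) (by rw [Nat.card_zpowers, hyr, pow_one])
  have hmod := hY.card_modEq_card_fixedPoints R
  let Cs : Subgroup R := (Subgroup.centralizer ({y} : Set G)).subgroupOf R
  have hfix : MulAction.fixedPoints (Subgroup.zpowers y) R = (Cs : Set R) := by
    ext h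
    rw [MulAction.mem_fixedPoints, SetLike.mem_coe, Subgroup.mem_subgroupOf,
      Subgroup.mem_centralizer_singleton_iff]
    constructor
    · intro hf
      have := congrArg Subtype.val (hf ⟨y, Subgroup.mem_zpowers y⟩)
      rw [hsmul] at this
      exact (mul_inv_eq_iff_eq_mul.mp this).symm
    · intro hc a
      apply Subtype.ext
      rw [hsmul]
      have ha : (a : G) ∈ Subgroup.centralizer ({(h : G)} : Set G) := by
        apply (Subgroup.zpowers_le.mpr _) a.2
        rw [Subgroup.mem_centralizer_singleton_iff]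
        exact hc.symm
      rw [Subgroup.mem_centralizer_singleton_iff] at ha
      rw [ha, mul_inv_cancel_right]
  have hcard : Nat.card (MulAction.fixedPoints (Subgroup.zpowers y) R) = Nat.card Cs := by
    rw [hfix]; rfl
  rw [hcard, hR] at hmod
  have hdvd : Nat.card Cs ∣ 8 := by
    rw [← hR]; exact Subgroup.card_subgroup_dvd_card Cs
  have hne1 : Nat.card Cs ≠ 1 := by
    intro h1
    have hbot := (Subgroup.card_eq_one.mp h1)
    have hcm : (⟨c, hcR⟩ : R) ∈ Cs := by
      rw [Subgroup.mem_subgroupOf, Subgroup.mem_centralizer_singleton_iff]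
      exact hcy.symm
    rw [hbot, Subgroup.mem_bot] at hcm
    exact hc1 (congrArg Subtype.val hcm)
  have hle : Nat.card Cs ≤ 8 := Nat.le_of_dvd (by norm_num) hdvd
  have hr' := (Nat.modEq_iff_dvd' hle).mp hmod.symm
  have hrp : r.Prime := Fact.out
  have h8 : Nat.card Cs = 8 := by
    have hpos : 0 < Nat.card Cs := Nat.card_pos
    interval_cases hk : Nat.card Cs
    · exact absurd rfl hne1
    · exfalso
      have : r ≤ 6 := Nat.le_of_dvd (by norm_num) hr'
      interval_cases r
      · norm_num at hr'
      · norm_num at hrp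
    · exfalso; norm_num at hdvd
    · exfalso
      have : r ≤ 4 := Nat.le_of_dvd (by norm_num) hr'
      omega
    · exfalso; norm_num at hdvd
    · exfalso; norm_num at hdvd
    · exfalso; norm_num at hdvd
    · rfl
  have htop : Cs = ⊤ := (Subgroup.card_eq_iff_eq_top Cs).mp (by rw [h8, hR])
  intro h hh
  have : (⟨h, hh⟩ : R) ∈ Cs := by rw [htop]; trivial
  rw [Subgroup.mem_subgroupOf, Subgroup.mem_centralizer_singleton_iff] at this
  exact this.symm

end Cfsg.Agent.Lib.Helper1.QuatNorm
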