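import Mathlib
import Cfsg.Prelude.Def_LieTwisted
import Cfsg.Agent.Lib.Helper1.Ree3D

/-!
# The small Ree group over the field with three elements: packed linear algebra (helper1)

Vectors of `(ZMod 3)^14` are packed into naturals (two bits per coordinate); the root elements of the
Chevalley group of type `G₂` over `ZMod 3` are compared with packed tables, and a word in root elements
applied to a packed vector is checked letter by letter.
-/

set_option autoImplicit false

namespace Cfsg.Agent.Lib.Helper1.Ree3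

open Cfsg.Lie Matrix

/-- coordinate number -/
def idx : chevG2.Idx → ℕ := Sum.elim (fun i => i.val) (fun u => 2 + u.val)

/-- coordinate with a given number -/
def unidx (n : ℕ) : chevG2.Idx :=
  if h : n < 2 then Sum.inl ⟨n, h⟩ else if h' : n - 2 < 12 then Sum.inr ⟨n - 2, h'⟩
  else Sum.inl ⟨0, by decide⟩

/-- base-four digit -/
def dg (v j : ℕ) : ℕ := (v >>> (2 * j)) &&& 3

/-- the vector packed in a natural number -/
def vecOf (v : ℕ) : chevG2.Idx → ZMod 3 := fun i => ((dg v (idx i) : ℕ) : ZMod 3)

theorem idx_lt (i : chevG2.Idx) : idx i < 14 := by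
  rcases i with i | u
  · have : i.val < 2 := i.2
    simp only [idx, Sum.elim_inl]; omega
  · have : u.val < 12 := u.2
    simp only [idx, Sum.elim_inr]; omega

theorem sum_idx0 (f : Fin 2 ⊕ Fin 12 → ZMod 3) :
    ∑ j, f j = f (Sum.inl 0) + f (Sum.inl 1) + f (Sum.inr 0) + f (Sum.inr 1) + f (Sum.inr 2)
      + f (Sum.inr 3) + f (Sum.inr 4) + f (Sum.inr 5) + f (Sum.inr 6) + f (Sum.inr 7)
      + f (Sum.inr 8) + f (Sum.inr 9) + f (Sum.inr 10) + f (Sum.inr 11) := by
  rw [Fintype.sum_sum_type, Fin.sum_univ_two]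
  simp only [Fin.sum_univ_succ, Fin.sum_univ_zero]
  simp only [Fin.succ_zero_eq_one, Fin.succ_one_eq_two]
  ring_nf
  rfl

theorem sum_idx (f : chevG2.Idx → ZMod 3) :
    ∑ j, f j = f (unidx 0) + f (unidx 1) + f (unidx 2) + f (unidx 3) + f (unidx 4)
      + f (unidx 5) + f (unidx 6) + f (unidx 7) + f (unidx 8) + f (unidx 9)
      + f (unidx 10) + f (unidx 11) + f (unidx 12) + f (unidx 13) :=
  sum_idx0 f

/-- packed matrix of the root element `x_r(c)` -/
def xN (r c : ℕ) : ℕ := xTab.getD (3 * r + c) 0

theorem idx_unidx : ∀ n : Fin 14, idx (unidx n.val) = n.val := by decide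

theorem unidx_idx : ∀ i : chevG2.Idx, unidx (idx i) = i := by decide

set_option maxRecDepth 100000 in
theorem x_entry0 : ∀ (r : Fin chevG2.nroots) (c : ZMod 3) (i j : Fin 14),
    chevG2.xMat (ZMod 3) r c (unidx i.val) (unidx j.val)
      = ((dg (xN r.val c.val) (14 * i.val + j.val) : ℕ) : ZMod 3) := by
  decide +kernel

theorem x_entry (r : Fin chevG2.nroots) (c : ZMod 3) (i j : chevG2.Idx) :
    chevG2.xMat (ZMod 3) r c i j = ((dg (xN r.val c.val) (14 * idx i + idx j) : ℕ) : ZMod 3) := by
  have := x_entry0 r c ⟨idx i, idx_lt i⟩ ⟨idx j, idx_lt j⟩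
  simp only [unidx_idx] at this
  exact this

/-- a row of the packed matrix-vector product -/
def rowSum (A v i : ℕ) : ℕ := dg A (14 * i + 0) * dg v 0 + dg A (14 * i + 1) * dg v 1 + dg A (14 * i + 2) * dg v 2 + dg A (14 * i + 3) * dg v 3 + dg A (14 * i + 4) * dg v 4 + dg A (14 * i + 5) * dg v 5 + dg A (14 * i + 6) * dg v 6 + dg A (14 * i + 7) * dg v 7 + dg A (14 * i + 8) * dg v 8 + dg A (14 * i + 9) * dg v 9 + dg A (14 * i + 10) * dg v 10 + dg A (14 * i + 11) * dg v 11 + dg A (14 * i + 12) * dg v 12 + dg A (14 * i + 13) * dg v 13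

/-- the packed vector `v'` is the packed matrix `A` applied to the packed vector `v` -/
def mvOK (A v v' : ℕ) : Bool := (List.range 14).all fun i => rowSum A v i % 3 == dg v' i

theorem mv_sound {r : Fin chevG2.nroots} {c : ZMod 3} {v v' : ℕ}
    (h : mvOK (xN r.val c.val) v v' = true) :
    chevG2.xMat (ZMod 3) r c *ᵥ vecOf v = vecOf v' := by
  funext i
  have h1 := (List.all_eq_true.mp h) (idx i) (List.mem_range.mpr (idx_lt i))
  have h2 : rowSum (xN r.val c.val) v (idx i) % 3 = dg v' (idx i) := by simpa using h1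
  show (∑ j, chevG2.xMat (ZMod 3) r c i j * vecOf v j) = vecOf v' i
  rw [sum_idx]
  simp only [x_entry, vecOf]
  rw [← h2, ZMod.natCast_mod]
  have e : ∀ n : Fin 14, idx (unidx n.val) = n.val := idx_unidx
  have e0 := e 0; have e1 := e 1; have e2 := e 2; have e3 := e 3; have e4 := e 4
  have e5 := e 5; have e6 := e 6; have e7 := e 7; have e8 := e 8; have e9 := e 9
  have e10 := e 10; have e11 := e 11; have e12 := e 12; have e13 := e 13
  simp only [Fin.val_zero, Fin.val_one, Fin.val_two] at e0 e1 e2
  have e3' : idx (unidx 3) = 3 := e3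
  have e4' : idx (unidx 4) = 4 := e4
  have e5' : idx (unidx 5) = 5 := e5
  have e6' : idx (unidx 6) = 6 := e6
  have e7' : idx (unidx 7) = 7 := e7
  have e8' : idx (unidx 8) = 8 := e8
  have e9' : idx (unidx 9) = 9 := e9
  have e10' : idx (unidx 10) = 10 := e10
  have e11' : idx (unidx 11) = 11 := e11
  have e12' : idx (unidx 12) = 12 := e12
  have e13' : idx (unidx 13) = 13 := e13
  rw [e0, e1, e2, e3', e4', e5', e6', e7', e8', e9', e10', e11', e12', e13']
  unfold rowSum
  push_cast
  ring

set_option maxRecDepth 100000 in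
theorem xMat_zero0 : ∀ (r : Fin chevG2.nroots) (i j : Fin 14),
    chevG2.xMat (ZMod 3) r 0 (unidx i.val) (unidx j.val)
      = (1 : Matrix chevG2.Idx chevG2.Idx (ZMod 3)) (unidx i.val) (unidx j.val) := by
  decide +kernel

theorem x_zero (r : ℕ) : chevG2.x (ZMod 3) r 0 = 1 := by
  unfold ChevalleyDatum.x
  split_ifs with h
  · ext i j
    have := xMat_zero0 ⟨r, h⟩ ⟨idx i, idx_lt i⟩ ⟨idx j, idx_lt j⟩
    dsimp only at this
    rw [unidx_idx, unidx_idx] at this
    exact this
  · rfl

/-- letter-by-letter check that the word `w` maps the packed vector `bot` to `top`; `vs` lists the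
inputs of the letters with non-zero parameter -/
def chainOK : List (ℕ × ZMod 3) → ℕ → List ℕ → ℕ → Bool
  | [], top, _, bot => top == bot
  | p :: w, top, vs, bot =>
    if p.2 = 0 then chainOK w top vs bot
    else match vs with
      | [] => false
      | v1 :: rest => decide (p.1 < 12) && (mvOK (xN p.1 p.2.val) v1 top && chainOK w v1 rest bot)

theorem chain_sound : ∀ (w : List (ℕ × ZMod 3)) (top : ℕ) (vs : List ℕ) (bot : ℕ),
    chainOK w top vs bot = true → chevG2.wordMat (ZMod 3) w *ᵥ vecOf bot = vecOf top := by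
  intro w
  induction w with
  | nil =>
    intro top vs bot h
    simp only [chainOK, beq_iff_eq] at h
    subst h
    simp [ChevalleyDatum.wordMat]
  | cons p w ih =>
    intro top vs bot h
    have hw : chevG2.wordMat (ZMod 3) (p :: w)
        = chevG2.x (ZMod 3) p.1 p.2 * chevG2.wordMat (ZMod 3) w := by
      simp [ChevalleyDatum.wordMat]
    rw [hw, ← Matrix.mulVec_mulVec]
    simp only [chainOK] at h
    split_ifs at h with h0
    · rw [h0, x_zero, Matrix.one_mulVec]
      exact ih top vs bot h
    · cases vs with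
      | nil => simp at h
      | cons v1 rest =>
        simp only [Bool.and_eq_true, decide_eq_true_eq] at h
        obtain ⟨h1, h2, h3⟩ := h
        rw [ih v1 rest bot h3]
        have hx : chevG2.x (ZMod 3) p.1 p.2 = chevG2.xMat (ZMod 3) ⟨p.1, h1⟩ p.2 := by
          unfold ChevalleyDatum.x
          exact dif_pos h1
        rw [hx]
        exact mv_sound (r := ⟨p.1, h1⟩) h2

end Cfsg.Agent.Lib.Helper1.Ree3
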