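import Mathlib
import Cfsg.Prelude.Def_KGroupFacts

/-!
# Stem extensions of alternating groups from a regular-representation certificate (helper1)

A group given by two permutations `X, Y` of `Fin N` (left multiplications) commuting with two maps
`R1, R2` (right multiplications) that reach every point from `0` acts semiregularly, hence has order at
most `N`.  Together with an equivariant block map onto `Fin n` this gives an extension of the
alternating group with kernel of order at most `N / |A_n|`.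
-/

set_option autoImplicit false
set_option linter.unusedSectionVars false

namespace Cfsg.Agent.Lib.Helper1.RegCov

open Equiv

theorem p_apply_inv {α : Type*} (f : Perm α) (x : α) : f (f⁻¹ x) = x := Equiv.apply_symm_apply f x

theorem p_inv_apply {α : Type*} (f : Perm α) (x : α) : f⁻¹ (f x) = x := Equiv.symm_apply_apply f x

section semireg

variable {N : ℕ} [NeZero N]

theorem comm_of_mem_closure {S : Set (Perm (Fin N))} {r : Fin N → Fin N}
    (h : ∀ s ∈ S, ∀ i, s (r i) = r (s i)) {g : Perm (Fin N)} (hg : g ∈ Subgroup.closure S) :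
    ∀ i, g (r i) = r (g i) := by
  induction hg using Subgroup.closure_induction with
  | mem s hs => exact h s hs
  | one => intro i; rfl
  | mul g₁ g₂ _ _ h₁ h₂ =>
    intro i
    rw [Perm.mul_apply, Perm.mul_apply, h₂, h₁]
  | inv g₁ _ h₁ =>
    intro i
    have := h₁ (g₁⁻¹ i)
    rw [p_apply_inv] at this
    rw [← this, p_inv_apply]

theorem eq_one_of_fix {S : Set (Perm (Fin N))} {R1 R2 : Fin N → Fin N}
    (h1 : ∀ s ∈ S, ∀ i, s (R1 i) = R1 (s i)) (h2 : ∀ s ∈ S, ∀ i, s (R2 i) = R2 (s i))
    (htree : ∀ i : Fin N, i ≠ 0 → ∃ j, j < i ∧ (R1 j = i ∨ R2 j = i))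
    {g : Perm (Fin N)} (hg : g ∈ Subgroup.closure S) (h0 : g 0 = 0) : g = 1 := by
  have c1 := comm_of_mem_closure h1 hg
  have c2 := comm_of_mem_closure h2 hg
  have key : ∀ k : ℕ, ∀ i : Fin N, i.1 = k → g i = i := by
    intro k
    induction k using Nat.strong_induction_on with
    | _ k ih =>
      intro i hi
      by_cases hi0 : i = 0
      · rw [hi0, h0]
      · obtain ⟨j, hj, hr⟩ := htree i hi0
        have hgj : g j = j := ih j.1 (by rw [← hi]; exact hj) j rfl
        rcases hr with hr | hr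
        · rw [← hr, c1, hgj]
        · rw [← hr, c2, hgj]
  ext i
  rw [key i.1 i rfl]
  rfl

end semireg

section main

variable {N n : ℕ} [NeZero N]

/-- pairs `(g, s)` with `β ∘ g = s ∘ β` -/
def blockSub (β : Fin N → Fin n) : Subgroup (Perm (Fin N) × Perm (Fin n)) where
  carrier := {p | ∀ i, β (p.1 i) = p.2 (β i)}
  one_mem' := fun i => rfl
  mul_mem' := by
    intro p q hp hq i
    show β (p.1 (q.1 i)) = p.2 (q.2 (β i))
    rw [hp, hq]
  inv_mem' := by
    intro p hp i
    show β (p.1⁻¹ i) = p.2⁻¹ (β i)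
    have := hp (p.1⁻¹ i)
    rw [p_apply_inv] at this
    rw [this, p_inv_apply]

theorem snd_eq_of_fst_eq {β : Fin N → Fin n} (hβs : Function.Surjective β)
    {p q : Perm (Fin N) × Perm (Fin n)} (hp : p ∈ blockSub β) (hq : q ∈ blockSub β)
    (h : p.1 = q.1) : p = q := by
  apply Prod.ext h
  ext j
  obtain ⟨i, rfl⟩ := hβs j
  rw [← hp i, ← hq i, h]

variable (X Y : Perm (Fin N)) (a b : Perm (Fin n))

/-- the group generated by the two pairs -/
def Gam : Subgroup (Perm (Fin N) × Perm (Fin n)) :=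
  Subgroup.closure {((X, a) : Perm (Fin N) × Perm (Fin n)), (Y, b)}

theorem fst_mem {g : Perm (Fin N) × Perm (Fin n)} (hg : g ∈ Gam X Y a b) :
    g.1 ∈ Subgroup.closure ({X, Y} : Set (Perm (Fin N))) := by
  have h : Gam X Y a b ≤ (Subgroup.closure ({X, Y} : Set (Perm (Fin N)))).comap
      (MonoidHom.fst _ _) := by
    rw [Gam, Subgroup.closure_le]
    rintro p (rfl | rfl)
    · exact Subgroup.subset_closure (Or.inl rfl)
    · exact Subgroup.subset_closure (Or.inr rfl)
  exact h hg

theorem snd_mem_alt (ha : a ∈ alternatingGroup (Fin n)) (hb : b ∈ alternatingGroup (Fin n))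
    {g : Perm (Fin N) × Perm (Fin n)} (hg : g ∈ Gam X Y a b) :
    g.2 ∈ alternatingGroup (Fin n) := by
  have h : Gam X Y a b ≤ (alternatingGroup (Fin n)).comap (MonoidHom.snd _ _) := by
    rw [Gam, Subgroup.closure_le]
    rintro p (rfl | rfl)
    · exact ha
    · exact hb
  exact h hg

variable {X Y a b}

theorem Gam_le_blockSub {β : Fin N → Fin n} (hβ : ∀ i, β (X i) = a (β i) ∧ β (Y i) = b (β i)) :
    Gam X Y a b ≤ blockSub β := by
  rw [Gam, Subgroup.closure_le]
  rintro p (rfl | rfl)
  · exact fun i => (hβ i).1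
  · exact fun i => (hβ i).2

/-- the certificate hypotheses -/
structure Cert (X Y : Perm (Fin N)) (a b : Perm (Fin n)) (R1 R2 : Fin N → Fin N)
    (β : Fin N → Fin n) : Prop where
  comm : ∀ i, X (R1 i) = R1 (X i) ∧ X (R2 i) = R2 (X i) ∧ Y (R1 i) = R1 (Y i) ∧ Y (R2 i) = R2 (Y i)
  tree : ∀ i : Fin N, i ≠ 0 → ∃ j, j < i ∧ (R1 j = i ∨ R2 j = i)
  blk : ∀ i, β (X i) = a (β i) ∧ β (Y i) = b (β i)
  surj : Function.Surjective β

variable {R1 R2 : Fin N → Fin N} {β : Fin N → Fin n}

theorem eq_of_apply_zero (C : Cert X Y a b R1 R2 β) {g h : Perm (Fin N) × Perm (Fin n)}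
    (hg : g ∈ Gam X Y a b) (hh : h ∈ Gam X Y a b) (h0 : g.1 0 = h.1 0) : g = h := by
  have hk : h⁻¹ * g ∈ Gam X Y a b := Subgroup.mul_mem _ (Subgroup.inv_mem _ hh) hg
  have h1 : (h⁻¹ * g).1 = 1 := by
    apply eq_one_of_fix (S := {X, Y}) (R1 := R1) (R2 := R2) _ _ C.tree (fst_mem X Y a b hk)
    · show h.1⁻¹ (g.1 0) = 0
      rw [h0, p_inv_apply]
    · rintro s (rfl | rfl) i
      · exact (C.comm i).1
      · exact (C.comm i).2.2.1
    · rintro s (rfl | rfl) i
      · exact (C.comm i).2.1
      · exact (C.comm i).2.2.2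
  have h2 : h⁻¹ * g = 1 :=
    snd_eq_of_fst_eq C.surj (Gam_le_blockSub C.blk hk) (Subgroup.one_mem _) h1
  have : g = h * (h⁻¹ * g) := by group
  rw [this, h2, mul_one]

theorem card_Gam_le (C : Cert X Y a b R1 R2 β) : Nat.card (Gam X Y a b) ≤ N := by
  have hinj : Function.Injective (fun g : Gam X Y a b => g.1.1 0) := by
    intro g h hgh
    exact Subtype.ext (eq_of_apply_zero C g.2 h.2 hgh)
  have := Nat.card_le_card_of_injective _ hinj
  rwa [Nat.card_fin] at this

end main

end Cfsg.Agent.Lib.Helper1.RegCov
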