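import Mathlib
import Cfsg.Agent.Lib.Helper1.S9G

/-!
# Stem extension with kernel `ℤ/6` from a certificate (helper1)
-/

set_option autoImplicit false
set_option linter.unusedSectionVars false

namespace Cfsg.Agent.Lib.Helper1.RegCov

open Equiv

variable {N n : ℕ} [NeZero N] {X Y : Perm (Fin N)} {a b : Perm (Fin n)}
  {R1 R2 : Fin N → Fin N} {β : Fin N → Fin n}

/-- the projection to the alternating group -/
def rho (X Y : Perm (Fin N)) (a b : Perm (Fin n)) (ha : a ∈ alternatingGroup (Fin n))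
    (hb : b ∈ alternatingGroup (Fin n)) : Gam X Y a b →* alternatingGroup (Fin n) :=
  ((MonoidHom.snd _ _).comp (Gam X Y a b).subtype).codRestrict _
    (fun g => snd_mem_alt X Y a b ha hb g.2)

theorem rho_apply (ha : a ∈ alternatingGroup (Fin n)) (hb : b ∈ alternatingGroup (Fin n))
    (g : Gam X Y a b) : ((rho X Y a b ha hb g : alternatingGroup (Fin n)) : Perm (Fin n)) = g.1.2 :=
  rfl

theorem rho_surjective (ha : a ∈ alternatingGroup (Fin n)) (hb : b ∈ alternatingGroup (Fin n))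
    (hgen : alternatingGroup (Fin n) ≤ Subgroup.closure {a, b}) :
    Function.Surjective (rho X Y a b ha hb) := by
  have key : ∀ t ∈ Subgroup.closure ({a, b} : Set (Perm (Fin n))),
      ∃ g ∈ Gam X Y a b, g.2 = t := by
    intro t ht
    induction ht using Subgroup.closure_induction with
    | mem s hs =>
      rcases hs with rfl | rfl
      · exact ⟨(X, s), Subgroup.subset_closure (Or.inl rfl), rfl⟩
      · exact ⟨(Y, s), Subgroup.subset_closure (Or.inr rfl), rfl⟩
    | one => exact ⟨1, Subgroup.one_mem _, rfl⟩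
    | mul t₁ t₂ _ _ h₁ h₂ =>
      obtain ⟨g₁, hg₁, rfl⟩ := h₁
      obtain ⟨g₂, hg₂, rfl⟩ := h₂
      exact ⟨g₁ * g₂, Subgroup.mul_mem _ hg₁ hg₂, rfl⟩
    | inv t₁ _ h₁ =>
      obtain ⟨g₁, hg₁, rfl⟩ := h₁
      exact ⟨g₁⁻¹, Subgroup.inv_mem _ hg₁, rfl⟩
  intro s
  obtain ⟨g, hg, hgs⟩ := key s.1 (hgen s.2)
  exact ⟨⟨g, hg⟩, Subtype.ext hgs⟩

theorem card_ker_le (C : Cert X Y a b R1 R2 β) (ha : a ∈ alternatingGroup (Fin n))
    (hb : b ∈ alternatingGroup (Fin n))
    (hgen : alternatingGroup (Fin n) ≤ Subgroup.closure {a, b})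
    (hN : N = 6 * Nat.card (alternatingGroup (Fin n))) :
    Nat.card (rho X Y a b ha hb).ker ≤ 6 := by
  have h1 := (rho X Y a b ha hb).ker.card_mul_index
  rw [Subgroup.index_ker, MonoidHom.range_eq_top.mpr (rho_surjective ha hb hgen),
    Subgroup.card_top] at h1
  have h2 := card_Gam_le C
  rw [← h1] at h2
  have h3 : Nat.card (rho X Y a b ha hb).ker * Nat.card (alternatingGroup (Fin n))
      ≤ 6 * Nat.card (alternatingGroup (Fin n)) := le_trans h2 (le_of_eq hN)
  have hpos : 0 < Nat.card (alternatingGroup (Fin n)) := Nat.card_pos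
  exact Nat.le_of_mul_le_mul_right h3 hpos

theorem stem_of_cert (C : Cert X Y a b R1 R2 β) (ha : a ∈ alternatingGroup (Fin n))
    (hb : b ∈ alternatingGroup (Fin n))
    (hgen : alternatingGroup (Fin n) ≤ Subgroup.closure {a, b})
    (hN : N = 6 * Nat.card (alternatingGroup (Fin n)))
    (z : Gam X Y a b) (hzc : z ∈ commutator (Gam X Y a b)) (hz1 : z.1.2 = 1)
    (hz6 : (z ^ 6).1.1 0 = 0) (hz2 : (z ^ 2).1.1 0 ≠ 0) (hz3 : (z ^ 3).1.1 0 ≠ 0)
    (hzA : (X * z.1.1) 0 = (z.1.1 * X) 0) (hzB : (Y * z.1.1) 0 = (z.1.1 * Y) 0) :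
    ∃ (Γ : Type) (_ : Group Γ) (_ : Finite Γ) (σ : Γ →* alternatingGroup (Fin n)),
      Cfsg.IsStemExtension σ ∧ Nonempty (σ.ker ≃* Multiplicative (ZMod 6)) := by
  classical
  have hone : ∀ g : Gam X Y a b, g.1.1 0 = 0 → g = 1 := by
    intro g hg
    exact Subtype.ext (eq_of_apply_zero C g.2 (Subgroup.one_mem _) hg)
  have e6 : z ^ 6 = 1 := hone _ hz6
  have e2 : z ^ 2 ≠ 1 := by
    intro h
    apply hz2
    rw [h]
    rfl
  have e3 : z ^ 3 ≠ 1 := by
    intro h
    apply hz3
    rw [h]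
    rfl
  have hord : orderOf z = 6 := by
    have hd : orderOf z ∣ 6 := orderOf_dvd_of_pow_eq_one e6
    have hle := Nat.le_of_dvd (by norm_num) hd
    have hpos := orderOf_pos z
    have h2 : orderOf z ≠ 2 := fun h => e2 (by rw [← h]; exact pow_orderOf_eq_one z)
    have h3 : orderOf z ≠ 3 := fun h => e3 (by rw [← h]; exact pow_orderOf_eq_one z)
    have h1 : orderOf z ≠ 1 := by
      intro h
      apply e2
      rw [orderOf_eq_one_iff.mp h, one_pow]
    interval_cases h : orderOf z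
    · exact absurd rfl h1
    · exact absurd rfl h2
    · exact absurd rfl h3
    · omega
    · omega
    · rfl
  have hzker : z ∈ (rho X Y a b ha hb).ker := by
    rw [MonoidHom.mem_ker]
    exact Subtype.ext hz1
  have hle : Subgroup.zpowers z ≤ (rho X Y a b ha hb).ker := by
    rw [Subgroup.zpowers_le]
    exact hzker
  have hcard : Nat.card (Subgroup.zpowers z) = 6 := by rw [Nat.card_zpowers, hord]
  have hker : (rho X Y a b ha hb).ker = Subgroup.zpowers z := by
    symm
    apply Subgroup.eq_of_le_of_card_ge hle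
    rw [hcard]
    exact card_ker_le C ha hb hgen hN
  -- centrality
  have hcomm : ∀ g ∈ Gam X Y a b, g * z.1 = z.1 * g := by
    intro g hg
    induction hg using Subgroup.closure_induction with
    | mem s hs =>
      rcases hs with rfl | rfl
      · exact eq_of_apply_zero C
          (Subgroup.mul_mem _ (Subgroup.subset_closure (Or.inl rfl)) z.2)
          (Subgroup.mul_mem _ z.2 (Subgroup.subset_closure (Or.inl rfl))) hzA
      · exact eq_of_apply_zero C
          (Subgroup.mul_mem _ (Subgroup.subset_closure (Or.inr rfl)) z.2)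
          (Subgroup.mul_mem _ z.2 (Subgroup.subset_closure (Or.inr rfl))) hzB
    | one => rw [one_mul, mul_one]
    | mul g₁ g₂ _ _ h₁ h₂ => rw [mul_assoc, h₂, ← mul_assoc, h₁, mul_assoc]
    | inv g₁ _ h₁ =>
      have : g₁⁻¹ * z.1 = g₁⁻¹ * (z.1 * g₁) * g₁⁻¹ := by group
      rw [this, ← h₁]
      group
  have hzcent : z ∈ Subgroup.center (Gam X Y a b) := by
    rw [Subgroup.mem_center_iff]
    intro g
    exact Subtype.ext (hcomm g.1 g.2)
  refine ⟨Gam X Y a b, inferInstance, inferInstance, rho X Y a b ha hb,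
    ⟨rho_surjective ha hb hgen, ?_, ?_⟩, ?_⟩
  · rw [hker, Subgroup.zpowers_le]
    exact hzcent
  · rw [hker, Subgroup.zpowers_le]
    exact hzc
  · have hcyc : IsCyclic (rho X Y a b ha hb).ker := by
      refine ⟨⟨⟨z, hzker⟩, fun x => ?_⟩⟩
      have hx : x.1 ∈ Subgroup.zpowers z := by
        rw [← hker]
        exact x.2
      obtain ⟨k, hk⟩ := Subgroup.mem_zpowers_iff.mp hx
      refine Subgroup.mem_zpowers_iff.mpr ⟨k, ?_⟩
      apply Subtype.ext
      rw [← hk]
      simp
    have hc1 : Nat.card (rho X Y a b ha hb).ker = Nat.card (Multiplicative (ZMod 6)) := by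
      rw [hker, hcard, Nat.card_eq_fintype_card, Fintype.card_multiplicative, ZMod.card]
    exact ⟨mulEquivOfCyclicCardEq hc1⟩

end Cfsg.Agent.Lib.Helper1.RegCov
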