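import Mathlib
import Cfsg.Agent.Lib.Helper1.S9H

/-!
# Table certificates: from packed tables to the certificate structure (helper1)
-/

set_option autoImplicit false
set_option linter.unusedSectionVars false

namespace Cfsg.Agent.Lib.Helper1.RegCov

open Equiv

/-- check `p` on the `2 ^ d` numbers from `lo` on, by binary splitting -/
def allD (p : ℕ → Bool) : ℕ → ℕ → Bool
  | 0, lo => p lo
  | d + 1, lo => allD p d lo && allD p d (lo + 2 ^ d)

theorem allD_spec (p : ℕ → Bool) :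
    ∀ d lo, allD p d lo = true → ∀ i, lo ≤ i → i < lo + 2 ^ d → p i = true := by
  intro d
  induction d with
  | zero =>
    intro lo h i h1 h2
    have : i = lo := by rw [pow_zero] at h2; omega
    rw [this]
    exact h
  | succ d ih =>
    intro lo h i h1 h2
    rw [allD, Bool.and_eq_true] at h
    rw [pow_succ] at h2
    by_cases hi : i < lo + 2 ^ d
    · exact ih lo h.1 i h1 hi
    · exact ih (lo + 2 ^ d) h.2 i (by omega) (by omega)

section alt

variable {α : Type*} [Fintype α] [DecidableEq α]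

/-- a subgroup containing `s * s₀` for all swaps `s` contains the alternating group -/
theorem alternating_le_of_swaps (H : Subgroup (Perm α)) (s₀ : Perm α) (hs₀ : s₀.IsSwap)
    (hE : ∀ s : Perm α, s.IsSwap → s * s₀ ∈ H) : alternatingGroup α ≤ H := by
  have h0 : s₀ * s₀ = 1 := by
    obtain ⟨x, y, hxy, rfl⟩ := hs₀
    simp
  have hpair : ∀ s t : Perm α, s.IsSwap → t.IsSwap → s * t ∈ H := by
    intro s t hs ht
    have ht2 : t * t = 1 := by
      obtain ⟨x, y, hxy, rfl⟩ := ht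
      simp
    have h1 : s * s₀ ∈ H := hE s hs
    have h2 : t * s₀ ∈ H := hE t ht
    have h3 : (t * s₀)⁻¹ = s₀ * t := by
      rw [mul_inv_rev]
      congr 1
      · exact inv_eq_of_mul_eq_one_left h0
      · exact inv_eq_of_mul_eq_one_left ht2
    have h4 : s * t = (s * s₀) * (t * s₀)⁻¹ := by
      rw [h3, mul_assoc, ← mul_assoc s₀, h0, one_mul]
    rw [h4]
    exact H.mul_mem h1 (H.inv_mem h2)
  intro σ hσ
  suffices hind :
      ∀ (n : ℕ) (l : List (Perm α)) (_ : ∀ g, g ∈ l → g.IsSwap) (_ : l.length = 2 * n),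
        l.prod ∈ H by
    obtain ⟨l, rfl, hl⟩ := Equiv.Perm.truncSwapFactors σ
    obtain ⟨n, hn⟩ := (Equiv.Perm.prod_list_swap_mem_alternatingGroup_iff_even_length hl).1 hσ
    rw [← two_mul] at hn
    exact hind n l hl hn
  intro n
  induction n with
  | zero =>
    intro l hl hn
    simp [List.length_eq_zero_iff.1 hn, one_mem]
  | succ n ih =>
    intro l hl hn
    rw [Nat.mul_succ] at hn
    obtain ⟨x, l, rfl⟩ := l.exists_of_length_succ hn
    rw [List.length_cons, Nat.succ_inj] at hn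
    obtain ⟨y, l, rfl⟩ := l.exists_of_length_succ hn
    rw [List.prod_cons, List.prod_cons, ← mul_assoc]
    rw [List.length_cons, Nat.succ_inj] at hn
    exact mul_mem
      (hpair x y (hl x List.mem_cons_self)
        (hl y (List.mem_cons_of_mem x List.mem_cons_self)))
      (ih _ (fun g hg => hl g (List.mem_cons_of_mem _ (List.mem_cons_of_mem _ hg))) hn)

/-- evaluation of a positive word -/
def evP {G : Type*} [Monoid G] (x y : G) (l : List Bool) : G :=
  (l.map fun c => if c then x else y).prod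

theorem evP_mem {G : Type*} [Group G] (x y : G) (l : List Bool) :
    evP x y l ∈ Subgroup.closure ({x, y} : Set G) := by
  apply Subgroup.list_prod_mem
  intro g hg
  rw [List.mem_map] at hg
  obtain ⟨c, -, rfl⟩ := hg
  cases c
  · exact Subgroup.subset_closure (Or.inr rfl)
  · exact Subgroup.subset_closure (Or.inl rfl)

end alt

section tables

variable (N n : ℕ) (fX fXi fY fYi fXr fYr fB fP fa fb : ℕ → ℕ)

/-- the pointwise conditions on the tables -/
def Good (i : ℕ) : Prop :=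
  (fX i < N ∧ fXi i < N ∧ fY i < N ∧ fYi i < N ∧ fXr i < N ∧ fYr i < N ∧ fB i < n) ∧
  (fXi (fX i) = i ∧ fX (fXi i) = i ∧ fYi (fY i) = i ∧ fY (fYi i) = i) ∧
  (fX (fXr i) = fXr (fX i) ∧ fX (fYr i) = fYr (fX i) ∧ fY (fXr i) = fXr (fY i) ∧
    fY (fYr i) = fYr (fY i)) ∧
  (i = 0 ∨ (fP i < i ∧ (fXr (fP i) = i ∨ fYr (fP i) = i))) ∧
  (fB (fX i) = fa (fB i) ∧ fB (fY i) = fb (fB i))

instance : DecidablePred (Good N n fX fXi fY fYi fXr fYr fB fP fa fb) := fun i => by
  unfold Good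
  infer_instance

/-- the Boolean check -/
def chk (i : ℕ) : Bool := decide (N ≤ i ∨ Good N n fX fXi fY fYi fXr fYr fB fP fa fb i)

variable {N n fX fXi fY fYi fXr fYr fB fP fa fb}

theorem good_of_chk {d : ℕ} (hd : N ≤ 2 ^ d)
    (h : allD (chk N n fX fXi fY fYi fXr fYr fB fP fa fb) d 0 = true) :
    ∀ i, i < N → Good N n fX fXi fY fYi fXr fYr fB fP fa fb i := by
  intro i hi
  have := allD_spec _ d 0 h i (Nat.zero_le _) (by omega)
  rw [chk, decide_eq_true_eq] at this
  rcases this with h' | h'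
  · omega
  · exact h'

variable (hg : ∀ i, i < N → Good N n fX fXi fY fYi fXr fYr fB fP fa fb i)

/-- permutation from a table and its inverse table -/
def mkPerm (f g : ℕ → ℕ) (hf : ∀ i, i < N → f i < N) (hg' : ∀ i, i < N → g i < N)
    (h1 : ∀ i, i < N → g (f i) = i) (h2 : ∀ i, i < N → f (g i) = i) : Perm (Fin N) where
  toFun i := ⟨f i.1, hf i.1 i.2⟩
  invFun i := ⟨g i.1, hg' i.1 i.2⟩
  left_inv i := Fin.ext (h1 i.1 i.2)
  right_inv i := Fin.ext (h2 i.1 i.2)

include hg in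
theorem cert_of_good [NeZero N] (X Y : Perm (Fin N)) (a b : Perm (Fin n)) (R1 R2 : Fin N → Fin N)
    (β : Fin N → Fin n)
    (hX : ∀ i : Fin N, (X i).1 = fX i.1) (hY : ∀ i : Fin N, (Y i).1 = fY i.1)
    (hR1 : ∀ i : Fin N, (R1 i).1 = fXr i.1) (hR2 : ∀ i : Fin N, (R2 i).1 = fYr i.1)
    (hβ : ∀ i : Fin N, (β i).1 = fB i.1)
    (ha : ∀ k : Fin n, (a k).1 = fa k.1) (hb : ∀ k : Fin n, (b k).1 = fb k.1)
    (hsurj : Function.Surjective β) : Cert X Y a b R1 R2 β := by
  refine ⟨?_, ?_, ?_, hsurj⟩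
  · intro i
    obtain ⟨-, -, ⟨c1, c2, c3, c4⟩, -, -⟩ := hg i.1 i.2
    refine ⟨Fin.ext ?_, Fin.ext ?_, Fin.ext ?_, Fin.ext ?_⟩
    · rw [hX, hR1, hR1, hX]; exact c1
    · rw [hX, hR2, hR2, hX]; exact c2
    · rw [hY, hR1, hR1, hY]; exact c3
    · rw [hY, hR2, hR2, hY]; exact c4
  · intro i hi
    obtain ⟨-, -, -, ht, -⟩ := hg i.1 i.2
    rcases ht with ht | ⟨hlt, ht⟩
    · exact absurd (Fin.ext ht) hi
    · refine ⟨⟨fP i.1, lt_trans hlt i.2⟩, hlt, ?_⟩
      rcases ht with ht | ht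
      · exact Or.inl (Fin.ext (by rw [hR1]; exact ht))
      · exact Or.inr (Fin.ext (by rw [hR2]; exact ht))
  · intro i
    obtain ⟨-, -, -, -, ⟨b1, b2⟩⟩ := hg i.1 i.2
    refine ⟨Fin.ext ?_, Fin.ext ?_⟩
    · rw [hβ, hX, ha, hβ]; exact b1
    · rw [hβ, hY, hb, hβ]; exact b2

end tables

end Cfsg.Agent.Lib.Helper1.RegCov
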