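import Mathlib
import Cfsg.Agent.Lib.Helper1.Ree3A
import Cfsg.Agent.Lib.Helper1.S9I

/-!
# The small Ree group over the field with three elements: kernel-checked table facts (helper1)
-/

set_option autoImplicit false

namespace Cfsg.Agent.Lib.Helper1.Ree3

open Cfsg.Lie Cfsg.Agent.Lib.Helper1.RegCov

/-- the order of the group -/
def N : ℕ := 1512

def lk11 (T k : ℕ) : ℕ := (T >>> (11 * k)) &&& 2047
def Ov (k : ℕ) : ℕ := (OT >>> (28 * k)) &&& 268435455
def IXv (k : ℕ) : ℕ := (IXT >>> (28 * k)) &&& 268435455
def IYv (k : ℕ) : ℕ := (IYT >>> (28 * k)) &&& 268435455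
def fX (k : ℕ) : ℕ := lk11 XT k
def fXi (k : ℕ) : ℕ := lk11 XiT k
def fY (k : ℕ) : ℕ := lk11 YT k
def fYi (k : ℕ) : ℕ := lk11 YiT k
def fR1 (k : ℕ) : ℕ := lk11 R1T k
def fR2 (k : ℕ) : ℕ := lk11 R2T k
def fP (k : ℕ) : ℕ := lk11 PT k
def kap (k : ℕ) : ℕ := (KT >>> (2 * k)) &&& 3
def p9 (k c : ℕ) : ℕ := (P9T >>> (36 * k + 4 * c)) &&& 15
def p9i (k c : ℕ) : ℕ := (P9iT >>> (36 * k + 4 * c)) &&& 15

/-- follow a path of right multiplications -/
def RwN (l : List Bool) (i : ℕ) : ℕ := l.foldl (fun i s => if s then fR1 i else fR2 i) i

/-- the numbers of the fourteen basis vectors -/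
def betaN (b : ℕ) : ℕ := RwN (bpath.getD b []) 0

def zN (n : ℕ) : ℕ := lk11 zT n

def interL (n b : ℕ) : List ℕ :=
  (List.range 6).map fun m => ((interTab.getD n 0) >>> (28 * (6 * b + m))) &&& 268435455

/-- evaluation of a positive word (`true ↦ X`, `false ↦ Y`) at a point -/
def evN (l : List Bool) (i : ℕ) : ℕ := l.foldr (fun c j => if c then fX j else fY j) i

def wX : List (ℕ × ZMod 3) := reeWordU 1 0 0 1
def wY : List (ℕ × ZMod 3) := reeWordV 1 0 1 0


theorem allD_of_forall (p : ℕ → Bool) :
    ∀ d lo, (∀ i, lo ≤ i → i < lo + 2 ^ d → p i = true) → allD p d lo = true := by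
  intro d
  induction d with
  | zero =>
    intro lo h
    exact h lo le_rfl (by simp)
  | succ d ih =>
    intro lo h
    rw [allD, Bool.and_eq_true]
    refine ⟨ih lo (fun i h1 h2 => h i h1 (by rw [pow_succ]; omega)),
      ih (lo + 2 ^ d) (fun i h1 h2 => h i (by omega) (by rw [pow_succ]; omega))⟩

theorem allD_join8 (p : ℕ → Bool) (h : ∀ c : Fin 8, allD p 8 (256 * c.val) = true) :
    allD p 11 0 = true := by
  apply allD_of_forall
  intro i _ hi
  have hc : i / 256 < 8 := by
    have : (2 : ℕ) ^ 11 = 2048 := by norm_num
    omega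
  exact allD_spec p 8 (256 * (i / 256)) (h ⟨i / 256, hc⟩) i (by omega) (by norm_num; omega)

set_option maxRecDepth 1000000 in
theorem fact_tab : allD (chk N 1 fX fXi fY fYi fR1 fR2 (fun _ => 0) fP id id) 11 0 = true := by
  decide +kernel

def chkAct (k : ℕ) : Bool :=
  decide (N ≤ k) || (chainOK wX (Ov (fX k)) [IXv k, Ov k] (Ov k) &&
    chainOK wY (Ov (fY k)) [IYv k, Ov k] (Ov k) &&
    (k == 0 || (List.range 14).any fun i => dg (Ov k) i % 3 != dg (Ov 0) i % 3))

set_option maxRecDepth 1000000 in
theorem fact_act_0 : allD chkAct 8 0 = true := by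
  decide +kernel

set_option maxRecDepth 1000000 in
theorem fact_act_1 : allD chkAct 8 256 = true := by
  decide +kernel

set_option maxRecDepth 1000000 in
theorem fact_act_2 : allD chkAct 8 512 = true := by
  decide +kernel

set_option maxRecDepth 1000000 in
theorem fact_act_3 : allD chkAct 8 768 = true := by
  decide +kernel

set_option maxRecDepth 1000000 in
theorem fact_act_4 : allD chkAct 8 1024 = true := by
  decide +kernel

set_option maxRecDepth 1000000 in
theorem fact_act_5 : allD chkAct 8 1280 = true := by
  decide +kernel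

set_option maxRecDepth 1000000 in
theorem fact_act_6 : allD chkAct 8 1536 = true := by
  decide +kernel

set_option maxRecDepth 1000000 in
theorem fact_act_7 : allD chkAct 8 1792 = true := by
  decide +kernel

theorem fact_act : allD chkAct 11 0 = true := by
  apply allD_join8
  intro c
  fin_cases c
  · exact fact_act_0
  · exact fact_act_1
  · exact fact_act_2
  · exact fact_act_3
  · exact fact_act_4
  · exact fact_act_5
  · exact fact_act_6
  · exact fact_act_7

theorem fact_base : fX 0 = fR1 0 ∧ fY 0 = fR2 0 ∧ Ov 0 = Ov 0 := by decide +kernel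

/-- the words are the table elements on the basis vectors -/
def chkWord (t u v : ZMod 3) (b : ℕ) : Bool :=
  let n := 9 * t.val + 3 * u.val + v.val
  decide (zN n < N) && decide (zN (27 + n) < N) &&
  chainOK (reeWordU 1 t u v) (Ov (RwN (bpath.getD b []) (zN n))) (interL n b) (Ov (betaN b)) &&
  chainOK (reeWordV 1 t u v) (Ov (RwN (bpath.getD b []) (zN (27 + n)))) (interL (27 + n) b)
    (Ov (betaN b))

set_option maxRecDepth 1000000 in
theorem fact_words_0 : ∀ (u v : ZMod 3) (b : Fin 14), chkWord 0 u v b.val = true := by
  decide +kernel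

set_option maxRecDepth 1000000 in
theorem fact_words_1 : ∀ (u v : ZMod 3) (b : Fin 14), chkWord 1 u v b.val = true := by
  decide +kernel

set_option maxRecDepth 1000000 in
theorem fact_words_2 : ∀ (u v : ZMod 3) (b : Fin 14), chkWord 2 u v b.val = true := by
  decide +kernel

theorem fact_words : ∀ (t u v : ZMod 3) (b : Fin 14), chkWord t u v b.val = true := by
  intro t
  have ht : t = 0 ∨ t = 1 ∨ t = 2 := by revert t; decide
  rcases ht with rfl | rfl | rfl
  · exact fact_words_0
  · exact fact_words_1
  · exact fact_words_2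

/-- the nine-point action and the map to `ZMod 3` -/
def chkNine (k : ℕ) : Bool :=
  decide (N ≤ k) || (decide (kap k < 3) && kap (fX k) == (kap (fX 0) + kap k) % 3 &&
    kap (fY k) == (kap (fY 0) + kap k) % 3 &&
    (List.range 9).all fun c => decide (p9 k c < 9) && decide (p9i k c < 9) &&
      p9i k (p9 k c) == c && p9 k (p9i k c) == c && p9 (fX k) c == p9 (fX 0) (p9 k c) &&
      p9 (fY k) c == p9 (fY 0) (p9 k c))

set_option maxRecDepth 1000000 in
theorem fact_nine_0 : allD chkNine 8 0 = true := by
  decide +kernel

set_option maxRecDepth 1000000 in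
theorem fact_nine_1 : allD chkNine 8 256 = true := by
  decide +kernel

set_option maxRecDepth 1000000 in
theorem fact_nine_2 : allD chkNine 8 512 = true := by
  decide +kernel

set_option maxRecDepth 1000000 in
theorem fact_nine_3 : allD chkNine 8 768 = true := by
  decide +kernel

set_option maxRecDepth 1000000 in
theorem fact_nine_4 : allD chkNine 8 1024 = true := by
  decide +kernel

set_option maxRecDepth 1000000 in
theorem fact_nine_5 : allD chkNine 8 1280 = true := by
  decide +kernel

set_option maxRecDepth 1000000 in
theorem fact_nine_6 : allD chkNine 8 1536 = true := by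
  decide +kernel

set_option maxRecDepth 1000000 in
theorem fact_nine_7 : allD chkNine 8 1792 = true := by
  decide +kernel

theorem fact_nine : allD chkNine 11 0 = true := by
  apply allD_join8
  intro c
  fin_cases c
  · exact fact_nine_0
  · exact fact_nine_1
  · exact fact_nine_2
  · exact fact_nine_3
  · exact fact_nine_4
  · exact fact_nine_5
  · exact fact_nine_6
  · exact fact_nine_7

theorem fact_nine0 : kap 0 = 0 ∧ ∀ c : Fin 9, p9 0 c.val = c.val := by decide +kernel

/-- elements of the derived group fix at most two points -/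
def chkFree (k : ℕ) : Bool :=
  decide (N ≤ k) || k == 0 || kap k != 0 ||
    decide (((Finset.range 9).filter (fun c => p9 k c = c)).card ≤ 2)

set_option maxRecDepth 1000000 in
theorem fact_free_0 : allD chkFree 8 0 = true := by
  decide +kernel

set_option maxRecDepth 1000000 in
theorem fact_free_1 : allD chkFree 8 256 = true := by
  decide +kernel

set_option maxRecDepth 1000000 in
theorem fact_free_2 : allD chkFree 8 512 = true := by
  decide +kernel

set_option maxRecDepth 1000000 in
theorem fact_free_3 : allD chkFree 8 768 = true := by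
  decide +kernel

set_option maxRecDepth 1000000 in
theorem fact_free_4 : allD chkFree 8 1024 = true := by
  decide +kernel

set_option maxRecDepth 1000000 in
theorem fact_free_5 : allD chkFree 8 1280 = true := by
  decide +kernel

set_option maxRecDepth 1000000 in
theorem fact_free_6 : allD chkFree 8 1536 = true := by
  decide +kernel

set_option maxRecDepth 1000000 in
theorem fact_free_7 : allD chkFree 8 1792 = true := by
  decide +kernel

theorem fact_free : allD chkFree 11 0 = true := by
  apply allD_join8
  intro c
  fin_cases c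
  · exact fact_free_0
  · exact fact_free_1
  · exact fact_free_2
  · exact fact_free_3
  · exact fact_free_4
  · exact fact_free_5
  · exact fact_free_6
  · exact fact_free_7

set_option maxRecDepth 1000000 in
theorem fact_cnt : (Finset.univ.filter fun k : Fin N => kap k.1 = 0).card = 504 := by
  decide +kernel

theorem fact_rel : evN [true, true, true] 0 = 0 ∧ evN [false, false, false] 0 = 0 ∧
    evN (true :: (vW ++ uW)) 0 = evN (uW ++ vW) 0 := by decide +kernel

end Cfsg.Agent.Lib.Helper1.Ree3
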