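import Mathlib
import Cfsg.Agent.Lib.Helper1.Ree3B
import Cfsg.Agent.Lib.Helper5.ChevBN

/-!
# The small Ree group over the field with three elements as a regular permutation group (helper1)
-/

set_option autoImplicit false
set_option linter.unusedSectionVars false

namespace Cfsg.Agent.Lib.Helper1.Ree3

open Cfsg.Lie Matrix Equiv Cfsg.Agent.Lib.Helper1.RegCov

instance : NeZero N := ⟨by decide⟩

theorem good : ∀ i, i < N → Good N 1 fX fXi fY fYi fR1 fR2 (fun _ => 0) fP id id i :=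
  good_of_chk (d := 11) (by decide) fact_tab

def pX : Perm (Fin N) :=
  mkPerm fX fXi (fun i hi => (good i hi).1.1) (fun i hi => (good i hi).1.2.1)
    (fun i hi => (good i hi).2.1.1) (fun i hi => (good i hi).2.1.2.1)

def pY : Perm (Fin N) :=
  mkPerm fY fYi (fun i hi => (good i hi).1.2.2.1) (fun i hi => (good i hi).1.2.2.2.1)
    (fun i hi => (good i hi).2.1.2.2.1) (fun i hi => (good i hi).2.1.2.2.2)

def R1 : Fin N → Fin N := fun i => ⟨fR1 i.1, (good i.1 i.2).1.2.2.2.2.1⟩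
def R2 : Fin N → Fin N := fun i => ⟨fR2 i.1, (good i.1 i.2).1.2.2.2.2.2.1⟩

theorem pX_val (i : Fin N) : (pX i).1 = fX i.1 := rfl
theorem pY_val (i : Fin N) : (pY i).1 = fY i.1 := rfl

theorem comm_gen : ∀ s ∈ ({pX, pY} : Set (Perm (Fin N))), ∀ i, s (R1 i) = R1 (s i) := by
  rintro s (rfl | rfl) i
  · exact Fin.ext (good i.1 i.2).2.2.1.1
  · exact Fin.ext (good i.1 i.2).2.2.1.2.2.1

theorem comm_gen2 : ∀ s ∈ ({pX, pY} : Set (Perm (Fin N))), ∀ i, s (R2 i) = R2 (s i) := by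
  rintro s (rfl | rfl) i
  · exact Fin.ext (good i.1 i.2).2.2.1.2.1
  · exact Fin.ext (good i.1 i.2).2.2.1.2.2.2

theorem tree : ∀ i : Fin N, i ≠ 0 → ∃ j, j < i ∧ (R1 j = i ∨ R2 j = i) := by
  intro i hi
  obtain ⟨-, -, -, ht, -⟩ := good i.1 i.2
  rcases ht with ht | ⟨hlt, ht⟩
  · exact absurd (Fin.ext ht) hi
  · refine ⟨⟨fP i.1, lt_trans hlt i.2⟩, hlt, ?_⟩
    rcases ht with ht | ht
    · exact Or.inl (Fin.ext ht)
    · exact Or.inr (Fin.ext ht)

/-- the orbit of vectors -/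
def Ovec (k : Fin N) : chevG2.Idx → ZMod 3 := vecOf (Ov k.1)

theorem hG2 : chevG2 ∈ [chevG2, chevB2, chevD4, chevF4, chevE6, chevE7, chevE8] :=
  List.mem_cons_self

/-- the two generators as matrices -/
noncomputable def gX : GL chevG2.Idx (ZMod 3) := Cfsg.Agent.Lib.Helper5.ChevBN.wordGL chevG2 hG2 wX
noncomputable def gY : GL chevG2.Idx (ZMod 3) := Cfsg.Agent.Lib.Helper5.ChevBN.wordGL chevG2 hG2 wY

theorem gX_val : (gX : Matrix chevG2.Idx chevG2.Idx (ZMod 3)) = chevG2.wordMat (ZMod 3) wX :=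
  Cfsg.Agent.Lib.Helper5.ChevBN.wordGL_val chevG2 hG2 wX
theorem gY_val : (gY : Matrix chevG2.Idx chevG2.Idx (ZMod 3)) = chevG2.wordMat (ZMod 3) wY :=
  Cfsg.Agent.Lib.Helper5.ChevBN.wordGL_val chevG2 hG2 wY

theorem act_k (k : Fin N) :
    chainOK wX (Ov (fX k.1)) [IXv k.1, Ov k.1] (Ov k.1) = true ∧
    chainOK wY (Ov (fY k.1)) [IYv k.1, Ov k.1] (Ov k.1) = true ∧
    (k.1 = 0 ∨ ∃ i, i < 14 ∧ dg (Ov k.1) i % 3 ≠ dg (Ov 0) i % 3) := by
  have := allD_spec _ 11 0 fact_act k.1 (Nat.zero_le _) (lt_of_lt_of_le k.2 (by decide))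
  simp only [chkAct, Bool.or_eq_true, Bool.and_eq_true, decide_eq_true_eq, beq_iff_eq,
    bne_iff_ne, List.any_eq_true, List.mem_range] at this
  rcases this with h | h
  · exact absurd k.2 (not_lt.mpr h)
  · exact ⟨h.1.1, h.1.2, h.2⟩

theorem gX_act (k : Fin N) : (gX : Matrix chevG2.Idx chevG2.Idx (ZMod 3)) *ᵥ Ovec k = Ovec (pX k) := by
  rw [gX_val]
  exact chain_sound _ _ _ _ (act_k k).1

theorem gY_act (k : Fin N) : (gY : Matrix chevG2.Idx chevG2.Idx (ZMod 3)) *ᵥ Ovec k = Ovec (pY k) := by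
  rw [gY_val]
  exact chain_sound _ _ _ _ (act_k k).2.1

theorem Ovec_zero (k : Fin N) (h : Ovec k = Ovec 0) : k = 0 := by
  rcases (act_k k).2.2 with h0 | h0
  · exact Fin.ext h0
  · exfalso
    obtain ⟨i, hi, hne⟩ := h0
    apply hne
    have h1 := congrFun h (unidx i)
    unfold Ovec vecOf at h1
    rw [idx_unidx ⟨i, hi⟩] at h1
    exact (ZMod.natCast_eq_natCast_iff' _ _ 3).mp h1

end Cfsg.Agent.Lib.Helper1.Ree3
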