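import Mathlib
import Cfsg.Agent.Lib.Helper1.Ree3C

/-!
# The small Ree group over the field with three elements: the regular model (helper1)
-/

set_option autoImplicit false
set_option linter.unusedSectionVars false

namespace Cfsg.Agent.Lib.Helper1.Ree3

open Cfsg.Lie Matrix Equiv Cfsg.Agent.Lib.Helper1.RegCov

abbrev GLv := GL chevG2.Idx (ZMod 3)
abbrev Mv := Matrix chevG2.Idx chevG2.Idx (ZMod 3)

/-- pairs acting compatibly on the orbit -/
def Hs : Subgroup (GLv × Perm (Fin N)) where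
  carrier := {p | ∀ k, (p.1 : Mv) *ᵥ Ovec k = Ovec (p.2 k)}
  one_mem' := by
    intro k
    show ((1 : GLv) : Mv) *ᵥ Ovec k = Ovec ((1 : Perm (Fin N)) k)
    rw [Units.val_one, Matrix.one_mulVec]
    rfl
  mul_mem' := by
    intro p q hp hq k
    show ((p.1 * q.1 : GLv) : Mv) *ᵥ Ovec k = Ovec ((p.2 * q.2) k)
    rw [Units.val_mul, ← Matrix.mulVec_mulVec, hq k, hp (q.2 k)]
    rfl
  inv_mem' := by
    intro p hp k
    show ((p.1⁻¹ : GLv) : Mv) *ᵥ Ovec k = Ovec (p.2⁻¹ k)
    have h := hp (p.2⁻¹ k)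
    rw [p_apply_inv] at h
    rw [← h, Matrix.mulVec_mulVec, ← Units.val_mul, inv_mul_cancel, Units.val_one,
      Matrix.one_mulVec]

/-- the model group -/
def Dl : Subgroup (GLv × Perm (Fin N)) := Subgroup.closure {(gX, pX), (gY, pY)}

theorem Dl_le_Hs : Dl ≤ Hs := by
  rw [Dl, Subgroup.closure_le]
  rintro p (rfl | rfl)
  · exact gX_act
  · exact gY_act

theorem snd_mem {p : GLv × Perm (Fin N)} (hp : p ∈ Dl) :
    p.2 ∈ Subgroup.closure ({pX, pY} : Set (Perm (Fin N))) := by
  have h : Dl ≤ (Subgroup.closure ({pX, pY} : Set (Perm (Fin N)))).comap (MonoidHom.snd _ _) := by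
    rw [Dl, Subgroup.closure_le]
    rintro p (rfl | rfl)
    · exact Subgroup.subset_closure (Or.inl rfl)
    · exact Subgroup.subset_closure (Or.inr rfl)
  exact h hp

theorem comm1 {p : GLv × Perm (Fin N)} (hp : p ∈ Dl) (i : Fin N) : p.2 (R1 i) = R1 (p.2 i) :=
  comm_of_mem_closure comm_gen (snd_mem hp) i

theorem comm2 {p : GLv × Perm (Fin N)} (hp : p ∈ Dl) (i : Fin N) : p.2 (R2 i) = R2 (p.2 i) :=
  comm_of_mem_closure comm_gen2 (snd_mem hp) i

/-- follow a path of right multiplications -/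
def RwF (l : List Bool) (i : Fin N) : Fin N := l.foldl (fun i s => if s then R1 i else R2 i) i

theorem RwF_val (l : List Bool) : ∀ i : Fin N, (RwF l i).1 = RwN l i.1 := by
  induction l with
  | nil => intro i; rfl
  | cons s l ih =>
    intro i
    show (RwF l (if s then R1 i else R2 i)).1 = RwN l (if s then fR1 i.1 else fR2 i.1)
    rw [ih]
    cases s <;> rfl

theorem RwF_comm {p : GLv × Perm (Fin N)} (hp : p ∈ Dl) (l : List Bool) :
    ∀ i : Fin N, p.2 (RwF l i) = RwF l (p.2 i) := by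
  induction l with
  | nil => intro i; rfl
  | cons s l ih =>
    intro i
    show p.2 (RwF l (if s then R1 i else R2 i)) = RwF l (if s then R1 (p.2 i) else R2 (p.2 i))
    rw [ih]
    cases s
    · simp only [Bool.false_eq_true, if_false]; rw [comm2 hp]
    · simp only [if_true]; rw [comm1 hp]

/-- the basis vectors -/
def betaF (b : chevG2.Idx) : Fin N := RwF (bpath.getD (idx b) []) 0

/-- the matrix of basis vectors and its inverse -/
def Bm : Mv := fun i b => vecOf (Ov (betaN (idx b))) i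
def Cm : Mv := fun i j => ((dg CmT (14 * idx i + idx j) : ℕ) : ZMod 3)

set_option maxRecDepth 100000 in
theorem fact_B0 : ∀ i j : Fin 14, (Bm * Cm) (unidx i.val) (unidx j.val)
    = (1 : Mv) (unidx i.val) (unidx j.val) := by
  decide +kernel

theorem fact_B : Bm * Cm = 1 := by
  ext i j
  have := fact_B0 ⟨idx i, idx_lt i⟩ ⟨idx j, idx_lt j⟩
  dsimp only at this
  rw [unidx_idx, unidx_idx] at this
  exact this

theorem Ovec_beta (b : chevG2.Idx) : Ovec (betaF b) = fun i => Bm i b := by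
  funext i
  show vecOf (Ov (betaF b).1) i = vecOf (Ov (betaN (idx b))) i
  rw [betaF, RwF_val]
  rfl

theorem eq_of_basis {M M' : Mv} (h : ∀ b, M *ᵥ Ovec (betaF b) = M' *ᵥ Ovec (betaF b)) : M = M' := by
  have h1 : M * Bm = M' * Bm := by
    ext i b
    have := congrFun (h b) i
    rw [Ovec_beta] at this
    exact this
  calc M = M * (Bm * Cm) := by rw [fact_B, mul_one]
    _ = (M * Bm) * Cm := by rw [mul_assoc]
    _ = (M' * Bm) * Cm := by rw [h1]
    _ = M' * (Bm * Cm) := by rw [mul_assoc]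
    _ = M' := by rw [fact_B, mul_one]

theorem eq_of_snd_eq {p q : GLv × Perm (Fin N)} (hp : p ∈ Hs) (hq : q ∈ Hs) (h : p.2 = q.2) :
    p = q := by
  apply Prod.ext _ h
  apply Units.ext
  apply eq_of_basis
  intro b
  rw [hp (betaF b), hq (betaF b), h]

theorem eq_one_of_zero {p : GLv × Perm (Fin N)} (hp : p ∈ Dl) (h0 : p.2 0 = 0) : p = 1 := by
  have h1 : p.2 = 1 := eq_one_of_fix comm_gen comm_gen2 tree (snd_mem hp) h0
  exact eq_of_snd_eq (Dl_le_Hs hp) (Subgroup.one_mem _) h1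

theorem eq_of_zero {p q : GLv × Perm (Fin N)} (hp : p ∈ Dl) (hq : q ∈ Dl) (h0 : p.2 0 = q.2 0) :
    p = q := by
  have hk : q⁻¹ * p ∈ Dl := Subgroup.mul_mem _ (Subgroup.inv_mem _ hq) hp
  have h1 : q⁻¹ * p = 1 := by
    apply eq_one_of_zero hk
    show q.2⁻¹ (p.2 0) = 0
    rw [h0, p_inv_apply]
  have : p = q * (q⁻¹ * p) := by group
  rw [this, h1, mul_one]

theorem base0 : pX 0 = R1 0 ∧ pY 0 = R2 0 :=
  ⟨Fin.ext fact_base.1, Fin.ext fact_base.2.1⟩

theorem trans_Dl : ∀ i : Fin N, ∃ p ∈ Dl, p.2 0 = i := by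
  have key : ∀ k : ℕ, ∀ i : Fin N, i.1 = k → ∃ p ∈ Dl, p.2 0 = i := by
    intro k
    induction k using Nat.strong_induction_on with
    | _ k ih =>
      intro i hi
      by_cases hi0 : i = 0
      · exact ⟨1, Subgroup.one_mem _, by rw [hi0]; rfl⟩
      · obtain ⟨j, hj, hr⟩ := tree i hi0
        obtain ⟨p, hp, hpj⟩ := ih j.1 (by rw [← hi]; exact hj) j rfl
        rcases hr with hr | hr
        · refine ⟨p * (gX, pX), Subgroup.mul_mem _ hp (Subgroup.subset_closure (Or.inl rfl)), ?_⟩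
          show p.2 (pX 0) = i
          rw [base0.1, comm1 hp, hpj, hr]
        · refine ⟨p * (gY, pY), Subgroup.mul_mem _ hp (Subgroup.subset_closure (Or.inr rfl)), ?_⟩
          show p.2 (pY 0) = i
          rw [base0.2, comm2 hp, hpj, hr]
  intro i
  exact key i.1 i rfl

theorem card_Dl : Nat.card Dl = N := by
  have hbij : Function.Bijective (fun g : Dl => g.1.2 0) := by
    constructor
    · intro g h hgh
      exact Subtype.ext (eq_of_zero g.2 h.2 hgh)
    · intro i
      obtain ⟨p, hp, hpi⟩ := trans_Dl i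
      exact ⟨⟨p, hp⟩, hpi⟩
  rw [Nat.card_congr (Equiv.ofBijective _ hbij), Nat.card_fin]

end Cfsg.Agent.Lib.Helper1.Ree3
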