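import Mathlib
import Cfsg.Agent.Lib.Helper1.Ree3F

/-!
# The small Ree group over the field with three elements is the regular model (helper1)
-/

set_option autoImplicit false
set_option linter.unusedSectionVars false

namespace Cfsg.Agent.Lib.Helper1.Ree3

open Cfsg.Lie Matrix Equiv Cfsg.Agent.Lib.Helper1.RegCov

theorem Ovec_betaF (b : chevG2.Idx) : Ovec (betaF b) = vecOf (Ov (betaN (idx b))) := by
  show vecOf (Ov (betaF b).1) = vecOf (Ov (betaN (idx b)))
  rw [betaF, RwF_val]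
  rfl

theorem word_mem_aux (w : List (ℕ × ZMod 3)) (z : ℕ) (hz : z < N)
    (hch : ∀ b : Fin 14, ∃ vs, chainOK w (Ov (RwN (bpath.getD b.val []) z)) vs
      (Ov (betaN b.val)) = true) :
    ∃ p ∈ Dl, (p.1 : Mv) = chevG2.wordMat (ZMod 3) w := by
  obtain ⟨p, hp, hpz⟩ := trans_Dl ⟨z, hz⟩
  refine ⟨p, hp, ?_⟩
  apply eq_of_basis
  intro b
  obtain ⟨vs, hvs⟩ := hch ⟨idx b, idx_lt b⟩
  have h1 := chain_sound _ _ _ _ hvs
  rw [Dl_le_Hs hp (betaF b), Ovec_betaF, h1]
  show vecOf (Ov (p.2 (betaF b)).1) = _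
  rw [betaF, RwF_comm hp, hpz, RwF_val]

theorem word_mem (w : List (ℕ × ZMod 3)) (hw : w ∈ g2Words (ZMod 3) 1) :
    ∃ p ∈ Dl, (p.1 : Mv) = chevG2.wordMat (ZMod 3) w := by
  obtain ⟨t, u, v, h⟩ := hw
  have hf : ∀ b : Fin 14, chkWord t u v b.val = true := fact_words t u v
  simp only [chkWord, Bool.and_eq_true, decide_eq_true_eq] at hf
  rcases h with rfl | rfl
  · exact word_mem_aux _ _ (hf 0).1.1.1 (fun b => ⟨_, (hf b).1.2⟩)
  · exact word_mem_aux _ _ (hf 0).1.1.2 (fun b => ⟨_, (hf b).2⟩)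

theorem wX_mem : wX ∈ g2Words (ZMod 3) 1 := ⟨0, 0, 1, Or.inl rfl⟩
theorem wY_mem : wY ∈ g2Words (ZMod 3) 1 := ⟨0, 1, 0, Or.inr rfl⟩

theorem G_eq : twistedG2 (ZMod 3) 1 = Dl.map (MonoidHom.fst GLv (Perm (Fin N))) := by
  apply le_antisymm
  · rw [twistedG2, ChevalleyDatum.genSubgroup, Subgroup.closure_le]
    rintro g ⟨w, hw, hg⟩
    obtain ⟨p, hp, hpw⟩ := word_mem w hw
    refine ⟨p, hp, ?_⟩
    apply Units.ext
    rw [hg]
    exact hpw
  · rw [Subgroup.map_le_iff_le_comap, Dl, Subgroup.closure_le]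
    rintro p (rfl | rfl)
    · exact Subgroup.subset_closure ⟨wX, wX_mem, gX_val⟩
    · exact Subgroup.subset_closure ⟨wY, wY_mem, gY_val⟩

theorem fst_eq_one {p : GLv × Perm (Fin N)} (hp : p ∈ Dl) (h1 : p.1 = 1) : p = 1 := by
  apply eq_one_of_zero hp
  apply Ovec_zero
  have := Dl_le_Hs hp 0
  rw [h1, Units.val_one, Matrix.one_mulVec] at this
  exact this.symm

/-- the projection to the matrix group -/
def fstHom : Dl →* GLv := (MonoidHom.fst GLv (Perm (Fin N))).comp Dl.subtype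

theorem fstHom_injective : Function.Injective fstHom := by
  rw [injective_iff_map_eq_one]
  intro p hp
  exact Subtype.ext (fst_eq_one p.2 hp)

theorem fstHom_range : fstHom.range = twistedG2 (ZMod 3) 1 := by
  rw [G_eq, fstHom, MonoidHom.range_comp, Subgroup.range_subtype]

/-- the small Ree group over `ZMod 3` is the model group -/
noncomputable def eG : Dl ≃* twistedG2 (ZMod 3) 1 :=
  (MonoidHom.ofInjective fstHom_injective).trans (MulEquiv.subgroupCongr fstHom_range)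

end Cfsg.Agent.Lib.Helper1.Ree3
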