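import Mathlib
import Cfsg.Agent.Lib.Helper1.Ree3G

/-!
# The derived group of the small Ree group over the field with three elements (helper1)
-/

set_option autoImplicit false
set_option linter.unusedSectionVars false

namespace Cfsg.Agent.Lib.Helper1.Ree3

open Cfsg.Lie Matrix Equiv Cfsg.Agent.Lib.Helper1.RegCov

section tablehom

variable {A : Type*} [Group A] (F : Fin N → A)

theorem table_mul {S : Set (Perm (Fin N))} (h0 : F 0 = 1)
    (hS : ∀ s ∈ S, ∀ j, F (s j) = F (s 0) * F j) {σ : Perm (Fin N)}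
    (hσ : σ ∈ Subgroup.closure S) : ∀ j, F (σ j) = F (σ 0) * F j := by
  induction hσ using Subgroup.closure_induction with
  | mem s hs => exact hS s hs
  | one => intro j; show F j = F 0 * F j; rw [h0, one_mul]
  | mul a b _ _ ha hb =>
    intro j
    show F (a (b j)) = F (a (b 0)) * F j
    rw [ha (b j), hb j, ha (b 0), mul_assoc]
  | inv a _ ha =>
    intro j
    have h1 := ha (a⁻¹ j)
    rw [p_apply_inv] at h1
    have h2 := ha (a⁻¹ 0)
    rw [p_apply_inv, h0] at h2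
    have h3 : F (a⁻¹ 0) = (F (a 0))⁻¹ := eq_inv_of_mul_eq_one_right h2.symm
    rw [h3, h1]
    group

/-- the homomorphism read off a table -/
def tableHom (h0 : F 0 = 1)
    (hS : ∀ s ∈ ({pX, pY} : Set (Perm (Fin N))), ∀ j, F (s j) = F (s 0) * F j) : Dl →* A where
  toFun p := F (p.1.2 0)
  map_one' := h0
  map_mul' p q := by
    show F (p.1.2 (q.1.2 0)) = F (p.1.2 0) * F (q.1.2 0)
    exact table_mul F h0 hS (snd_mem p.2) _

end tablehom

theorem nine_k (k : Fin N) :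
    (kap k.1 < 3 ∧ kap (fX k.1) = (kap (fX 0) + kap k.1) % 3 ∧
      kap (fY k.1) = (kap (fY 0) + kap k.1) % 3) ∧
    ∀ c, c < 9 → (p9 k.1 c < 9 ∧ p9i k.1 c < 9 ∧ p9i k.1 (p9 k.1 c) = c ∧ p9 k.1 (p9i k.1 c) = c ∧
      p9 (fX k.1) c = p9 (fX 0) (p9 k.1 c) ∧ p9 (fY k.1) c = p9 (fY 0) (p9 k.1 c)) := by
  have := allD_spec _ 11 0 fact_nine k.1 (Nat.zero_le _) (lt_of_lt_of_le k.2 (by decide))
  simp only [chkNine, Bool.or_eq_true, Bool.and_eq_true, decide_eq_true_eq, beq_iff_eq,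
    List.all_eq_true, List.mem_range] at this
  rcases this with h | h
  · exact absurd k.2 (not_lt.mpr h)
  · refine ⟨⟨h.1.1.1, h.1.1.2, h.1.2⟩, fun c hc => ?_⟩
    have := h.2 c hc
    exact ⟨this.1.1.1.1.1, this.1.1.1.1.2, this.1.1.1.2, this.1.1.2, this.1.2, this.2⟩

/-- the map to the group of order three -/
def Fk (k : Fin N) : Multiplicative (ZMod 3) := Multiplicative.ofAdd ((kap k.1 : ℕ) : ZMod 3)

theorem Fk_zero : Fk 0 = 1 := by
  show Multiplicative.ofAdd ((kap 0 : ℕ) : ZMod 3) = 1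
  rw [fact_nine0.1]
  rfl

theorem Fk_gen : ∀ s ∈ ({pX, pY} : Set (Perm (Fin N))), ∀ j, Fk (s j) = Fk (s 0) * Fk j := by
  rintro s (rfl | rfl) j
  · show Multiplicative.ofAdd ((kap (fX j.1) : ℕ) : ZMod 3)
      = Multiplicative.ofAdd (((kap (fX 0) : ℕ) : ZMod 3) + ((kap j.1 : ℕ) : ZMod 3))
    rw [(nine_k j).1.2.1, ZMod.natCast_mod, Nat.cast_add]
  · show Multiplicative.ofAdd ((kap (fY j.1) : ℕ) : ZMod 3)
      = Multiplicative.ofAdd (((kap (fY 0) : ℕ) : ZMod 3) + ((kap j.1 : ℕ) : ZMod 3))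
    rw [(nine_k j).1.2.2, ZMod.natCast_mod, Nat.cast_add]

/-- the homomorphism onto the group of order three -/
def phiK : Dl →* Multiplicative (ZMod 3) := tableHom Fk Fk_zero Fk_gen

/-- the nine-point permutation of an element -/
def P9 (k : Fin N) : Perm (Fin 9) :=
  mkPerm (N := 9) (p9 k.1) (p9i k.1) (fun c hc => ((nine_k k).2 c hc).1)
    (fun c hc => ((nine_k k).2 c hc).2.1) (fun c hc => ((nine_k k).2 c hc).2.2.1)
    (fun c hc => ((nine_k k).2 c hc).2.2.2.1)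

theorem P9_zero : P9 0 = 1 := by
  ext c
  show p9 0 c.1 = c.1
  exact fact_nine0.2 c

theorem P9_gen : ∀ s ∈ ({pX, pY} : Set (Perm (Fin N))), ∀ j, P9 (s j) = P9 (s 0) * P9 j := by
  rintro s (rfl | rfl) j
  · ext c
    show p9 (fX j.1) c.1 = p9 (fX 0) (p9 j.1 c.1)
    exact ((nine_k j).2 c.1 c.2).2.2.2.2.1
  · ext c
    show p9 (fY j.1) c.1 = p9 (fY 0) (p9 j.1 c.1)
    exact ((nine_k j).2 c.1 c.2).2.2.2.2.2

/-- the action on nine points -/
def psi9 : Dl →* Perm (Fin 9) := tableHom P9 P9_zero P9_gen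

theorem kap_of_mem_comm {p : Dl} (hp : p ∈ commutator Dl) : kap (p.1.2 0).1 = 0 := by
  have h1 : p ∈ phiK.ker := Abelianization.commutator_subset_ker phiK hp
  rw [MonoidHom.mem_ker] at h1
  have h2 : ((kap (p.1.2 0).1 : ℕ) : ZMod 3) = 0 := h1
  rw [ZMod.natCast_eq_zero_iff] at h2
  have h3 := (nine_k (p.1.2 0)).1.1
  exact Nat.eq_zero_of_dvd_of_lt h2 h3

theorem card_comm_le : Nat.card (commutator Dl) ≤ 504 := by
  have hinj : Function.Injective
      (fun p : commutator Dl => (⟨p.1.1.2 0, kap_of_mem_comm p.2⟩ : {k : Fin N // kap k.1 = 0})) := by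
    intro p q hpq
    have h : p.1.1.2 0 = q.1.1.2 0 := congrArg Subtype.val hpq
    exact Subtype.ext (Subtype.ext (eq_of_zero p.1.2 q.1.2 h))
  have h5 : Nat.card {k : Fin N // kap k.1 = 0} = 504 := by
    rw [Nat.card_eq_fintype_card, Fintype.card_subtype]
    exact fact_cnt
  have := Nat.card_le_card_of_injective _ hinj
  rwa [h5] at this


end Cfsg.Agent.Lib.Helper1.Ree3
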