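import Mathlib
import Cfsg.Agent.Lib.Helper1.Ree3H

/-!
# The derived group of the small Ree group over the field with three elements, continued (helper1)
-/

set_option autoImplicit false
set_option linter.unusedSectionVars false

namespace Cfsg.Agent.Lib.Helper1.Ree3

open Cfsg.Lie Matrix Equiv Cfsg.Agent.Lib.Helper1.RegCov
open scoped commutatorElement

/-- the two generators as elements of the model group -/
noncomputable def xD : Dl := ⟨(gX, pX), Subgroup.subset_closure (Or.inl rfl)⟩
noncomputable def yD : Dl := ⟨(gY, pY), Subgroup.subset_closure (Or.inr rfl)⟩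

theorem evP_cons (c : Bool) (l : List Bool) :
    evP xD yD (c :: l) = (if c then xD else yD) * evP xD yD l := by
  simp [evP]

theorem evP_append (l₁ l₂ : List Bool) :
    evP xD yD (l₁ ++ l₂) = evP xD yD l₁ * evP xD yD l₂ := by
  simp [evP, List.map_append, List.prod_append]

theorem evP_val (l : List Bool) : ∀ i : Fin N, ((evP xD yD l : Dl).1.2 i).1 = evN l i.1 := by
  induction l with
  | nil => intro i; rfl
  | cons c l ih =>
    intro i
    rw [evP_cons]
    cases c
    · show fY ((evP xD yD l : Dl).1.2 i).1 = fY (evN l i.1)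
      rw [ih]
    · show fX ((evP xD yD l : Dl).1.2 i).1 = fX (evN l i.1)
      rw [ih]

theorem eq_of_evN {g h : Dl} (e : (g.1.2 0).1 = (h.1.2 0).1) : g = h :=
  Subtype.ext (eq_of_zero g.2 h.2 (Fin.ext e))

theorem xD_mem_comm : xD ∈ commutator Dl := by
  have h : xD * evP xD yD vW * evP xD yD uW = evP xD yD uW * evP xD yD vW := by
    have e1 : xD * evP xD yD vW * evP xD yD uW = evP xD yD (true :: (vW ++ uW)) := by
      rw [evP_cons, evP_append, mul_assoc]
      rfl
    rw [e1, ← evP_append]
    apply eq_of_evN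
    rw [evP_val, evP_val]
    exact fact_rel.2.2
  have h2 : xD = ⁅evP xD yD uW, evP xD yD vW⁆ := by
    rw [commutatorElement_def, ← h]
    group
  rw [h2, commutator_def]
  exact Subgroup.commutator_mem_commutator (Subgroup.mem_top _) (Subgroup.mem_top _)

theorem yD_cube : yD ^ 3 = 1 := by
  have e1 : yD ^ 3 = evP xD yD [false, false, false] := by
    simp [evP, pow_succ, mul_assoc]
  rw [e1]
  apply eq_of_evN
  rw [evP_val]
  exact fact_rel.2.1

theorem closure_gens : Subgroup.closure ({xD, yD} : Set Dl) = ⊤ := by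
  have h : Subgroup.closure (((↑) : Dl → GLv × Perm (Fin N)) ⁻¹'
      ({(gX, pX), (gY, pY)} : Set (GLv × Perm (Fin N)))) = ⊤ :=
    Subgroup.closure_closure_coe_preimage
  rw [← h]
  congr 1
  ext g
  simp only [Set.mem_insert_iff, Set.mem_singleton_iff, Set.mem_preimage]
  constructor
  · rintro (rfl | rfl)
    · exact Or.inl rfl
    · exact Or.inr rfl
  · rintro (h | h)
    · exact Or.inl (Subtype.ext h)
    · exact Or.inr (Subtype.ext h)

theorem index_comm_le : (commutator Dl).index ≤ 3 := by
  let q := QuotientGroup.mk' (commutator Dl)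
  have hx : q xD = 1 := (QuotientGroup.eq_one_iff _).mpr xD_mem_comm
  have hy3 : q yD ^ 3 = 1 := by rw [← map_pow, yD_cube, map_one]
  have hall : ∀ g : Dl, q g ∈ Subgroup.zpowers (q yD) := by
    intro g
    have hg : g ∈ Subgroup.closure ({xD, yD} : Set Dl) := by rw [closure_gens]; trivial
    induction hg using Subgroup.closure_induction with
    | mem s hs =>
      rcases hs with rfl | rfl
      · rw [hx]
        exact Subgroup.one_mem _
      · exact Subgroup.mem_zpowers _
    | one =>
      rw [map_one]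
      exact Subgroup.one_mem _
    | mul a b _ _ iha ihb =>
      rw [map_mul]
      exact Subgroup.mul_mem _ iha ihb
    | inv a _ iha =>
      rw [map_inv]
      exact Subgroup.inv_mem _ iha
  have htop : (⊤ : Subgroup (Dl ⧸ commutator Dl)) = Subgroup.zpowers (q yD) := by
    symm
    rw [Subgroup.eq_top_iff']
    intro g
    obtain ⟨p, rfl⟩ := QuotientGroup.mk'_surjective (commutator Dl) g
    exact hall p
  have hcard : Nat.card (Dl ⧸ commutator Dl) ≤ 3 := by
    rw [← Subgroup.card_top, htop, Nat.card_zpowers]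
    exact orderOf_le_of_pow_eq_one (by norm_num) hy3
  rwa [Subgroup.index_eq_card]

theorem card_comm : Nat.card (commutator Dl) = 504 := by
  have h1 := (commutator Dl).index_mul_card
  rw [card_Dl] at h1
  have h2 := index_comm_le
  have h3 := card_comm_le
  have h4 : N ≤ 3 * Nat.card (commutator Dl) :=
    le_trans (le_of_eq h1.symm) (Nat.mul_le_mul_right _ h2)
  have hN : N = 1512 := rfl
  omega

theorem free_k (k : Fin N) : k.1 = 0 ∨ kap k.1 ≠ 0 ∨
    ((Finset.range 9).filter (fun c => p9 k.1 c = c)).card ≤ 2 := by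
  have := allD_spec _ 11 0 fact_free k.1 (Nat.zero_le _) (lt_of_lt_of_le k.2 (by decide))
  simp only [chkFree, Bool.or_eq_true, decide_eq_true_eq, beq_iff_eq, bne_iff_ne] at this
  rcases this with ((h | h) | h) | h
  · exact absurd k.2 (not_lt.mpr h)
  · exact Or.inl h
  · exact Or.inr (Or.inl h)
  · exact Or.inr (Or.inr h)

theorem free9 (p : Dl) (hp : p ∈ commutator Dl) (a b c : Fin 9) (hab : a ≠ b) (hac : a ≠ c)
    (hbc : b ≠ c) (ha : psi9 p a = a) (hb : psi9 p b = b) (hc : psi9 p c = c) : p = 1 := by
  rcases free_k (p.1.2 0) with h | h | h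
  · exact Subtype.ext (eq_one_of_zero p.2 (Fin.ext h))
  · exact absurd (kap_of_mem_comm hp) h
  · exfalso
    have ha' : p9 (p.1.2 0).1 a.1 = a.1 := congrArg Fin.val ha
    have hb' : p9 (p.1.2 0).1 b.1 = b.1 := congrArg Fin.val hb
    have hc' : p9 (p.1.2 0).1 c.1 = c.1 := congrArg Fin.val hc
    have hsub : ({a.1, b.1, c.1} : Finset ℕ) ⊆
        (Finset.range 9).filter (fun c => p9 (p.1.2 0).1 c = c) := by
      intro x hx
      simp only [Finset.mem_insert, Finset.mem_singleton] at hx
      rw [Finset.mem_filter, Finset.mem_range]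
      rcases hx with rfl | rfl | rfl
      · exact ⟨a.2, ha'⟩
      · exact ⟨b.2, hb'⟩
      · exact ⟨c.2, hc'⟩
    have hcard : ({a.1, b.1, c.1} : Finset ℕ).card = 3 :=
      Finset.card_eq_three.mpr ⟨a.1, b.1, c.1, fun e => hab (Fin.ext e), fun e => hac (Fin.ext e),
        fun e => hbc (Fin.ext e), rfl⟩
    have := Finset.card_le_card hsub
    omega

end Cfsg.Agent.Lib.Helper1.Ree3
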