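import Mathlib
import Cfsg.Agent.Lib.Helper2.Order504c

/-!
# A group of order 504 acting on nine points with only the identity fixing three points is `PSL(2, 8)`
(helper1; assembled from `Cfsg.Agent.Lib.Helper16.Sharp3.main` as in `Cfsg.Agent.Lib.Helper2.O504`)
-/

set_option autoImplicit false

namespace Cfsg.Agent.Lib.Helper1.Ree3

theorem psl_of_sharp {D α : Type*} [Group D] [Finite D] [MulAction D α] [Fintype α]
    [DecidableEq α] (hα : Fintype.card α = 9) (hD : Nat.card D = 504)
    (hfree : ∀ (g : D) (a b c : α), a ≠ b → a ≠ c → b ≠ c → g • a = a → g • b = b → g • c = c →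
      g = 1)
    {L : Type*} [Field L] [Fintype L] (hL : Fintype.card L = 8) :
    Nonempty (D ≃* Matrix.ProjectiveSpecialLinearGroup (Fin 2) L) := by
  classical
  have hst : ∀ x : Fin 3 ↪ α, MulAction.stabilizer D x = ⊥ := by
    intro x
    rw [Subgroup.eq_bot_iff_forall]
    intro g hg
    have hgx : ∀ i, g • x i = x i := by
      intro i
      have := DFunLike.congr_fun (MulAction.mem_stabilizer_iff.mp hg) i
      exact this
    exact hfree g (x 0) (x 1) (x 2) (x.injective.ne (by decide)) (x.injective.ne (by decide))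
      (x.injective.ne (by decide)) (hgx 0) (hgx 1) (hgx 2)
  have h3 : MulAction.IsMultiplyPretransitive D α 3 := by
    obtain ⟨x₀⟩ : Nonempty (Fin 3 ↪ α) :=
      Function.Embedding.nonempty_of_card_le (by rw [Fintype.card_fin, hα]; norm_num)
    have hidx := MulAction.index_stabilizer D x₀
    rw [hst x₀, Subgroup.index_bot, hD] at hidx
    have hT : Nat.card (Fin 3 ↪ α) = 504 := by
      rw [Nat.card_eq_fintype_card, Fintype.card_embedding_eq, Fintype.card_fin, hα]
      rfl
    have huniv : MulAction.orbit D x₀ = Set.univ := by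
      rw [Set.eq_univ_iff_ncard, hT, ← hidx]
    constructor
    intro x y
    have hx : x ∈ MulAction.orbit D x₀ := by rw [huniv]; trivial
    have hy : y ∈ MulAction.orbit D x₀ := by rw [huniv]; trivial
    obtain ⟨g₁, hg₁⟩ := hx
    obtain ⟨g₂, hg₂⟩ := hy
    have hg₁' : g₁ • x₀ = x := hg₁
    have hg₂' : g₂ • x₀ = y := hg₂
    refine ⟨g₂ * g₁⁻¹, ?_⟩
    rw [← hg₁', ← hg₂', mul_smul, inv_smul_smul]
  obtain ⟨F', iF, iFt, hc, ⟨e1⟩⟩ := Cfsg.Agent.Lib.Helper16.Sharp3.main (Γ := D) (α := α) h3 hst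
    (by rw [hα]; exact ⟨4, by norm_num⟩) (by rw [hα]; norm_num)
  have hc' : Fintype.card F' = 8 := by rw [hα] at hc; omega
  obtain ⟨e2⟩ := Cfsg.Agent.Lib.Helper16.Sharp3.sl_equiv_pgl (F := F')
    (Cfsg.Agent.Lib.Helper2.O504.two_eq_zero hc')
  let ρ : L ≃+* F' := FiniteField.ringEquivOfCardEq (by rw [hL, hc'])
  let e3 := Cfsg.Agent.Lib.Helper2.O504.slCongr ρ
  let e4 : Matrix.ProjectiveSpecialLinearGroup (Fin 2) L ≃*
      Matrix.SpecialLinearGroup (Fin 2) L :=
    (QuotientGroup.quotientMulEquivOfEq (Cfsg.Agent.Lib.Helper2.O504.center_sl_eq_bot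
      (Cfsg.Agent.Lib.Helper2.O504.two_eq_zero hL))).trans QuotientGroup.quotientBot
  exact ⟨e1.trans (e2.symm.trans (e3.symm.trans e4.symm))⟩

/-- isomorphic groups have isomorphic derived subgroups -/
noncomputable def commEquiv {A B : Type*} [Group A] [Group B] (e : A ≃* B) :
    commutator A ≃* commutator B :=
  (e.subgroupMap (commutator A)).trans (MulEquiv.subgroupCongr (by
    rw [commutator_def, Subgroup.map_commutator]
    have : Subgroup.map (e : A →* B) ⊤ = ⊤ := Subgroup.map_top_of_surjective _ e.surjective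
    rw [this, commutator_def]))

end Cfsg.Agent.Lib.Helper1.Ree3
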