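import Mathlib

/-!
# Pullbacks of group homomorphisms and stem extensions (helper1)
-/

set_option autoImplicit false

namespace Cfsg.Agent.Lib.Helper1.Sl9

variable {S E P : Type*} [Group S] [Group E] [Group P]

/-- the pullback of two homomorphisms -/
def pb (π : S →* P) (ρ : E →* P) : Subgroup (S × E) :=
  MonoidHom.eqLocus (π.comp (MonoidHom.fst S E)) (ρ.comp (MonoidHom.snd S E))

variable {π : S →* P} {ρ : E →* P}

theorem mem_pb {x : S × E} : x ∈ pb π ρ ↔ π x.1 = ρ x.2 := Iff.rfl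

variable (π ρ) in
def pbFst : pb π ρ →* S := (MonoidHom.fst S E).comp (pb π ρ).subtype

variable (π ρ) in
def pbSnd : pb π ρ →* E := (MonoidHom.snd S E).comp (pb π ρ).subtype

theorem pbFst_apply (x : pb π ρ) : pbFst π ρ x = x.1.1 := rfl

theorem pbSnd_apply (x : pb π ρ) : pbSnd π ρ x = x.1.2 := rfl

theorem pbFst_surjective (hρ : Function.Surjective ρ) : Function.Surjective (pbFst π ρ) := by
  intro s
  obtain ⟨e, he⟩ := hρ (π s)
  exact ⟨⟨(s, e), he.symm⟩, rfl⟩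

theorem pbSnd_surjective (hπ : Function.Surjective π) : Function.Surjective (pbSnd π ρ) := by
  intro e
  obtain ⟨s, hs⟩ := hπ (ρ e)
  exact ⟨⟨(s, e), hs⟩, rfl⟩

theorem fst_eq_one {x : pb π ρ} (hx : x ∈ (pbFst π ρ).ker) : x.1.1 = 1 := hx

theorem snd_mem_ker {x : pb π ρ} (hx : x ∈ (pbFst π ρ).ker) : x.1.2 ∈ ρ.ker := by
  rw [MonoidHom.mem_ker]
  have h1 : x.1.1 = 1 := hx
  have h2 : π x.1.1 = ρ x.1.2 := x.2
  rw [← h2, h1, map_one]

theorem ker_pbFst_le_center (hc : ρ.ker ≤ Subgroup.center E) :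
    (pbFst π ρ).ker ≤ Subgroup.center (pb π ρ) := by
  intro x hx
  rw [Subgroup.mem_center_iff]
  intro y
  have h1 : x.1.1 = 1 := hx
  have h2 := Subgroup.mem_center_iff.mp (hc (snd_mem_ker hx)) y.1.2
  apply Subtype.ext
  apply Prod.ext
  · show y.1.1 * x.1.1 = x.1.1 * y.1.1
    rw [h1, mul_one, one_mul]
  · exact h2

/-- the kernel of the first projection of the pullback is the kernel of `ρ` -/
def kerEquiv : (pbFst π ρ).ker ≃* ρ.ker where
  toFun x := ⟨x.1.1.2, snd_mem_ker x.2⟩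
  invFun k := ⟨⟨(1, k.1), by
    rw [mem_pb]
    show π 1 = ρ k.1
    rw [map_one, MonoidHom.mem_ker.mp k.2]⟩, rfl⟩
  left_inv x := by
    apply Subtype.ext
    apply Subtype.ext
    exact Prod.ext (fst_eq_one x.2).symm rfl
  right_inv k := Subtype.ext rfl
  map_mul' x y := Subtype.ext rfl

theorem ker_pbFst_le_commutator (hπ : Function.Surjective π)
    (h2 : ∀ c ∈ π.ker, c ^ 2 = 1) (h3 : ∀ k ∈ ρ.ker, k ^ 3 = 1)
    (hd : ρ.ker ≤ commutator E) : (pbFst π ρ).ker ≤ commutator (pb π ρ) := by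
  intro x hx
  have hk := snd_mem_ker hx
  have h1 : x.1.2 ∈ Subgroup.map (pbSnd π ρ) (commutator (pb π ρ)) := by
    rw [commutator_def, Subgroup.map_commutator,
      Subgroup.map_top_of_surjective _ (pbSnd_surjective hπ), ← commutator_def]
    exact hd hk
  obtain ⟨y, hy, hyx⟩ := h1
  have hyx' : y.1.2 = x.1.2 := hyx
  have hy1 : y.1.1 ∈ π.ker := by
    rw [MonoidHom.mem_ker]
    have : π y.1.1 = ρ y.1.2 := y.2
    rw [this, hyx']
    exact hk
  have hxy : x = y ^ 4 := by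
    apply Subtype.ext
    apply Prod.ext
    · show x.1.1 = ((y ^ 4 : pb π ρ) : S × E).1
      rw [Subgroup.coe_pow, Prod.pow_fst, fst_eq_one hx]
      have : y.1.1 ^ 4 = (y.1.1 ^ 2) ^ 2 := by rw [← pow_mul]
      rw [this, h2 _ hy1, one_pow]
    · show x.1.2 = ((y ^ 4 : pb π ρ) : S × E).2
      rw [Subgroup.coe_pow, Prod.pow_snd, hyx']
      have : x.1.2 ^ 4 = x.1.2 ^ 3 * x.1.2 := by rw [← pow_succ]
      rw [this, h3 _ hk, one_mul]
  rw [hxy]
  exact Subgroup.pow_mem _ hy 4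

end Cfsg.Agent.Lib.Helper1.Sl9
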