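import Mathlib
import Cfsg.Agent.Lib.Helper5.HexaC

/-!
# The triple cover of `A₆` as the monomial automorphism group of the hexacode (helper1)
-/

set_option autoImplicit false

namespace Cfsg.Agent.Lib.Helper1.Sl9

open Cfsg.Agent.Lib.Helper5.F4 Cfsg.Agent.Lib.Helper5.Mono Cfsg.Agent.Lib.Helper5.Hexa Equiv

/-- the full monomial group of degree six over the field with four elements -/
abbrev Mon : Type :=
  (Fin 6 → F4cˣ) ⋊[(mulAutArrow : Perm (Fin 6) →* MulAut (Fin 6 → F4cˣ))] Perm (Fin 6)

/-- the hexacode -/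
abbrev hC : Submodule F4c (Fin 6 → F4c) := Cfsg.hexacode F4c F4c.w

theorem mon_mul_left (x y : Mon) (i : Fin 6) :
    (x * y).left i = x.left i * y.left (x.right⁻¹ i) := by
  rw [SemidirectProduct.mul_left]
  rfl

theorem mon_inv_left (x : Mon) (i : Fin 6) : (x⁻¹).left i = (x.left (x.right i))⁻¹ := by
  rw [SemidirectProduct.inv_left]
  show (x.left⁻¹) ((x.right⁻¹)⁻¹ i) = _
  rw [inv_inv]
  rfl

/-- the monomial automorphisms of the hexacode -/
def HexE : Subgroup Mon where
  carrier := {x | Pres hC x.right x.left}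
  one_mem' := Pres.one
  mul_mem' := by
    intro x y hx hy
    have := Pres.mul hx hy
    show Pres hC (x * y).right (x * y).left
    have e : (x * y).left = fun i => x.left i * y.left (x.right⁻¹ i) := by
      funext i
      exact mon_mul_left x y i
    rw [e]
    exact this
  inv_mem' := by
    intro x hx
    have := Pres.inv hx
    show Pres hC (x⁻¹).right (x⁻¹).left
    have e : (x⁻¹).left = fun i => (x.left (x.right i))⁻¹ := by
      funext i
      exact mon_inv_left x i
    rw [e]
    exact this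

theorem mem_HexE {x : Mon} : x ∈ HexE ↔ Pres hC x.right x.left := Iff.rfl

theorem w_root : F4c.w ^ 2 + F4c.w + 1 = 0 := by decide

theorem hex_facts :
    Nat.card {f : Perm (Fin 6) × (Fin 6 → F4cˣ) // Pres hC f.1 f.2} = 1080 ∧
    (∀ c : Fin 6 → F4cˣ, Pres hC 1 c → ∀ i j, c i = c j) ∧
    {σ : Perm (Fin 6) | ∃ c : Fin 6 → F4cˣ, Pres hC σ c}
      = (alternatingGroup (Fin 6) : Set (Perm (Fin 6))) :=
  final (RingEquiv.refl F4c) F4c.card_eq F4c.w w_root

theorem right_mem_alt (x : HexE) : x.1.right ∈ alternatingGroup (Fin 6) := by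
  have h := hex_facts.2.2
  have : x.1.right ∈ {σ : Perm (Fin 6) | ∃ c : Fin 6 → F4cˣ, Pres hC σ c} := ⟨x.1.left, x.2⟩
  rw [h] at this
  exact this

/-- the projection onto `A₆` -/
def rhoE : HexE →* alternatingGroup (Fin 6) :=
  ((SemidirectProduct.rightHom : Mon →* Perm (Fin 6)).comp HexE.subtype).codRestrict _ right_mem_alt

theorem rhoE_apply (x : HexE) : (rhoE x : Perm (Fin 6)) = x.1.right := rfl

theorem rhoE_surjective : Function.Surjective rhoE := by
  intro σ
  have h := hex_facts.2.2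
  have : σ.1 ∈ {σ : Perm (Fin 6) | ∃ c : Fin 6 → F4cˣ, Pres hC σ c} := by
    rw [h]
    exact σ.2
  obtain ⟨c, hc⟩ := this
  exact ⟨⟨⟨c, σ.1⟩, hc⟩, Subtype.ext rfl⟩

theorem mem_ker_rhoE {x : HexE} : x ∈ rhoE.ker ↔ x.1.right = 1 := by
  rw [MonoidHom.mem_ker]
  constructor
  · intro h
    have := congrArg Subtype.val h
    exact this
  · intro h
    exact Subtype.ext h

theorem ker_const {x : HexE} (hx : x ∈ rhoE.ker) (i j : Fin 6) : x.1.left i = x.1.left j := by
  have h1 := mem_ker_rhoE.mp hx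
  have h2 : Pres hC x.1.right x.1.left := x.2
  rw [h1] at h2
  exact hex_facts.2.1 _ h2 i j

theorem ker_rhoE_le_center : rhoE.ker ≤ Subgroup.center HexE := by
  intro x hx
  rw [Subgroup.mem_center_iff]
  intro y
  have h1 := mem_ker_rhoE.mp hx
  apply Subtype.ext
  apply SemidirectProduct.ext
  · funext i
    show (y.1 * x.1).left i = (x.1 * y.1).left i
    rw [mon_mul_left, mon_mul_left, h1, inv_one, Perm.one_apply, ker_const hx (y.1.right⁻¹ i) i,
      mul_comm]
  · show (y.1 * x.1).right = (x.1 * y.1).right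
    rw [SemidirectProduct.mul_right, SemidirectProduct.mul_right, h1, mul_one, one_mul]

theorem card_HexE : Nat.card HexE = 1080 := by
  rw [← hex_facts.1]
  apply Nat.card_congr
  exact {
    toFun := fun x => ⟨(x.1.right, x.1.left), x.2⟩
    invFun := fun f => ⟨⟨f.1.2, f.1.1⟩, f.2⟩
    left_inv := fun x => rfl
    right_inv := fun f => rfl }

theorem card_ker_rhoE : Nat.card rhoE.ker = 3 := by
  have h1 := rhoE.ker.card_mul_index
  rw [Subgroup.index_ker, card_HexE, MonoidHom.range_eq_top.mpr rhoE_surjective,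
    Subgroup.card_top, nat_card_alternatingGroup, Nat.card_fin] at h1
  have h6 : (6 : ℕ).factorial / 2 = 360 := by decide
  rw [h6] at h1
  have h7 : (1080 : ℕ) = 3 * 360 := by norm_num
  rw [h7] at h1
  exact Nat.eq_of_mul_eq_mul_right (by norm_num) h1

end Cfsg.Agent.Lib.Helper1.Sl9
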