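import Mathlib
import Cfsg.Agent.Lib.Helper1.S9B

/-!
# The centre of the hexacode group lies in its commutator subgroup (helper1)
-/

set_option autoImplicit false

namespace Cfsg.Agent.Lib.Helper1.Sl9

open Cfsg.Agent.Lib.Helper5.F4 Cfsg.Agent.Lib.Helper5.Mono Cfsg.Agent.Lib.Helper5.Hexa Equiv

open scoped commutatorElement

def p1 : Perm (Fin 6) := ⟨![1, 2, 0, 3, 4, 5], ![2, 0, 1, 3, 4, 5], by decide, by decide⟩

def p2 : Perm (Fin 6) := ⟨![0, 1, 2, 4, 5, 3], ![0, 1, 2, 5, 3, 4], by decide, by decide⟩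

def uo : F4cˣ := 1

def uw : F4cˣ := Units.mk0 F4c.w (by decide)

def uv : F4cˣ := Units.mk0 F4c.v (by decide)

def c1 : Fin 6 → F4cˣ := ![uo, uo, uo, uo, uv, uw]

def c2 : Fin 6 → F4cˣ := ![uo, uw, uv, uv, uv, uv]

def m1 : Mon := ⟨c1, p1⟩

def m2 : Mon := ⟨c2, p2⟩

def m3 : Mon := ⟨fun _ => uv, 1⟩

theorem m1_mem : m1 ∈ HexE := by
  rw [mem_HexE, pres_iff_D (RingEquiv.refl F4c) F4c.w w_root]
  show PresD F4c.w p1 (fun i => (c1 i : F4c))
  decide

theorem m2_mem : m2 ∈ HexE := by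
  rw [mem_HexE, pres_iff_D (RingEquiv.refl F4c) F4c.w w_root]
  show PresD F4c.w p2 (fun i => (c2 i : F4c))
  decide

theorem m_comm : m1 * m2 * m1⁻¹ * m2⁻¹ = m3 := by
  apply SemidirectProduct.ext
  · funext i
    rw [mon_mul_left, mon_mul_left, mon_mul_left, mon_inv_left, mon_inv_left]
    revert i
    decide
  · show p1 * p2 * p1⁻¹ * p2⁻¹ = 1
    decide

theorem m3_mem : m3 ∈ HexE := by
  rw [← m_comm]
  exact HexE.mul_mem (HexE.mul_mem (HexE.mul_mem m1_mem m2_mem) (HexE.inv_mem m1_mem))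
    (HexE.inv_mem m2_mem)

theorem m3_ne_one : m3 ≠ 1 := by
  intro h
  have h1 : m3.left 0 = (1 : Mon).left 0 := by rw [h]
  revert h1
  show ¬ (uv = 1)
  decide

theorem m3_mem_commutator : (⟨m3, m3_mem⟩ : HexE) ∈ commutator HexE := by
  have h : (⟨m3, m3_mem⟩ : HexE) = ⁅(⟨m1, m1_mem⟩ : HexE), ⟨m2, m2_mem⟩⁆ := by
    apply Subtype.ext
    rw [commutatorElement_def]
    exact m_comm.symm
  rw [h, commutator_def]
  exact Subgroup.commutator_mem_commutator (Subgroup.mem_top _) (Subgroup.mem_top _)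

theorem m3_mem_ker : (⟨m3, m3_mem⟩ : HexE) ∈ rhoE.ker := mem_ker_rhoE.mpr rfl

theorem ker_rhoE_le_commutator : rhoE.ker ≤ commutator HexE := by
  intro k hk
  haveI : Fact (Nat.Prime 3) := ⟨by norm_num⟩
  have hne : (⟨⟨m3, m3_mem⟩, m3_mem_ker⟩ : rhoE.ker) ≠ 1 := by
    intro h
    have := congrArg (fun x : rhoE.ker => (x.1.1 : Mon)) h
    exact m3_ne_one this
  have htop := zpowers_eq_top_of_prime_card card_ker_rhoE hne
  have hk' : (⟨k, hk⟩ : rhoE.ker) ∈ Subgroup.zpowers (⟨⟨m3, m3_mem⟩, m3_mem_ker⟩ : rhoE.ker) := by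
    rw [htop]
    exact Subgroup.mem_top _
  obtain ⟨n, hn⟩ := Subgroup.mem_zpowers_iff.mp hk'
  have hn' : (⟨m3, m3_mem⟩ : HexE) ^ n = k := by
    have := congrArg (fun x : rhoE.ker => (x.1 : HexE)) hn
    simpa using this
  rw [← hn']
  exact Subgroup.zpow_mem _ m3_mem_commutator n

theorem ker_rhoE_pow_three (k : HexE) (hk : k ∈ rhoE.ker) : k ^ 3 = 1 := by
  have h := pow_card_eq_one' (G := rhoE.ker) (x := ⟨k, hk⟩)
  rw [card_ker_rhoE] at h
  have := congrArg (fun x : rhoE.ker => (x.1 : HexE)) h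
  simpa using this

end Cfsg.Agent.Lib.Helper1.Sl9
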