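import Mathlib

/-!
# Biadditive forms on finite fields of odd characteristic invariant under squares (helper1)
-/

set_option autoImplicit false
set_option maxHeartbeats 2000000

namespace Cfsg.Agent.Lib.Helper1.SlMult

open Polynomial

/-- a good parameter exists in fields with at least 14 elements -/
theorem exists_good_param {F : Type*} [Field F] [Fintype F] (hq : 14 ≤ Fintype.card F) :
    ∃ t : F, t ≠ 0 ∧ t ^ 4 - 1 ≠ 0 ∧ (t ^ 4 - 1) ^ 2 + 16 * t ^ 4 ≠ 0 := by
  classical
  set P : F[X] := X * (X ^ 4 - 1) * ((X ^ 4 - 1) ^ 2 + 16 * X ^ 4) with hP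
  have hdeg : P.natDegree = 13 := by
    rw [hP]
    compute_degree!
  have hP0 : P ≠ 0 := by
    intro h
    rw [h, natDegree_zero] at hdeg
    omega
  have key : ∃ t : F, P.eval t ≠ 0 := by
    by_contra hall
    simp only [not_exists, not_not] at hall
    have hsub : (Finset.univ : Finset F) ⊆ P.roots.toFinset := by
      intro t _
      rw [Multiset.mem_toFinset, mem_roots hP0]
      exact hall t
    have h1 := Finset.card_le_card hsub
    have h2 : P.roots.toFinset.card ≤ Multiset.card P.roots := Multiset.toFinset_card_le _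
    have h3 := card_roots' P
    rw [Finset.card_univ] at h1
    omega
  obtain ⟨t, ht⟩ := key
  rw [hP] at ht
  simp only [eval_mul, eval_X, eval_sub, eval_pow, eval_one, eval_add, eval_ofNat] at ht
  refine ⟨t, ?_, ?_, ?_⟩
  · rintro rfl
    apply ht
    ring
  · intro h
    apply ht
    rw [h]
    ring
  · intro h
    apply ht
    rw [h]
    ring

/-- a biadditive form on a finite field of odd characteristic with at least 14 elements that is
invariant under simultaneous multiplication by squares is trivial -/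
theorem form_sq_one {F : Type*} [Field F] [Fintype F] {Γ : Type*} [Group Γ]
    (h2 : (2 : F) ≠ 0) (hq : 14 ≤ Fintype.card F) (B : F → F → Γ)
    (hadd1 : ∀ x x' y, B (x + x') y = B x y * B x' y)
    (hadd2 : ∀ x y y', B x (y + y') = B x y * B x y')
    (hinv : ∀ t x y : F, t ≠ 0 → B (t ^ 2 * x) (t ^ 2 * y) = B x y) : ∀ x y, B x y = 1 := by
  obtain ⟨t, ht0, ht1, ht2⟩ := exists_good_param hq
  set c : F := t ^ 2 - 1 with hc
  set d : F := t ^ 2 + 1 with hd
  set e : F := 2 * t with he
  have hrel : d ^ 2 = c ^ 2 + e ^ 2 := by rw [hc, hd, he]; ring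
  have hcd : c * d = t ^ 4 - 1 := by rw [hc, hd]; ring
  have hc0 : c ≠ 0 := fun h => ht1 (by rw [← hcd, h, zero_mul])
  have hd0 : d ≠ 0 := fun h => ht1 (by rw [← hcd, h, mul_zero])
  have he0 : e ≠ 0 := mul_ne_zero h2 ht0
  set κ : F := c ^ 2 * e ^ 2 - d ^ 2 * e ^ 2 - c ^ 2 * d ^ 2 with hκ
  have hκ0 : κ ≠ 0 := by
    have : κ = -((t ^ 4 - 1) ^ 2 + 16 * t ^ 4) := by
      rw [hκ, hc, hd, he]; ring
    rw [this]
    exact neg_ne_zero.mpr ht2
  intro x y₀
  set g : F → Γ := fun x => B x y₀ with hg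
  have hgadd : ∀ u v, g (u + v) = g u * g v := fun u v => hadd1 u v y₀
  have hg0 : g 0 = 1 := by
    have := hgadd 0 0
    rw [add_zero] at this
    exact mul_eq_left.mp this.symm
  have hgsub : ∀ u v, g u = g v → g (u - v) = 1 := by
    intro u v huv
    have := hgadd (u - v) v
    rw [sub_add_cancel, huv] at this
    exact mul_eq_right.mp this.symm
  have key : ∀ x' : F, g (κ * x') = 1 := by
    intro x'
    set X : F := c ^ 2 * d ^ 2 * e ^ 2 * x' with hX
    have hd' : B X (d ^ 2 * y₀) = g (c ^ 2 * e ^ 2 * x') := by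
      have := hinv d (c ^ 2 * e ^ 2 * x') y₀ hd0
      show B X (d ^ 2 * y₀) = B (c ^ 2 * e ^ 2 * x') y₀
      rw [← this]
      congr 1
      rw [hX]; ring
    have hc' : B X (c ^ 2 * y₀) = g (d ^ 2 * e ^ 2 * x') := by
      have := hinv c (d ^ 2 * e ^ 2 * x') y₀ hc0
      show B X (c ^ 2 * y₀) = B (d ^ 2 * e ^ 2 * x') y₀
      rw [← this]
      congr 1
      rw [hX]; ring
    have he' : B X (e ^ 2 * y₀) = g (c ^ 2 * d ^ 2 * x') := by
      have := hinv e (c ^ 2 * d ^ 2 * x') y₀ he0
      show B X (e ^ 2 * y₀) = B (c ^ 2 * d ^ 2 * x') y₀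
      rw [← this]
      congr 1
      rw [hX]; ring
    have hsum : B X (d ^ 2 * y₀) = B X (c ^ 2 * y₀) * B X (e ^ 2 * y₀) := by
      rw [← hadd2]
      congr 1
      rw [hrel]; ring
    rw [hd', hc', he', ← hgadd] at hsum
    have := hgsub _ _ hsum
    have e2 : c ^ 2 * e ^ 2 * x' - (d ^ 2 * e ^ 2 * x' + c ^ 2 * d ^ 2 * x') = κ * x' := by
      rw [hκ]; ring
    rw [e2] at this
    exact this
  have := key (κ⁻¹ * x)
  rwa [← mul_assoc, mul_inv_cancel₀ hκ0, one_mul] at this

/-- a biadditive form on a prime field with `B 1 1 = 1` is trivial -/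
theorem form_prime_one {F : Type*} [Field F] {Γ : Type*} [Group Γ]
    (hcyc : ∀ a : F, ∃ n : ℕ, a = (n : F)) (B : F → F → Γ)
    (hadd1 : ∀ x x' y, B (x + x') y = B x y * B x' y)
    (hadd2 : ∀ x y y', B x (y + y') = B x y * B x y')
    (h11 : B 1 1 = 1) : ∀ x y, B x y = 1 := by
  have h0l : ∀ y, B 0 y = 1 := by
    intro y
    have := hadd1 0 0 y
    rw [add_zero] at this
    exact mul_eq_left.mp this.symm
  have h0r : ∀ x, B x 0 = 1 := by
    intro x
    have := hadd2 x 0 0
    rw [add_zero] at this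
    exact mul_eq_left.mp this.symm
  have h1 : ∀ n : ℕ, B 1 (n : F) = 1 := by
    intro n
    induction n with
    | zero => rw [Nat.cast_zero, h0r]
    | succ n ih => rw [Nat.cast_succ, hadd2, ih, h11, one_mul]
  have h2 : ∀ (k n : ℕ), B (k : F) (n : F) = 1 := by
    intro k n
    induction k with
    | zero => rw [Nat.cast_zero, h0l]
    | succ k ih => rw [Nat.cast_succ, hadd1, ih, h1, one_mul]
  intro x y
  obtain ⟨k, rfl⟩ := hcyc x
  obtain ⟨n, rfl⟩ := hcyc y
  exact h2 k n

end Cfsg.Agent.Lib.Helper1.SlMult
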