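import Mathlib
import Cfsg.Agent.Lib.Helper12.DkT

/-!
# Subgroups of `SL₂(q)` used for the Schur multiplier: unipotent group, tori, normalizers (helper1)
-/

set_option autoImplicit false
set_option maxHeartbeats 2000000

namespace Cfsg.Agent.Lib.Helper1.SlMult

open Cfsg.Agent.Lib.Helper12.SL2 Cfsg.Agent.Lib.Helper12.DkT

variable {F : Type*} [Field F]

local notation "SL2" => Matrix.SpecialLinearGroup (Fin 2)
local notation "M2" => Matrix (Fin 2) (Fin 2)

theorem up_inv' (a : F) : (up a)⁻¹ = up (-a) := by
  rw [inv_eq_iff_mul_eq_one, ← up_add, add_neg_cancel, up_zero]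

/-- the upper unitriangular subgroup -/
def USub : Subgroup (SL2 F) where
  carrier := Set.range up
  one_mem' := ⟨0, up_zero⟩
  mul_mem' := by
    rintro _ _ ⟨a, rfl⟩ ⟨b, rfl⟩
    exact ⟨a + b, up_add a b⟩
  inv_mem' := by
    rintro _ ⟨a, rfl⟩
    exact ⟨-a, (up_inv' a).symm⟩

theorem mem_USub {g : SL2 F} : g ∈ (USub : Subgroup (SL2 F)) ↔ ∃ a, up a = g := Iff.rfl

theorem card_USub [Fintype F] : Nat.card (USub : Subgroup (SL2 F)) = Fintype.card F := by
  have : Nat.card (USub : Subgroup (SL2 F)) = Nat.card (Set.range (up : F → SL2 F)) := rfl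
  rw [this, Nat.card_range_of_injective up_injective, Nat.card_eq_fintype_card]

theorem index_USub [Fintype F] :
    (USub : Subgroup (SL2 F)).index = Fintype.card F ^ 2 - 1 := by
  have h := Subgroup.index_mul_card (USub : Subgroup (SL2 F))
  rw [card_USub, card_SL2] at h
  have hq : 0 < Fintype.card F := Fintype.card_pos
  apply Nat.eq_of_mul_eq_mul_right hq
  rw [h, mul_comm]

theorem dg_mul_dg (s t : F) (hs : s ≠ 0) (ht : t ≠ 0) :
    dg s hs * dg t ht = dg (s * t) (mul_ne_zero hs ht) := by
  apply ext4 <;> simp [mul_apply', dg, mul_comm]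

theorem dg_one' : dg (1 : F) one_ne_zero = 1 := by
  apply ext4 <;> simp [dg]

/-- the diagonal embedding of the multiplicative group -/
noncomputable def dgHom : Fˣ →* SL2 F where
  toFun u := dg (u : F) u.ne_zero
  map_one' := dg_one'
  map_mul' u v := by
    rw [dg_mul_dg]
    rfl

theorem dgHom_injective : Function.Injective (dgHom : Fˣ →* SL2 F) := by
  intro u v h
  apply Units.ext
  have := congrArg (fun g : SL2 F => g 0 0) h
  simpa [dgHom, dg] using this

theorem index_zpowers_of_orderOf [Fintype F] (a : SL2 F) {n k : ℕ} (hn : orderOf a = n)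
    (hk : n * k = Fintype.card F * (Fintype.card F ^ 2 - 1)) (hn0 : 0 < n) :
    (Subgroup.zpowers a).index = k := by
  have h := Subgroup.index_mul_card (Subgroup.zpowers a)
  rw [Nat.card_zpowers, hn, card_SL2, ← hk, mul_comm] at h
  exact Nat.eq_of_mul_eq_mul_left hn0 h

/-- the split torus: an element of order `q - 1` -/
theorem exists_split [Fintype F] : ∃ ζ : Fˣ, orderOf (dgHom ζ) = Fintype.card F - 1 := by
  classical
  obtain ⟨ζ, hζ⟩ := IsCyclic.exists_ofOrder_eq_natCard (α := Fˣ)
  refine ⟨ζ, ?_⟩
  rw [orderOf_injective dgHom dgHom_injective, hζ, Nat.card_units, Nat.card_eq_fintype_card]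

/-- the element `-1` -/
def negI : SL2 F := mk (-1) 0 0 (-1) (by ring)

theorem eq_one_or_negI_of_sq (h2 : (2 : F) ≠ 0) (x : SL2 F) (hx : x * x = 1) :
    x = 1 ∨ x = negI := by
  have hd := det_eq x
  have e00 := congrArg (fun g : SL2 F => g 0 0) hx
  have e01 := congrArg (fun g : SL2 F => g 0 1) hx
  have e10 := congrArg (fun g : SL2 F => g 1 0) hx
  have e11 := congrArg (fun g : SL2 F => g 1 1) hx
  simp only [mul_apply', Matrix.SpecialLinearGroup.coe_one, Matrix.one_apply_eq,
    ne_eq, zero_ne_one, one_ne_zero, not_false_eq_true, Matrix.one_apply_ne] at e00 e01 e10 e11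
  have hs : x 0 0 + x 1 1 ≠ 0 := by
    intro hs
    apply h2
    have hd' : x 1 1 = -(x 0 0) := by linear_combination hs
    rw [hd'] at hd
    linear_combination -hd - e00
  have hb : x 0 1 = 0 := by
    have : x 0 1 * (x 0 0 + x 1 1) = 0 := by linear_combination e01
    rcases mul_eq_zero.mp this with h | h
    · exact h
    · exact absurd h hs
  have hc : x 1 0 = 0 := by
    have : x 1 0 * (x 0 0 + x 1 1) = 0 := by linear_combination e10
    rcases mul_eq_zero.mp this with h | h
    · exact h
    · exact absurd h hs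
  rw [hb, hc] at hd e00 e11
  have ha : (x 0 0 - 1) * (x 0 0 + 1) = 0 := by linear_combination e00
  have hda : x 1 1 = x 0 0 := by
    have h1 : x 0 0 * x 1 1 = 1 := by linear_combination hd
    have h2' : x 0 0 * x 0 0 = 1 := by linear_combination e00
    have hne : x 0 0 ≠ 0 := by
      intro h
      rw [h, zero_mul] at h1
      exact zero_ne_one h1
    exact mul_left_cancel₀ hne (h1.trans h2'.symm)
  rcases mul_eq_zero.mp ha with h | h
  · left
    have h00 : x 0 0 = 1 := by linear_combination h
    apply ext4
    · rw [h00]; rfl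
    · rw [hb]; rfl
    · rw [hc]; rfl
    · rw [hda, h00]; rfl
  · right
    have h00 : x 0 0 = -1 := by linear_combination h
    apply ext4
    · rw [h00]; rfl
    · rw [hb]; rfl
    · rw [hc]; rfl
    · rw [hda, h00]; rfl

/-- an element inverting a non-involution squares to `-1` -/
theorem inverting_sq (Y w : SL2 F) (hinv : w * Y * w⁻¹ = Y⁻¹) (hY : Y * Y ≠ 1) :
    w * w = negI := by
  have hd := det_eq w
  have hdY := det_eq Y
  have h : w * Y = Y⁻¹ * w := by
    rw [← hinv]; group
  have e00 := congrArg (fun g : SL2 F => g 0 0) h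
  have e01 := congrArg (fun g : SL2 F => g 0 1) h
  have e10 := congrArg (fun g : SL2 F => g 1 0) h
  have e11 := congrArg (fun g : SL2 F => g 1 1) h
  simp only [mul_apply', inv_00, inv_01, inv_10, inv_11] at e00 e01 e10 e11
  have htr : w 0 0 + w 1 1 = 0 := by
    by_contra hs
    have hf : Y 0 1 = 0 := by
      have : Y 0 1 * (w 0 0 + w 1 1) = 0 := by linear_combination e01
      rcases mul_eq_zero.mp this with h' | h'
      · exact h'
      · exact absurd h' hs
    have hg : Y 1 0 = 0 := by
      have : Y 1 0 * (w 0 0 + w 1 1) = 0 := by linear_combination e10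
      rcases mul_eq_zero.mp this with h' | h'
      · exact h'
      · exact absurd h' hs
    have heh : Y 0 0 = Y 1 1 := by
      have : (Y 0 0 - Y 1 1) * (w 0 0 + w 1 1) = 0 := by linear_combination e00 - e11
      rcases mul_eq_zero.mp this with h' | h'
      · linear_combination h'
      · exact absurd h' hs
    apply hY
    rw [hf, hg, ← heh] at hdY
    apply ext4
    · simp only [mul_apply', hf, hg]
      rw [Matrix.SpecialLinearGroup.coe_one, Matrix.one_apply_eq]
      linear_combination hdY
    · simp only [mul_apply', hf, hg]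
      rw [Matrix.SpecialLinearGroup.coe_one, Matrix.one_apply_ne (by decide)]
      ring
    · simp only [mul_apply', hf, hg]
      rw [Matrix.SpecialLinearGroup.coe_one, Matrix.one_apply_ne (by decide)]
      ring
    · simp only [mul_apply', hf, hg, ← heh]
      rw [Matrix.SpecialLinearGroup.coe_one, Matrix.one_apply_eq]
      linear_combination hdY
  have hd' : w 1 1 = -(w 0 0) := by linear_combination htr
  apply ext4
  · simp only [mul_apply', negI, mk_00]
    rw [hd'] at hd
    linear_combination -hd
  · simp only [mul_apply', negI, mk_01]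
    linear_combination w 0 1 * htr
  · simp only [mul_apply', negI, mk_10]
    linear_combination w 1 0 * htr
  · simp only [mul_apply', negI, mk_11]
    rw [hd'] at hd ⊢
    linear_combination -hd

end Cfsg.Agent.Lib.Helper1.SlMult
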