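import Mathlib
import Cfsg.Agent.Lib.Helper14.SzA

/-!
# Invariant biadditive forms on a finite field of characteristic two vanish (helper1)

Elementary field lemmas used for the Schur multiplier of the Suzuki groups.
-/

set_option autoImplicit false
set_option maxHeartbeats 2000000

namespace Cfsg.Agent.Lib.Helper1.SzMult

open Cfsg Cfsg.Agent.Lib.Helper14.Sz

universe u

variable {F : Type u} [Field F] [Fintype F] [CharP F 2] {m : ℕ}

theorem additive_trick {Γ : Type*} [Group Γ] (g : F → Γ) (hg : ∀ u v, g (u + v) = g u * g v)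
    (a b η : F) (hη : η ≠ 0) (h : ∀ x, g (a * x) = g (b * x) * g x) (hab : a + b + 1 = η) :
    ∀ t, g t = 1 := by
  have h0 : g 0 = 1 := by
    have := hg 0 0
    rw [add_zero] at this
    exact (mul_eq_left.mp this.symm)
  have hdouble : ∀ v, g v * g v = 1 := by
    intro v
    rw [← hg, CharTwo.add_self_eq_zero, h0]
  have key : ∀ x, g (η * x) = 1 := by
    intro x
    have e : η * x = a * x + (b * x + x) := by rw [← hab]; ring
    rw [e, hg, h x, ← hg (b * x) x, hdouble]
  intro t
  have := key (η⁻¹ * t)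
  rwa [← mul_assoc, mul_inv_cancel₀ hη, one_mul] at this

/-- a form invariant under simultaneous scaling vanishes -/
theorem form_one_one {Γ : Type*} [Group Γ] (hq : 8 ≤ Fintype.card F) (B : F → F → Γ)
    (h1 : ∀ x x' y, B (x + x') y = B x y * B x' y)
    (h2 : ∀ x y y', B x (y + y') = B x y * B x y')
    (hinv : ∀ k x y : F, k ≠ 0 → B (k * x) (k * y) = B x y) : ∀ x y, B x y = 1 := by
  classical
  have htwo : (2 : F) = 0 := CharTwo.two_eq_zero
  have key : ∃ y : F, y ≠ 0 ∧ y ≠ 1 ∧ y ^ 2 + y + 1 ≠ 0 := by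
    by_cases h : ∃ y₁ : F, y₁ ^ 2 + y₁ + 1 = 0
    · obtain ⟨y₁, hy₁⟩ := h
      have hS : ({0, 1, y₁, y₁ + 1} : Finset F).card < Fintype.card F :=
        lt_of_le_of_lt Finset.card_le_four (by omega)
      obtain ⟨y, hy⟩ : ∃ y, y ∉ ({0, 1, y₁, y₁ + 1} : Finset F) := by
        by_contra hall
        simp only [not_exists, not_not] at hall
        have : ({0, 1, y₁, y₁ + 1} : Finset F) = Finset.univ := Finset.eq_univ_iff_forall.mpr hall
        rw [this, Finset.card_univ] at hS
        exact lt_irrefl _ hS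
      simp only [Finset.mem_insert, Finset.mem_singleton, not_or] at hy
      refine ⟨y, hy.1, hy.2.1, ?_⟩
      intro e
      have h3 : (y + y₁) * (y + y₁ + 1) = 0 := by
        linear_combination e + hy₁ + (y * y₁ - 1) * htwo
      rcases mul_eq_zero.mp h3 with h' | h'
      · exact hy.2.2.1 (CharTwo.add_eq_zero.mp h')
      · apply hy.2.2.2
        have : y + (y₁ + 1) = 0 := by rw [← add_assoc]; exact h'
        exact CharTwo.add_eq_zero.mp this
    · simp only [not_exists] at h
      have hS : ({0, 1} : Finset F).card < Fintype.card F :=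
        lt_of_le_of_lt Finset.card_le_two (by omega)
      obtain ⟨y, hy⟩ : ∃ y, y ∉ ({0, 1} : Finset F) := by
        by_contra hall
        simp only [not_exists, not_not] at hall
        have : ({0, 1} : Finset F) = Finset.univ := Finset.eq_univ_iff_forall.mpr hall
        rw [this, Finset.card_univ] at hS
        exact lt_irrefl _ hS
      simp only [Finset.mem_insert, Finset.mem_singleton, not_or] at hy
      exact ⟨y, hy.1, hy.2, h y⟩
  obtain ⟨y, hy0, hy1, hy⟩ := key
  have hy1' : y + 1 ≠ 0 := by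
    intro e
    exact hy1 (CharTwo.add_eq_zero.mp e)
  set g : F → Γ := fun x => B x 1 with hg
  have hgadd : ∀ u v, g (u + v) = g u * g v := fun u v => h1 u v 1
  have hBg : ∀ x t : F, t ≠ 0 → B x t = g (t⁻¹ * x) := by
    intro x t ht
    have := hinv t⁻¹ x t (inv_ne_zero ht)
    rw [inv_mul_cancel₀ ht] at this
    exact this.symm
  have hrel : ∀ x, g ((y + 1)⁻¹ * x) = g (y⁻¹ * x) * g x := by
    intro x
    rw [← hBg x (y + 1) hy1', ← hBg x y hy0, h2]
  have hη : (y + 1)⁻¹ + y⁻¹ + 1 ≠ 0 := by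
    intro e
    apply hy
    have e2 : ((y + 1)⁻¹ + y⁻¹ + 1) * (y * (y + 1)) = y ^ 2 + y + 1 := by
      have a1 : (y + 1)⁻¹ * (y * (y + 1)) = y := by field_simp
      have a2 : y⁻¹ * (y * (y + 1)) = y + 1 := by field_simp
      have : ((y + 1)⁻¹ + y⁻¹ + 1) * (y * (y + 1)) =
          (y + 1)⁻¹ * (y * (y + 1)) + y⁻¹ * (y * (y + 1)) + y * (y + 1) := by ring
      rw [this, a1, a2]
      linear_combination y * htwo
    rw [← e2, e, zero_mul]
  have hg1 := additive_trick g hgadd _ _ _ hη hrel rfl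
  have hB0 : ∀ x, B x 0 = 1 := by
    intro x
    have := h2 x 0 0
    rw [add_zero] at this
    exact (mul_eq_left.mp this.symm)
  intro x t
  by_cases ht : t = 0
  · rw [ht, hB0]
  · rw [hBg x t ht, hg1]

/-- the inverse of `k ↦ σ(k) k` -/
theorem lam_rho (hF : Fintype.card F = 2 ^ (2 * m + 1)) {t : F} (ht : t ≠ 0) :
    sg m (sg m t * t⁻¹) * (sg m t * t⁻¹) = t := by
  have hs : sg m t ≠ 0 := fun e => ht ((sg_eq_zero_iff m t).mp e)
  rw [sg_mul, sg_inv, sg_sg hF]
  field_simp

/-- a form invariant under the torus action on `T/Z(T) × Z(T)` vanishes -/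
theorem form_one_lam {Γ : Type*} [Group Γ] (hm : 2 ≤ m) (hF : Fintype.card F = 2 ^ (2 * m + 1))
    (B : F → F → Γ)
    (h1 : ∀ x x' y, B (x + x') y = B x y * B x' y)
    (h2 : ∀ x y y', B x (y + y') = B x y * B x y')
    (hinv : ∀ k x y : F, k ≠ 0 → B (k * x) (sg m k * k * y) = B x y) : ∀ x y, B x y = 1 := by
  classical
  have htwo : (2 : F) = 0 := CharTwo.two_eq_zero
  have hq : 32 ≤ Fintype.card F := by
    rw [hF]
    calc 32 = 2 ^ 5 := by norm_num
      _ ≤ 2 ^ (2 * m + 1) := Nat.pow_le_pow_right (by norm_num) (by omega)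
  -- an element with `σ(y)² ≠ y`
  have key : ∃ y : F, sg m y ^ 2 ≠ y := by
    by_contra hall
    simp only [not_exists, not_not] at hall
    have h8 : ∀ y : F, y ^ 8 = y := by
      intro y
      have e1 := hall y
      have e2 : sg m (sg m y) ^ 2 = sg m y := by
        rw [← sg_pow, e1]
      rw [sg_sg hF] at e2
      calc y ^ 8 = ((y ^ 2) ^ 2) ^ 2 := by ring
        _ = sg m y ^ 2 := by rw [e2]
        _ = y := e1
    obtain ⟨g, hg⟩ := IsCyclic.exists_generator (α := Fˣ)
    have hord : orderOf g = Fintype.card Fˣ := by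
      rw [← Nat.card_eq_fintype_card]
      exact orderOf_eq_card_of_forall_mem_zpowers hg
    have h7 : g ^ 7 = 1 := by
      apply Units.ext
      have := h8 (g : F)
      have hg0 : (g : F) ≠ 0 := g.ne_zero
      rw [Units.val_pow_eq_pow_val, Units.val_one]
      have e : (g : F) ^ 7 * g = 1 * g := by rw [one_mul, ← pow_succ]; exact this
      exact mul_right_cancel₀ hg0 e
    have hdvd := orderOf_dvd_of_pow_eq_one h7
    rw [hord, Fintype.card_units] at hdvd
    have := Nat.le_of_dvd (by norm_num) hdvd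
    omega
  obtain ⟨y, hy⟩ := key
  have hy0 : y ≠ 0 := by
    rintro rfl
    apply hy
    rw [sg_zero]
    ring
  have hy1 : y ≠ 1 := by
    rintro rfl
    apply hy
    rw [sg_one]
    ring
  have hy1' : y + 1 ≠ 0 := by
    intro e
    exact hy1 (CharTwo.add_eq_zero.mp e)
  have hs0 : sg m y ≠ 0 := fun e => hy0 ((sg_eq_zero_iff m y).mp e)
  have hs1 : sg m y + 1 ≠ 0 := by
    have : sg m (y + 1) = sg m y + 1 := by rw [sg_add, sg_one]
    rw [← this]
    exact fun e => hy1' ((sg_eq_zero_iff m _).mp e)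
  set g : F → Γ := fun x => B x 1 with hg
  have hgadd : ∀ u v, g (u + v) = g u * g v := fun u v => h1 u v 1
  -- `B x t = g (ψ t * x)` with `ψ t = t / σ t`
  have hBg : ∀ x t : F, t ≠ 0 → B x t = g (t * (sg m t)⁻¹ * x) := by
    intro x t ht
    have ht' : t⁻¹ ≠ 0 := inv_ne_zero ht
    have hk : sg m t⁻¹ * t⁻¹⁻¹ ≠ 0 := by
      apply mul_ne_zero
      · exact fun e => ht' ((sg_eq_zero_iff m _).mp e)
      · exact inv_ne_zero ht'
    have := hinv (sg m t⁻¹ * t⁻¹⁻¹) x t hk
    rw [lam_rho hF ht', inv_mul_cancel₀ ht] at this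
    rw [← this]
    simp only [hg]
    congr 2
    rw [sg_inv, inv_inv, mul_comm]
  have hrel : ∀ x, g ((y + 1) * (sg m y + 1)⁻¹ * x) = g (y * (sg m y)⁻¹ * x) * g x := by
    intro x
    have e1 := hBg x (y + 1) hy1'
    rw [sg_add, sg_one] at e1
    rw [← e1, ← hBg x y hy0, h2]
  have hη : (y + 1) * (sg m y + 1)⁻¹ + y * (sg m y)⁻¹ + 1 ≠ 0 := by
    intro e
    apply hy
    have e2 : ((y + 1) * (sg m y + 1)⁻¹ + y * (sg m y)⁻¹ + 1) * (sg m y * (sg m y + 1)) =
        y + sg m y ^ 2 := by
      have a1 : (y + 1) * (sg m y + 1)⁻¹ * (sg m y * (sg m y + 1)) = (y + 1) * sg m y := by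
        field_simp
      have a2 : y * (sg m y)⁻¹ * (sg m y * (sg m y + 1)) = y * (sg m y + 1) := by field_simp
      have : ((y + 1) * (sg m y + 1)⁻¹ + y * (sg m y)⁻¹ + 1) * (sg m y * (sg m y + 1)) =
          (y + 1) * (sg m y + 1)⁻¹ * (sg m y * (sg m y + 1)) +
            y * (sg m y)⁻¹ * (sg m y * (sg m y + 1)) + sg m y * (sg m y + 1) := by ring
      rw [this, a1, a2]
      linear_combination (y * sg m y + sg m y) * htwo
    rw [e, zero_mul] at e2
    exact (CharTwo.add_eq_zero.mp e2.symm).symm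
  have hg1 := additive_trick g hgadd _ _ _ hη hrel rfl
  have hB0 : ∀ x, B x 0 = 1 := by
    intro x
    have := h2 x 0 0
    rw [add_zero] at this
    exact (mul_eq_left.mp this.symm)
  intro x t
  by_cases ht : t = 0
  · rw [ht, hB0]
  · rw [hBg x t ht, hg1]

end Cfsg.Agent.Lib.Helper1.SzMult
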