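import Mathlib
import Cfsg.Agent.Lib.Helper1.SlMb
import Cfsg.Agent.Lib.Helper1.SlMc
import Cfsg.Agent.Lib.Helper1.SlMd
import Cfsg.Agent.Lib.Helper1.SzPa

/-!
# Dicyclic subgroups of odd index in `SL₂(q)`, `q` odd; lifts of the unipotent group commute (helper1)
-/

set_option autoImplicit false
set_option maxHeartbeats 2000000

namespace Cfsg.Agent.Lib.Helper1.SlMult

open Cfsg.Agent.Lib.Helper12.SL2 Cfsg.Agent.Lib.Helper12.DkT Cfsg.Agent.Lib.Helper1.SzMult

open scoped commutatorElement

universe u

variable {F : Type u} [Field F]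

local notation "SL2" => Matrix.SpecialLinearGroup (Fin 2)
local notation "M2" => Matrix (Fin 2) (Fin 2)

theorem tr_sq_ne_four_of_noeig (h2 : (2 : F) ≠ 0) (Y : SL2 F)
    (hne : ∀ (c : F) (v : Fin 2 → F), v ≠ 0 → (Y : M2 F).mulVec v ≠ c • v) : tr Y ^ 2 ≠ 4 := by
  intro h
  obtain ⟨l, hl2⟩ : ∃ l : F, 2 * l = tr Y := ⟨tr Y / 2, by field_simp⟩
  have hdet : ((Y : M2 F) - l • (1 : M2 F)).det = 0 := by
    rw [Matrix.det_fin_two]
    simp only [Matrix.sub_apply, Matrix.smul_apply, Matrix.one_apply_eq, smul_eq_mul, mul_one,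
      ne_eq, zero_ne_one, one_ne_zero, not_false_eq_true, Matrix.one_apply_ne, mul_zero, sub_zero]
    have hd := det_eq Y
    have htr : tr Y = Y 0 0 + Y 1 1 := rfl
    have h4 : (2 * l) ^ 2 = 4 := by rw [hl2]; exact h
    have hl1 : l ^ 2 = 1 := by
      have : (4 : F) * (l ^ 2 - 1) = 0 := by linear_combination h4
      have h40 : (4 : F) ≠ 0 := by
        have : (4 : F) = 2 * 2 := by norm_num
        rw [this]
        exact mul_ne_zero h2 h2
      rcases mul_eq_zero.mp this with h' | h'
      · exact absurd h' h40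
      · linear_combination h'
    rw [htr] at hl2
    linear_combination hd + l * hl2 - hl1
  obtain ⟨v, hv, hv0⟩ := Matrix.exists_mulVec_eq_zero_iff.mpr hdet
  apply hne l v hv
  rw [Matrix.sub_mulVec, Matrix.smul_mulVec, Matrix.one_mulVec, sub_eq_zero] at hv0
  exact hv0

/-- data for the dicyclic subgroup from an inverted element of even order at least 4 -/
theorem dic_data (h2 : (2 : F) ≠ 0) (a w : SL2 F) (m : ℕ) (hm : 2 ≤ m)
    (hord : orderOf a = 2 * m) (hinv : w * a * w⁻¹ = a⁻¹) :
    w * w = a ^ m ∧ w ∉ Subgroup.zpowers a := by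
  have haa : a * a ≠ 1 := by
    intro h
    rw [← pow_two] at h
    have := orderOf_dvd_of_pow_eq_one h
    rw [hord] at this
    have := Nat.le_of_dvd (by norm_num) this
    omega
  constructor
  · rw [inverting_sq a w hinv haa]
    have h1 : a ^ m * a ^ m = 1 := by
      rw [← pow_add, ← two_mul, ← hord, pow_orderOf_eq_one]
    have h3 : a ^ m ≠ 1 := by
      apply pow_ne_one_of_lt_orderOf (by omega)
      rw [hord]; omega
    rcases eq_one_or_negI_of_sq h2 _ h1 with h | h
    · exact absurd h h3
    · exact h.symm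
  · intro hw
    obtain ⟨i, rfl⟩ := Subgroup.mem_zpowers_iff.mp hw
    apply haa
    have e : a ^ i * a * (a ^ i)⁻¹ = a := by
      have : a ^ i * a = a * a ^ i := ((Commute.refl a).zpow_left i).eq
      rw [this, mul_inv_cancel_right]
    rw [e] at hinv
    calc a * a = a * a⁻¹ := by rw [← hinv]
      _ = 1 := mul_inv_cancel a

theorem odd_card_of_two_ne_zero [Fintype F] (h2 : (2 : F) ≠ 0) : Odd (Fintype.card F) := by
  obtain ⟨p, hp⟩ := CharP.exists F
  haveI : Fact p.Prime := ⟨CharP.char_is_prime F p⟩
  obtain ⟨n, -, hn⟩ := FiniteField.card F p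
  rw [hn]
  apply Odd.pow
  rcases (Fact.out : p.Prime).eq_two_or_odd' with h | h
  · exfalso
    apply h2
    have := CharP.cast_eq_zero F p
    rw [h] at this
    exact_mod_cast this
  · exact h

/-- a dicyclic subgroup of odd index -/
theorem exists_dic [Fintype F] (h2 : (2 : F) ≠ 0) :
    ∃ (a w : SL2 F) (m k : ℕ), 0 < m ∧ orderOf a = 2 * m ∧ w * a * w⁻¹ = a⁻¹ ∧ w * w = a ^ m ∧
      w ∉ Subgroup.zpowers a ∧ Odd k ∧ (Subgroup.zpowers a).index = 2 * k := by
  classical
  have hodd := odd_card_of_two_ne_zero h2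
  have hq2 : 2 ≤ Fintype.card F := Fintype.one_lt_card
  obtain ⟨j, hj⟩ := hodd
  have hj1 : 1 ≤ j := by omega
  rcases Nat.even_or_odd j with ⟨i, hi⟩ | ⟨i, hi⟩
  · -- q = 4 i + 1 : split torus
    have hq : Fintype.card F = 4 * i + 1 := by omega
    have hi1 : 1 ≤ i := by omega
    obtain ⟨ζ, hζ⟩ := exists_split (F := F)
    set a := dgHom ζ with ha
    have hζ0 : (ζ : F) ≠ 0 := ζ.ne_zero
    set w : SL2 F := mk 0 1 (-1) 0 (by ring) with hw
    have hinv : w * a * w⁻¹ = a⁻¹ := by
      rw [mul_inv_eq_iff_eq_mul]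
      apply ext4 <;>
        simp [mul_apply', inv_00, inv_01, inv_10, inv_11, ha, hw, dgHom, dg]
    have hord : orderOf a = 2 * (2 * i) := by rw [hζ, hq]; omega
    obtain ⟨hw2, hwA⟩ := dic_data h2 a w (2 * i) (by omega) hord hinv
    refine ⟨a, w, 2 * i, (4 * i + 1) * (2 * i + 1), by omega, hord, hinv, hw2, hwA, ?_, ?_⟩
    · exact Odd.mul ⟨2 * i, by ring⟩ ⟨i, by ring⟩
    · apply index_zpowers_of_orderOf a hord _ (by omega)
      rw [hq]
      have : (4 * i + 1) ^ 2 - 1 = (4 * i) * (4 * i + 2) := by
        have : (4 * i + 1) ^ 2 = (4 * i) * (4 * i + 2) + 1 := by ring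
        omega
      rw [this]
      ring
  · -- q = 4 i + 3 : non-split torus
    have hq : Fintype.card F = 4 * i + 3 := by omega
    obtain ⟨Y, hord', -, -, hnoeig⟩ := exists_nonsplit' (F := F)
    have hΔ := tr_sq_ne_four_of_noeig h2 Y hnoeig
    obtain ⟨w, hinv⟩ := exists_inverting' Y hΔ
    have hord : orderOf Y = 2 * (2 * i + 2) := by rw [hord', hq]; omega
    obtain ⟨hw2, hwA⟩ := dic_data h2 Y w (2 * i + 2) (by omega) hord hinv
    refine ⟨Y, w, 2 * i + 2, (4 * i + 3) * (2 * i + 1), by omega, hord, hinv, hw2, hwA, ?_, ?_⟩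
    · exact Odd.mul ⟨2 * i + 1, by ring⟩ ⟨i, by ring⟩
    · apply index_zpowers_of_orderOf Y hord _ (by omega)
      rw [hq]
      have : (4 * i + 3) ^ 2 - 1 = (4 * i + 2) * (4 * i + 4) := by
        have : (4 * i + 3) ^ 2 = (4 * i + 2) * (4 * i + 4) + 1 := by ring
        omega
      rw [this]
      ring

section ext

variable {Γ : Type*} [Group Γ] (σ : Γ →* SL2 F)

/-- lifts of upper unitriangular matrices commute -/
theorem comm_over_U [Fintype F] (h4 : Fintype.card F ≠ 4) (h9 : Fintype.card F ≠ 9)
    (hsurj : Function.Surjective σ) (hc : σ.ker ≤ Subgroup.center Γ) {x y : Γ} {b c : F}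
    (hx : σ x = up b) (hy : σ y = up c) : x * y = y * x := by
  classical
  obtain ⟨p, hp⟩ := CharP.exists F
  haveI : Fact p.Prime := ⟨CharP.char_is_prime F p⟩
  have hpp : p.Prime := Fact.out
  obtain ⟨n, -, hn⟩ := FiniteField.card F p
  by_cases hn1 : (n : ℕ) = 1
  · -- prime field
    rw [hn1, pow_one] at hn
    have e := ZMod.ringEquivOfPrime F hpp hn
    have hcyc : ∀ a : F, ∃ k : ℕ, up a = up 1 ^ k := by
      intro a
      refine ⟨(e.symm a).val, ?_⟩
      rw [up_pow, mul_one]
      congr 1
      have : a = e (e.symm a) := (e.apply_symm_apply a).symm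
      conv_lhs => rw [this, ← ZMod.natCast_zmod_val (e.symm a), map_natCast]
    obtain ⟨â, hâ⟩ := hsurj (up 1)
    apply comm_of_zpowers σ hc â
    · rw [hâ, hx]
      obtain ⟨k, hk⟩ := hcyc b
      rw [hk]
      exact Subgroup.pow_mem _ (Subgroup.mem_zpowers _) k
    · rw [hâ, hy]
      obtain ⟨k, hk⟩ := hcyc c
      rw [hk]
      exact Subgroup.pow_mem _ (Subgroup.mem_zpowers _) k
  · have hn2 : 2 ≤ (n : ℕ) := by
      have := n.pos
      omega
    set L : SL2 F → Γ := fun g => Classical.choose (hsurj g) with hL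
    have hLs : ∀ g, σ (L g) = g := fun g => Classical.choose_spec (hsurj g)
    set B : F → F → Γ := fun b c => ⁅L (up b), L (up c)⁆ with hB
    have hcen : ∀ b c, B b c ∈ Subgroup.center Γ := by
      intro b c
      apply hc
      apply cm_mem_ker
      rw [hLs, hLs, ← up_add, ← up_add, add_comm]
    have h1 : ∀ b b' c, B (b + b') c = B b c * B b' c := by
      intro b b' c
      have e : σ (L (up (b + b'))) = σ (L (up b) * L (up b')) := by
        rw [map_mul, hLs, hLs, hLs, up_add]
      simp only [hB]
      rw [cm_congr σ hc e rfl, cm_mul_left (Subgroup.mem_center_iff.mp (hcen b' c) _)]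
      exact Subgroup.mem_center_iff.mp (hcen b c) _
    have h2 : ∀ b c c', B b (c + c') = B b c * B b c' := by
      intro b c c'
      have e : σ (L (up (c + c'))) = σ (L (up c) * L (up c')) := by
        rw [map_mul, hLs, hLs, hLs, up_add]
      simp only [hB]
      rw [cm_congr σ hc rfl e, cm_mul_right (Subgroup.mem_center_iff.mp (hcen b c') _)]
    have hinv : ∀ t b c : F, t ≠ 0 → B (t ^ 2 * b) (t ^ 2 * c) = B b c := by
      intro t b c ht
      set nn := L (dg t ht) with hnn
      have h3 := cm_conj_central nn (hcen b c)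
      simp only [hB] at h3 ⊢
      rw [← h3]
      apply cm_congr σ hc
      · rw [map_mul, map_mul, map_inv, hLs, hLs, hLs, dg_mul_up, mul_inv_cancel_right]
      · rw [map_mul, map_mul, map_inv, hLs, hLs, hLs, dg_mul_up, mul_inv_cancel_right]
    have hone : B b c = 1 := by
      by_cases hp2 : p = 2
      · subst hp2
        have hq8 : 8 ≤ Fintype.card F := by
          rw [hn] at h4 ⊢
          have h3 : 3 ≤ (n : ℕ) := by
            by_contra hlt
            have : (n : ℕ) = 2 := by omega
            rw [this] at h4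
            exact h4 (by norm_num)
          calc 8 = 2 ^ 3 := by norm_num
            _ ≤ 2 ^ (n : ℕ) := Nat.pow_le_pow_right (by norm_num) h3
        have hinv' : ∀ k b c : F, k ≠ 0 → B (k * b) (k * c) = B b c := by
          intro k b c hk
          obtain ⟨t, ht⟩ := FiniteField.isSquare_of_char_two (ringChar.eq F 2) k
          have ht0 : t ≠ 0 := by
            rintro rfl
            rw [mul_zero] at ht
            exact hk ht
          have := hinv t b c ht0
          rw [pow_two, ← ht] at this
          exact this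
        exact form_one_one hq8 B h1 h2 hinv' b c
      · have h2F : (2 : F) ≠ 0 := by
          intro h
          have : ((2 : ℕ) : F) = 0 := by exact_mod_cast h
          rw [CharP.cast_eq_zero_iff F p 2] at this
          exact hp2 ((Nat.prime_dvd_prime_iff_eq hpp Nat.prime_two).mp this)
        have hp3 : 3 ≤ p := by
          have := hpp.two_le
          omega
        have hq14 : 14 ≤ Fintype.card F := by
          rw [hn] at h9 ⊢
          by_cases hp3' : p = 3
          · subst hp3'
            have h3 : 3 ≤ (n : ℕ) := by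
              by_contra hlt
              have : (n : ℕ) = 2 := by omega
              rw [this] at h9
              exact h9 (by norm_num)
            calc 14 ≤ 3 ^ 3 := by norm_num
              _ ≤ 3 ^ (n : ℕ) := Nat.pow_le_pow_right (by norm_num) h3
          · have hp5 : 5 ≤ p := by
              by_contra hlt
              have : p = 4 := by omega
              rw [this] at hpp
              exact absurd hpp (by norm_num)
            calc 14 ≤ 5 ^ 2 := by norm_num
              _ ≤ p ^ 2 := Nat.pow_le_pow_left hp5 2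
              _ ≤ p ^ (n : ℕ) := Nat.pow_le_pow_right (by omega) hn2
        exact form_sq_one h2F hq14 B h1 h2 hinv b c
    have e : ⁅x, y⁆ = B b c := by
      simp only [hB]
      apply cm_congr σ hc
      · rw [hx, hLs]
      · rw [hy, hLs]
    rw [hone] at e
    exact commutatorElement_eq_one_iff_mul_comm.mp e

end ext

end Cfsg.Agent.Lib.Helper1.SlMult
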