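import Mathlib
import Cfsg.Agent.Lib.Helper1.SlMe

/-!
# Stem extensions of `SL₂(q)`, `q ≠ 4, 9`, are trivial (helper1)
-/

set_option autoImplicit false
set_option maxHeartbeats 2000000

namespace Cfsg.Agent.Lib.Helper1.SlMult

open Cfsg.Agent.Lib.Helper12.SL2 Cfsg.Agent.Lib.Helper12.DkT Cfsg.Agent.Lib.Helper1.SzMult

open scoped commutatorElement

universe u

variable {F : Type u} [Field F]

local notation "SL2" => Matrix.SpecialLinearGroup (Fin 2)

theorem stem_trivial_sl2 [Fintype F] {Γ : Type*} [Group Γ] [Finite Γ] (σ : Γ →* SL2 F)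
    (h4 : Fintype.card F ≠ 4) (h9 : Fintype.card F ≠ 9)
    (hsurj : Function.Surjective σ) (hc : σ.ker ≤ Subgroup.center Γ)
    (hd : σ.ker ≤ commutator Γ) : σ.ker = ⊥ := by
  classical
  rw [Subgroup.eq_bot_iff_forall]
  intro z hz
  obtain ⟨q, hq⟩ : ∃ q, q = Fintype.card F := ⟨_, rfl⟩
  have hq2 : 2 ≤ q := by rw [hq]; exact Fintype.one_lt_card
  obtain ⟨r, rfl⟩ : ∃ r, q = r + 2 := ⟨q - 2, by omega⟩
  have hsq : (r + 2) ^ 2 - 1 = (r + 1) * (r + 3) := by
    have : (r + 2) ^ 2 = (r + 1) * (r + 3) + 1 := by ring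
    omega
  have E1 : z ^ ((r + 2) ^ 2 - 1) = 1 := by
    have := pow_index_eq_one_of_comm ((USub : Subgroup (SL2 F)).comap σ) (by
      intro x hx y hy
      obtain ⟨b, hb⟩ := mem_USub.mp (Subgroup.mem_comap.mp hx)
      obtain ⟨c, hc'⟩ := mem_USub.mp (Subgroup.mem_comap.mp hy)
      exact comm_over_U σ h4 h9 hsurj hc hb.symm hc'.symm) (hc hz) (hd hz)
    rwa [Subgroup.index_comap_of_surjective _ hsurj, index_USub, ← hq] at this
  obtain ⟨ζ, hζ⟩ := exists_split (F := F)
  have E2 : z ^ ((r + 2) * (r + 3)) = 1 := by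
    have := pow_index_zpowers σ hsurj hc (dgHom ζ) hz (hd hz)
    rwa [index_zpowers_of_orderOf (dgHom ζ) hζ (k := (r + 2) * (r + 3)) (by
      rw [← hq, hsq]
      simp only [show r + 2 - 1 = r + 1 by omega]
      ring) (by rw [← hq]; omega)] at this
  obtain ⟨Y, hY, -, -, -⟩ := exists_nonsplit' (F := F)
  have E3 : z ^ ((r + 2) * (r + 1)) = 1 := by
    have := pow_index_zpowers σ hsurj hc Y hz (hd hz)
    rwa [index_zpowers_of_orderOf Y hY (k := (r + 2) * (r + 1)) (by
      rw [← hq, hsq]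
      ring) (by omega)] at this
  rw [hsq] at E1
  have ho1 : orderOf z ∣ (r + 1) * (r + 3) := orderOf_dvd_of_pow_eq_one E1
  have ho2 : orderOf z ∣ (r + 2) * (r + 3) := orderOf_dvd_of_pow_eq_one E2
  have ho3 : orderOf z ∣ (r + 2) * (r + 1) := orderOf_dvd_of_pow_eq_one E3
  have ho4 : orderOf z ∣ r + 3 := by
    have e : (r + 2) * (r + 3) = (r + 1) * (r + 3) + (r + 3) := by ring
    rw [e] at ho2
    exact (Nat.dvd_add_right ho1).mp ho2
  have ho5 : orderOf z ∣ r + 1 := by
    have e : (r + 1) * (r + 3) = (r + 2) * (r + 1) + (r + 1) := by ring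
    rw [e] at ho1
    exact (Nat.dvd_add_right ho3).mp ho1
  have ho6 : orderOf z ∣ 2 := by
    have e : r + 3 = (r + 1) + 2 := by ring
    rw [e] at ho4
    exact (Nat.dvd_add_right ho5).mp ho4
  have ho7 : orderOf z = 1 ∨ orderOf z = 2 := by
    have := Nat.le_of_dvd (by norm_num) ho6
    have hpos := orderOf_pos z
    omega
  rcases ho7 with h | h
  · exact orderOf_eq_one_iff.mp h
  · exfalso
    rw [h] at ho4
    by_cases h2 : (2 : F) = 0
    · -- even characteristic: q is even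
      have hqF : ((r + 2 : ℕ) : F) = 0 := by
        rw [hq]
        exact Nat.cast_card_eq_zero F
      obtain ⟨j, hj⟩ := ho4
      have hr : r + 2 = 2 * j - 1 := by omega
      have hj1 : 1 ≤ j := by omega
      obtain ⟨j', rfl⟩ : ∃ j', j = j' + 1 := ⟨j - 1, by omega⟩
      have hr' : r + 2 = 2 * j' + 1 := by omega
      rw [hr'] at hqF
      push_cast at hqF
      rw [h2, zero_mul, zero_add] at hqF
      exact one_ne_zero hqF
    · obtain ⟨a, w, m, k, hm, hord, hinv, hw2, hwA, hk, hidx⟩ := exists_dic h2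
      obtain ⟨â, rfl⟩ := hsurj a
      obtain ⟨ŵ, rfl⟩ := hsurj w
      have hw2' : σ ŵ * σ ŵ ∈ Subgroup.zpowers (σ â) := by
        rw [hw2]
        exact Subgroup.pow_mem _ (Subgroup.mem_zpowers _) m
      have hnorm := conj_mem_zpowers hinv
      set N := dicSub (Subgroup.zpowers (σ â)) (σ ŵ) hnorm hw2' with hN
      have hNidx : N.index = k := by
        have h0 : 2 * N.index = (Subgroup.zpowers (σ â)).index :=
          index_dicSub (Subgroup.zpowers (σ â)) (σ ŵ) hnorm hw2' hwA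
        rw [hidx] at h0
        omega
      have h1 := transfer_central (N.comap σ) (hc hz) (hd hz)
      rw [Subgroup.index_comap_of_surjective _ hsurj, hNidx] at h1
      have h3 := dic_ext σ hc â ŵ m hm hord hinv hw2 hnorm hw2' (Subgroup.pow_mem _ hz k) h1
      have h5 : orderOf z ∣ k := orderOf_dvd_of_pow_eq_one h3
      rw [h] at h5
      obtain ⟨k', hk'⟩ := hk
      omega

end Cfsg.Agent.Lib.Helper1.SlMult
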