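import Mathlib
import Cfsg.Agent.Lib.Helper1.SlMf
import Cfsg.Agent.Lib.Helper11.ESd

/-!
# Stem extensions of `SL₂(9)` have kernel of order at most three (helper1)
-/

set_option autoImplicit false
set_option maxHeartbeats 2000000

namespace Cfsg.Agent.Lib.Helper1.Sl9

open Cfsg.Agent.Lib.Helper12.SL2 Cfsg.Agent.Lib.Helper12.DkT Cfsg.Agent.Lib.Helper1.SzMult
  Cfsg.Agent.Lib.Helper1.SlMult

open scoped commutatorElement

universe u

local notation "SL2" => Matrix.SpecialLinearGroup (Fin 2)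

/-- a group whose centre has index dividing nine has all commutators in a subgroup of order
one or three -/
theorem exists_small_comm {Q : Type*} [Group Q] [Finite Q] (K : Subgroup Q)
    (hK : K ≤ Subgroup.center Q) (hidx : K.index = 9) :
    ∃ L : Subgroup Q, (Nat.card L = 1 ∨ Nat.card L = 3) ∧ ∀ g h : Q, ⁅g, h⁆ ∈ L := by
  haveI : Fact (Nat.Prime 3) := ⟨by norm_num⟩
  have hdvd : (Subgroup.center Q).index ∣ 3 ^ 2 := by
    have := Subgroup.index_dvd_of_le hK
    rw [hidx] at this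
    exact this
  obtain ⟨m, hm, hm'⟩ := (Nat.dvd_prime_pow (by norm_num : Nat.Prime 3)).mp hdvd
  have habel : (∀ a b : Q, a * b = b * a) →
      ∃ L : Subgroup Q, (Nat.card L = 1 ∨ Nat.card L = 3) ∧ ∀ g h : Q, ⁅g, h⁆ ∈ L := by
    intro h
    refine ⟨⊥, Or.inl Subgroup.card_bot, fun g k => ?_⟩
    rw [Subgroup.mem_bot, commutatorElement_eq_one_iff_mul_comm]
    exact h g k
  interval_cases m
  · apply habel
    intro a b
    have htop : Subgroup.center Q = ⊤ := by
      rw [← Subgroup.index_eq_one]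
      simpa using hm'
    have ha : a ∈ Subgroup.center Q := by rw [htop]; exact Subgroup.mem_top _
    exact (Subgroup.mem_center_iff.mp ha b).symm
  · apply habel
    have hcard : Nat.card (Q ⧸ Subgroup.center Q) = 3 := by
      have : (Subgroup.center Q).index = 3 := by simpa using hm'
      rw [← this]
      rfl
    haveI : IsCyclic (Q ⧸ Subgroup.center Q) := isCyclic_of_prime_card hcard
    exact commutative_of_cyclic_center_quotient (QuotientGroup.mk' (Subgroup.center Q))
      (by rw [QuotientGroup.ker_mk'])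
  · obtain ⟨L, hL, -, hL'⟩ := Cfsg.Agent.Lib.Helper11.ESd.exists_comm_subgroup (p := 3) hm'
    exact ⟨L, Or.inr hL, hL'⟩

variable {F : Type u} [Field F]

theorem two_ne_zero_of_card_nine [Fintype F] (hF : Fintype.card F = 9) : (2 : F) ≠ 0 := by
  intro h2
  haveI : CharP F 2 := CharTwo.of_one_ne_zero_of_two_eq_zero one_ne_zero h2
  obtain ⟨n, -, hn⟩ := FiniteField.card F 2
  rw [hF] at hn
  have h3 : 2 ∣ 9 := by
    rw [hn]
    exact dvd_pow_self 2 n.ne_zero
  omega

/-- the preimage of the unitriangular group has small commutator subgroup -/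
theorem exists_small_comm_U [Fintype F] (hF : Fintype.card F = 9) {Γ : Type*} [Group Γ]
    [Finite Γ] (σ : Γ →* SL2 F) (hsurj : Function.Surjective σ)
    (hc : σ.ker ≤ Subgroup.center Γ) :
    ∃ L : Subgroup Γ, (Nat.card L = 1 ∨ Nat.card L = 3) ∧
      ⁅(USub : Subgroup (SL2 F)).comap σ, (USub : Subgroup (SL2 F)).comap σ⁆ ≤ L := by
  classical
  obtain ⟨Q, hQ⟩ : ∃ Q : Subgroup Γ, Q = (USub : Subgroup (SL2 F)).comap σ := ⟨_, rfl⟩
  rw [← hQ]
  have hmem : ∀ x : Γ, x ∈ Q ↔ σ x ∈ (USub : Subgroup (SL2 F)) := by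
    intro x
    rw [hQ]
    rfl
  let f : Q →* (USub : Subgroup (SL2 F)) :=
    { toFun := fun x => ⟨σ x.1, (hmem x.1).mp x.2⟩
      map_one' := Subtype.ext (map_one σ)
      map_mul' := fun x y => Subtype.ext (map_mul σ x.1 y.1) }
  have hfs : Function.Surjective f := by
    rintro ⟨u, hu⟩
    obtain ⟨x, rfl⟩ := hsurj u
    exact ⟨⟨x, (hmem x).mpr hu⟩, rfl⟩
  have hker : f.ker ≤ Subgroup.center Q := by
    intro x hx
    have h1 : σ x.1 = 1 := congrArg Subtype.val (MonoidHom.mem_ker.mp hx)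
    have h2 := hc (MonoidHom.mem_ker.mpr h1)
    rw [Subgroup.mem_center_iff]
    intro y
    exact Subtype.ext (Subgroup.mem_center_iff.mp h2 y.1)
  have hidx : f.ker.index = 9 := by
    rw [Subgroup.index_ker, MonoidHom.range_eq_top.mpr hfs, Subgroup.card_top, card_USub, hF]
  obtain ⟨L, hL, hL'⟩ := exists_small_comm f.ker hker hidx
  refine ⟨L.map Q.subtype, ?_, ?_⟩
  · rw [Subgroup.card_map_of_injective Q.subtype_injective]
    exact hL
  · rw [Subgroup.commutator_le]
    intro g₁ h₁ g₂ h₂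
    exact ⟨⁅(⟨g₁, h₁⟩ : Q), ⟨g₂, h₂⟩⁆, hL' _ _, rfl⟩

end Cfsg.Agent.Lib.Helper1.Sl9
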