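import Mathlib
import Cfsg.Agent.Lib.Helper1.S9D

/-!
# The kernel of a stem extension of `SL₂(9)` is a quotient of `ℤ/3` (helper1)
-/

set_option autoImplicit false
set_option maxHeartbeats 2000000

namespace Cfsg.Agent.Lib.Helper1.Sl9

open Cfsg.Agent.Lib.Helper12.SL2 Cfsg.Agent.Lib.Helper12.DkT Cfsg.Agent.Lib.Helper1.SzMult
  Cfsg.Agent.Lib.Helper1.SlMult

open scoped commutatorElement

universe u

local notation "SL2" => Matrix.SpecialLinearGroup (Fin 2)

variable {F : Type u} [Field F]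

theorem ker_le_small [Fintype F] (hF : Fintype.card F = 9) {Γ : Type*} [Group Γ]
    [Finite Γ] (σ : Γ →* SL2 F) (hsurj : Function.Surjective σ)
    (hc : σ.ker ≤ Subgroup.center Γ) (hd : σ.ker ≤ commutator Γ) :
    ∃ L : Subgroup Γ, (Nat.card L = 1 ∨ Nat.card L = 3) ∧ σ.ker ≤ L := by
  classical
  obtain ⟨L, hL, hQL⟩ := exists_small_comm_U hF σ hsurj hc
  refine ⟨L, hL, ?_⟩
  intro z hz
  have h2 : (2 : F) ≠ 0 := two_ne_zero_of_card_nine hF
  -- transfer into the preimage of the unitriangular group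
  have T1 : z ^ 80 ∈ L := by
    have := transfer_central ((USub : Subgroup (SL2 F)).comap σ) (hc hz) (hd hz)
    rw [Subgroup.index_comap_of_surjective _ hsurj, index_USub, hF] at this
    exact hQL this
  have E1 : z ^ 240 = 1 := by
    have h3 : (⟨z ^ 80, T1⟩ : L) ^ Nat.card L = 1 := pow_card_eq_one'
    have h4 : (z ^ 80) ^ Nat.card L = 1 := by
      have := congrArg (fun x : L => (x : Γ)) h3
      exact this
    rcases hL with h | h
    · rw [h, pow_one] at h4
      have : z ^ 240 = (z ^ 80) ^ 3 := by rw [← pow_mul]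
      rw [this, h4, one_pow]
    · rw [h] at h4
      have : z ^ 240 = (z ^ 80) ^ 3 := by rw [← pow_mul]
      rw [this, h4]
  obtain ⟨ζ, hζ⟩ := exists_split (F := F)
  have E2 : z ^ 90 = 1 := by
    have := pow_index_zpowers σ hsurj hc (SlMult.dgHom ζ) hz (hd hz)
    rwa [index_zpowers_of_orderOf (SlMult.dgHom ζ) hζ (k := 90) (by rw [hF]; norm_num)
      (by rw [hF]; norm_num)] at this
  obtain ⟨Y, hY, -, -, -⟩ := exists_nonsplit' (F := F)
  have E3 : z ^ 72 = 1 := by
    have := pow_index_zpowers σ hsurj hc Y hz (hd hz)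
    rwa [index_zpowers_of_orderOf Y hY (k := 72) (by rw [hF]; norm_num)
      (by rw [hF]; norm_num)] at this
  -- the dicyclic subgroup of odd index
  have E4 : ∃ k : ℕ, Odd k ∧ z ^ k = 1 := by
    obtain ⟨a, w, m, k, hm, hord, hinv, hw2, hwA, hk, hidx⟩ := exists_dic h2
    obtain ⟨â, rfl⟩ := hsurj a
    obtain ⟨ŵ, rfl⟩ := hsurj w
    have hw2' : σ ŵ * σ ŵ ∈ Subgroup.zpowers (σ â) := by
      rw [hw2]
      exact Subgroup.pow_mem _ (Subgroup.mem_zpowers _) m
    have hnorm := conj_mem_zpowers hinv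
    set N := dicSub (Subgroup.zpowers (σ â)) (σ ŵ) hnorm hw2' with hN
    have hNidx : N.index = k := by
      have h0 : 2 * N.index = (Subgroup.zpowers (σ â)).index :=
        index_dicSub (Subgroup.zpowers (σ â)) (σ ŵ) hnorm hw2' hwA
      rw [hidx] at h0
      omega
    have h1 := transfer_central (N.comap σ) (hc hz) (hd hz)
    rw [Subgroup.index_comap_of_surjective _ hsurj, hNidx] at h1
    have h3 := dic_ext σ hc â ŵ m hm hord hinv hw2 hnorm hw2' (Subgroup.pow_mem _ hz k) h1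
    exact ⟨k, hk, h3⟩
  obtain ⟨k, hk, E4⟩ := E4
  have ho1 : orderOf z ∣ 240 := orderOf_dvd_of_pow_eq_one E1
  have ho2 : orderOf z ∣ 90 := orderOf_dvd_of_pow_eq_one E2
  have ho3 : orderOf z ∣ 72 := orderOf_dvd_of_pow_eq_one E3
  have ho4 : orderOf z ∣ k := orderOf_dvd_of_pow_eq_one E4
  have ho5 : orderOf z ∣ 6 := by
    have h30 : orderOf z ∣ Nat.gcd 240 90 := Nat.dvd_gcd ho1 ho2
    have h6 : orderOf z ∣ Nat.gcd (Nat.gcd 240 90) 72 := Nat.dvd_gcd h30 ho3
    exact h6
  have ho6 : orderOf z ∣ 3 := by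
    have hle := Nat.le_of_dvd (by norm_num) ho5
    have hpos := orderOf_pos z
    obtain ⟨k', hk'⟩ := hk
    obtain ⟨j, hj⟩ := ho4
    interval_cases h : orderOf z
    · exact one_dvd _
    · omega
    · exact dvd_rfl
    · omega
    · omega
    · omega
  have hz3 : z ^ 3 = 1 := orderOf_dvd_iff_pow_eq_one.mp ho6
  have hz81 : z ^ 81 = 1 := by
    have : z ^ 81 = (z ^ 3) ^ 27 := by rw [← pow_mul]
    rw [this, hz3, one_pow]
  have hz' : z = (z ^ 80)⁻¹ := by
    rw [eq_inv_iff_mul_eq_one, ← pow_succ']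
    exact hz81
  rw [hz']
  exact L.inv_mem T1

theorem exists_surj_zmod3 [Fintype F] (hF : Fintype.card F = 9) {Γ : Type*} [Group Γ]
    [Finite Γ] (σ : Γ →* SL2 F) (hsurj : Function.Surjective σ)
    (hc : σ.ker ≤ Subgroup.center Γ) (hd : σ.ker ≤ commutator Γ) :
    ∃ π : Multiplicative (ZMod 3) →* σ.ker, Function.Surjective π := by
  obtain ⟨L, hL, hle⟩ := ker_le_small hF σ hsurj hc hd
  have hdvd : Nat.card σ.ker ∣ Nat.card L := Subgroup.card_dvd_of_le hle
  have hcases : Nat.card σ.ker = 1 ∨ Nat.card σ.ker = 3 := by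
    rcases hL with h | h
    · rw [h] at hdvd
      exact Or.inl (Nat.dvd_one.mp hdvd)
    · rw [h] at hdvd
      exact (Nat.dvd_prime (by norm_num)).mp hdvd
  rcases hcases with h | h
  · refine ⟨1, fun x => ⟨1, ?_⟩⟩
    have := (Nat.card_eq_one_iff_unique.mp h).1
    exact Subsingleton.elim _ _
  · haveI : Fact (Nat.Prime 3) := ⟨by norm_num⟩
    have h3 : Nat.card (Multiplicative (ZMod 3)) = 3 := by
      rw [Nat.card_eq_fintype_card, Fintype.card_multiplicative, ZMod.card]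
    exact ⟨(mulEquivOfPrimeCardEq h3 h).toMonoidHom, (mulEquivOfPrimeCardEq h3 h).surjective⟩

end Cfsg.Agent.Lib.Helper1.Sl9
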