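import Mathlib
import Cfsg.Agent.Lib.Helper1.S9A
import Cfsg.Agent.Lib.Helper1.S9C
import Cfsg.Agent.S0254

/-!
# A stem extension of `SL₂(9)` with kernel of order three (helper1)
-/

set_option autoImplicit false
set_option maxHeartbeats 2000000

namespace Cfsg.Agent.Lib.Helper1.Sl9

open scoped commutatorElement

universe u

local notation "SL2" => Matrix.SpecialLinearGroup (Fin 2)

variable {F : Type u} [Field F]

theorem center_sq (c : SL2 F) (hc : c ∈ Subgroup.center (SL2 F)) : c ^ 2 = 1 := by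
  rw [Matrix.SpecialLinearGroup.mem_center_iff] at hc
  obtain ⟨r, hr, hrc⟩ := hc
  rw [Fintype.card_fin] at hr
  apply Subtype.ext
  show ((c ^ 2 : SL2 F) : Matrix (Fin 2) (Fin 2) F) = ((1 : SL2 F) : Matrix (Fin 2) (Fin 2) F)
  rw [Matrix.SpecialLinearGroup.coe_pow, Matrix.SpecialLinearGroup.coe_one, ← hrc, ← map_pow, hr,
    map_one]

theorem exists_cover [Fintype F] (hF : Fintype.card F = 9) :
    ∃ (Γ : Type u) (_ : Group Γ) (_ : Finite Γ) (σ : Γ →* SL2 F),
      (Function.Surjective σ ∧ σ.ker ≤ Subgroup.center Γ ∧ σ.ker ≤ commutator Γ) ∧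
        Nonempty (σ.ker ≃* Multiplicative (ZMod 3)) := by
  classical
  obtain ⟨φ⟩ := Cfsg.Agent.S0254.result hF
  let π : SL2 F →* Matrix.ProjectiveSpecialLinearGroup (Fin 2) F :=
    QuotientGroup.mk' (Subgroup.center (SL2 F))
  have hπ : Function.Surjective π := QuotientGroup.mk'_surjective _
  have hπk : π.ker = Subgroup.center (SL2 F) := QuotientGroup.ker_mk' _
  let ρ : HexE →* Matrix.ProjectiveSpecialLinearGroup (Fin 2) F :=
    φ.symm.toMonoidHom.comp rhoE
  have hρ : Function.Surjective ρ := φ.symm.surjective.comp rhoE_surjective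
  have hρk : ρ.ker = rhoE.ker := by
    ext x
    rw [MonoidHom.mem_ker, MonoidHom.mem_ker]
    show φ.symm (rhoE x) = 1 ↔ _
    rw [MulEquiv.map_eq_one_iff]
  haveI : Finite HexE := Nat.finite_of_card_ne_zero (by rw [card_HexE]; norm_num)
  haveI : Finite (SL2 F × HexE) := inferInstance
  refine ⟨pb π ρ, inferInstance, inferInstance, pbFst π ρ, ⟨pbFst_surjective hρ, ?_, ?_⟩, ?_⟩
  · apply ker_pbFst_le_center
    rw [hρk]
    exact ker_rhoE_le_center
  · apply ker_pbFst_le_commutator hπ
    · intro c hc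
      rw [hπk] at hc
      exact center_sq c hc
    · intro k hk
      rw [hρk] at hk
      exact ker_rhoE_pow_three k hk
    · rw [hρk]
      exact ker_rhoE_le_commutator
  · haveI : Fact (Nat.Prime 3) := ⟨by norm_num⟩
    have h3 : Nat.card (Multiplicative (ZMod 3)) = 3 := by
      rw [Nat.card_eq_fintype_card, Fintype.card_multiplicative, ZMod.card]
    have h1 : Nat.card (pbFst π ρ).ker = 3 := by
      rw [Nat.card_congr (kerEquiv (π := π) (ρ := ρ)).toEquiv, hρk, card_ker_rhoE]
    exact ⟨mulEquivOfPrimeCardEq h1 h3⟩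

end Cfsg.Agent.Lib.Helper1.Sl9
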