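import Mathlib
import Cfsg.Agent.Lib.Helper1.SlMf
import Cfsg.Agent.Lib.Helper1.S9D

/-!
# Stem extensions over a dihedral subgroup and over a subgroup of order nine (helper1)
-/

set_option autoImplicit false
set_option maxHeartbeats 2000000

namespace Cfsg.Agent.Lib.Helper1.Sl9

open Cfsg.Agent.Lib.Helper1.SzMult Cfsg.Agent.Lib.Helper1.SlMult

open scoped commutatorElement

section dih

variable {S : Type*} [Group S] {Γ : Type*} [Group Γ] (σ : Γ →* S)

theorem dih_ext [Finite Γ] (hc : σ.ker ≤ Subgroup.center Γ) (â ŵ : Γ) (m : ℕ) (hm : 0 < m)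
    (hord : orderOf (σ â) = 2 * m)
    (hinv : σ ŵ * σ â * (σ ŵ)⁻¹ = (σ â)⁻¹)
    (hw : ∀ x ∈ Subgroup.zpowers (σ â), σ ŵ * x * (σ ŵ)⁻¹ ∈ Subgroup.zpowers (σ â))
    (hw2' : σ ŵ * σ ŵ ∈ Subgroup.zpowers (σ â))
    : ∃ e : Γ, e * e = 1 ∧ ∀ z : Γ, z ∈ σ.ker →
      z ∈ ⁅(dicSub (Subgroup.zpowers (σ â)) (σ ŵ) hw hw2').comap σ,
        (dicSub (Subgroup.zpowers (σ â)) (σ ŵ) hw hw2').comap σ⁆ → z = 1 ∨ z = e := by
  set a := σ â with ha
  set w := σ ŵ with hwdef
  set c := ⁅â, ŵ⁆ with hcdef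
  have hσc : σ c = a * a := by
    rw [hcdef, map_commutatorElement, commutatorElement_def, ← ha, ← hwdef]
    have h1 : w * a⁻¹ * w⁻¹ = a := by
      have : w * a⁻¹ * w⁻¹ = (w * a * w⁻¹)⁻¹ := by group
      rw [this, hinv, inv_inv]
    calc a * w * a⁻¹ * w⁻¹ = a * (w * a⁻¹ * w⁻¹) := by group
      _ = a * a := by rw [h1]
  have hover : ∀ {x y : Γ}, σ x ∈ Subgroup.zpowers a → σ y ∈ Subgroup.zpowers a →
      x * y = y * x := fun hx hy => comm_of_zpowers σ hc â hx hy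
  have hσpow : ∀ i : ℕ, σ (â ^ i) ∈ Subgroup.zpowers a := by
    intro i
    rw [map_pow]
    exact Subgroup.pow_mem _ (Subgroup.mem_zpowers a) i
  have hσcpow : ∀ i : ℕ, σ (c ^ i) ∈ Subgroup.zpowers a := by
    intro i
    rw [map_pow, hσc]
    exact Subgroup.pow_mem _ (Subgroup.mul_mem _ (Subgroup.mem_zpowers a)
      (Subgroup.mem_zpowers a)) i
  have L1 : ∀ i : ℕ, ⁅â ^ i, ŵ⁆ = c ^ i := by
    intro i
    induction i with
    | zero => rw [pow_zero, pow_zero, commutatorElement_one_left]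
    | succ i ih =>
      have hcm : â ^ i * ⁅â, ŵ⁆ = ⁅â, ŵ⁆ * â ^ i := by
        apply hover (hσpow i)
        have := hσcpow 1
        rwa [pow_one] at this
      rw [pow_succ, cm_mul_left hcm, ih, pow_succ']
  have L2 : ∀ i j : ℕ, ⁅â ^ i, â ^ j * ŵ⁆ = c ^ i := by
    intro i j
    have hcm : â ^ j * ⁅â ^ i, ŵ⁆ = ⁅â ^ i, ŵ⁆ * â ^ j := by
      rw [L1]
      exact hover (hσpow j) (hσcpow i)
    rw [cm_mul_right hcm, L1]
    have : ⁅â ^ i, â ^ j⁆ = 1 := by
      rw [commutatorElement_eq_one_iff_mul_comm]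
      exact hover (hσpow i) (hσpow j)
    rw [this, one_mul]
  have L3 : ∀ i : ℕ, ⁅â ^ i * ŵ, ŵ⁆ = c ^ i := by
    intro i
    rw [← L1 i]
    simp only [commutatorElement_def]
    group
  have hfin : IsOfFinOrder a := by
    rw [← orderOf_pos_iff, hord]
    omega
  set N := dicSub (Subgroup.zpowers a) w hw hw2' with hN
  have hform : ∀ x ∈ N.comap σ, ∃ i : ℕ, σ x = σ (â ^ i) ∨ σ x = σ (â ^ i * ŵ) := by
    intro x hx
    rw [Subgroup.mem_comap, hN, mem_dicSub] at hx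
    rcases hx with hx | hx
    · rw [← hfin.mem_powers_iff_mem_zpowers, Submonoid.mem_powers_iff] at hx
      obtain ⟨i, hi⟩ := hx
      exact ⟨i, Or.inl (by rw [map_pow, ← ha, hi])⟩
    · rw [← hfin.mem_powers_iff_mem_zpowers, Submonoid.mem_powers_iff] at hx
      obtain ⟨i, hi⟩ := hx
      refine ⟨i, Or.inr ?_⟩
      rw [map_mul, map_pow, ← ha, ← hwdef, hi]
      group
  have hD : ⁅N.comap σ, N.comap σ⁆ ≤ Subgroup.zpowers c := by
    rw [Subgroup.commutator_le]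
    intro x hx y hy
    obtain ⟨i, hi⟩ := hform x hx
    obtain ⟨j, hj⟩ := hform y hy
    rcases hi with hi | hi <;> rcases hj with hj | hj
    · rw [cm_congr σ hc hi hj]
      have : ⁅â ^ i, â ^ j⁆ = 1 := by
        rw [commutatorElement_eq_one_iff_mul_comm]
        exact hover (hσpow i) (hσpow j)
      rw [this]
      exact Subgroup.one_mem _
    · rw [cm_congr σ hc hi hj, L2]
      exact Subgroup.pow_mem _ (Subgroup.mem_zpowers c) i
    · rw [cm_congr σ hc hi hj, ← commutatorElement_inv, L2]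
      exact Subgroup.inv_mem _ (Subgroup.pow_mem _ (Subgroup.mem_zpowers c) j)
    · rw [cm_congr σ hc hi hj]
      have hcm : â ^ j * ⁅â ^ i * ŵ, ŵ⁆ = ⁅â ^ i * ŵ, ŵ⁆ * â ^ j := by
        rw [L3]
        exact hover (hσpow j) (hσcpow i)
      rw [cm_mul_right hcm, L3, ← commutatorElement_inv, L2]
      exact Subgroup.mul_mem _
        (Subgroup.inv_mem _ (Subgroup.pow_mem _ (Subgroup.mem_zpowers c) j))
        (Subgroup.pow_mem _ (Subgroup.mem_zpowers c) i)
  have he : c ^ m * c ^ m = 1 := by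
    rw [← pow_add, ← two_mul, ← L1 (2 * m)]
    have e : σ (â ^ (2 * m)) = σ 1 := by
      rw [map_pow, map_one, ← ha, ← hord, pow_orderOf_eq_one]
    rw [cm_congr σ hc e rfl, commutatorElement_one_left]
  refine ⟨c ^ m, he, ?_⟩
  intro z hz hz'
  have hzc := hD hz'
  rw [← (isOfFinOrder_of_finite c).mem_powers_iff_mem_zpowers, Submonoid.mem_powers_iff] at hzc
  obtain ⟨i, hi⟩ := hzc
  have h1 : a ^ (2 * i) = 1 := by
    have := MonoidHom.mem_ker.mp hz
    rw [← hi, map_pow, hσc, ← pow_two, ← pow_mul] at this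
    exact this
  have h2 : 2 * m ∣ 2 * i := by
    rw [← hord]
    exact orderOf_dvd_of_pow_eq_one h1
  have h3 : m ∣ i := (Nat.mul_dvd_mul_iff_left (by norm_num)).mp h2
  obtain ⟨l, rfl⟩ := h3
  rw [← hi, pow_mul]
  rcases Nat.even_or_odd l with ⟨j, hj⟩ | ⟨j, hj⟩
  · left
    rw [hj, ← two_mul, pow_mul, pow_two, he, one_pow]
  · right
    rw [hj, pow_succ, pow_mul, pow_two, he, one_pow, one_mul]

end dih

section nine

variable {S : Type*} [Group S] {Γ : Type*} [Group Γ]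

/-- the preimage of a subgroup of order nine has small commutator subgroup -/
theorem exists_small_comm_over [Finite Γ] (σ : Γ →* S) (hsurj : Function.Surjective σ)
    (hc : σ.ker ≤ Subgroup.center Γ) (U : Subgroup S) (hU : Nat.card U = 9) :
    ∃ L : Subgroup Γ, (Nat.card L = 1 ∨ Nat.card L = 3) ∧ ⁅U.comap σ, U.comap σ⁆ ≤ L := by
  classical
  obtain ⟨Q, hQ⟩ : ∃ Q : Subgroup Γ, Q = U.comap σ := ⟨_, rfl⟩
  rw [← hQ]
  have hmem : ∀ x : Γ, x ∈ Q ↔ σ x ∈ U := by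
    intro x
    rw [hQ]
    rfl
  let f : Q →* U :=
    { toFun := fun x => ⟨σ x.1, (hmem x.1).mp x.2⟩
      map_one' := Subtype.ext (map_one σ)
      map_mul' := fun x y => Subtype.ext (map_mul σ x.1 y.1) }
  have hfs : Function.Surjective f := by
    rintro ⟨u, hu⟩
    obtain ⟨x, rfl⟩ := hsurj u
    exact ⟨⟨x, (hmem x).mpr hu⟩, rfl⟩
  have hker : f.ker ≤ Subgroup.center Q := by
    intro x hx
    have h1 : σ x.1 = 1 := congrArg Subtype.val (MonoidHom.mem_ker.mp hx)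
    have h2 := hc (MonoidHom.mem_ker.mpr h1)
    rw [Subgroup.mem_center_iff]
    intro y
    exact Subtype.ext (Subgroup.mem_center_iff.mp h2 y.1)
  have hidx : f.ker.index = 9 := by
    rw [Subgroup.index_ker, MonoidHom.range_eq_top.mpr hfs, Subgroup.card_top, hU]
  obtain ⟨L, hL, hL'⟩ := exists_small_comm f.ker hker hidx
  refine ⟨L.map Q.subtype, ?_, ?_⟩
  · rw [Subgroup.card_map_of_injective Q.subtype_injective]
    exact hL
  · rw [Subgroup.commutator_le]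
    intro g₁ h₁ g₂ h₂
    exact ⟨⁅(⟨g₁, h₁⟩ : Q), ⟨g₂, h₂⟩⁆, hL' _ _, rfl⟩

theorem surj_of_gen {A : Type*} [Group A] (e : A) (k : ℕ) (hk : e ^ k = 1)
    (hgen : ∀ z : A, z ∈ Subgroup.zpowers e) :
    ∃ π : Multiplicative (ZMod k) →* A, Function.Surjective π := by
  let f : ℤ →+ Additive A := zmultiplesHom (Additive A) (Additive.ofMul e)
  have hf : f k = 0 := by
    show (k : ℤ) • Additive.ofMul e = 0
    rw [natCast_zsmul, ← ofMul_pow, hk]
    rfl
  let g := ZMod.lift k ⟨f, hf⟩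
  refine ⟨AddMonoidHom.toMultiplicativeLeft g, ?_⟩
  intro z
  obtain ⟨i, hi⟩ := Subgroup.mem_zpowers_iff.1 (hgen z)
  refine ⟨Multiplicative.ofAdd (i : ZMod k), ?_⟩
  show (g (i : ZMod k)).toMul = z
  rw [ZMod.lift_coe]
  show (i • Additive.ofMul e).toMul = z
  rw [← ofMul_zpow, hi]
  rfl

/-- a central subgroup of exponent six with small 2- and 3-parts is a quotient of `ℤ/6` -/
theorem ker_cyclic_six [Finite Γ] (K : Subgroup Γ) (hK : K ≤ Subgroup.center Γ)
    (k2 k3 : ℕ) (hk2 : Odd k2) (hk3 : k3 % 3 = 1)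
    (e : Γ) (he : e * e = 1) (h2 : ∀ z ∈ K, z ^ k2 = 1 ∨ z ^ k2 = e)
    (L : Subgroup Γ) (hL : Nat.card L = 1 ∨ Nat.card L = 3) (h3 : ∀ z ∈ K, z ^ k3 ∈ L)
    (h6 : ∀ z ∈ K, z ^ 6 = 1) :
    ∃ π : Multiplicative (ZMod 6) →* K, Function.Surjective π := by
  classical
  have s1 : ∀ z ∈ K, z ^ 3 = 1 ∨ z ^ 3 = e := by
    intro z hz
    have hy : z ^ 3 ∈ K := K.pow_mem hz 3
    have hy2 : (z ^ 3) ^ 2 = 1 := by rw [← pow_mul]; exact h6 z hz
    obtain ⟨j, hj⟩ := hk2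
    have : (z ^ 3) ^ k2 = z ^ 3 := by
      rw [hj, pow_succ, pow_mul, hy2, one_pow, one_mul]
    have := this ▸ h2 _ hy
    exact this
  have s2 : ∀ z ∈ K, z ^ 4 ∈ L := by
    intro z hz
    have hy : z ^ 4 ∈ K := K.pow_mem hz 4
    have hy3 : (z ^ 4) ^ 3 = 1 := by
      rw [← pow_mul]
      have : z ^ (4 * 3) = (z ^ 6) ^ 2 := by rw [← pow_mul]
      rw [this, h6 z hz, one_pow]
    have hk : k3 = 3 * (k3 / 3) + 1 := by omega
    have : (z ^ 4) ^ k3 = z ^ 4 := by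
      rw [hk, pow_succ, pow_mul, hy3, one_pow, one_mul]
    have := this ▸ h3 _ hy
    exact this
  obtain ⟨e', he'K, he'2, s1'⟩ : ∃ e' : Γ, e' ∈ K ∧ e' * e' = 1 ∧ ∀ z ∈ K, z ^ 3 = 1 ∨ z ^ 3 = e' := by
    by_cases heK : e ∈ K
    · exact ⟨e, heK, he, s1⟩
    · refine ⟨1, K.one_mem, one_mul 1, fun z hz => ?_⟩
      rcases s1 z hz with h | h
      · exact Or.inl h
      · exact absurd (h ▸ K.pow_mem hz 3) heK
  obtain ⟨l, hlK, hl3, hlgen⟩ : ∃ l : Γ, l ∈ K ∧ l ^ 3 = 1 ∧ ∀ x ∈ L ⊓ K, x ∈ Subgroup.zpowers l := by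
    have hdvd : Nat.card (L ⊓ K : Subgroup Γ) ∣ Nat.card L := Subgroup.card_dvd_of_le inf_le_left
    have hcases : Nat.card (L ⊓ K : Subgroup Γ) = 1 ∨ Nat.card (L ⊓ K : Subgroup Γ) = 3 := by
      rcases hL with h | h
      · rw [h] at hdvd
        exact Or.inl (Nat.dvd_one.mp hdvd)
      · rw [h] at hdvd
        exact (Nat.dvd_prime (by norm_num)).mp hdvd
    rcases hcases with h | h
    · refine ⟨1, K.one_mem, one_pow 3, fun x hx => ?_⟩
      rw [Subgroup.card_eq_one] at h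
      rw [h, Subgroup.mem_bot] at hx
      rw [hx]
      exact Subgroup.one_mem _
    · haveI : Fact (Nat.Prime 3) := ⟨by norm_num⟩
      haveI : IsCyclic (L ⊓ K : Subgroup Γ) := isCyclic_of_prime_card h
      obtain ⟨g, hg⟩ := IsCyclic.exists_generator (α := (L ⊓ K : Subgroup Γ))
      refine ⟨g.1, g.2.2, ?_, fun x hx => ?_⟩
      · have h3' : g ^ Nat.card (L ⊓ K : Subgroup Γ) = 1 := pow_card_eq_one'
        rw [h] at h3'
        have := congrArg Subtype.val h3'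
        exact this
      · obtain ⟨k, hk⟩ := Subgroup.mem_zpowers_iff.mp (hg ⟨x, hx⟩)
        refine Subgroup.mem_zpowers_iff.mpr ⟨k, ?_⟩
        have := congrArg Subtype.val hk
        exact this
  have hcomm : Commute e' l := by
    have := (Subgroup.mem_center_iff.mp (hK hlK) e')
    exact this
  have e'3 : e' ^ 3 = e' := by
    rw [pow_succ, pow_two, he'2, one_mul]
  have e'4 : e' ^ 4 = 1 := by
    have : e' ^ 4 = (e' ^ 2) ^ 2 := by rw [← pow_mul]
    rw [this, pow_two e', he'2, one_pow]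
  have l4 : l ^ 4 = l := by rw [pow_succ, hl3, one_mul]
  have g3 : (e' * l) ^ 3 = e' := by rw [hcomm.mul_pow, e'3, hl3, mul_one]
  have g4 : (e' * l) ^ 4 = l := by rw [hcomm.mul_pow, e'4, l4, one_mul]
  have g6 : (e' * l) ^ 6 = 1 := by
    have : (e' * l) ^ 6 = ((e' * l) ^ 3) ^ 2 := by rw [← pow_mul]
    rw [this, g3, pow_two, he'2]
  have hgK : e' * l ∈ K := K.mul_mem he'K hlK
  have hgen : ∀ z ∈ K, z ∈ Subgroup.zpowers (e' * l) := by
    intro z hz
    have hz7 : z = z ^ 3 * z ^ 4 := by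
      rw [← pow_add]
      have : z ^ (3 + 4) = z ^ 6 * z := by rw [← pow_succ]
      rw [this, h6 z hz, one_mul]
    rw [hz7]
    apply Subgroup.mul_mem
    · rcases s1' z hz with h | h
      · rw [h]; exact Subgroup.one_mem _
      · rw [h]
        have : e' ∈ Subgroup.zpowers (e' * l) := by
          have h' := Subgroup.pow_mem _ (Subgroup.mem_zpowers (e' * l)) 3
          rwa [g3] at h'
        exact this
    · have h4 : z ^ 4 ∈ Subgroup.zpowers l := hlgen _ ⟨s2 z hz, K.pow_mem hz 4⟩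
      have hle : Subgroup.zpowers l ≤ Subgroup.zpowers (e' * l) := by
        rw [Subgroup.zpowers_le]
        have h' := Subgroup.pow_mem _ (Subgroup.mem_zpowers (e' * l)) 4
        rwa [g4] at h'
      exact hle h4
  apply surj_of_gen (⟨e' * l, hgK⟩ : K) 6
  · exact Subtype.ext g6
  · intro z
    obtain ⟨k, hk⟩ := Subgroup.mem_zpowers_iff.mp (hgen z.1 z.2)
    refine Subgroup.mem_zpowers_iff.mpr ⟨k, Subtype.ext ?_⟩
    rw [← hk]
    simp

end nine

end Cfsg.Agent.Lib.Helper1.Sl9
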