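import Mathlib
import Cfsg.Agent.Lib.Helper1.S9L

/-!
# Kernels of stem extensions of `A₆` and `A₇` are quotients of `ℤ/6` (helper1)
-/

set_option autoImplicit false
set_option maxHeartbeats 2000000

namespace Cfsg.Agent.Lib.Helper1.Sl9

open Cfsg.Agent.Lib.Helper1.SzMult Cfsg.Agent.Lib.Helper1.SlMult Equiv

open scoped commutatorElement

section parts

variable {S : Type*} [Group S] [Finite S] {Γ : Type*} [Group Γ] [Finite Γ] (σ : Γ →* S)

theorem index_zpowers_eq {g : S} {o k : ℕ} (ho : orderOf g = o) (hk : k * o = Nat.card S)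
    (ho0 : 0 < o) : (Subgroup.zpowers g).index = k := by
  have h := Subgroup.index_mul_card (Subgroup.zpowers g)
  rw [Nat.card_zpowers, ho, ← hk] at h
  exact Nat.eq_of_mul_eq_mul_right ho0 h

theorem two_part (hsurj : Function.Surjective σ) (hc : σ.ker ≤ Subgroup.center Γ)
    (hd : σ.ker ≤ commutator Γ) (a4 w : S) (ha4 : orderOf a4 = 4)
    (hinv : w * a4 * w⁻¹ = a4⁻¹) (hw2 : w * w ∈ Subgroup.zpowers a4) (k2 : ℕ)
    (hidx : (Subgroup.zpowers a4).index = 2 * k2) :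
    ∃ e : Γ, e * e = 1 ∧ ∀ z ∈ σ.ker, z ^ k2 = 1 ∨ z ^ k2 = e := by
  have hwA : w ∉ Subgroup.zpowers a4 := by
    intro hw
    obtain ⟨i, hi⟩ := Subgroup.mem_zpowers_iff.mp hw
    have hcm : w * a4 = a4 * w := by
      rw [← hi]
      exact ((Commute.refl a4).zpow_left i).eq
    have h1 : w * a4 * w⁻¹ = a4 := by rw [hcm, mul_inv_cancel_right]
    rw [h1] at hinv
    have h2 : a4 ^ 2 = 1 := by
      rw [pow_two]
      nth_rewrite 1 [hinv]
      exact inv_mul_cancel a4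
    have := orderOf_dvd_of_pow_eq_one h2
    rw [ha4] at this
    omega
  obtain ⟨â, rfl⟩ := hsurj a4
  obtain ⟨ŵ, rfl⟩ := hsurj w
  have hnorm := conj_mem_zpowers hinv
  obtain ⟨e, he, hE⟩ := dih_ext σ hc â ŵ 2 (by norm_num) ha4 hinv hnorm hw2
  refine ⟨e, he, fun z hz => ?_⟩
  have hNidx : (dicSub (Subgroup.zpowers (σ â)) (σ ŵ) hnorm hw2).index = k2 := by
    have h0 := index_dicSub (Subgroup.zpowers (σ â)) (σ ŵ) hnorm hw2 hwA
    rw [hidx] at h0
    omega
  have h1 := transfer_central ((dicSub (Subgroup.zpowers (σ â)) (σ ŵ) hnorm hw2).comap σ)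
    (hc hz) (hd hz)
  rw [Subgroup.index_comap_of_surjective _ hsurj, hNidx] at h1
  exact hE _ (Subgroup.pow_mem _ hz k2) h1

theorem three_part (hsurj : Function.Surjective σ) (hc : σ.ker ≤ Subgroup.center Γ)
    (hd : σ.ker ≤ commutator Γ) (k3 : ℕ) (hcard : 9 * k3 = Nat.card S) :
    ∃ L : Subgroup Γ, (Nat.card L = 1 ∨ Nat.card L = 3) ∧ ∀ z ∈ σ.ker, z ^ k3 ∈ L := by
  haveI : Fact (Nat.Prime 3) := ⟨by norm_num⟩
  obtain ⟨U, hU⟩ := Sylow.exists_subgroup_card_pow_prime (G := S) 3 (n := 2)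
    (by rw [← hcard]; exact Dvd.intro _ rfl)
  have hU9 : Nat.card U = 9 := by rw [hU]; norm_num
  have hUi : U.index = k3 := by
    have h := U.card_mul_index
    rw [hU9, ← hcard] at h
    exact Nat.eq_of_mul_eq_mul_left (by norm_num) h
  obtain ⟨L, hL, hQL⟩ := exists_small_comm_over σ hsurj hc U hU9
  refine ⟨L, hL, fun z hz => ?_⟩
  have h1 := transfer_central (U.comap σ) (hc hz) (hd hz)
  rw [Subgroup.index_comap_of_surjective _ hsurj, hUi] at h1
  exact hQL h1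

theorem pow_three_of_mem {L : Subgroup Γ} (hL : Nat.card L = 1 ∨ Nat.card L = 3) {x : Γ}
    (hx : x ∈ L) : x ^ 3 = 1 := by
  have h3 : (⟨x, hx⟩ : L) ^ Nat.card L = 1 := pow_card_eq_one'
  have h4 : x ^ Nat.card L = 1 := congrArg (fun y : L => (y : Γ)) h3
  rcases hL with h | h
  · rw [h, pow_one] at h4
    rw [h4, one_pow]
  · rw [h] at h4
    exact h4

end parts

end Cfsg.Agent.Lib.Helper1.Sl9
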