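import Mathlib
import Cfsg.Agent.Lib.Helper1.S9M
import Cfsg.Prelude.Def_KGroupFacts

/-!
# The bound for `A₆` and `A₇` (helper1)
-/

set_option autoImplicit false
set_option maxHeartbeats 2000000

namespace Cfsg.Agent.Lib.Helper1.Sl9

open Cfsg.Agent.Lib.Helper1.SzMult Cfsg.Agent.Lib.Helper1.SlMult Equiv

def a4p6 : Perm (Fin 6) := ⟨![1, 2, 3, 0, 5, 4], ![3, 0, 1, 2, 5, 4], by decide, by decide⟩

theorem a4p6_mem : a4p6 ∈ alternatingGroup (Fin 6) := by
  rw [Equiv.Perm.mem_alternatingGroup]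
  decide +kernel

def a4_6 : alternatingGroup (Fin 6) := ⟨a4p6, a4p6_mem⟩

def wp6 : Perm (Fin 6) := ⟨![2, 1, 0, 3, 5, 4], ![2, 1, 0, 3, 5, 4], by decide, by decide⟩

theorem wp6_mem : wp6 ∈ alternatingGroup (Fin 6) := by
  rw [Equiv.Perm.mem_alternatingGroup]
  decide +kernel

def w_6 : alternatingGroup (Fin 6) := ⟨wp6, wp6_mem⟩

def g5p6 : Perm (Fin 6) := ⟨![1, 2, 3, 4, 0, 5], ![4, 0, 1, 2, 3, 5], by decide, by decide⟩

theorem g5p6_mem : g5p6 ∈ alternatingGroup (Fin 6) := by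
  rw [Equiv.Perm.mem_alternatingGroup]
  decide +kernel

def g5_6 : alternatingGroup (Fin 6) := ⟨g5p6, g5p6_mem⟩

theorem bound6 {Γ : Type*} [Group Γ] [Finite Γ] (σ : Γ →* alternatingGroup (Fin 6))
    (hσ : Cfsg.IsStemExtension σ) :
    ∃ π : Multiplicative (ZMod 6) →* σ.ker, Function.Surjective π := by
  obtain ⟨hsurj, hc, hd⟩ := hσ
  haveI : Fact (Nat.Prime 2) := ⟨by norm_num⟩
  haveI : Fact (Nat.Prime 5) := ⟨by norm_num⟩
  haveI : Fact (Nat.Prime 7) := ⟨by norm_num⟩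
  have hcard : Nat.card (alternatingGroup (Fin 6)) = 360 := by
    rw [nat_card_alternatingGroup, Nat.card_fin]
    decide
  have ha4 : orderOf a4_6 = 4 := by
    have := orderOf_eq_prime_pow (x := a4_6) (p := 2) (n := 1) (by decide +kernel) (by decide +kernel)
    simpa using this
  have hg5 : orderOf g5_6 = 5 := orderOf_eq_prime (by decide +kernel) (by decide +kernel)
  have hidx4 : (Subgroup.zpowers a4_6).index = 2 * 45 := index_zpowers_eq ha4 (by rw [hcard]) (by norm_num)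
  have hidx5 : (Subgroup.zpowers g5_6).index = 72 := index_zpowers_eq hg5 (by rw [hcard]) (by norm_num)
  have hww : w_6 * w_6 ∈ Subgroup.zpowers a4_6 := by
    have : w_6 * w_6 = 1 := by decide +kernel
    rw [this]
    exact Subgroup.one_mem _
  obtain ⟨e, he, h2⟩ := two_part σ hsurj hc hd a4_6 w_6 ha4 (by decide +kernel) hww 45 hidx4
  obtain ⟨L, hL, h3⟩ := three_part σ hsurj hc hd 40 (by rw [hcard])
  have h6 : ∀ z ∈ σ.ker, z ^ 6 = 1 := by
    intro z hz
    have e1 : z ^ 90 = 1 := by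
      have : z ^ 90 = (z ^ 45) ^ 2 := by rw [← pow_mul]
      rw [this]
      rcases h2 z hz with h | h
      · rw [h, one_pow]
      · rw [h, pow_two, he]
    have e2 : z ^ 120 = 1 := by
      have : z ^ 120 = (z ^ 40) ^ 3 := by rw [← pow_mul]
      rw [this]
      exact pow_three_of_mem hL (h3 z hz)
    have e3 : z ^ 72 = 1 := by
      have := pow_index_zpowers σ hsurj hc g5_6 hz (hd hz)
      rwa [hidx5] at this

    have o1 : orderOf z ∣ 90 := orderOf_dvd_of_pow_eq_one e1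
    have o2 : orderOf z ∣ 120 := orderOf_dvd_of_pow_eq_one e2
    have o3 : orderOf z ∣ 72 := orderOf_dvd_of_pow_eq_one e3
    have o5 : orderOf z ∣ Nat.gcd (Nat.gcd 90 120) 72 := Nat.dvd_gcd (Nat.dvd_gcd o1 o2) o3

    have o7 : orderOf z ∣ 6 := o5
    exact orderOf_dvd_iff_pow_eq_one.mp o7

  exact ker_cyclic_six σ.ker hc 45 40 (by decide) (by norm_num) e he h2 L hL h3 h6

def a4p7 : Perm (Fin 7) := ⟨![1, 2, 3, 0, 5, 4, 6], ![3, 0, 1, 2, 5, 4, 6], by decide, by decide⟩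

theorem a4p7_mem : a4p7 ∈ alternatingGroup (Fin 7) := by
  rw [Equiv.Perm.mem_alternatingGroup]
  decide +kernel

def a4_7 : alternatingGroup (Fin 7) := ⟨a4p7, a4p7_mem⟩

def wp7 : Perm (Fin 7) := ⟨![2, 1, 0, 3, 5, 4, 6], ![2, 1, 0, 3, 5, 4, 6], by decide, by decide⟩

theorem wp7_mem : wp7 ∈ alternatingGroup (Fin 7) := by
  rw [Equiv.Perm.mem_alternatingGroup]
  decide +kernel

def w_7 : alternatingGroup (Fin 7) := ⟨wp7, wp7_mem⟩

def g5p7 : Perm (Fin 7) := ⟨![1, 2, 3, 4, 0, 5, 6], ![4, 0, 1, 2, 3, 5, 6], by decide, by decide⟩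

theorem g5p7_mem : g5p7 ∈ alternatingGroup (Fin 7) := by
  rw [Equiv.Perm.mem_alternatingGroup]
  decide +kernel

def g5_7 : alternatingGroup (Fin 7) := ⟨g5p7, g5p7_mem⟩

def g7p7 : Perm (Fin 7) := ⟨![1, 2, 3, 4, 5, 6, 0], ![6, 0, 1, 2, 3, 4, 5], by decide, by decide⟩

theorem g7p7_mem : g7p7 ∈ alternatingGroup (Fin 7) := by
  rw [Equiv.Perm.mem_alternatingGroup]
  decide +kernel

def g7_7 : alternatingGroup (Fin 7) := ⟨g7p7, g7p7_mem⟩

theorem bound7 {Γ : Type*} [Group Γ] [Finite Γ] (σ : Γ →* alternatingGroup (Fin 7))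
    (hσ : Cfsg.IsStemExtension σ) :
    ∃ π : Multiplicative (ZMod 6) →* σ.ker, Function.Surjective π := by
  obtain ⟨hsurj, hc, hd⟩ := hσ
  haveI : Fact (Nat.Prime 2) := ⟨by norm_num⟩
  haveI : Fact (Nat.Prime 5) := ⟨by norm_num⟩
  haveI : Fact (Nat.Prime 7) := ⟨by norm_num⟩
  have hcard : Nat.card (alternatingGroup (Fin 7)) = 2520 := by
    rw [nat_card_alternatingGroup, Nat.card_fin]
    decide
  have ha4 : orderOf a4_7 = 4 := by
    have := orderOf_eq_prime_pow (x := a4_7) (p := 2) (n := 1) (by decide +kernel) (by decide +kernel)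
    simpa using this
  have hg5 : orderOf g5_7 = 5 := orderOf_eq_prime (by decide +kernel) (by decide +kernel)
  have hidx4 : (Subgroup.zpowers a4_7).index = 2 * 315 := index_zpowers_eq ha4 (by rw [hcard]) (by norm_num)
  have hidx5 : (Subgroup.zpowers g5_7).index = 504 := index_zpowers_eq hg5 (by rw [hcard]) (by norm_num)
  have hww : w_7 * w_7 ∈ Subgroup.zpowers a4_7 := by
    have : w_7 * w_7 = 1 := by decide +kernel
    rw [this]
    exact Subgroup.one_mem _
  obtain ⟨e, he, h2⟩ := two_part σ hsurj hc hd a4_7 w_7 ha4 (by decide +kernel) hww 315 hidx4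
  obtain ⟨L, hL, h3⟩ := three_part σ hsurj hc hd 280 (by rw [hcard])
  have h6 : ∀ z ∈ σ.ker, z ^ 6 = 1 := by
    intro z hz
    have e1 : z ^ 630 = 1 := by
      have : z ^ 630 = (z ^ 315) ^ 2 := by rw [← pow_mul]
      rw [this]
      rcases h2 z hz with h | h
      · rw [h, one_pow]
      · rw [h, pow_two, he]
    have e2 : z ^ 840 = 1 := by
      have : z ^ 840 = (z ^ 280) ^ 3 := by rw [← pow_mul]
      rw [this]
      exact pow_three_of_mem hL (h3 z hz)
    have e3 : z ^ 504 = 1 := by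
      have := pow_index_zpowers σ hsurj hc g5_7 hz (hd hz)
      rwa [hidx5] at this

    have hg7 : orderOf g7_7 = 7 := orderOf_eq_prime (by decide +kernel) (by decide +kernel)
    have hidx7 : (Subgroup.zpowers g7_7).index = 360 := index_zpowers_eq hg7 (by rw [hcard]) (by norm_num)
    have e4 : z ^ 360 = 1 := by
      have := pow_index_zpowers σ hsurj hc g7_7 hz (hd hz)
      rwa [hidx7] at this
    have o4 : orderOf z ∣ 360 := orderOf_dvd_of_pow_eq_one e4

    have o1 : orderOf z ∣ 630 := orderOf_dvd_of_pow_eq_one e1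
    have o2 : orderOf z ∣ 840 := orderOf_dvd_of_pow_eq_one e2
    have o3 : orderOf z ∣ 504 := orderOf_dvd_of_pow_eq_one e3
    have o5 : orderOf z ∣ Nat.gcd (Nat.gcd 630 840) 504 := Nat.dvd_gcd (Nat.dvd_gcd o1 o2) o3

    have o6 : orderOf z ∣ Nat.gcd (Nat.gcd (Nat.gcd 630 840) 504) 360 := Nat.dvd_gcd o5 o4
    have o7 : orderOf z ∣ 6 := o6
    exact orderOf_dvd_iff_pow_eq_one.mp o7

  exact ker_cyclic_six σ.ker hc 315 280 (by decide) (by norm_num) e he h2 L hL h3 h6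

end Cfsg.Agent.Lib.Helper1.Sl9
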