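import Mathlib

/-!
# The eigenvalue homomorphism on the centralizer of a semisimple element of `SL₂(F)` (helper1)

For `g ∈ SL₂(F)` with `(tr g)² ≠ 4`, over the algebraic closure `L` the matrix `g` is diagonalizable
with distinct eigenvalues `lam, lam⁻¹`; every element of `C(g)` is simultaneously diagonal, which
gives an injective homomorphism `C(g) →* Lˣ`.  No assumption on the characteristic.
-/

set_option autoImplicit false

namespace Cfsg.Agent.Lib.Helper1.SL2Eigen

open Matrix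

section diag

variable {K : Type*} [Field K]

/-- conjugation by a unit, as a monoid homomorphism of the matrix ring -/
def cj (U : (Matrix (Fin 2) (Fin 2) K)ˣ) :
    Matrix (Fin 2) (Fin 2) K →* Matrix (Fin 2) (Fin 2) K where
  toFun Y := ((U⁻¹ : (Matrix (Fin 2) (Fin 2) K)ˣ) : Matrix (Fin 2) (Fin 2) K) * Y *
    (U : Matrix (Fin 2) (Fin 2) K)
  map_one' := by simp
  map_mul' Y₁ Y₂ := by
    calc ((U⁻¹ : (Matrix (Fin 2) (Fin 2) K)ˣ) : Matrix (Fin 2) (Fin 2) K) * (Y₁ * Y₂) *
          (U : Matrix (Fin 2) (Fin 2) K)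
        = ((U⁻¹ : (Matrix (Fin 2) (Fin 2) K)ˣ) : Matrix (Fin 2) (Fin 2) K) * Y₁ *
          ((U : Matrix (Fin 2) (Fin 2) K) *
            ((U⁻¹ : (Matrix (Fin 2) (Fin 2) K)ˣ) : Matrix (Fin 2) (Fin 2) K)) * Y₂ *
          (U : Matrix (Fin 2) (Fin 2) K) := by
          rw [Units.mul_inv, mul_one]; simp only [mul_assoc]
      _ = _ := by simp only [mul_assoc]

theorem cj_apply (U : (Matrix (Fin 2) (Fin 2) K)ˣ) (Y : Matrix (Fin 2) (Fin 2) K) :
    cj U Y = ((U⁻¹ : (Matrix (Fin 2) (Fin 2) K)ˣ) : Matrix (Fin 2) (Fin 2) K) * Y *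
      (U : Matrix (Fin 2) (Fin 2) K) := rfl

theorem det_cj (U : (Matrix (Fin 2) (Fin 2) K)ˣ) (Y : Matrix (Fin 2) (Fin 2) K) :
    (cj U Y).det = Y.det := Matrix.det_units_conj' U Y

theorem trace_cj (U : (Matrix (Fin 2) (Fin 2) K)ˣ) (Y : Matrix (Fin 2) (Fin 2) K) :
    (cj U Y).trace = Y.trace := Matrix.trace_units_conj' U Y

theorem eq_one_of_cj_eq_one (U : (Matrix (Fin 2) (Fin 2) K)ˣ) (Y : Matrix (Fin 2) (Fin 2) K)
    (h : cj U Y = 1) : Y = 1 := by
  rw [cj_apply] at h
  calc Y = (U : Matrix (Fin 2) (Fin 2) K) *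
        (((U⁻¹ : (Matrix (Fin 2) (Fin 2) K)ˣ) : Matrix (Fin 2) (Fin 2) K) * Y *
          (U : Matrix (Fin 2) (Fin 2) K)) *
        ((U⁻¹ : (Matrix (Fin 2) (Fin 2) K)ˣ) : Matrix (Fin 2) (Fin 2) K) := by
        simp only [mul_assoc, Units.mul_inv, mul_one, Units.mul_inv_cancel_left]
    _ = 1 := by rw [h, mul_one, Units.mul_inv]

/-- matrices commuting with a matrix with two distinct eigenvalues are diagonal in the eigenbasis -/
theorem cj_offdiag (U : (Matrix (Fin 2) (Fin 2) K)ˣ) (M : Matrix (Fin 2) (Fin 2) K) (a b : K)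
    (hD : cj U M = diagonal ![a, b]) (hne : a ≠ b) (Y : Matrix (Fin 2) (Fin 2) K)
    (hY : Y * M = M * Y) : cj U Y 0 1 = 0 ∧ cj U Y 1 0 = 0 := by
  have h1 : cj U Y * diagonal ![a, b] = diagonal ![a, b] * cj U Y := by
    rw [← hD, ← map_mul, ← map_mul, hY]
  have e01 := congrFun (congrFun h1 0) 1
  have e10 := congrFun (congrFun h1 1) 0
  rw [Matrix.mul_diagonal, Matrix.diagonal_mul] at e01 e10
  simp only [Matrix.cons_val_zero, Matrix.cons_val_one] at e01 e10
  constructor
  · have : cj U Y 0 1 * (b - a) = 0 := by linear_combination e01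
    rcases mul_eq_zero.mp this with h | h
    · exact h
    · exact absurd (sub_eq_zero.mp h).symm hne
  · have : cj U Y 1 0 * (a - b) = 0 := by linear_combination e10
    rcases mul_eq_zero.mp this with h | h
    · exact h
    · exact absurd (sub_eq_zero.mp h) hne

/-- diagonalization of a `2 × 2` matrix of determinant one whose trace `t` satisfies `t² ≠ 4`,
given a root of the characteristic polynomial -/
theorem exists_diag (M : Matrix (Fin 2) (Fin 2) K) (hdet : M.det = 1) (lam : K)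
    (hlam : lam ^ 2 - M.trace * lam + 1 = 0) (ht : M.trace ^ 2 ≠ 4) :
    ∃ U : (Matrix (Fin 2) (Fin 2) K)ˣ, cj U M = diagonal ![lam, M.trace - lam] ∧
      lam * (M.trace - lam) = 1 ∧ lam ≠ M.trace - lam := by
  obtain ⟨t, ht'⟩ : ∃ t : K, t = M.trace := ⟨_, rfl⟩
  rw [← ht'] at hlam ht ⊢
  have htr : M 0 0 + M 1 1 = t := by rw [ht', Matrix.trace_fin_two]
  have hdet' : M 0 0 * M 1 1 - M 0 1 * M 1 0 = 1 := by rw [← Matrix.det_fin_two]; exact hdet
  have hprod : lam * (t - lam) = 1 := by linear_combination -hlam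
  have hne : lam ≠ t - lam := by
    intro h
    apply ht
    have h2 : t = 2 * lam := by linear_combination -h
    have h3 : lam * lam = 1 := by rw [← h] at hprod; exact hprod
    rw [h2]
    linear_combination 4 * h3
  -- eigenvectors
  have heig : ∀ c : K, c ^ 2 - t * c + 1 = 0 → ∃ v : Fin 2 → K, v ≠ 0 ∧ M *ᵥ v = c • v := by
    intro c hc
    have hd : (M - c • (1 : Matrix (Fin 2) (Fin 2) K)).det = 0 := by
      rw [Matrix.det_fin_two]
      simp only [Matrix.sub_apply, Matrix.smul_apply, Matrix.one_apply_eq, smul_eq_mul, mul_one,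
        Matrix.one_apply_ne (show (0 : Fin 2) ≠ 1 by decide),
        Matrix.one_apply_ne (show (1 : Fin 2) ≠ 0 by decide), mul_zero, sub_zero]
      linear_combination hc + hdet' - c * htr
    obtain ⟨v, hv0, hv⟩ := Matrix.exists_mulVec_eq_zero_iff.mpr hd
    refine ⟨v, hv0, ?_⟩
    rw [Matrix.sub_mulVec, Matrix.smul_mulVec, Matrix.one_mulVec] at hv
    exact sub_eq_zero.mp hv
  obtain ⟨v, hv0, hv⟩ := heig lam hlam
  obtain ⟨w, hw0, hw⟩ := heig (t - lam) (by linear_combination hlam)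
  have hv_0 : M 0 0 * v 0 + M 0 1 * v 1 = lam * v 0 := by
    have := congrFun hv 0
    simpa [Matrix.mulVec, dotProduct, Fin.sum_univ_two] using this
  have hv_1 : M 1 0 * v 0 + M 1 1 * v 1 = lam * v 1 := by
    have := congrFun hv 1
    simpa [Matrix.mulVec, dotProduct, Fin.sum_univ_two] using this
  have hw_0 : M 0 0 * w 0 + M 0 1 * w 1 = (t - lam) * w 0 := by
    have := congrFun hw 0
    simpa [Matrix.mulVec, dotProduct, Fin.sum_univ_two] using this
  have hw_1 : M 1 0 * w 0 + M 1 1 * w 1 = (t - lam) * w 1 := by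
    have := congrFun hw 1
    simpa [Matrix.mulVec, dotProduct, Fin.sum_univ_two] using this
  -- independence
  have hdB : v 0 * w 1 - w 0 * v 1 ≠ 0 := by
    intro hz
    have hne' : lam - (t - lam) ≠ 0 := sub_ne_zero.mpr hne
    -- `w 0 • v = v 0 • w` and `w 1 • v = v 1 • w`
    have a1 : (lam - (t - lam)) * (w 0 * v 0) = 0 := by
      linear_combination (- w 0) * hv_0 + v 0 * hw_0 - M 0 1 * hz
    have a2 : (lam - (t - lam)) * (w 0 * v 1) = 0 := by
      linear_combination (- w 0) * hv_1 + v 0 * hw_1 + ((t - lam) - M 1 1) * hz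
    have a3 : (lam - (t - lam)) * (w 1 * v 0) = 0 := by
      linear_combination (- w 1) * hv_0 + v 1 * hw_0 + (M 0 0 - (t - lam)) * hz
    have a4 : (lam - (t - lam)) * (w 1 * v 1) = 0 := by
      linear_combination (- w 1) * hv_1 + v 1 * hw_1 + M 1 0 * hz
    have b1 : w 0 * v 0 = 0 := (mul_eq_zero.mp a1).resolve_left hne'
    have b2 : w 0 * v 1 = 0 := (mul_eq_zero.mp a2).resolve_left hne'
    have b3 : w 1 * v 0 = 0 := (mul_eq_zero.mp a3).resolve_left hne'
    have b4 : w 1 * v 1 = 0 := (mul_eq_zero.mp a4).resolve_left hne'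
    have hv' : v 0 ≠ 0 ∨ v 1 ≠ 0 := by
      by_contra hcon
      push Not at hcon
      apply hv0
      funext i
      fin_cases i
      · exact hcon.1
      · exact hcon.2
    have hw' : w 0 ≠ 0 ∨ w 1 ≠ 0 := by
      by_contra hcon
      push Not at hcon
      apply hw0
      funext i
      fin_cases i
      · exact hcon.1
      · exact hcon.2
    rcases hv' with hv' | hv' <;> rcases hw' with hw' | hw'
    · exact (mul_ne_zero hw' hv') b1
    · exact (mul_ne_zero hw' hv') b3
    · exact (mul_ne_zero hw' hv') b2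
    · exact (mul_ne_zero hw' hv') b4
  obtain ⟨B, hB⟩ : ∃ B : Matrix (Fin 2) (Fin 2) K, B = !![v 0, w 0; v 1, w 1] := ⟨_, rfl⟩
  have hBdet : IsUnit B.det := by
    rw [hB, Matrix.det_fin_two_of]
    exact isUnit_iff_ne_zero.mpr hdB
  have hMB : M * B = B * diagonal ![lam, t - lam] := by
    rw [hB]
    ext i j
    rw [Matrix.mul_diagonal, Matrix.mul_apply, Fin.sum_univ_two]
    fin_cases i <;> fin_cases j
    · simpa using hv_0.trans (mul_comm _ _)
    · simpa using hw_0.trans (mul_comm _ _)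
    · simpa using hv_1.trans (mul_comm _ _)
    · simpa using hw_1.trans (mul_comm _ _)
  refine ⟨⟨B, B⁻¹, Matrix.mul_nonsing_inv B hBdet, Matrix.nonsing_inv_mul B hBdet⟩, ?_, hprod, hne⟩
  rw [cj_apply]
  change B⁻¹ * M * B = _
  rw [mul_assoc, hMB, ← mul_assoc, Matrix.nonsing_inv_mul B hBdet, one_mul]

end diag

section main

variable {F : Type*} [Field F]

/-- the matrix of an element of `SL₂(F)` over an extension -/
def toL {L' : Type*} [Field L'] (f : F →+* L') (y : SpecialLinearGroup (Fin 2) F) :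
    Matrix (Fin 2) (Fin 2) L' :=
  f.mapMatrix (y : Matrix (Fin 2) (Fin 2) F)

theorem toL_mul {L' : Type*} [Field L'] (f : F →+* L') (y₁ y₂ : SpecialLinearGroup (Fin 2) F) :
    toL f (y₁ * y₂) = toL f y₁ * toL f y₂ := by
  unfold toL
  rw [Matrix.SpecialLinearGroup.coe_mul, map_mul]

theorem toL_one {L' : Type*} [Field L'] (f : F →+* L') :
    toL f (1 : SpecialLinearGroup (Fin 2) F) = 1 := by
  unfold toL
  rw [Matrix.SpecialLinearGroup.coe_one, map_one]

theorem toL_det {L' : Type*} [Field L'] (f : F →+* L') (y : SpecialLinearGroup (Fin 2) F) :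
    (toL f y).det = 1 := by
  unfold toL
  rw [← RingHom.map_det, Matrix.SpecialLinearGroup.det_coe, map_one]

theorem toL_trace {L' : Type*} [Field L'] (f : F →+* L') (y : SpecialLinearGroup (Fin 2) F) :
    (toL f y).trace = f (y : Matrix (Fin 2) (Fin 2) F).trace := by
  unfold toL
  simp only [Matrix.trace_fin_two, RingHom.mapMatrix_apply, Matrix.map_apply, map_add]

theorem toL_inj {L' : Type*} [Field L'] (f : F →+* L') (hf : Function.Injective f)
    (y : SpecialLinearGroup (Fin 2) F) (hy : toL f y = 1) : y = 1 := by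
  unfold toL at hy
  have h1 : (y : Matrix (Fin 2) (Fin 2) F) = 1 := by
    apply Matrix.map_injective hf
    rw [RingHom.mapMatrix_apply] at hy
    show (y : Matrix (Fin 2) (Fin 2) F).map f = (1 : Matrix (Fin 2) (Fin 2) F).map f
    rw [hy]
    simp
  apply Matrix.SpecialLinearGroup.ext
  intro i j
  show (y : Matrix (Fin 2) (Fin 2) F) i j = ((1 : SpecialLinearGroup (Fin 2) F) : Matrix (Fin 2) (Fin 2) F) i j
  rw [h1, Matrix.SpecialLinearGroup.coe_one]

/-- **Eigenvalue homomorphism.** -/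
theorem exists_eigen_hom (g : SpecialLinearGroup (Fin 2) F)
    (hg : (g : Matrix (Fin 2) (Fin 2) F).trace ^ 2 ≠ 4) :
    ∃ (lam : (AlgebraicClosure F)ˣ)
      (φ : ↥(Subgroup.centralizer ({g} : Set (SpecialLinearGroup (Fin 2) F))) →*
        (AlgebraicClosure F)ˣ),
      Function.Injective φ ∧
      (∀ hgC : g ∈ Subgroup.centralizer ({g} : Set (SpecialLinearGroup (Fin 2) F)),
        φ ⟨g, hgC⟩ = lam) ∧
      ∀ (y : SpecialLinearGroup (Fin 2) F)
        (hy : y ∈ Subgroup.centralizer ({g} : Set (SpecialLinearGroup (Fin 2) F))),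
        (y : Matrix (Fin 2) (Fin 2) F).trace = (g : Matrix (Fin 2) (Fin 2) F).trace →
          φ ⟨y, hy⟩ = lam ∨ φ ⟨y, hy⟩ = lam⁻¹ := by
  classical
  obtain ⟨f, hf⟩ : ∃ f : F →+* AlgebraicClosure F, f = algebraMap F (AlgebraicClosure F) :=
    ⟨_, rfl⟩
  have hfinj : Function.Injective f := by rw [hf]; exact (algebraMap F (AlgebraicClosure F)).injective
  obtain ⟨ι, hι⟩ : ∃ ι : SpecialLinearGroup (Fin 2) F → Matrix (Fin 2) (Fin 2) (AlgebraicClosure F),
      ι = toL f := ⟨_, rfl⟩
  have hι_mul : ∀ y₁ y₂, ι (y₁ * y₂) = ι y₁ * ι y₂ := by rw [hι]; exact toL_mul f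
  have hι_one : ι 1 = 1 := by rw [hι]; exact toL_one f
  have hι_det : ∀ y, (ι y).det = 1 := by rw [hι]; exact toL_det f
  have hι_tr : ∀ y, (ι y).trace = f (y : Matrix (Fin 2) (Fin 2) F).trace := by
    rw [hι]; exact toL_trace f
  have hι_inj : ∀ y, ι y = 1 → y = 1 := by rw [hι]; exact toL_inj f hfinj
  -- the eigenvalue
  have htg : (ι g).trace ^ 2 ≠ 4 := by
    rw [hι_tr]
    intro h
    apply hg
    apply hfinj
    rw [map_pow, h, map_ofNat]
  obtain ⟨lam, hlam⟩ : ∃ lam : AlgebraicClosure F, lam ^ 2 - (ι g).trace * lam + 1 = 0 := by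
    have hdeg : (Polynomial.C (1 : AlgebraicClosure F) * Polynomial.X ^ 2 +
        Polynomial.C (-(ι g).trace) * Polynomial.X + Polynomial.C 1).degree ≠ 0 := by
      rw [Polynomial.degree_quadratic one_ne_zero]
      norm_num
    obtain ⟨x, hx⟩ := IsAlgClosed.exists_root _ hdeg
    refine ⟨x, ?_⟩
    simp only [Polynomial.IsRoot.def, Polynomial.eval_add, Polynomial.eval_mul, Polynomial.eval_C,
      Polynomial.eval_pow, Polynomial.eval_X] at hx
    linear_combination hx
  obtain ⟨U, hD, hprod, hne⟩ := exists_diag (ι g) (hι_det g) lam hlam htg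
  obtain ⟨mu, hmu⟩ : ∃ mu : AlgebraicClosure F, mu = (ι g).trace - lam := ⟨_, rfl⟩
  rw [← hmu] at hD hprod hne
  have hlam0 : lam ≠ 0 := fun h => by rw [h, zero_mul] at hprod; exact zero_ne_one hprod
  have hmu_inv : mu = lam⁻¹ := eq_inv_of_mul_eq_one_right hprod
  -- elements of the centralizer are diagonal
  have hcomm : ∀ y ∈ Subgroup.centralizer ({g} : Set (SpecialLinearGroup (Fin 2) F)),
      ι y * ι g = ι g * ι y := by
    intro y hy
    rw [← hι_mul, ← hι_mul]
    congr 1
    exact (Subgroup.mem_centralizer_iff.mp hy g rfl).symm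
  have hoff : ∀ y ∈ Subgroup.centralizer ({g} : Set (SpecialLinearGroup (Fin 2) F)),
      cj U (ι y) 0 1 = 0 ∧ cj U (ι y) 1 0 = 0 := fun y hy =>
    cj_offdiag U (ι g) lam mu hD hne (ι y) (hcomm y hy)
  have hdiag_det : ∀ y ∈ Subgroup.centralizer ({g} : Set (SpecialLinearGroup (Fin 2) F)),
      cj U (ι y) 0 0 * cj U (ι y) 1 1 = 1 := by
    intro y hy
    have h1 := det_cj U (ι y)
    rw [hι_det, Matrix.det_fin_two, (hoff y hy).1, zero_mul, sub_zero] at h1
    exact h1
  have hdiag_tr : ∀ y, cj U (ι y) 0 0 + cj U (ι y) 1 1 = (ι y).trace := by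
    intro y
    rw [← trace_cj U (ι y), Matrix.trace_fin_two]
  -- the homomorphism
  let ψ : ↥(Subgroup.centralizer ({g} : Set (SpecialLinearGroup (Fin 2) F))) →*
      AlgebraicClosure F :=
    { toFun := fun y => cj U (ι y.1) 0 0
      map_one' := by
        show cj U (ι 1) 0 0 = 1
        rw [hι_one, map_one, Matrix.one_apply_eq]
      map_mul' := by
        intro y₁ y₂
        show cj U (ι (y₁.1 * y₂.1)) 0 0 = cj U (ι y₁.1) 0 0 * cj U (ι y₂.1) 0 0
        rw [hι_mul, map_mul, Matrix.mul_apply, Fin.sum_univ_two, (hoff y₁.1 y₁.2).1, zero_mul,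
          add_zero] }
  have hψ : ∀ y : ↥(Subgroup.centralizer ({g} : Set (SpecialLinearGroup (Fin 2) F))),
      ψ y = cj U (ι y.1) 0 0 := fun y => rfl
  have hψg : ∀ hgC : g ∈ Subgroup.centralizer ({g} : Set (SpecialLinearGroup (Fin 2) F)),
      ψ ⟨g, hgC⟩ = lam := by
    intro hgC
    rw [hψ, hD, Matrix.diagonal_apply_eq]
    rfl
  refine ⟨Units.mk0 lam hlam0, ψ.toHomUnits, ?_, ?_, ?_⟩
  · -- injective
    rw [injective_iff_map_eq_one]
    intro y hy
    have h1 : ψ y = 1 := by
      have := congrArg Units.val hy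
      rw [MonoidHom.coe_toHomUnits] at this
      exact this
    rw [hψ] at h1
    have h2 := hdiag_det y.1 y.2
    rw [h1, one_mul] at h2
    have h3 : cj U (ι y.1) = 1 := by
      ext i j
      fin_cases i <;> fin_cases j
      · simpa using h1
      · simpa using (hoff y.1 y.2).1
      · simpa using (hoff y.1 y.2).2
      · simpa using h2
    exact Subtype.ext (hι_inj y.1 (eq_one_of_cj_eq_one U _ h3))
  · intro hgC
    apply Units.ext
    rw [MonoidHom.coe_toHomUnits, hψg]
    rfl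
  · intro y hy htr
    have h1 := hdiag_det y hy
    have h2 := hdiag_tr y
    rw [hι_tr, htr, ← hι_tr] at h2
    obtain ⟨c, hc⟩ : ∃ c : AlgebraicClosure F, c = cj U (ι y) 0 0 := ⟨_, rfl⟩
    rw [← hc] at h1 h2
    have h3 : (c - lam) * (c - mu) = 0 := by
      rw [hmu]
      linear_combination (-1 : AlgebraicClosure F) * h1 + c * h2 - hlam
    rcases mul_eq_zero.mp h3 with h | h
    · left
      apply Units.ext
      rw [MonoidHom.coe_toHomUnits, hψ]
      show cj U (ι y) 0 0 = lam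
      rw [← hc]
      exact sub_eq_zero.mp h
    · right
      apply Units.ext
      rw [MonoidHom.coe_toHomUnits, hψ, Units.val_inv_eq_inv_val]
      show cj U (ι y) 0 0 = lam⁻¹
      rw [← hc, ← hmu_inv]
      exact sub_eq_zero.mp h

end main

end Cfsg.Agent.Lib.Helper1.SL2Eigen
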