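import Mathlib
import Cfsg.Prelude.Def_KGroupFacts

/-!
# Trivial Schur multiplier from triviality of stem extensions (helper1)
-/

set_option autoImplicit false

namespace Cfsg.Agent.Lib.Helper1.SlMult

universe u

/-- if every finite stem extension of the finite group `G` is trivial, then the Schur multiplier
of `G` is trivial -/
theorem hasCyclic_one_of_stem_trivial {G : Type u} [Group G] [Finite G]
    (h : ∀ (Γ : Type u) [Group Γ] [Finite Γ] (σ : Γ →* G), Cfsg.IsStemExtension σ → σ.ker = ⊥) :
    Cfsg.HasCyclicSchurMultiplier G 1 := by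
  constructor
  · refine ⟨G, inferInstance, inferInstance, MonoidHom.id _,
      ⟨Function.surjective_id, ?_, ?_⟩, ?_⟩
    · rw [MonoidHom.ker_id]
      exact bot_le
    · rw [MonoidHom.ker_id]
      exact bot_le
    · haveI : Unique ↥(MonoidHom.id G).ker :=
        ⟨⟨1⟩, fun x => Subtype.ext (by
          have := MonoidHom.mem_ker.mp x.2
          simpa using this)⟩
      haveI : Unique (Multiplicative (ZMod 1)) :=
        ⟨⟨1⟩, fun x => Subsingleton.elim (α := ZMod 1) _ _⟩
      exact ⟨MulEquiv.ofUnique⟩
  · intro Γ _ _ σ hσ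
    have hbot := h Γ σ hσ
    refine ⟨1, ?_⟩
    intro y
    refine ⟨1, ?_⟩
    have := Subgroup.mem_bot.mp (hbot.le y.2)
    exact (Subtype.ext this).symm

end Cfsg.Agent.Lib.Helper1.SlMult
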