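import Cfsg.Agent.Lib.Helper1.SolZ3

/-!
Solubilizers (helper1): the coatoms of `SL₂(F)`, `|F| = 3 ^ p` with `p` an odd prime, internally:
line stabilizers, normalizers of tori, or groups of exponent dividing `24` (whose traces lie in the
prime field).
-/

set_option autoImplicit false

namespace Cfsg.Agent.Lib.Helper1.SolT1

open Cfsg.Agent.Lib.Helper12.SL2 Cfsg.Agent.Lib.Lead.DicksonCA Cfsg.Agent.Lib.Lead.DicksonSL2
  Cfsg.Agent.Lib.Lead.SL2Scalar Cfsg.Agent.Lib.Lead.DicksonStd Cfsg.Agent.Lib.Lead.DicksonField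
  Cfsg.Agent.Lib.Helper9.SL2Upper Cfsg.Agent.Lib.Lead.DicksonBase
  Cfsg.Agent.Lib.Helper12.DkA Cfsg.Agent.Lib.Helper12.DkE Cfsg.Agent.Lib.Helper12.DkM
  Cfsg.Agent.Lib.Helper12.DkN Cfsg.Agent.Lib.Helper12.DkW Cfsg.Agent.Lib.Helper1.SolZ3

local notation "SL2" => Matrix.SpecialLinearGroup (Fin 2)
local notation "M2" => Matrix (Fin 2) (Fin 2)

/-! ### number theory of `3 ^ p` -/

theorem three_pow_mod (k : ℕ) : 3 ^ (2 * k + 1) % 40 = 3 ∨ 3 ^ (2 * k + 1) % 40 = 27 := by
  induction k with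
  | zero => left; norm_num
  | succ k ih =>
    have e : 3 ^ (2 * (k + 1) + 1) = 3 ^ (2 * k + 1) * 9 := by ring
    rw [e, Nat.mul_mod]
    rcases ih with h | h <;> rw [h]
    · right; norm_num
    · left; norm_num

theorem q_mod {p q : ℕ} (hodd : Odd p) (hq : q = 3 ^ p) : q % 40 = 3 ∨ q % 40 = 27 := by
  obtain ⟨k, rfl⟩ := hodd
  rw [hq]
  exact three_pow_mod k

theorem not_five_dvd {q : ℕ} (h : q % 40 = 3 ∨ q % 40 = 27) : ¬ 5 ∣ q * (q ^ 2 - 1) := by
  intro hd
  have h5 : q % 5 = 3 ∨ q % 5 = 2 := by omega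
  have hsq : q ^ 2 % 5 = 4 := by
    rw [Nat.pow_mod]
    rcases h5 with h' | h' <;> rw [h']
  rcases (Nat.Prime.dvd_mul (by norm_num : Nat.Prime 5)).mp hd with h' | h'
  · omega
  · have : 1 ≤ q ^ 2 := Nat.one_le_pow _ _ (by omega)
    omega

theorem not_sixteen_dvd {q : ℕ} (h : q % 40 = 3 ∨ q % 40 = 27) : ¬ 16 ∣ q * (q ^ 2 - 1) := by
  intro hd
  have h16 : q % 16 = 3 ∨ q % 16 = 11 := by omega
  have hsq : q ^ 2 % 16 = 9 := by
    rw [Nat.pow_mod]
    rcases h16 with h' | h' <;> rw [h']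
  have hcop : Nat.Coprime 16 q := by
    have : Nat.Coprime 2 q := by
      rw [Nat.coprime_two_left]
      rw [Nat.odd_iff]; omega
    exact Nat.Coprime.pow_left 4 this
  have hd' : 16 ∣ q ^ 2 - 1 := hcop.dvd_of_dvd_mul_left hd
  have : 1 ≤ q ^ 2 := Nat.one_le_pow _ _ (by omega)
  omega

variable {F : Type*} [Field F]

/-! ### traces of elements of order dividing `24` -/

theorem tr_sq (g : SL2 F) : tr (g ^ 2) = tr g ^ 2 - 2 := by
  have hd := Cfsg.Agent.Lib.Helper12.SL2.det_eq g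
  rw [pow_two]
  unfold tr
  simp only [mul_apply']
  linear_combination (-2 : F) * hd

theorem tr_cube (h3 : (3 : F) = 0) (g : SL2 F) : tr (g ^ 3) = tr g ^ 3 := by
  have hd := Cfsg.Agent.Lib.Helper12.SL2.det_eq g
  rw [pow_succ, pow_two]
  unfold tr
  simp only [mul_apply']
  linear_combination (-3 : F) * (g 0 0 + g 1 1) * hd - (g 0 0 + g 1 1) * h3

theorem tr_one : tr (1 : SL2 F) = 2 := by
  unfold tr
  simp only [Matrix.SpecialLinearGroup.coe_one, Matrix.one_apply_eq]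
  norm_num

/-- in characteristic three with `-1` a non-square, elements of order dividing `24` have their
trace in the prime field -/
theorem tr_cube_eq_of_pow (h3 : (3 : F) = 0) (hsq : ¬ IsSquare (-1 : F)) (g : SL2 F)
    (hg : g ^ 24 = 1) : tr g ^ 3 = tr g := by
  have e : g ^ 24 = (((g ^ 3) ^ 2) ^ 2) ^ 2 := by rw [← pow_mul, ← pow_mul, ← pow_mul]
  rw [e] at hg
  have h1 := congrArg tr hg
  rw [tr_sq, tr_sq, tr_sq, tr_cube h3, tr_one] at h1
  set s := tr g ^ 3 with hs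
  -- s ∈ {0, 1, -1}
  have hs3 : s * (s - 1) * (s + 1) = 0 := by
    -- f(f(f s)) = 2
    have ha : ((s ^ 2 - 2) ^ 2 - 2 - 1) * ((s ^ 2 - 2) ^ 2 - 2 + 1) = 0 := by
      linear_combination h1 + h3
    rcases mul_eq_zero.mp ha with ha | ha
    · -- (s^2-2)^2 = 3 = 0
      have hb : (s ^ 2 - 2) ^ 2 = 0 := by linear_combination ha + h3
      have hb' : s ^ 2 - 2 = 0 := pow_eq_zero_iff (by norm_num) |>.mp hb
      exfalso
      apply hsq
      exact ⟨s, by linear_combination (-1 : F) * hb' - h3⟩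
    · -- (s^2-2)^2 = 1
      have hb : (s ^ 2 - 2 - 1) * (s ^ 2 - 2 + 1) = 0 := by linear_combination ha
      rcases mul_eq_zero.mp hb with hb | hb
      · -- s^2 = 3 = 0
        have : s ^ 2 = 0 := by linear_combination hb + h3
        have hs0 : s = 0 := pow_eq_zero_iff (by norm_num) |>.mp this
        rw [hs0]; ring
      · -- s^2 = 1
        linear_combination s * hb
  have hfrob : (tr g ^ 3 - tr g) ^ 3 = 0 := by
    have : (tr g ^ 3 - tr g) ^ 3 = s ^ 3 - s - (3 : F) * (tr g ^ 7 - tr g ^ 5) := by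
      rw [hs]; ring
    rw [this, h3, zero_mul, sub_zero]
    linear_combination hs3
  exact sub_eq_zero.mp (pow_eq_zero_iff (by norm_num) |>.mp hfrob)

/-! ### the coatoms -/

variable [Fintype F]

theorem subfield_eq_top_of_card {p : ℕ} (hp : p.Prime) (hF : Fintype.card F = 3 ^ p)
    (K0 : Subfield F) (h4 : 4 ≤ Nat.card K0) : K0 = ⊤ := by
  classical
  letI : Fintype K0 := Fintype.ofFinite K0
  have hpow : Fintype.card F = Fintype.card K0 ^ Module.finrank K0 F :=
    Module.card_eq_pow_finrank (K := K0) (V := F)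
  rw [hF] at hpow
  have hdvd : Fintype.card K0 ∣ 3 ^ p := by
    rw [hpow]
    apply dvd_pow_self
    intro h0
    rw [h0, pow_zero] at hpow
    have : 3 ^ 1 ≤ 3 ^ p := Nat.pow_le_pow_right (by norm_num) hp.one_lt.le
    omega
  obtain ⟨j, _, hj⟩ := (Nat.dvd_prime_pow Nat.prime_three).mp hdvd
  rw [hj, ← pow_mul] at hpow
  have hjd : p = j * Module.finrank K0 F := Nat.pow_right_injective (le_refl 2 |>.trans (by norm_num)) hpow
  have hjp : j ∣ p := ⟨_, hjd⟩
  rw [Nat.card_eq_fintype_card, hj] at h4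
  rcases (Nat.dvd_prime hp).mp hjp with h | h
  · rw [h] at h4; omega
  · -- card K0 = card F
    have hcard : Fintype.card K0 = Fintype.card F := by rw [hj, h, hF]
    rw [eq_top_iff]
    intro x _
    have hsurj : Function.Surjective (fun y : K0 => (y : F)) := by
      have hbij := (Fintype.bijective_iff_injective_and_card (fun y : K0 => (y : F))).mpr
        ⟨Subtype.val_injective, hcard⟩
      exact hbij.2
    obtain ⟨y, rfl⟩ := hsurj x
    exact y.2

variable {H : Subgroup (Matrix.SpecialLinearGroup (Fin 2) F)}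

/-- the cases of the structure theorem when `5` and `16` do not divide the order -/
theorem hyp0_cases3 (h2 : (2 : F) ≠ 0) (hyp : Hyp0 (ZH H))
    (hss : ∀ g : H, g ∉ ZH H → (C g = ⊤ ∨ Nat.card H = 2 * Nat.card (C g)) →
      tr ((g : H) : SL2 F) ^ 2 ≠ 4)
    (h5 : ¬ 5 ∣ Nat.card H) (h16 : ¬ 16 ∣ Nat.card H) :
    (∀ x : H, x ∈ ZH H) ∨
    (∃ g : H, g ∉ ZH H ∧ tr ((g : H) : SL2 F) ^ 2 ≠ 4 ∧ H ≤ NTor ((g : H) : SL2 F)) ∨
    (Nat.card H ∣ 24) := by
  classical
  haveI : Finite (SL2 F) := inferInstance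
  obtain ⟨z, hz⟩ : ∃ z, Nat.card (ZH H) = z := ⟨_, rfl⟩
  obtain ⟨h, hG⟩ : ∃ h, Nat.card H = z * h := by
    rw [← hz]; exact Subgroup.card_subgroup_dvd_card _
  have hz2 : z ∣ 2 := by rw [← hz]; exact card_ZH_dvd h2
  have hz12 : z = 1 ∨ z = 2 := by
    have := Nat.le_of_dvd (by norm_num) hz2
    have h0 : z ≠ 0 := by rintro rfl; simp at hz2
    omega
  rcases structure_thm hyp hz hG with h1 | ⟨g, hg, hC⟩ | ⟨g, hg, hC⟩ | ⟨h12, _⟩ |
    ⟨h24, _⟩ | ⟨h60, _⟩
  · exact Or.inl h1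
  · exact Or.inr (Or.inl ⟨g, hg, hss g hg (Or.inl hC), le_NTor_of_abelian hC⟩)
  · exact Or.inr (Or.inl ⟨g, hg, hss g hg (Or.inr hC),
      le_NTor_of_index_two hg (hss g hg (Or.inr hC)) hC⟩)
  · right; right; rw [hG, h12]
    rcases hz12 with rfl | rfl <;> norm_num
  · right; right
    rcases hz12 with rfl | rfl
    · rw [hG, h24]
    · exfalso; apply h16; rw [hG, h24]; norm_num
  · exfalso; apply h5; rw [hG, h60]; exact Dvd.dvd.mul_left (by norm_num) z

theorem pow_eq_one_of_card_dvd {n : ℕ} (hcard : Nat.card H ∣ n) {g : SL2 F} (hg : g ∈ H) :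
    g ^ n = 1 := by
  obtain ⟨k, rfl⟩ := hcard
  have h1 : (⟨g, hg⟩ : H) ^ Nat.card H = 1 := pow_card_eq_one'
  have h2 : g ^ Nat.card H = 1 := by
    have := congrArg Subtype.val h1
    rwa [Subgroup.coe_pow] at this
  rw [pow_mul, h2, one_pow]

/-- **coatoms of `SL₂(F)`, `|F| = 3 ^ p` with `p` an odd prime, internally** -/
theorem coatom_three (p : ℕ) (hp : p.Prime) (hodd : Odd p) (hF : Fintype.card F = 3 ^ p)
    {Mh : Subgroup (SL2 F)} (hcoat : IsCoatom Mh) :
    (∃ v : Fin 2 → F, v ≠ 0 ∧ ∀ g ∈ Mh, ∃ c : F, g • v = c • v) ∨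
    (∃ g : SL2 F, NonScalar g ∧ tr g ^ 2 ≠ 4 ∧ Mh = NTor g) ∨
    (∀ g ∈ Mh, g ^ 24 = 1) := by
  classical
  have h3 : (3 : F) = 0 := by
    have hc : ((Fintype.card F : ℕ) : F) = 0 := Nat.cast_card_eq_zero F
    rw [hF] at hc
    push_cast at hc
    exact pow_eq_zero_iff hp.ne_zero |>.mp hc
  haveI : CharP F 3 := (CharP.charP_iff_prime_eq_zero Nat.prime_three).mpr (by exact_mod_cast h3)
  haveI : Fact (Nat.Prime 3) := ⟨Nat.prime_three⟩
  have h2 : (2 : F) ≠ 0 := by
    intro h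
    have : (1 : F) = 0 := by linear_combination h3 - h
    exact one_ne_zero this
  have h4 : 4 ≤ Fintype.card F := by
    rw [hF]
    calc 4 ≤ 3 ^ 2 := by norm_num
      _ ≤ 3 ^ p := Nat.pow_le_pow_right (by norm_num) hp.two_le
  have hqm := q_mod hodd hF
  have hcardSL : Nat.card (SL2 F) = Fintype.card F * (Fintype.card F ^ 2 - 1) := card_SL2
  have h5 : ∀ K : Subgroup (SL2 F), ¬ 5 ∣ Nat.card K := by
    intro K hd
    apply not_five_dvd hqm
    rw [← hcardSL]
    exact hd.trans (Subgroup.card_subgroup_dvd_card K)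
  have h16 : ∀ K : Subgroup (SL2 F), ¬ 16 ∣ Nat.card K := by
    intro K hd
    apply not_sixteen_dvd hqm
    rw [← hcardSL]
    exact hd.trans (Subgroup.card_subgroup_dvd_card K)
  by_cases hdvd : 3 ∣ Nat.card Mh
  · by_cases hS : Subsingleton (Sylow 3 Mh)
    · left
      exact Cfsg.Agent.Lib.Helper12.DkH.T3 3 hdvd hS
    · right
      have hlt : 1 < Nat.card (Sylow 3 Mh) := by
        rw [Finite.one_lt_card_iff_nontrivial]
        exact not_subsingleton_iff_nontrivial.mp hS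
      obtain ⟨M, Mi, hM1, hM2, b, hb, hu, hl⟩ := exists_std 3 Mh hlt
      have hcoat' : IsCoatom (Mh.comap (conjHom M Mi hM1 hM2)) :=
        (Subgroup.isCoatom_comap (conjEquiv M Mi hM1 hM2)).mpr hcoat
      set H' := Mh.comap (conjHom M Mi hM1 hM2) with hH'
      have h1' : (upper 1 : SL2 F) ∈ H' := Subgroup.mem_comap.mpr hu
      have hy' : (lower b : SL2 F) ∈ H' := Subgroup.mem_comap.mpr hl
      have hne : PH H' ≠ ⊥ := by
        intro hbot
        have hmem : (⟨upper 1, h1'⟩ : H') ∈ PH H' := mem_PH.mpr (upper_mem_Uni 1)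
        rw [hbot, Subgroup.mem_bot] at hmem
        have h2 := congrArg (fun x : H' => ((x : SL2 F) : M2 F) 0 1) hmem
        simp at h2
      have hnB : ∃ y : H', (y : SL2 F) ∉ Cfsg.Agent.Lib.Lead.DicksonSL2.Borel := by
        refine ⟨⟨lower b, hy'⟩, ?_⟩
        rw [mem_Borel]
        simpa using hb
      rcases hyp0_or_index' 3 hne hnB with ⟨hQ, hyp0⟩ | ⟨hQ, hidx⟩
      · have hss : ∀ g : H', g ∉ ZH H' → (C g = ⊤ ∨ Nat.card H' = 2 * Nat.card (C g)) →
            tr ((g : H') : SL2 F) ^ 2 ≠ 4 := by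
          intro g hg hcase
          exact disc_of_not_dvd 3 hg (Cfsg.Agent.Lib.Helper12.DkH.not_dvd_of_case 3 hne hnB hg hcase)
        rcases hyp0_cases3 h2 hyp0 hss (h5 H') (h16 H') with hall | ⟨g, hg, hΔ, hle⟩ | h24
        · exact absurd hall (exists_not_mem_ZH h4 hcoat')
        · left
          have hM := eq_NTor_of_le h4 hcoat' _ (nonScalar_of_not_mem hg) hΔ hle
          have hΔ' : tr (conjHom M Mi hM1 hM2 (g : SL2 F)) ^ 2 ≠ 4 := by rw [tr_conjHom]; exact hΔ
          refine ⟨conjHom M Mi hM1 hM2 (g : SL2 F), nonScalar_of_tr _ hΔ', hΔ', ?_⟩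
          have hc := comap_normalizer_centralizer (conjEquiv M Mi hM1 hM2) (g : SL2 F)
          have hM' : Mh.comap (conjEquiv M Mi hM1 hM2).toMonoidHom =
              (NTor (conjEquiv M Mi hM1 hM2 (g : SL2 F))).comap
                (conjEquiv M Mi hM1 hM2).toMonoidHom := by
            rw [hc]; exact hM
          exact Subgroup.comap_injective (conjEquiv M Mi hM1 hM2).surjective hM'
        · right
          intro g hg
          obtain ⟨g', rfl⟩ := (conjEquiv M Mi hM1 hM2).surjective g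
          have hg' : g' ∈ H' := Subgroup.mem_comap.mpr hg
          have := pow_eq_one_of_card_dvd h24 hg'
          rw [← map_pow, this, map_one]
      · exfalso
        obtain ⟨K0, hKu, _, hle, _⟩ :=
          Cfsg.Agent.Lib.Lead.DicksonField.structure_of_index' 3 hb h1' hy' hidx
        have hcard : Nat.card K0 = Nat.card (PH H') := (card_PH_eq K0 hKu).symm
        have hK0 : K0 = ⊤ := subfield_eq_top_of_card hp hF K0 (by rw [hcard]; exact hQ)
        apply hcoat'.1
        rw [eq_top_iff, ← SLK_top (F := F), ← hK0]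
        exact hle
  · right
    have hyp0 := hyp0_of_not_dvd 3 hdvd
    have hss : ∀ g : Mh, g ∉ ZH Mh → (C g = ⊤ ∨ Nat.card Mh = 2 * Nat.card (C g)) →
        tr ((g : Mh) : SL2 F) ^ 2 ≠ 4 := by
      intro g hg _
      apply disc_of_not_dvd 3 hg
      intro hd
      exact hdvd (hd.trans (Subgroup.card_subgroup_dvd_card _))
    rcases hyp0_cases3 h2 hyp0 hss (h5 Mh) (h16 Mh) with hall | ⟨g, hg, hΔ, hle⟩ | h24
    · exact absurd hall (exists_not_mem_ZH h4 hcoat)
    · left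
      exact ⟨_, nonScalar_of_not_mem hg, hΔ,
        eq_NTor_of_le h4 hcoat _ (nonScalar_of_not_mem hg) hΔ hle⟩
    · right
      intro g hg
      exact pow_eq_one_of_card_dvd h24 hg

end Cfsg.Agent.Lib.Helper1.SolT1
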