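import Cfsg.Agent.Lib.Helper1.SolZ1

/-!
Solubilizers (helper1): more general group lemmas.  Passing to the quotient by the centre, fibres of
the quotient map, pairs generating a quotient of the alternating group of degree four.
-/

set_option autoImplicit false

namespace Cfsg.Agent.Lib.Helper1.SolT2

open Subgroup Cfsg.Agent.Lib.Helper1.SolZ1

theorem sol_comm {G : Type*} [Group G] {x y : G} (h : Sol x y) : Sol y x := by
  unfold Sol at h ⊢
  rw [Set.pair_comm]
  exact h

theorem sol_of_commute {G : Type*} [Group G] {x y : G} (h : x * y = y * x) : Sol x y := by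
  unfold Sol
  letI : CommGroup ↥(Subgroup.closure ({x, y} : Set G)) :=
    Subgroup.closureCommGroupOfComm (by
      intro a ha b hb
      rcases ha with rfl | rfl <;> rcases hb with rfl | rfl
      · rfl
      · exact h
      · exact h.symm
      · rfl)
  exact Group.isSolvable_of_comm (fun a b => mul_comm a b)

/-- solvability of a pair can be tested modulo the centre -/
theorem sol_center_quot_iff {G : Type*} [Group G] (x y : G) :
    Sol (QuotientGroup.mk' (Subgroup.center G) x) (QuotientGroup.mk' (Subgroup.center G) y) ↔
      Sol x y := by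
  unfold Sol
  set π := QuotientGroup.mk' (Subgroup.center G) with hπ
  set K := Subgroup.closure ({x, y} : Set G) with hK
  have hmap : K.map π = Subgroup.closure ({π x, π y} : Set (G ⧸ Subgroup.center G)) := by
    rw [hK, MonoidHom.map_closure, Set.image_pair]
  rw [← hmap]
  set f := π.subgroupMap K with hf
  have hsurj : Function.Surjective f := MonoidHom.subgroupMap_surjective _ _
  constructor
  · intro h
    haveI : Group.IsSolvable ↥(K.map π) := h
    haveI : Group.IsSolvable ↥f.ker := by
      apply Group.isSolvable_of_comm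
      intro a b
      have ha : ((a : K) : G) ∈ Subgroup.center G := by
        have h1 : f (a : K) = 1 := a.2
        have h2 : π ((a : K) : G) = 1 := by
          have := congrArg Subtype.val h1
          simpa [hf] using this
        exact (QuotientGroup.eq_one_iff _).mp h2
      apply Subtype.ext
      apply Subtype.ext
      simp only [Subgroup.coe_mul]
      exact (Subgroup.mem_center_iff.mp ha _).symm
    exact Group.isSolvable_of_ker_le_range f.ker.subtype f (by rw [Subgroup.range_subtype])
  · intro h
    haveI : Group.IsSolvable ↥K := h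
    exact Group.isSolvable_of_surjective hsurj

/-- fibres of a quotient map -/
noncomputable def fiberEquiv {G : Type*} [Group G] (N : Subgroup G) [N.Normal] (P : G ⧸ N → Prop) :
    {y : G // P (y : G ⧸ N)} ≃ {z : G ⧸ N // P z} × N where
  toFun y := (⟨(y.1 : G ⧸ N), y.2⟩, ⟨((y.1 : G ⧸ N)).out⁻¹ * y.1, by
      rw [← QuotientGroup.eq]; exact QuotientGroup.out_eq' _⟩)
  invFun t := ⟨t.1.1.out * t.2.1, by
      have : ((t.1.1.out * t.2.1 : G) : G ⧸ N) = t.1.1 := by
        rw [QuotientGroup.mk_mul_of_mem _ t.2.2, QuotientGroup.out_eq']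
      rw [this]; exact t.1.2⟩
  left_inv y := by
    apply Subtype.ext
    simp
  right_inv t := by
    have h1 : ((t.1.1.out * t.2.1 : G) : G ⧸ N) = t.1.1 := by
      rw [QuotientGroup.mk_mul_of_mem _ t.2.2, QuotientGroup.out_eq']
    refine Prod.ext (Subtype.ext h1) (Subtype.ext ?_)
    show ((t.1.1.out * t.2.1 : G) : G ⧸ N).out⁻¹ * (t.1.1.out * t.2.1) = t.2.1
    rw [h1]
    group

theorem card_fiber_quot {G : Type*} [Group G] (N : Subgroup G) [N.Normal] (P : G ⧸ N → Prop) :
    Nat.card {y : G // P (y : G ⧸ N)} = Nat.card {z : G ⧸ N // P z} * Nat.card N := by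
  rw [Nat.card_congr (fiberEquiv N P), Nat.card_prod]

/-- a solvable subgroup together with an element normalizing it -/
theorem sol_of_normalizer {G : Type*} [Group G] (N : Subgroup G) [hN : Group.IsSolvable N] {x y : G}
    (hx : x ∈ N) (hy : y ∈ Subgroup.normalizer (N : Set G)) : Sol x y := by
  unfold Sol
  set D := Subgroup.closure ({x, y} : Set G) with hD
  have hxD : x ∈ D := Subgroup.subset_closure (by simp)
  have hyD : y ∈ D := Subgroup.subset_closure (by simp)
  have hDle : D ≤ Subgroup.normalizer (N : Set G) := by
    rw [hD, Subgroup.closure_le]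
    intro z hz
    rcases hz with rfl | rfl
    · exact Subgroup.le_normalizer hx
    · exact hy
  set ND : Subgroup D := N.subgroupOf D with hND
  haveI hnorm : ND.Normal := by
    constructor
    intro n hn g
    rw [hND, Subgroup.mem_subgroupOf] at hn ⊢
    have := (Subgroup.mem_normalizer_iff.mp (hDle g.2) n.1).mp hn
    simpa using this
  -- the quotient is cyclic
  have hquot : ∀ z : D ⧸ ND, z ∈ Subgroup.zpowers (QuotientGroup.mk' ND ⟨y, hyD⟩) := by
    have hcomap : (Subgroup.zpowers (QuotientGroup.mk' ND ⟨y, hyD⟩)).comap (QuotientGroup.mk' ND) = ⊤ := by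
      rw [eq_top_iff]
      intro d _
      have hd : (d : G) ∈ D := d.2
      rw [Subgroup.mem_comap]
      have key : ∀ g (hg : g ∈ D), QuotientGroup.mk' ND ⟨g, hg⟩ ∈
          Subgroup.zpowers (QuotientGroup.mk' ND ⟨y, hyD⟩) := by
        intro g hg
        induction hg using Subgroup.closure_induction with
        | mem z hz =>
          rcases hz with rfl | rfl
          · have h1 : QuotientGroup.mk' ND ⟨z, hxD⟩ = 1 := by
              rw [QuotientGroup.mk'_apply, QuotientGroup.eq_one_iff, hND, Subgroup.mem_subgroupOf]
              exact hx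
            rw [h1]
            exact Subgroup.one_mem _
          · exact Subgroup.mem_zpowers _
        | one => exact Subgroup.one_mem _
        | mul a b ha hb iha ihb =>
          have : (⟨a * b, D.mul_mem ha hb⟩ : D) = ⟨a, ha⟩ * ⟨b, hb⟩ := rfl
          rw [this, map_mul]
          exact Subgroup.mul_mem _ iha ihb
        | inv a ha iha =>
          have : (⟨a⁻¹, D.inv_mem ha⟩ : D) = (⟨a, ha⟩ : D)⁻¹ := rfl
          rw [this, map_inv]
          exact Subgroup.inv_mem _ iha
      exact key d.1 d.2
    intro z
    induction z using QuotientGroup.induction_on with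
    | H g =>
      have : g ∈ (Subgroup.zpowers (QuotientGroup.mk' ND ⟨y, hyD⟩)).comap (QuotientGroup.mk' ND) := by
        rw [hcomap]; trivial
      exact this
  haveI : IsCyclic (D ⧸ ND) := ⟨⟨_, hquot⟩⟩
  haveI : Group.IsSolvable (D ⧸ ND) :=
    Group.isSolvable_of_comm (fun a b => (IsCyclic.commGroup.mul_comm a b))
  haveI : Group.IsSolvable ↥ND := by
    let g : ND →* N :=
      { toFun := fun n => ⟨((n : D) : G), Subgroup.mem_subgroupOf.mp n.2⟩
        map_one' := rfl
        map_mul' := fun _ _ => rfl }
    have hinj : Function.Injective g := by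
      intro a b hab
      have := congrArg Subtype.val hab
      exact Subtype.ext (Subtype.ext this)
    exact Group.isSolvable_of_isSolvable_injective hinj
  exact Group.isSolvable_of_ker_le_range ND.subtype (QuotientGroup.mk' ND)
    (by rw [QuotientGroup.ker_mk', Subgroup.range_subtype])

/-- an involution and an element of order three whose product has order three generate a solvable
group (a quotient of the alternating group of degree four) -/
theorem sol_of_233 {G : Type*} [Group G] {a y : G} (ha : a * a = 1) (hy : y * y * y = 1)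
    (hay : a * y * (a * y) * (a * y) = 1) : Sol a y := by
  have hai : a⁻¹ = a := inv_eq_of_mul_eq_one_left ha
  have hyi : y⁻¹ = y * y := inv_eq_of_mul_eq_one_left hy
  set b := y * a * y⁻¹ with hb
  set c := y⁻¹ * a * y⁻¹⁻¹ with hc
  have hbb : b * b = 1 := by
    rw [hb]
    calc y * a * y⁻¹ * (y * a * y⁻¹) = y * (a * a) * y⁻¹ := by group
      _ = 1 := by rw [ha]; group
  -- the relation `c = b * a`
  have hcba : c = b * a := by
    have h1 : c * (b * a)⁻¹ = 1 := by
      rw [hc, hb, mul_inv_rev, mul_inv_rev, mul_inv_rev, inv_inv, hai]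
      calc y⁻¹ * a * y * (a * (y * (a * y⁻¹)))
          = y⁻¹ * (a * y * (a * y) * (a * y)) * y⁻¹ * y⁻¹ := by group
        _ = y⁻¹ * y⁻¹ * y⁻¹ := by rw [hay, mul_one]
        _ = (y * y * y)⁻¹ := by group
        _ = 1 := by rw [hy, inv_one]
    exact mul_inv_eq_one.mp h1
  set N := Subgroup.closure ({a, b} : Set G) with hN
  haveI : Group.IsSolvable N := sol_of_sq ha hbb
  have haN : a ∈ N := Subgroup.subset_closure (by simp)
  have hbN : b ∈ N := Subgroup.subset_closure (by simp)
  have hcN : c ∈ N := by rw [hcba]; exact N.mul_mem hbN haN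
  -- conjugation by `y` and by `y⁻¹` preserve `N`
  have h1 : ∀ n ∈ N, y * n * y⁻¹ ∈ N := by
    intro n hn
    induction hn using Subgroup.closure_induction with
    | mem z hz =>
      rcases hz with h | h
      · rw [h]; exact hbN
      · have : y * (y * a * y⁻¹) * y⁻¹ = y⁻¹ * a * y⁻¹⁻¹ := by
          rw [hyi]
          have h3 : (y * y)⁻¹ = y := by
            rw [← hyi, inv_inv]
          rw [h3]
          calc y * (y * a * (y * y)) * (y * y) = y * y * a * (y * y * y) * y := by group
            _ = y * y * a * y := by rw [hy, mul_one]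
        rw [h, hb, this]
        exact hcN
    | one => simp
    | mul u v _ _ ihu ihv =>
      have : y * (u * v) * y⁻¹ = (y * u * y⁻¹) * (y * v * y⁻¹) := by group
      rw [this]; exact N.mul_mem ihu ihv
    | inv u _ ihu =>
      have : y * u⁻¹ * y⁻¹ = (y * u * y⁻¹)⁻¹ := by group
      rw [this]; exact N.inv_mem ihu
  have h2 : ∀ n ∈ N, y⁻¹ * n * y ∈ N := by
    intro n hn
    induction hn using Subgroup.closure_induction with
    | mem z hz =>
      rcases hz with h | h
      · have : y⁻¹ * a * y = y⁻¹ * a * y⁻¹⁻¹ := by rw [inv_inv]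
        rw [h, this]; exact hcN
      · have : y⁻¹ * (y * a * y⁻¹) * y = a := by group
        rw [h, hb, this]; exact haN
    | one => simp
    | mul u v _ _ ihu ihv =>
      have : y⁻¹ * (u * v) * y = (y⁻¹ * u * y) * (y⁻¹ * v * y) := by group
      rw [this]; exact N.mul_mem ihu ihv
    | inv u _ ihu =>
      have : y⁻¹ * u⁻¹ * y = (y⁻¹ * u * y)⁻¹ := by group
      rw [this]; exact N.inv_mem ihu
  apply sol_of_normalizer N haN
  rw [Subgroup.mem_normalizer_iff]
  intro n
  constructor
  · exact h1 n
  · intro hn
    have := h2 _ hn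
    have e : y⁻¹ * (y * n * y⁻¹) * y = n := by group
    rwa [e] at this

end Cfsg.Agent.Lib.Helper1.SolT2
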