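import Cfsg.Agent.Lib.Helper1.SolZ2

/-!
Solubilizers (helper1): the coatoms of `SL₂(F)` in characteristic two, internally: line stabilizers,
normalizers of tori, subfield subgroups (adapted from helper12's `DkW.coatom_two`).
-/

set_option autoImplicit false

namespace Cfsg.Agent.Lib.Helper1.SolZ3

open Cfsg.Agent.Lib.Helper12.SL2 Cfsg.Agent.Lib.Lead.DicksonCA Cfsg.Agent.Lib.Lead.DicksonSL2
  Cfsg.Agent.Lib.Lead.SL2Scalar Cfsg.Agent.Lib.Lead.DicksonStd Cfsg.Agent.Lib.Lead.DicksonField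
  Cfsg.Agent.Lib.Helper9.SL2Upper Cfsg.Agent.Lib.Lead.DicksonBase
  Cfsg.Agent.Lib.Helper12.DkA Cfsg.Agent.Lib.Helper12.DkE Cfsg.Agent.Lib.Helper12.DkM
  Cfsg.Agent.Lib.Helper12.DkN Cfsg.Agent.Lib.Helper12.DkW

variable {F : Type*} [Field F]

local notation "SL2" => Matrix.SpecialLinearGroup (Fin 2)
local notation "M2" => Matrix (Fin 2) (Fin 2)
local notation "PSL2" => Matrix.ProjectiveSpecialLinearGroup (Fin 2)
local notation "π" => QuotientGroup.mk' (Subgroup.center (Matrix.SpecialLinearGroup (Fin 2) F))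

theorem mem_cent_map {G : Type*} [Group G] (φ : G ≃* G) (g h : G) :
    φ h ∈ Subgroup.centralizer ({φ g} : Set G) ↔ h ∈ Subgroup.centralizer ({g} : Set G) := by
  rw [Subgroup.mem_centralizer_singleton_iff, Subgroup.mem_centralizer_singleton_iff,
    ← map_mul, ← map_mul]
  exact φ.injective.eq_iff

theorem comap_normalizer_centralizer {G : Type*} [Group G] (φ : G ≃* G) (g : G) :
    (Subgroup.normalizer ((Subgroup.centralizer ({φ g} : Set G) : Subgroup G) : Set G)).comap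
      φ.toMonoidHom = Subgroup.normalizer ((Subgroup.centralizer ({g} : Set G) : Subgroup G) : Set G) := by
  ext k
  rw [Subgroup.mem_comap, Subgroup.mem_normalizer_iff, Subgroup.mem_normalizer_iff]
  constructor
  · intro h h'
    have := h (φ h')
    rw [mem_cent_map] at this
    rw [this]
    have e : φ.toMonoidHom k * φ h' * (φ.toMonoidHom k)⁻¹ = φ (k * h' * k⁻¹) := by
      simp
    rw [e, mem_cent_map]
  · intro h h''
    obtain ⟨h', rfl⟩ := φ.surjective h''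
    have e : φ.toMonoidHom k * φ h' * (φ.toMonoidHom k)⁻¹ = φ (k * h' * k⁻¹) := by
      simp
    rw [e, mem_cent_map, mem_cent_map]
    exact h h'

theorem tr_conjHom (M Mi : M2 F) (h1 : M * Mi = 1) (h2 : Mi * M = 1) (g : SL2 F) :
    tr (conjHom M Mi h1 h2 g) = tr g := by
  unfold tr
  rw [conjHom_coe, ← Matrix.trace_fin_two, ← Matrix.trace_fin_two, Matrix.trace_mul_cycle, h2,
    one_mul]

/-- coatoms in standard position, characteristic two, internally -/
theorem std_two_int [Fintype F] (heven : Even (Fintype.card F)) (h2 : (2 : F) = 0)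
    (h4 : 4 ≤ Fintype.card F) {H : Subgroup (SL2 F)}
    (hcoat : IsCoatom H) {b : F} (hb : b ≠ 0) (h1 : (upper 1 : SL2 F) ∈ H)
    (hy : (lower b : SL2 F) ∈ H) :
    (∃ g : SL2 F, NonScalar g ∧ tr g ^ 2 ≠ 4 ∧ H = NTor g) ∨
    ∃ (F₀ : Type) (_ : Field F₀) (_ : Fintype F₀) (r : ℕ), r.Prime ∧ Fintype.card F₀ ≠ 2 ∧
      Fintype.card F = Fintype.card F₀ ^ r := by
  classical
  haveI : CharP F 2 := CharTwo.of_one_ne_zero_of_two_eq_zero one_ne_zero h2
  haveI : Fact (Nat.Prime 2) := ⟨Nat.prime_two⟩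
  have hne : PH H ≠ ⊥ := by
    intro hbot
    have hmem : (⟨upper 1, h1⟩ : H) ∈ PH H := mem_PH.mpr (upper_mem_Uni 1)
    rw [hbot, Subgroup.mem_bot] at hmem
    have h2 := congrArg (fun x : H => ((x : SL2 F) : M2 F) 0 1) hmem
    simp at h2
  have hnB : ∃ y : H, (y : SL2 F) ∉ Cfsg.Agent.Lib.Lead.DicksonSL2.Borel := by
    refine ⟨⟨lower b, hy⟩, ?_⟩
    rw [mem_Borel]
    simpa using hb
  rcases hyp0_or_index' 2 hne hnB with ⟨hQ, hyp0⟩ | ⟨hQ, hidx⟩
  · have hss : ∀ g : H, g ∉ ZH H → (C g = ⊤ ∨ Nat.card H = 2 * Nat.card (C g)) →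
        tr ((g : H) : SL2 F) ^ 2 ≠ 4 := by
      intro g hg hcase
      exact disc_of_not_dvd 2 hg (Cfsg.Agent.Lib.Helper12.DkH.not_dvd_of_case 2 hne hnB hg hcase)
    rcases hyp0_cases hyp0 hss with hall | ⟨g, hg, hΔ, hle⟩ | h4d
    · exact absurd hall (exists_not_mem_ZH h4 hcoat)
    · left
      exact ⟨_, nonScalar_of_not_mem hg, hΔ, eq_NTor_of_le h4 hcoat _ (nonScalar_of_not_mem hg) hΔ hle⟩
    · exfalso
      have hd : 2 ^ 2 ∣ Nat.card (sylowPH 2 hne : Sylow 2 H) :=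
        (sylowPH 2 hne).pow_dvd_card_of_pow_dvd_card (by simpa using h4d)
      have hle := Nat.le_of_dvd Nat.card_pos hd
      have : Nat.card (sylowPH 2 hne : Sylow 2 H) = Nat.card (PH H) := rfl
      omega
  · right
    obtain ⟨F₀, i1, i2, r, hr, hc, hq, _⟩ := subfield_two h2 hcoat hb h1 hy hQ hidx
    exact ⟨F₀, i1, i2, r, hr, hc, hq⟩

/-- **coatoms of `SL₂(F)`, characteristic two, internally** -/
theorem coatom_two_int [Fintype F] (heven : Even (Fintype.card F)) (h2 : (2 : F) = 0)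
    (h4 : 4 ≤ Fintype.card F) {Mh : Subgroup (SL2 F)} (hcoat : IsCoatom Mh) :
    (∃ v : Fin 2 → F, v ≠ 0 ∧ ∀ g ∈ Mh, ∃ c : F, g • v = c • v) ∨
    (∃ g : SL2 F, NonScalar g ∧ tr g ^ 2 ≠ 4 ∧ Mh = NTor g) ∨
    ∃ (F₀ : Type) (_ : Field F₀) (_ : Fintype F₀) (r : ℕ), r.Prime ∧ Fintype.card F₀ ≠ 2 ∧
      Fintype.card F = Fintype.card F₀ ^ r := by
  classical
  haveI : CharP F 2 := CharTwo.of_one_ne_zero_of_two_eq_zero one_ne_zero h2
  haveI : Fact (Nat.Prime 2) := ⟨Nat.prime_two⟩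
  by_cases hdvd : 2 ∣ Nat.card Mh
  · by_cases hS : Subsingleton (Sylow 2 Mh)
    · left
      exact Cfsg.Agent.Lib.Helper12.DkH.T3 2 hdvd hS
    · right
      have hlt : 1 < Nat.card (Sylow 2 Mh) := by
        rw [Finite.one_lt_card_iff_nontrivial]
        exact not_subsingleton_iff_nontrivial.mp hS
      obtain ⟨M, Mi, hM1, hM2, b, hb, hu, hl⟩ := exists_std 2 Mh hlt
      have hcoat' : IsCoatom (Mh.comap (conjHom M Mi hM1 hM2)) :=
        (Subgroup.isCoatom_comap (conjEquiv M Mi hM1 hM2)).mpr hcoat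
      rcases std_two_int heven h2 h4 hcoat' hb (Subgroup.mem_comap.mpr hu) (Subgroup.mem_comap.mpr hl)
        with ⟨g, hg, hΔ, hM⟩ | h
      · left
        have hΔ' : tr (conjHom M Mi hM1 hM2 g) ^ 2 ≠ 4 := by rw [tr_conjHom]; exact hΔ
        refine ⟨conjHom M Mi hM1 hM2 g, nonScalar_of_tr _ hΔ', hΔ', ?_⟩
        have hc := comap_normalizer_centralizer (conjEquiv M Mi hM1 hM2) g
        have hM' : Mh.comap (conjEquiv M Mi hM1 hM2).toMonoidHom =
            (NTor (conjEquiv M Mi hM1 hM2 g)).comap (conjEquiv M Mi hM1 hM2).toMonoidHom := by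
          rw [hc]; exact hM
        exact Subgroup.comap_injective (conjEquiv M Mi hM1 hM2).surjective hM'
      · exact Or.inr h
  · exfalso
    have hyp0 := hyp0_of_not_dvd 2 hdvd
    have hss : ∀ g : Mh, g ∉ ZH Mh → (C g = ⊤ ∨ Nat.card Mh = 2 * Nat.card (C g)) →
        tr ((g : Mh) : SL2 F) ^ 2 ≠ 4 := by
      intro g hg _
      apply disc_of_not_dvd 2 hg
      intro hd
      exact hdvd (hd.trans (Subgroup.card_subgroup_dvd_card _))
    rcases hyp0_cases hyp0 hss with hall | ⟨g, hg, hΔ, hle⟩ | h4d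
    · exact exists_not_mem_ZH h4 hcoat hall
    · have hM := eq_NTor_of_le h4 hcoat _ (nonScalar_of_not_mem hg) hΔ hle
      apply hdvd
      rw [hM, card_NTor _ (nonScalar_of_not_mem hg) hΔ]
      exact dvd_mul_right _ _
    · exact hdvd (dvd_trans (by norm_num) h4d)

/-- for `q = 2 ^ p` with `p` prime the subfield case does not occur -/
theorem coatom_two_prime [Fintype F] (p : ℕ) (hp : p.Prime) (hF : Fintype.card F = 2 ^ p)
    {Mh : Subgroup (SL2 F)} (hcoat : IsCoatom Mh) :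
    (∃ v : Fin 2 → F, v ≠ 0 ∧ ∀ g ∈ Mh, ∃ c : F, g • v = c • v) ∨
    (∃ g : SL2 F, NonScalar g ∧ tr g ≠ 0 ∧ Mh = NTor g) := by
  have heven : Even (Fintype.card F) := by
    rw [hF]; exact (Nat.even_pow.mpr ⟨even_two, hp.ne_zero⟩)
  have h2 : (2 : F) = 0 := by
    have hc : ((Fintype.card F : ℕ) : F) = 0 := Nat.cast_card_eq_zero F
    rw [hF] at hc
    push_cast at hc
    exact pow_eq_zero_iff hp.ne_zero |>.mp hc
  have h4 : 4 ≤ Fintype.card F := by
    rw [hF]
    calc 4 = 2 ^ 2 := by norm_num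
      _ ≤ 2 ^ p := Nat.pow_le_pow_right (by norm_num) hp.two_le
  rcases coatom_two_int heven h2 h4 hcoat with h | ⟨g, hg, hΔ, hM⟩ | ⟨F₀, i1, i2, r, hr, hc, hq⟩
  · exact Or.inl h
  · right
    refine ⟨g, hg, ?_, hM⟩
    intro h0
    apply hΔ
    rw [h0]
    linear_combination (-2 : F) * h2
  · exfalso
    rw [hF] at hq
    have hdvd : Fintype.card F₀ ∣ 2 ^ p := by
      rw [hq]; exact dvd_pow_self _ hr.ne_zero
    obtain ⟨j, hj, hcard⟩ := (Nat.dvd_prime_pow Nat.prime_two).mp hdvd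
    rw [hcard, ← pow_mul] at hq
    have hjr : p = j * r := Nat.pow_right_injective (le_refl 2) hq
    have hdr : r ∣ p := ⟨j, by rw [hjr, mul_comm]⟩
    rcases (Nat.dvd_prime hp).mp hdr with h | h
    · exact hr.ne_one h
    · rw [h] at hjr
      have hj1 : j = 1 := by
        have hp0 := hp.pos
        nlinarith [hjr, hp0]
      rw [hj1, pow_one] at hcard
      exact hc hcard

end Cfsg.Agent.Lib.Helper1.SolZ3
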