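import Cfsg.Agent.Lib.Helper1.SolZ1
import Cfsg.Agent.Lib.Helper1.SolZ3
import Cfsg.Agent.Lib.Helper1.DkMinSimple

/-!
Solubilizers (helper1): the solubilizers of elements of `SL₂(F)`, `|F| = 2 ^ p` with `p` prime,
described by equations.
-/

set_option autoImplicit false

namespace Cfsg.Agent.Lib.Helper1.SolZ4

open Cfsg.Agent.Lib.Helper12.SL2 Cfsg.Agent.Lib.Helper1.SolZ1 Cfsg.Agent.Lib.Helper1.SolZ2
  Cfsg.Agent.Lib.Helper1.SolZ3 Cfsg.Agent.Lib.Helper1.DkOrders

variable {F : Type*} [Field F] [Fintype F]

local notation "SL2" => Matrix.SpecialLinearGroup (Fin 2)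

theorem two_eq_zero (p : ℕ) (hp : p.Prime) (hF : Fintype.card F = 2 ^ p) : (2 : F) = 0 := by
  have hc : ((Fintype.card F : ℕ) : F) = 0 := Nat.cast_card_eq_zero F
  rw [hF] at hc
  push_cast at hc
  exact pow_eq_zero_iff hp.ne_zero |>.mp hc

theorem four_le (p : ℕ) (hp : p.Prime) (hF : Fintype.card F = 2 ^ p) : 4 ≤ Fintype.card F := by
  rw [hF]
  calc 4 = 2 ^ 2 := by norm_num
    _ ≤ 2 ^ p := Nat.pow_le_pow_right (by norm_num) hp.two_le

theorem not_solvable_SL2 (h4 : 4 ≤ Fintype.card F) : ¬ Group.IsSolvable (SL2 F) := by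
  intro h
  apply Cfsg.Agent.Lib.Helper1.DkMinSimple.not_solvable_PSL2 (F := F) h4
  exact Group.isSolvable_of_surjective
    (f := QuotientGroup.mk' (Subgroup.center (SL2 F))) (QuotientGroup.mk'_surjective _)

/-- the two possibilities for a pair generating a solvable subgroup -/
theorem sol_cases (p : ℕ) (hp : p.Prime) (hF : Fintype.card F = 2 ^ p) {x y : SL2 F}
    (h : Sol x y) :
    (∃ v : Fin 2 → F, v ≠ 0 ∧ (∃ c : F, x • v = c • v) ∧ (∃ c : F, y • v = c • v)) ∨
    (∃ g : SL2 F, NonScalar g ∧ tr g ≠ 0 ∧ x ∈ NTor g ∧ y ∈ NTor g) := by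
  obtain ⟨M, hM, hx, hy⟩ := exists_coatom_of_sol (not_solvable_SL2 (four_le p hp hF)) h
  rcases coatom_two_prime p hp hF hM with ⟨v, hv, hfix⟩ | ⟨g, hg, hτ, rfl⟩
  · exact Or.inl ⟨v, hv, hfix x hx, hfix y hy⟩
  · exact Or.inr ⟨g, hg, hτ, hx, hy⟩

theorem tr_eq_zero_of_sq' (h2 : (2 : F) = 0) (y : SL2 F) (hy : y * y = 1) : tr y = 0 := by
  by_cases h1 : y = 1
  · subst h1
    unfold tr
    simp only [Matrix.SpecialLinearGroup.coe_one, Matrix.one_apply_eq]
    linear_combination h2
  · exact tr_eq_zero_of_sq y hy (nonScalar_of_ne_one h2 y h1)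

theorem lower_left_of_eigen (y : SL2 F) (v : Fin 2 → F) (hv : v ≠ 0) (h1 : v 1 = 0) (c : F)
    (hy : y • v = c • v) : y 1 0 = 0 := by
  have h := congrFun hy 1
  rw [Cfsg.Agent.Lib.Helper12.SL2.smul_apply] at h
  simp only [Pi.smul_apply, smul_eq_mul, h1, mul_zero, add_zero] at h
  have hv0 : v 0 ≠ 0 := by
    intro h0
    apply hv
    ext i
    fin_cases i
    · exact h0
    · exact h1
  exact (mul_eq_zero.mp h).resolve_right hv0

theorem upper_right_of_eigen (y : SL2 F) (v : Fin 2 → F) (hv : v ≠ 0) (h0 : v 0 = 0) (c : F)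
    (hy : y • v = c • v) : y 0 1 = 0 := by
  have h := congrFun hy 0
  rw [Cfsg.Agent.Lib.Helper12.SL2.smul_apply] at h
  simp only [Pi.smul_apply, smul_eq_mul, h0, mul_zero, zero_add] at h
  have hv1 : v 1 ≠ 0 := by
    intro h1
    apply hv
    ext i
    fin_cases i
    · exact h0
    · exact h1
  exact (mul_eq_zero.mp h).resolve_right hv1

/-! ### involutions -/

theorem tr_up_mul (b : F) (y : SL2 F) : tr (up b * y) = tr y + b * y 1 0 := by
  unfold tr
  simp only [mul_apply', up, mk_00, mk_01, mk_10, mk_11]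
  ring

/-- the solubilizer of an involution -/
theorem sol_up_iff (p : ℕ) (hp : p.Prime) (hF : Fintype.card F = 2 ^ p) {b : F} (hb : b ≠ 0)
    (y : SL2 F) :
    Sol (up b) y ↔ y 1 0 = 0 ∨ tr y = 0 ∨ tr y + b * y 1 0 = 0 := by
  have h2 := two_eq_zero p hp hF
  have hup : up b * up b = 1 := by
    apply sq_eq_one_of_tr h2
    unfold tr
    simp only [up, mk_00, mk_11]
    linear_combination h2
  constructor
  · intro h
    rcases sol_cases p hp hF h with ⟨v, hv, ⟨c, hc⟩, ⟨c', hc'⟩⟩ | ⟨g, hg, hτ, hx, hy⟩
    · left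
      have h1 : v 1 = 0 := by
        by_contra h1
        have e1 := congrFun hc 1
        have e0 := congrFun hc 0
        rw [Cfsg.Agent.Lib.Helper12.SL2.smul_apply] at e0 e1
        simp only [up, mk_00, mk_01, mk_10, mk_11, Pi.smul_apply, smul_eq_mul, zero_mul, zero_add,
          one_mul] at e0 e1
        have hc1 : c = 1 := by
          have : (c - 1) * v 1 = 0 := by linear_combination -e1
          exact sub_eq_zero.mp ((mul_eq_zero.mp this).resolve_right h1)
        rw [hc1, one_mul] at e0
        have : b * v 1 = 0 := by linear_combination e0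
        exact h1 ((mul_eq_zero.mp this).resolve_left hb)
      exact lower_left_of_eigen y v hv h1 c' hc'
    · right
      by_cases hty : tr y = 0
      · exact Or.inl hty
      · right
        have hyT := mem_Tor_of_tr_ne h2 g hg hτ y hy hty
        have hxT : up b ∉ Tor g := by
          intro hmem
          rw [Subgroup.mem_centralizer_singleton_iff] at hmem
          have hg' : g ∈ Subgroup.centralizer ({up b} : Set (SL2 F)) :=
            Subgroup.mem_centralizer_singleton_iff.mpr hmem.symm
          obtain ⟨_, h00⟩ := (mem_centralizer_up hb g).mp hg'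
          apply hτ
          unfold tr
          rw [h00]
          linear_combination g 1 1 * h2
        have := sq_mul_eq_one h2 g (up b) y hg hτ hx hxT hyT
        rw [← tr_up_mul]
        exact tr_eq_zero_of_sq' h2 _ this
  · rintro (h | h | h)
    · haveI := Cfsg.Agent.Lib.Helper1.DkSolv.Bor_solvable (F := F)
      exact sol_of_le (Bor F) (by rw [mem_Bor]; rfl) (by rw [mem_Bor]; exact h)
    · exact sol_of_sq hup (sq_eq_one_of_tr h2 y h)
    · rw [← tr_up_mul] at h
      exact sol_of_sq_mul' hup (sq_eq_one_of_tr h2 _ h)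

/-! ### split semisimple elements -/

theorem dg_ne_inv (h2 : (2 : F) = 0) {a : F} (ha1 : a ≠ 1) (ha : a ≠ 0) : a ≠ a⁻¹ := by
  intro h
  apply ha1
  have h1 : a * a = 1 := by
    calc a * a = a * a⁻¹ := by rw [← h]
      _ = 1 := mul_inv_cancel₀ ha
  have h3 : (a - 1) ^ 2 = 0 := by linear_combination h1 + (1 - a) * h2
  exact sub_eq_zero.mp (pow_eq_zero_iff (by norm_num) |>.mp h3)

/-- the swap matrix, of determinant one in characteristic two -/
def swp (h2 : (2 : F) = 0) : SL2 F := mk 0 1 1 0 (by linear_combination (-1 : F) * h2)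

theorem swp_conj_10 (h2 : (2 : F) = 0) (y : SL2 F) : (swp h2 * y * (swp h2)⁻¹) 1 0 = y 0 1 := by
  obtain ⟨i00, i01, i10, i11⟩ := inv_eq_two h2 (swp h2)
  simp only [mul_apply', i00, i01, i10, i11]
  simp only [swp, mk_00, mk_01, mk_10, mk_11]
  ring

/-- the solubilizer of a split semisimple element -/
theorem sol_dg_iff (p : ℕ) (hp : p.Prime) (hF : Fintype.card F = 2 ^ p) {a : F} (ha : a ≠ 0)
    (ha1 : a ≠ 1) (y : SL2 F) :
    Sol (dg a ha) y ↔ y 1 0 = 0 ∨ y 0 1 = 0 ∨ (y 0 0 = 0 ∧ y 1 1 = 0) := by
  have h2 := two_eq_zero p hp hF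
  have hne := dg_ne_inv h2 ha1 ha
  have hsub : a - a⁻¹ ≠ 0 := sub_ne_zero.mpr hne
  constructor
  · intro h
    rcases sol_cases p hp hF h with ⟨v, hv, ⟨c, hc⟩, ⟨c', hc'⟩⟩ | ⟨g, hg, hτ, hx, hy⟩
    · have e0 := congrFun hc 0
      have e1 := congrFun hc 1
      rw [Cfsg.Agent.Lib.Helper12.SL2.smul_apply] at e0 e1
      simp only [dg, mk_00, mk_01, mk_10, mk_11, Pi.smul_apply, smul_eq_mul, zero_mul, zero_add,
        add_zero] at e0 e1
      by_cases h1 : v 1 = 0
      · left
        exact lower_left_of_eigen y v hv h1 c' hc'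
      · right; left
        have hc1 : c = a⁻¹ := by
          have : (a⁻¹ - c) * v 1 = 0 := by linear_combination e1
          exact (sub_eq_zero.mp ((mul_eq_zero.mp this).resolve_right h1)).symm
        have h0 : v 0 = 0 := by
          have : (a - a⁻¹) * v 0 = 0 := by rw [← hc1]; linear_combination e0
          exact (mul_eq_zero.mp this).resolve_left hsub
        exact upper_right_of_eigen y v hv h0 c' hc'
    · have htx : tr (dg a ha) ≠ 0 := by
        unfold tr
        simp only [dg, mk_00, mk_11]
        intro h0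
        apply hsub
        linear_combination h0 - a⁻¹ * h2
      have hxT := mem_Tor_of_tr_ne h2 g hg hτ _ hx htx
      rw [Subgroup.mem_centralizer_singleton_iff] at hxT
      -- g is diagonal
      have e01 := congrArg (fun z : SL2 F => z 0 1) hxT
      have e10 := congrArg (fun z : SL2 F => z 1 0) hxT
      simp only [mul_apply', dg, mk_00, mk_01, mk_10, mk_11, zero_mul, mul_zero, add_zero,
        zero_add] at e01 e10
      have g01 : g 0 1 = 0 := by
        have : (a - a⁻¹) * g 0 1 = 0 := by linear_combination e01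
        exact (mul_eq_zero.mp this).resolve_left hsub
      have g10 : g 1 0 = 0 := by
        have : (a - a⁻¹) * g 1 0 = 0 := by linear_combination -e10
        exact (mul_eq_zero.mp this).resolve_left hsub
      have gne : g 0 0 - g 1 1 ≠ 0 := by
        intro h0
        exact hg ⟨g01, g10, sub_eq_zero.mp h0⟩
      rcases (mem_NTor_iff h2 g hg hτ y).mp hy with hc | hc
      · left
        have hc' : y * g = g * y := by
          calc y * g = y * g * y⁻¹ * y := by group
            _ = g * y := by rw [hc]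
        have e := congrArg (fun z : SL2 F => z 1 0) hc'
        simp only [mul_apply', g01, g10, mul_zero, zero_mul, add_zero, zero_add] at e
        have : (g 0 0 - g 1 1) * y 1 0 = 0 := by linear_combination e
        exact (mul_eq_zero.mp this).resolve_left gne
      · right; right
        have hc' : y * g = g⁻¹ * y := by
          calc y * g = y * g * y⁻¹ * y := by group
            _ = g⁻¹ * y := by rw [hc]
        have e00 := congrArg (fun z : SL2 F => z 0 0) hc'
        have e11 := congrArg (fun z : SL2 F => z 1 1) hc'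
        simp only [mul_apply', inv_00, inv_01, inv_10, inv_11, g01, g10, mul_zero, zero_mul,
          add_zero, zero_add, neg_zero] at e00 e11
        constructor
        · have : (g 0 0 - g 1 1) * y 0 0 = 0 := by linear_combination e00
          exact (mul_eq_zero.mp this).resolve_left gne
        · have : (g 0 0 - g 1 1) * y 1 1 = 0 := by linear_combination -e11
          exact (mul_eq_zero.mp this).resolve_left gne
  · rintro (h | h | ⟨h00, h11⟩)
    · haveI := Cfsg.Agent.Lib.Helper1.DkSolv.Bor_solvable (F := F)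
      exact sol_of_le (Bor F) (by rw [mem_Bor]; rfl) (by rw [mem_Bor]; exact h)
    · haveI := Cfsg.Agent.Lib.Helper1.DkSolv.Bor_solvable (F := F)
      rw [← sol_map_iff (MulAut.conj (swp h2))]
      apply sol_of_le (Bor F)
      · rw [mem_Bor]
        show (swp h2 * dg a ha * (swp h2)⁻¹) 1 0 = 0
        rw [swp_conj_10]; rfl
      · rw [mem_Bor]
        show (swp h2 * y * (swp h2)⁻¹) 1 0 = 0
        rw [swp_conj_10]; exact h
    · have hy : tr y = 0 := by unfold tr; rw [h00, h11, add_zero]
      have hxy : tr (dg a ha * y) = 0 := by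
        unfold tr
        simp only [mul_apply', dg, mk_00, mk_01, mk_10, mk_11, h00, h11]
        ring
      exact sol_of_sq_mul (sq_eq_one_of_tr h2 y hy) (sq_eq_one_of_tr h2 _ hxy)

/-! ### non-split semisimple elements -/

/-- the solubilizer of an element without eigenvectors -/
theorem sol_nonsplit_iff (p : ℕ) (hp : p.Prime) (hF : Fintype.card F = 2 ^ p) (x : SL2 F)
    (hns : NonScalar x) (hτ : tr x ≠ 0)
    (hno : ∀ v : Fin 2 → F, v ≠ 0 → ∀ c : F, x • v ≠ c • v) (y : SL2 F) :
    Sol x y ↔ y ∈ NTor x := by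
  have h2 := two_eq_zero p hp hF
  constructor
  · intro h
    rcases sol_cases p hp hF h with ⟨v, hv, ⟨c, hc⟩, _⟩ | ⟨g, hg, hτg, hx, hy⟩
    · exact absurd hc (hno v hv c)
    · have hxT := mem_Tor_of_tr_ne h2 g hg hτg x hx hτ
      rw [Subgroup.mem_centralizer_singleton_iff] at hxT
      rw [NTor_eq_of_commute g x hg hns hxT]
      exact hy
  · intro h
    rcases (mem_NTor_iff h2 x hns hτ y).mp h with hc | hc
    · have hc' : y * x = x * y := by
        calc y * x = y * x * y⁻¹ * y := by group
          _ = x * y := by rw [hc]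
      unfold Sol
      letI : CommGroup ↥(Subgroup.closure ({x, y} : Set (SL2 F))) :=
        Subgroup.closureCommGroupOfComm (by
          intro a ha b hb
          rcases ha with rfl | rfl <;> rcases hb with rfl | rfl
          · rfl
          · exact hc'.symm
          · exact hc'
          · rfl)
      exact Group.isSolvable_of_comm (fun a b => mul_comm a b)
    · have hy : y * y = 1 := sq_eq_one_of_tr h2 y (tr_eq_zero_of_conj_inv x y hns hc)
      have hxy : (x * y) * (x * y) = 1 := by
        calc (x * y) * (x * y) = x * (y * x * y⁻¹) * (y * y) := by group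
          _ = 1 := by rw [hc, hy, mul_inv_cancel, mul_one]
      exact sol_of_sq_mul hy hxy

end Cfsg.Agent.Lib.Helper1.SolZ4
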