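import Cfsg.Agent.Lib.Helper1.SolT1
import Cfsg.Agent.Lib.Helper1.SolT2
import Cfsg.Agent.Lib.Helper1.SolZ4

/-!
Solubilizers (helper1): traces and orders modulo the centre in `SL₂(F)`, and pairs of elements of
`SL₂(F)` generating a solvable subgroup for trace reasons.
-/

set_option autoImplicit false

namespace Cfsg.Agent.Lib.Helper1.SolT3

open Cfsg.Agent.Lib.Helper12.SL2 Cfsg.Agent.Lib.Helper1.SolZ1 Cfsg.Agent.Lib.Helper1.SolT2

variable {F : Type*} [Field F]

local notation "SL2" => Matrix.SpecialLinearGroup (Fin 2)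
local notation "M2" => Matrix (Fin 2) (Fin 2)
local notation "NonSc" => Cfsg.Agent.Lib.Helper12.SL2.NonScalar

theorem mem_center_iff_not_nonScalar (g : SL2 F) :
    g ∈ Subgroup.center (SL2 F) ↔ ¬ NonSc g := by
  rw [Cfsg.Agent.S2475.mem_center_iff']
  unfold Cfsg.Agent.Lib.Helper12.SL2.NonScalar
  rw [not_not]

theorem sq_mem_center_of_tr (g : SL2 F) (h : tr g = 0) : g * g ∈ Subgroup.center (SL2 F) := by
  rw [Cfsg.Agent.S2475.mem_center_iff']
  unfold tr at h
  simp only [mul_apply']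
  refine ⟨?_, ?_, ?_⟩
  · linear_combination g 0 1 * h
  · linear_combination g 1 0 * h
  · linear_combination (g 0 0 - g 1 1) * h

theorem cube_mem_center_of_tr (g : SL2 F) (h : tr g ^ 2 = 1) :
    g * g * g ∈ Subgroup.center (SL2 F) := by
  rw [Cfsg.Agent.S2475.mem_center_iff']
  have hd := Cfsg.Agent.Lib.Helper12.SL2.det_eq g
  unfold tr at h
  simp only [mul_apply']
  refine ⟨?_, ?_, ?_⟩
  · linear_combination g 0 1 * h + (-g 0 1) * hd
  · linear_combination g 1 0 * h + (-g 1 0) * hd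
  · linear_combination (g 0 0 - g 1 1) * h + (-(g 0 0 - g 1 1)) * hd

theorem tr_eq_zero_of_sq_mem_center (g : SL2 F) (hg : NonSc g)
    (h : g * g ∈ Subgroup.center (SL2 F)) : tr g = 0 := by
  rw [Cfsg.Agent.S2475.mem_center_iff'] at h
  simp only [mul_apply'] at h
  obtain ⟨h01, h10, h00⟩ := h
  by_contra hne
  apply hg
  unfold tr at hne
  refine ⟨?_, ?_, ?_⟩
  · have : g 0 1 * (g 0 0 + g 1 1) = 0 := by linear_combination h01
    exact (mul_eq_zero.mp this).resolve_right hne
  · have : g 1 0 * (g 0 0 + g 1 1) = 0 := by linear_combination h10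
    exact (mul_eq_zero.mp this).resolve_right hne
  · have : (g 0 0 - g 1 1) * (g 0 0 + g 1 1) = 0 := by linear_combination h00
    exact sub_eq_zero.mp ((mul_eq_zero.mp this).resolve_right hne)

theorem tr_sq_eq_one_of_cube_mem_center (g : SL2 F) (hg : NonSc g)
    (h : g * g * g ∈ Subgroup.center (SL2 F)) : tr g ^ 2 = 1 := by
  rw [Cfsg.Agent.S2475.mem_center_iff'] at h
  have hd := Cfsg.Agent.Lib.Helper12.SL2.det_eq g
  simp only [mul_apply'] at h
  obtain ⟨h01, h10, h00⟩ := h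
  by_contra hne
  apply hg
  unfold tr at hne
  have hne' : (g 0 0 + g 1 1) ^ 2 - 1 ≠ 0 := sub_ne_zero.mpr hne
  refine ⟨?_, ?_, ?_⟩
  · have : g 0 1 * ((g 0 0 + g 1 1) ^ 2 - 1) = 0 := by linear_combination h01 + g 0 1 * hd
    exact (mul_eq_zero.mp this).resolve_right hne'
  · have : g 1 0 * ((g 0 0 + g 1 1) ^ 2 - 1) = 0 := by linear_combination h10 + g 1 0 * hd
    exact (mul_eq_zero.mp this).resolve_right hne'
  · have : (g 0 0 - g 1 1) * ((g 0 0 + g 1 1) ^ 2 - 1) = 0 := by
      linear_combination h00 + (g 0 0 - g 1 1) * hd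
    exact sub_eq_zero.mp ((mul_eq_zero.mp this).resolve_right hne')

theorem tr_mul_comm (g h : SL2 F) : tr (g * h) = tr (h * g) := by
  unfold tr
  simp only [mul_apply']
  ring

local notation "π" => QuotientGroup.mk' (Subgroup.center (Matrix.SpecialLinearGroup (Fin 2) F))

theorem pi_sq_of_tr (g : SL2 F) (h : tr g = 0) : π g * π g = 1 := by
  rw [← map_mul]
  exact (QuotientGroup.eq_one_iff _).mpr (sq_mem_center_of_tr g h)

theorem pi_cube_of_tr (g : SL2 F) (h : tr g ^ 2 = 1) : π g * π g * π g = 1 := by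
  rw [← map_mul, ← map_mul]
  exact (QuotientGroup.eq_one_iff _).mpr (cube_mem_center_of_tr g h)

/-- two elements of trace zero generate a solvable group -/
theorem sol_of_tr_22 (a z : SL2 F) (ha : tr a = 0) (hz : tr z = 0) : Sol a z :=
  (sol_center_quot_iff a z).mp (sol_of_sq (pi_sq_of_tr a ha) (pi_sq_of_tr z hz))

theorem sol_of_tr_mul (x y : SL2 F) (hy : tr y = 0) (hxy : tr (x * y) = 0) : Sol x y := by
  apply (sol_center_quot_iff x y).mp
  apply sol_of_sq_mul (pi_sq_of_tr y hy)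
  rw [← map_mul]
  exact pi_sq_of_tr _ hxy

theorem sol_of_tr_mul' (x y : SL2 F) (hx : tr x = 0) (hxy : tr (x * y) = 0) : Sol x y := by
  apply (sol_center_quot_iff x y).mp
  apply sol_of_sq_mul' (pi_sq_of_tr x hx)
  rw [← map_mul]
  exact pi_sq_of_tr _ hxy

/-- trace zero, and two traces of square one -/
theorem sol_of_tr_233 (a z : SL2 F) (ha : tr a = 0) (hz : tr z ^ 2 = 1)
    (haz : tr (a * z) ^ 2 = 1) : Sol a z := by
  apply (sol_center_quot_iff a z).mp
  apply sol_of_233 (pi_sq_of_tr a ha) (pi_cube_of_tr z hz)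
  rw [← map_mul]
  exact pi_cube_of_tr _ haz

end Cfsg.Agent.Lib.Helper1.SolT3
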