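import Cfsg.Agent.Lib.Helper1.SolT3

/-!
Solubilizers (helper1): the solubilizers of elements of `SL₂(F)`, `|F| = 3 ^ p` with `p` an odd
prime, described by equations.
-/

set_option autoImplicit false

namespace Cfsg.Agent.Lib.Helper1.SolT4

open Cfsg.Agent.Lib.Helper12.SL2 Cfsg.Agent.Lib.Helper1.SolZ1 Cfsg.Agent.Lib.Helper1.SolZ2
  Cfsg.Agent.Lib.Helper1.SolZ3 Cfsg.Agent.Lib.Helper1.SolZ4 Cfsg.Agent.Lib.Helper1.DkOrders
  Cfsg.Agent.Lib.Helper1.SolT1 Cfsg.Agent.Lib.Helper1.SolT2 Cfsg.Agent.Lib.Helper1.SolT3

variable {F : Type*} [Field F] [Fintype F]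

local notation "SL2" => Matrix.SpecialLinearGroup (Fin 2)
local notation "NonSc" => Cfsg.Agent.Lib.Helper12.SL2.NonScalar

theorem three_eq_zero (p : ℕ) (hp : p.Prime) (hF : Fintype.card F = 3 ^ p) : (3 : F) = 0 := by
  have hc : ((Fintype.card F : ℕ) : F) = 0 := Nat.cast_card_eq_zero F
  rw [hF] at hc
  push_cast at hc
  exact pow_eq_zero_iff hp.ne_zero |>.mp hc

theorem two_ne_zero' (h3 : (3 : F) = 0) : (2 : F) ≠ 0 := by
  intro h
  have : (1 : F) = 0 := by linear_combination h3 - h
  exact one_ne_zero this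

theorem four_le3 (p : ℕ) (hp : p.Prime) (hF : Fintype.card F = 3 ^ p) : 4 ≤ Fintype.card F := by
  rw [hF]
  calc 4 ≤ 3 ^ 2 := by norm_num
    _ ≤ 3 ^ p := Nat.pow_le_pow_right (by norm_num) hp.two_le

theorem not_isSquare_neg_one (p : ℕ) (hodd : Odd p) (hF : Fintype.card F = 3 ^ p) :
    ¬ IsSquare (-1 : F) := by
  rw [FiniteField.isSquare_neg_one_iff]
  have := q_mod hodd hF
  omega

/-- elements with trace in the prime field -/
theorem cube_cases (h3 : (3 : F) = 0) {t : F} (h : t ^ 3 = t) : t = 0 ∨ t ^ 2 = 1 := by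
  have : t * (t ^ 2 - 1) = 0 := by linear_combination h
  rcases mul_eq_zero.mp this with h' | h'
  · exact Or.inl h'
  · exact Or.inr (sub_eq_zero.mp h')

/-- the three possibilities for a pair generating a solvable subgroup -/
theorem sol_cases3 (p : ℕ) (hp : p.Prime) (hodd : Odd p) (hF : Fintype.card F = 3 ^ p)
    {x y : SL2 F} (h : Sol x y) :
    (∃ v : Fin 2 → F, v ≠ 0 ∧ (∃ c : F, x • v = c • v) ∧ (∃ c : F, y • v = c • v)) ∨
    (∃ g : SL2 F, NonSc g ∧ tr g ^ 2 ≠ 4 ∧ x ∈ NTor g ∧ y ∈ NTor g) ∨
    (tr x ^ 3 = tr x ∧ tr y ^ 3 = tr y ∧ tr (x * y) ^ 3 = tr (x * y)) := by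
  obtain ⟨M, hM, hx, hy⟩ := exists_coatom_of_sol (not_solvable_SL2 (four_le3 p hp hF)) h
  have h3 := three_eq_zero p hp hF
  have hsq := not_isSquare_neg_one p hodd hF
  rcases coatom_three p hp hodd hF hM with ⟨v, hv, hfix⟩ | ⟨g, hg, hΔ, rfl⟩ | h24
  · exact Or.inl ⟨v, hv, hfix x hx, hfix y hy⟩
  · exact Or.inr (Or.inl ⟨g, hg, hΔ, hx, hy⟩)
  · right; right
    exact ⟨tr_cube_eq_of_pow h3 hsq x (h24 x hx), tr_cube_eq_of_pow h3 hsq y (h24 y hy),
      tr_cube_eq_of_pow h3 hsq _ (h24 _ (M.mul_mem hx hy))⟩

/-! ### elements of order three -/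

theorem tr_up (b : F) : tr (up b) = 2 := by
  unfold tr
  simp only [up, mk_00, mk_11]
  norm_num

theorem four_eq_one (h3 : (3 : F) = 0) : (4 : F) = 1 := by linear_combination h3

/-- the solubilizer of a unipotent element -/
theorem sol_up3_iff (p : ℕ) (hp : p.Prime) (hodd : Odd p) (hF : Fintype.card F = 3 ^ p) {b : F}
    (hb : b ≠ 0) (y : SL2 F) :
    Sol (up b) y ↔ y 1 0 = 0 ∨ ((b * y 1 0) ^ 2 = 1 ∧ tr y ^ 3 = tr y) := by
  have h3 := three_eq_zero p hp hF
  have h2 := two_ne_zero' h3
  have h4 := four_eq_one h3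
  have hup2 : tr (up b) ^ 2 = 1 := by rw [tr_up]; linear_combination h3
  constructor
  · intro h
    rcases sol_cases3 p hp hodd hF h with ⟨v, hv, ⟨c, hc⟩, ⟨c', hc'⟩⟩ | ⟨g, hg, hΔ, hx, hy⟩ |
      ⟨_, hty, htxy⟩
    · left
      have h1 : v 1 = 0 := by
        by_contra h1
        have e1 := congrFun hc 1
        have e0 := congrFun hc 0
        rw [Cfsg.Agent.Lib.Helper12.SL2.smul_apply] at e0 e1
        simp only [up, mk_00, mk_01, mk_10, mk_11, Pi.smul_apply, smul_eq_mul, zero_mul, zero_add,
          one_mul] at e0 e1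
        have hc1 : c = 1 := by
          have : (c - 1) * v 1 = 0 := by linear_combination -e1
          exact sub_eq_zero.mp ((mul_eq_zero.mp this).resolve_right h1)
        rw [hc1, one_mul] at e0
        have : b * v 1 = 0 := by linear_combination e0
        exact h1 ((mul_eq_zero.mp this).resolve_left hb)
      exact lower_left_of_eigen y v hv h1 c' hc'
    · exfalso
      by_cases hT : up b ∈ Tor g
      · rw [Subgroup.mem_centralizer_singleton_iff] at hT
        have hg' : g ∈ Subgroup.centralizer ({up b} : Set (SL2 F)) :=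
          Subgroup.mem_centralizer_singleton_iff.mpr hT.symm
        obtain ⟨h10, h00⟩ := (mem_centralizer_up hb g).mp hg'
        apply hΔ
        have hd := Cfsg.Agent.Lib.Helper12.SL2.det_eq g
        unfold tr
        rw [h10, mul_zero, sub_zero, ← h00] at hd
        rw [← h00]
        linear_combination (4 : F) * hd
      · have := Cfsg.Agent.Lib.Helper12.SL2.tr_eq_zero_of_not_mem h2 g hΔ (up b) hx hT
        rw [tr_up] at this
        exact h2 this
    · rw [tr_up_mul] at htxy
      have hu : (b * y 1 0) ^ 3 = b * y 1 0 := by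
        linear_combination htxy - hty - (tr y ^ 2 * (b * y 1 0) + tr y * (b * y 1 0) ^ 2) * h3
      rcases cube_cases h3 hu with h0 | h1
      · left
        exact (mul_eq_zero.mp h0).resolve_left hb
      · right
        exact ⟨h1, hty⟩
  · rintro (h | ⟨hu, ht⟩)
    · haveI := Cfsg.Agent.Lib.Helper1.DkSolv.Bor_solvable (F := F)
      exact sol_of_le (Bor F) (by rw [mem_Bor]; rfl) (by rw [mem_Bor]; exact h)
    · rcases cube_cases h3 ht with h0 | h1
      · apply sol_comm
        apply sol_of_tr_233 y (up b) h0 hup2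
        rw [tr_mul_comm, tr_up_mul, h0, zero_add]
        exact hu
      · have hprod : (tr y + b * y 1 0) * (tr y - b * y 1 0) = 0 := by
          linear_combination h1 - hu
        rcases mul_eq_zero.mp hprod with hs | hs
        · have hS : Sol (up b * y) y⁻¹ := by
            apply sol_of_tr_233 _ _ (by rw [tr_up_mul]; exact hs) (by rw [tr_inv]; exact h1)
            rw [mul_inv_cancel_right]
            exact hup2
          apply sol_of_closure_le hS
          · have h1' : up b * y ∈ Subgroup.closure ({up b * y, y⁻¹} : Set (SL2 F)) :=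
              Subgroup.subset_closure (by simp)
            have h2' : y⁻¹ ∈ Subgroup.closure ({up b * y, y⁻¹} : Set (SL2 F)) :=
              Subgroup.subset_closure (by simp)
            have := Subgroup.mul_mem _ h1' h2'
            rwa [mul_inv_cancel_right] at this
          · have h2' : y⁻¹ ∈ Subgroup.closure ({up b * y, y⁻¹} : Set (SL2 F)) :=
              Subgroup.subset_closure (by simp)
            have := Subgroup.inv_mem _ h2'
            rwa [inv_inv] at this
        · have hinv : up b = (up (-b))⁻¹ := by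
            apply eq_inv_of_mul_eq_one_right
            rw [← up_add, neg_add_cancel, up_zero]
          have hS : Sol (up (-b) * y) y⁻¹ := by
            apply sol_of_tr_233 _ _ (by rw [tr_up_mul]; linear_combination hs)
              (by rw [tr_inv]; exact h1)
            rw [mul_inv_cancel_right, tr_up]
            linear_combination h3
          apply sol_of_closure_le hS
          · have h1' : up (-b) * y ∈ Subgroup.closure ({up (-b) * y, y⁻¹} : Set (SL2 F)) :=
              Subgroup.subset_closure (by simp)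
            have h2' : y⁻¹ ∈ Subgroup.closure ({up (-b) * y, y⁻¹} : Set (SL2 F)) :=
              Subgroup.subset_closure (by simp)
            have := Subgroup.inv_mem _ (Subgroup.mul_mem _ h1' h2')
            rwa [mul_inv_cancel_right, ← hinv] at this
          · have h2' : y⁻¹ ∈ Subgroup.closure ({up (-b) * y, y⁻¹} : Set (SL2 F)) :=
              Subgroup.subset_closure (by simp)
            have := Subgroup.inv_mem _ h2'
            rwa [inv_inv] at this

/-! ### elements of trace zero -/

/-- the standard element of trace zero -/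
def wm : SL2 F := mk 0 1 (-1) 0 (by ring)

theorem tr_wm : tr (wm : SL2 F) = 0 := by
  unfold tr
  simp only [wm, mk_00, mk_11]
  ring

theorem tr_wm_mul (y : SL2 F) : tr (wm * y) = y 1 0 - y 0 1 := by
  unfold tr
  simp only [mul_apply', wm, mk_00, mk_01, mk_10, mk_11]
  ring

theorem nonScalar_wm : NonSc (wm : SL2 F) := by
  rintro ⟨h01, _, _⟩
  simp only [wm, mk_01] at h01
  exact one_ne_zero h01

theorem commute_wm_iff (y : SL2 F) : y * wm = wm * y ↔ y 0 0 = y 1 1 ∧ y 1 0 = -y 0 1 := by
  constructor
  · intro h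
    have e00 := congrArg (fun z : SL2 F => z 0 0) h
    have e01 := congrArg (fun z : SL2 F => z 0 1) h
    simp only [mul_apply', wm, mk_00, mk_01, mk_10, mk_11] at e00 e01
    constructor
    · linear_combination e01
    · linear_combination -e00
  · rintro ⟨h1, h2⟩
    apply ext4 <;> simp only [mul_apply', wm, mk_00, mk_01, mk_10, mk_11]
    · linear_combination -h2
    · linear_combination h1
    · linear_combination h1
    · linear_combination h2

/-- the solubilizer of an element of trace zero -/
theorem sol_wm_iff (p : ℕ) (hp : p.Prime) (hodd : Odd p) (hF : Fintype.card F = 3 ^ p)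
    (y : SL2 F) :
    Sol (wm : SL2 F) y ↔ (y 0 0 = y 1 1 ∧ y 1 0 = -y 0 1) ∨ tr y = 0 ∨ y 1 0 - y 0 1 = 0 ∨
      (tr y ^ 2 = 1 ∧ (y 1 0 - y 0 1) ^ 2 = 1) := by
  have h3 := three_eq_zero p hp hF
  have h2 := two_ne_zero' h3
  have h4 := four_eq_one h3
  have hsq := not_isSquare_neg_one p hodd hF
  have hΔw : tr (wm : SL2 F) ^ 2 ≠ 4 := by
    rw [tr_wm, h4]
    norm_num
  constructor
  · intro h
    rcases sol_cases3 p hp hodd hF h with ⟨v, hv, ⟨c, hc⟩, _⟩ | ⟨g, hg, hΔ, hx, hy⟩ |
      ⟨_, hty, htxy⟩
    · exfalso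
      have e0 := congrFun hc 0
      have e1 := congrFun hc 1
      rw [Cfsg.Agent.Lib.Helper12.SL2.smul_apply] at e0 e1
      simp only [wm, mk_00, mk_01, mk_10, mk_11, Pi.smul_apply, smul_eq_mul, zero_mul, zero_add,
        add_zero, one_mul] at e0 e1
      have hv0 : v 0 ≠ 0 := by
        intro h0
        apply hv
        ext i
        fin_cases i
        · exact h0
        · show v 1 = 0
          rw [e0, h0, mul_zero]
      apply hsq
      refine ⟨c, ?_⟩
      have : (c * c + 1) * v 0 = 0 := by linear_combination (-c) * e0 - e1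
      have := (mul_eq_zero.mp this).resolve_right hv0
      linear_combination -this
    · by_cases hT : (wm : SL2 F) ∈ Tor g
      · rw [Subgroup.mem_centralizer_singleton_iff] at hT
        have hN : NTor (wm : SL2 F) = NTor g := NTor_eq_of_commute g wm hg nonScalar_wm hT
        rw [← hN] at hy
        rcases (Cfsg.Agent.Lib.Helper12.SL2.mem_normalizer_centralizer_iff h2 wm hΔw y).mp hy
          with hc | hc
        · left
          apply (commute_wm_iff y).mp
          calc y * wm = y * wm * y⁻¹ * y := by group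
            _ = wm * y := by rw [hc]
        · right; left
          exact tr_eq_zero_of_conj_inv wm y nonScalar_wm hc
      · by_cases hyT : y ∈ Tor g
        · right; right; left
          rw [← tr_wm_mul]
          apply Cfsg.Agent.Lib.Helper12.SL2.tr_eq_zero_of_not_mem h2 g hΔ _
            ((NTor g).mul_mem hx hy)
          intro hmem
          apply hT
          have := (Tor g).mul_mem hmem ((Tor g).inv_mem hyT)
          rwa [mul_inv_cancel_right] at this
        · right; left
          exact Cfsg.Agent.Lib.Helper12.SL2.tr_eq_zero_of_not_mem h2 g hΔ y hy hyT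
    · rw [tr_wm_mul] at htxy
      rcases cube_cases h3 hty with h0 | h1
      · exact Or.inr (Or.inl h0)
      · rcases cube_cases h3 htxy with h0' | h1'
        · exact Or.inr (Or.inr (Or.inl h0'))
        · exact Or.inr (Or.inr (Or.inr ⟨h1, h1'⟩))
  · rintro (h | h | h | ⟨h1, h1'⟩)
    · exact sol_of_commute ((commute_wm_iff y).mpr h).symm
    · exact sol_of_tr_22 wm y tr_wm h
    · exact sol_of_tr_mul' wm y tr_wm (by rw [tr_wm_mul]; exact h)
    · exact sol_of_tr_233 wm y tr_wm h1 (by rw [tr_wm_mul]; exact h1')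

/-! ### split semisimple elements -/

theorem wm_conj_10 (y : SL2 F) : ((wm : SL2 F) * y * (wm : SL2 F)⁻¹) 1 0 = -y 0 1 := by
  simp only [mul_apply', inv_00, inv_01, inv_10, inv_11]
  simp only [wm, mk_00, mk_01, mk_10, mk_11]
  ring

/-- the solubilizer of a split semisimple element -/
theorem sol_dg3_iff (p : ℕ) (hp : p.Prime) (hodd : Odd p) (hF : Fintype.card F = 3 ^ p) {a : F}
    (ha : a ≠ 0) (ha1 : a ^ 2 ≠ 1) (y : SL2 F) :
    Sol (dg a ha) y ↔ y 1 0 = 0 ∨ y 0 1 = 0 ∨ (y 0 0 = 0 ∧ y 1 1 = 0) := by
  have h3 := three_eq_zero p hp hF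
  have h2 := two_ne_zero' h3
  have h4 := four_eq_one h3
  have hsq := not_isSquare_neg_one p hodd hF
  have hne : a ≠ a⁻¹ := by
    intro h
    apply ha1
    rw [pow_two]
    calc a * a = a * a⁻¹ := by rw [← h]
      _ = 1 := mul_inv_cancel₀ ha
  have hsub : a - a⁻¹ ≠ 0 := sub_ne_zero.mpr hne
  have haa : a * a⁻¹ = 1 := mul_inv_cancel₀ ha
  have htx : tr (dg a ha) = a + a⁻¹ := by
    unfold tr
    simp only [dg, mk_00, mk_11]
  have htx0 : tr (dg a ha) ≠ 0 := by
    rw [htx]
    intro h0
    apply hsq
    refine ⟨a, ?_⟩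
    linear_combination (-a) * h0 + haa
  constructor
  · intro h
    rcases sol_cases3 p hp hodd hF h with ⟨v, hv, ⟨c, hc⟩, ⟨c', hc'⟩⟩ | ⟨g, hg, hΔ, hx, hy⟩ |
      ⟨htx3, _, _⟩
    · have e0 := congrFun hc 0
      have e1 := congrFun hc 1
      rw [Cfsg.Agent.Lib.Helper12.SL2.smul_apply] at e0 e1
      simp only [dg, mk_00, mk_01, mk_10, mk_11, Pi.smul_apply, smul_eq_mul, zero_mul, zero_add,
        add_zero] at e0 e1
      by_cases h1 : v 1 = 0
      · left
        exact lower_left_of_eigen y v hv h1 c' hc'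
      · right; left
        have hc1 : c = a⁻¹ := by
          have : (a⁻¹ - c) * v 1 = 0 := by linear_combination e1
          exact (sub_eq_zero.mp ((mul_eq_zero.mp this).resolve_right h1)).symm
        have h0 : v 0 = 0 := by
          have : (a - a⁻¹) * v 0 = 0 := by rw [← hc1]; linear_combination e0
          exact (mul_eq_zero.mp this).resolve_left hsub
        exact upper_right_of_eigen y v hv h0 c' hc'
    · have hxT : dg a ha ∈ Tor g := by
        by_contra hnot
        exact htx0 (Cfsg.Agent.Lib.Helper12.SL2.tr_eq_zero_of_not_mem h2 g hΔ _ hx hnot)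
      rw [Subgroup.mem_centralizer_singleton_iff] at hxT
      -- g is diagonal
      have e01 := congrArg (fun z : SL2 F => z 0 1) hxT
      have e10 := congrArg (fun z : SL2 F => z 1 0) hxT
      simp only [mul_apply', dg, mk_00, mk_01, mk_10, mk_11, zero_mul, mul_zero, add_zero,
        zero_add] at e01 e10
      have g01 : g 0 1 = 0 := by
        have : (a - a⁻¹) * g 0 1 = 0 := by linear_combination e01
        exact (mul_eq_zero.mp this).resolve_left hsub
      have g10 : g 1 0 = 0 := by
        have : (a - a⁻¹) * g 1 0 = 0 := by linear_combination -e10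
        exact (mul_eq_zero.mp this).resolve_left hsub
      have gne : g 0 0 - g 1 1 ≠ 0 := by
        intro h0
        exact hg ⟨g01, g10, sub_eq_zero.mp h0⟩
      rcases (Cfsg.Agent.Lib.Helper12.SL2.mem_normalizer_centralizer_iff h2 g hΔ y).mp hy
        with hc | hc
      · left
        have hc' : y * g = g * y := by
          calc y * g = y * g * y⁻¹ * y := by group
            _ = g * y := by rw [hc]
        have e := congrArg (fun z : SL2 F => z 1 0) hc'
        simp only [mul_apply', g01, g10, mul_zero, zero_mul, add_zero, zero_add] at e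
        have : (g 0 0 - g 1 1) * y 1 0 = 0 := by linear_combination e
        exact (mul_eq_zero.mp this).resolve_left gne
      · right; right
        have hc' : y * g = g⁻¹ * y := by
          calc y * g = y * g * y⁻¹ * y := by group
            _ = g⁻¹ * y := by rw [hc]
        have e00 := congrArg (fun z : SL2 F => z 0 0) hc'
        have e11 := congrArg (fun z : SL2 F => z 1 1) hc'
        simp only [mul_apply', inv_00, inv_01, inv_10, inv_11, g01, g10, mul_zero, zero_mul,
          add_zero, zero_add, neg_zero] at e00 e11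
        constructor
        · have : (g 0 0 - g 1 1) * y 0 0 = 0 := by linear_combination e00
          exact (mul_eq_zero.mp this).resolve_left gne
        · have : (g 0 0 - g 1 1) * y 1 1 = 0 := by linear_combination -e11
          exact (mul_eq_zero.mp this).resolve_left gne
    · exfalso
      rcases cube_cases h3 htx3 with h0 | h1
      · exact htx0 h0
      · rw [htx] at h1
        apply ha1
        have hq : (a ^ 2 - 1) ^ 2 = 0 := by
          linear_combination a ^ 2 * h1 + (-2 * a ^ 2 - (a * a⁻¹ + 1)) * haa - a ^ 2 * h3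
        exact sub_eq_zero.mp (pow_eq_zero_iff (by norm_num) |>.mp hq)
  · rintro (h | h | ⟨h00, h11⟩)
    · haveI := Cfsg.Agent.Lib.Helper1.DkSolv.Bor_solvable (F := F)
      exact sol_of_le (Bor F) (by rw [mem_Bor]; rfl) (by rw [mem_Bor]; exact h)
    · haveI := Cfsg.Agent.Lib.Helper1.DkSolv.Bor_solvable (F := F)
      rw [← sol_map_iff (MulAut.conj (wm : SL2 F))]
      apply sol_of_le (Bor F)
      · rw [mem_Bor]
        show ((wm : SL2 F) * dg a ha * (wm : SL2 F)⁻¹) 1 0 = 0
        rw [wm_conj_10]
        simp only [dg, mk_01, neg_zero]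
      · rw [mem_Bor]
        show ((wm : SL2 F) * y * (wm : SL2 F)⁻¹) 1 0 = 0
        rw [wm_conj_10, h, neg_zero]
    · have hy : tr y = 0 := by unfold tr; rw [h00, h11, add_zero]
      have hxy : tr (dg a ha * y) = 0 := by
        unfold tr
        simp only [mul_apply', dg, mk_00, mk_01, mk_10, mk_11, h00, h11]
        ring
      exact sol_of_tr_mul _ y hy hxy

/-! ### non-split semisimple elements -/

/-- the solubilizer of an element without eigenvectors and of nonzero trace -/
theorem sol_nonsplit3_iff (p : ℕ) (hp : p.Prime) (hodd : Odd p) (hF : Fintype.card F = 3 ^ p)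
    (x : SL2 F) (hΔx : tr x ^ 2 ≠ 4) (hτ : tr x ≠ 0)
    (hno : ∀ v : Fin 2 → F, v ≠ 0 → ∀ c : F, x • v ≠ c • v) (y : SL2 F) :
    Sol x y ↔ y ∈ NTor x := by
  have h3 := three_eq_zero p hp hF
  have h2 := two_ne_zero' h3
  have h4 := four_eq_one h3
  have hns : NonSc x := nonScalar_of_tr x hΔx
  constructor
  · intro h
    rcases sol_cases3 p hp hodd hF h with ⟨v, hv, ⟨c, hc⟩, _⟩ | ⟨g, hg, hΔ, hx, hy⟩ |
      ⟨htx3, _, _⟩
    · exact absurd hc (hno v hv c)
    · have hxT : x ∈ Tor g := by
        by_contra hnot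
        exact hτ (Cfsg.Agent.Lib.Helper12.SL2.tr_eq_zero_of_not_mem h2 g hΔ _ hx hnot)
      rw [Subgroup.mem_centralizer_singleton_iff] at hxT
      rw [NTor_eq_of_commute g x hg hns hxT]
      exact hy
    · exfalso
      rcases cube_cases h3 htx3 with h0 | h1
      · exact hτ h0
      · apply hΔx
        rw [h1, h4]
  · intro h
    rcases (Cfsg.Agent.Lib.Helper12.SL2.mem_normalizer_centralizer_iff h2 x hΔx y).mp h
      with hc | hc
    · have hc' : y * x = x * y := by
        calc y * x = y * x * y⁻¹ * y := by group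
          _ = x * y := by rw [hc]
      exact sol_of_commute hc'.symm
    · have hy : tr y = 0 := tr_eq_zero_of_conj_inv x y hns hc
      have hxy : tr (x * y) = 0 := by
        apply tr_eq_zero_of_conj_inv x (x * y) hns
        calc x * y * x * (x * y)⁻¹ = x * (y * x * y⁻¹) * x⁻¹ := by group
          _ = x⁻¹ := by rw [hc]; group
      exact sol_of_tr_mul x y hy hxy

end Cfsg.Agent.Lib.Helper1.SolT4
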