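import Cfsg.Agent.Lib.Helper1.SolZ4

/-!
Solubilizers (helper1): the counts.
-/

set_option autoImplicit false

namespace Cfsg.Agent.Lib.Helper1.SolZ5

open Cfsg.Agent.Lib.Helper12.SL2 Cfsg.Agent.Lib.Helper1.SolZ1 Cfsg.Agent.Lib.Helper1.SolZ2
  Cfsg.Agent.Lib.Helper1.SolZ3 Cfsg.Agent.Lib.Helper1.SolZ4 Cfsg.Agent.Lib.Helper1.DkOrders

variable {F : Type*} [Field F]

local notation "SL2" => Matrix.SpecialLinearGroup (Fin 2)

/-- the big cell: elements with nonzero lower-left entry -/
noncomputable def bigCell : {y : SL2 F // y 1 0 ≠ 0} ≃ F × F × Fˣ where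
  toFun y := (y.1 0 0, y.1 1 1, Units.mk0 (y.1 1 0) y.2)
  invFun t := ⟨mk t.1 ((t.1 * t.2.1 - 1) / (t.2.2 : F)) (t.2.2 : F) t.2.1 (by
      have := t.2.2.ne_zero
      field_simp
      ring), by
      rw [mk_10]
      exact t.2.2.ne_zero⟩
  left_inv y := by
    apply Subtype.ext
    apply ext4
    · rfl
    · show (y.1 0 0 * y.1 1 1 - 1) / y.1 1 0 = y.1 0 1
      rw [div_eq_iff y.2]
      linear_combination det_eq y.1
    · rfl
    · rfl
  right_inv t := by
    refine Prod.ext rfl (Prod.ext rfl ?_)
    apply Units.ext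
    rfl

theorem bigCell_symm_00 (t : F × F × Fˣ) : (bigCell.symm t).1 0 0 = t.1 := rfl
theorem bigCell_symm_11 (t : F × F × Fˣ) : (bigCell.symm t).1 1 1 = t.2.1 := rfl
theorem bigCell_symm_10 (t : F × F × Fˣ) : (bigCell.symm t).1 1 0 = (t.2.2 : F) := rfl
theorem bigCell_symm_01 (t : F × F × Fˣ) :
    (bigCell.symm t).1 0 1 = (t.1 * t.2.1 - 1) / (t.2.2 : F) := rfl

/-- splitting a count along the Bruhat decomposition -/
theorem card_split [Fintype F] (P : SL2 F → Prop) (hP : ∀ y : SL2 F, y 1 0 = 0 → P y) :
    Nat.card {y : SL2 F // P y} = (Fintype.card F - 1) * Fintype.card F +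
      Nat.card {t : F × F × Fˣ // P (bigCell.symm t).1} := by
  classical
  have e : {y : SL2 F // P y} ≃ ↥(Bor F) ⊕ {t : F × F × Fˣ // P (bigCell.symm t).1} :=
    { toFun := fun z =>
        if h : z.1 1 0 = 0 then Sum.inl ⟨z.1, h⟩
        else Sum.inr ⟨bigCell ⟨z.1, h⟩, by rw [Equiv.symm_apply_apply]; exact z.2⟩
      invFun := Sum.elim (fun y => ⟨y.1, hP y.1 y.2⟩) (fun t => ⟨(bigCell.symm t.1).1, t.2⟩)
      left_inv := by
        intro z
        by_cases h : z.1 1 0 = 0
        · simp only [h, dite_true, Sum.elim_inl]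
        · simp only [h, dite_false, Sum.elim_inr, Equiv.symm_apply_apply]
      right_inv := by
        intro s
        rcases s with y | t
        · have h : (y : SL2 F) 1 0 = 0 := y.2
          simp only [Sum.elim_inl]
          exact dif_pos h
        · have h : (bigCell.symm t.1).1 1 0 ≠ 0 := (bigCell.symm t.1).2
          simp only [Sum.elim_inr]
          exact (dif_neg h).trans (congrArg Sum.inr (Subtype.ext (bigCell.apply_symm_apply t.1))) }
  rw [Nat.card_congr e, Nat.card_sum, card_Bor]

/-- the count for an involution -/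
theorem card_inv_set [Fintype F] (h2 : (2 : F) = 0) {b : F} (hb : b ≠ 0) :
    Nat.card {y : SL2 F // y 1 0 = 0 ∨ tr y = 0 ∨ tr y + b * y 1 0 = 0} =
      3 * Fintype.card F * (Fintype.card F - 1) := by
  classical
  rw [card_split _ (fun y h => Or.inl h)]
  have hcount : Nat.card {t : F × F × Fˣ // (bigCell.symm t).1 1 0 = 0 ∨
      tr (bigCell.symm t).1 = 0 ∨ tr (bigCell.symm t).1 + b * (bigCell.symm t).1 1 0 = 0} =
      Nat.card (F × Fˣ × Bool) := by
    symm
    apply Nat.card_eq_of_bijective (fun u : F × Fˣ × Bool =>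
      (⟨(u.1, u.1 + (if u.2.2 then b * (u.2.1 : F) else 0), u.2.1), by
        unfold tr
        rw [bigCell_symm_00, bigCell_symm_11, bigCell_symm_10]
        right
        rcases hβ : u.2.2 with _ | _
        · left
          simp only [Bool.false_eq_true, if_false, add_zero]
          linear_combination u.1 * h2
        · right
          simp only [if_true]
          linear_combination (u.1 + b * (u.2.1 : F)) * h2⟩ :
        {t : F × F × Fˣ // (bigCell.symm t).1 1 0 = 0 ∨
          tr (bigCell.symm t).1 = 0 ∨ tr (bigCell.symm t).1 + b * (bigCell.symm t).1 1 0 = 0}))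
    constructor
    · intro u u' huu
      have h := congrArg Subtype.val huu
      simp only [Prod.mk.injEq] at h
      obtain ⟨ha, hd, hc⟩ := h
      have hbc : b * (u'.2.1 : F) ≠ 0 := mul_ne_zero hb u'.2.1.ne_zero
      refine Prod.ext ha (Prod.ext hc ?_)
      rw [ha, hc] at hd
      have hd' : (if u.2.2 then b * (u'.2.1 : F) else 0) = (if u'.2.2 then b * (u'.2.1 : F) else 0) :=
        add_left_cancel hd
      rcases h1 : u.2.2 with _ | _ <;> rcases h2' : u'.2.2 with _ | _
      · rfl
      · exfalso
        rw [h1, h2'] at hd'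
        simp only [Bool.false_eq_true, if_false, if_true] at hd'
        exact hbc hd'.symm
      · exfalso
        rw [h1, h2'] at hd'
        simp only [Bool.false_eq_true, if_false, if_true] at hd'
        exact hbc hd'
      · rfl
    · rintro ⟨⟨a, d, c⟩, hQ⟩
      unfold tr at hQ
      rw [bigCell_symm_00, bigCell_symm_11, bigCell_symm_10] at hQ
      simp only at hQ
      rcases hQ with h | h | h
      · exact absurd h c.ne_zero
      · refine ⟨(a, c, false), ?_⟩
        apply Subtype.ext
        simp only [Bool.false_eq_true, if_false, add_zero, Prod.mk.injEq, true_and, and_true]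
        linear_combination h - d * h2
      · refine ⟨(a, c, true), ?_⟩
        apply Subtype.ext
        simp only [if_true, Prod.mk.injEq, true_and, and_true]
        linear_combination h - d * h2
  rw [hcount, Nat.card_prod, Nat.card_prod, Nat.card_eq_fintype_card (α := F),
    Nat.card_eq_fintype_card (α := Fˣ), Fintype.card_units, Nat.card_eq_fintype_card (α := Bool),
    Fintype.card_bool]
  ring

/-- the count for a split semisimple element -/
theorem card_dg_set [Fintype F] :
    Nat.card {y : SL2 F // y 1 0 = 0 ∨ y 0 1 = 0 ∨ (y 0 0 = 0 ∧ y 1 1 = 0)} =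
      2 * Fintype.card F * (Fintype.card F - 1) := by
  classical
  rw [card_split _ (fun y h => Or.inl h)]
  have hcount : Nat.card {t : F × F × Fˣ // (bigCell.symm t).1 1 0 = 0 ∨
      (bigCell.symm t).1 0 1 = 0 ∨ ((bigCell.symm t).1 0 0 = 0 ∧ (bigCell.symm t).1 1 1 = 0)} =
      Nat.card (Option Fˣ × Fˣ) := by
    symm
    apply Nat.card_eq_of_bijective (fun u : Option Fˣ × Fˣ =>
      (⟨(match u.1 with | some w => ((w : F), ((w⁻¹ : Fˣ) : F), u.2) | none => (0, 0, u.2)), by
        rw [bigCell_symm_00, bigCell_symm_11, bigCell_symm_10, bigCell_symm_01]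
        right
        rcases u with ⟨_ | w, c⟩
        · right
          exact ⟨rfl, rfl⟩
        · left
          simp⟩ :
        {t : F × F × Fˣ // (bigCell.symm t).1 1 0 = 0 ∨
          (bigCell.symm t).1 0 1 = 0 ∨ ((bigCell.symm t).1 0 0 = 0 ∧ (bigCell.symm t).1 1 1 = 0)}))
    constructor
    · rintro ⟨_ | w, c⟩ ⟨_ | w', c'⟩ huu
      · have h := congrArg Subtype.val huu
        simp only [Prod.mk.injEq] at h
        exact Prod.ext rfl h.2.2
      · have h := congrArg Subtype.val huu
        simp only [Prod.mk.injEq] at h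
        exact absurd h.1.symm w'.ne_zero
      · have h := congrArg Subtype.val huu
        simp only [Prod.mk.injEq] at h
        exact absurd h.1 w.ne_zero
      · have h := congrArg Subtype.val huu
        simp only [Prod.mk.injEq] at h
        have hw : w = w' := Units.ext h.1
        exact Prod.ext (by rw [hw]) h.2.2
    · rintro ⟨⟨a, d, c⟩, hQ⟩
      rw [bigCell_symm_00, bigCell_symm_11, bigCell_symm_10, bigCell_symm_01] at hQ
      simp only at hQ
      rcases hQ with h | h | ⟨h0, h1⟩
      · exact absurd h c.ne_zero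
      · have had : a * d = 1 := by
          rw [div_eq_zero_iff] at h
          rcases h with h | h
          · exact sub_eq_zero.mp h
          · exact absurd h c.ne_zero
        have ha : a ≠ 0 := by
          rintro rfl
          rw [zero_mul] at had
          exact zero_ne_one had
        refine ⟨(some (Units.mk0 a ha), c), ?_⟩
        apply Subtype.ext
        simp only [Units.val_mk0, Prod.mk.injEq, true_and, and_true]
        rw [Units.val_inv_eq_inv_val, Units.val_mk0]
        exact (eq_inv_of_mul_eq_one_right had).symm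
      · refine ⟨(none, c), ?_⟩
        apply Subtype.ext
        simp only [Prod.mk.injEq, and_true]
        exact ⟨h0.symm, h1.symm⟩
  rw [hcount, Nat.card_prod, Nat.card_eq_fintype_card (α := Option Fˣ), Fintype.card_option,
    Nat.card_eq_fintype_card (α := Fˣ), Fintype.card_units]
  have hq : 1 ≤ Fintype.card F := Fintype.card_pos
  have : Fintype.card F - 1 + 1 = Fintype.card F := by omega
  rw [this]
  ring

end Cfsg.Agent.Lib.Helper1.SolZ5
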