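import Cfsg.Agent.Lib.Helper1.SolT4
import Cfsg.Agent.Lib.Helper1.SolZ5
import Cfsg.Agent.Lib.Helper1.DkIso
import Cfsg.Agent.Lib.Helper12.C9

/-!
Solubilizers (helper1): the counts in characteristic three.
-/

set_option autoImplicit false

namespace Cfsg.Agent.Lib.Helper1.SolT5

open Cfsg.Agent.Lib.Helper12.SL2 Cfsg.Agent.Lib.Helper1.SolZ1 Cfsg.Agent.Lib.Helper1.SolZ5
  Cfsg.Agent.Lib.Helper1.SolT4 Cfsg.Agent.Lib.Helper1.DkOrders

variable {F : Type*} [Field F]

local notation "SL2" => Matrix.SpecialLinearGroup (Fin 2)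

/-! ### elements of order three -/

theorem card_cube_fixed [Fintype F] (h3 : (3 : F) = 0) : Nat.card {t : F // t ^ 3 = t} = 3 := by
  classical
  have h2 := two_ne_zero' h3
  have hS : ({0, 1, -1} : Finset F).card = 3 := by
    rw [Finset.card_eq_three]
    refine ⟨0, 1, -1, zero_ne_one, ?_, ?_, rfl⟩
    · intro h
      have : (1 : F) = 0 := by linear_combination h
      exact one_ne_zero this
    · intro h
      apply h2
      linear_combination h
  have e : {t : F // t ^ 3 = t} ≃ {t : F // t ∈ ({0, 1, -1} : Finset F)} := by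
    apply Equiv.subtypeEquivRight
    intro t
    simp only [Finset.mem_insert, Finset.mem_singleton]
    constructor
    · intro h
      have : t * (t - 1) * (t + 1) = 0 := by linear_combination h
      rcases mul_eq_zero.mp this with h' | h'
      · rcases mul_eq_zero.mp h' with h'' | h''
        · exact Or.inl h''
        · exact Or.inr (Or.inl (sub_eq_zero.mp h''))
      · exact Or.inr (Or.inr (eq_neg_of_add_eq_zero_left h'))
    · rintro (rfl | rfl | rfl) <;> ring
  rw [Nat.card_congr e, Nat.card_eq_fintype_card, Fintype.card_coe, hS]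

theorem card_sq_one_units [Fintype F] (h2 : (2 : F) ≠ 0) {b : F} (hb : b ≠ 0) :
    Nat.card {c : Fˣ // (b * (c : F)) ^ 2 = 1} = 2 := by
  classical
  set ub : Fˣ := Units.mk0 b hb with hub
  have hne : ub⁻¹ ≠ -ub⁻¹ := by
    intro h
    have h' := congrArg (fun u : Fˣ => (u : F)) h
    simp only [Units.val_neg] at h'
    have hz : (2 : F) * ((ub⁻¹ : Fˣ) : F) = 0 := by linear_combination h'
    rcases mul_eq_zero.mp hz with h0 | h0
    · exact h2 h0
    · exact (ub⁻¹).ne_zero h0
  have hS : ({ub⁻¹, -ub⁻¹} : Finset Fˣ).card = 2 := Finset.card_pair hne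
  have e : {c : Fˣ // (b * (c : F)) ^ 2 = 1} ≃ {c : Fˣ // c ∈ ({ub⁻¹, -ub⁻¹} : Finset Fˣ)} := by
    apply Equiv.subtypeEquivRight
    intro c
    simp only [Finset.mem_insert, Finset.mem_singleton]
    have hbu : b * ((ub⁻¹ : Fˣ) : F) = 1 := by
      rw [Units.val_inv_eq_inv_val, hub, Units.val_mk0]
      exact mul_inv_cancel₀ hb
    constructor
    · intro h
      have : (b * (c : F) - 1) * (b * (c : F) + 1) = 0 := by linear_combination h
      rcases mul_eq_zero.mp this with h' | h'
      · left
        apply Units.ext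
        have : b * ((c : F) - ((ub⁻¹ : Fˣ) : F)) = 0 := by linear_combination h' - hbu
        exact sub_eq_zero.mp ((mul_eq_zero.mp this).resolve_left hb)
      · right
        apply Units.ext
        rw [Units.val_neg]
        have : b * ((c : F) + ((ub⁻¹ : Fˣ) : F)) = 0 := by linear_combination h' + hbu
        exact eq_neg_of_add_eq_zero_left ((mul_eq_zero.mp this).resolve_left hb)
    · rintro (rfl | rfl)
      · rw [hbu]; ring
      · rw [Units.val_neg, mul_neg, hbu]; ring
  rw [Nat.card_congr e, Nat.card_eq_fintype_card, Fintype.card_coe, hS]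

/-- the count for an element of order three -/
theorem card_up3_set [Fintype F] (h3 : (3 : F) = 0) {b : F} (hb : b ≠ 0) :
    Nat.card {y : SL2 F // y 1 0 = 0 ∨ ((b * y 1 0) ^ 2 = 1 ∧ tr y ^ 3 = tr y)} =
      Fintype.card F * (Fintype.card F + 5) := by
  classical
  have h2 := two_ne_zero' h3
  rw [card_split _ (fun y h => Or.inl h)]
  have e : {t : F × F × Fˣ // (bigCell.symm t).1 1 0 = 0 ∨
      ((b * (bigCell.symm t).1 1 0) ^ 2 = 1 ∧ tr (bigCell.symm t).1 ^ 3 = tr (bigCell.symm t).1)} ≃
      F × {t : F // t ^ 3 = t} × {c : Fˣ // (b * (c : F)) ^ 2 = 1} :=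
    { toFun := fun t => (t.1.1, ⟨t.1.1 + t.1.2.1, by
          have := t.2
          rw [bigCell_symm_10] at this
          exact (this.resolve_left t.1.2.2.ne_zero).2⟩, ⟨t.1.2.2, by
          have := t.2
          rw [bigCell_symm_10] at this
          exact (this.resolve_left t.1.2.2.ne_zero).1⟩)
      invFun := fun u => ⟨(u.1, u.2.1.1 - u.1, u.2.2.1), by
          right
          rw [bigCell_symm_10]
          refine ⟨u.2.2.2, ?_⟩
          unfold tr
          rw [bigCell_symm_00, bigCell_symm_11]
          simp only [add_sub_cancel]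
          exact u.2.1.2⟩
      left_inv := by
        rintro ⟨⟨a, d, c⟩, h⟩
        apply Subtype.ext
        simp
      right_inv := by
        rintro ⟨a, ⟨t, ht⟩, ⟨c, hc⟩⟩
        simp }
  rw [Nat.card_congr e, Nat.card_prod, Nat.card_prod, card_cube_fixed h3, card_sq_one_units h2 hb,
    Nat.card_eq_fintype_card]
  have hq : 1 ≤ Fintype.card F := Fintype.card_pos
  obtain ⟨n, hn⟩ : ∃ n, Fintype.card F = n + 1 := ⟨Fintype.card F - 1, by omega⟩
  rw [hn]
  simp only [Nat.add_sub_cancel]
  ring

end Cfsg.Agent.Lib.Helper1.SolT5
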