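import Cfsg.Agent.Lib.Helper1.SolT5

/-!
Solubilizers (helper1): circles over a field of characteristic three in which `-1` is not a square,
and the count for the solubilizer of an element of trace zero.
-/

set_option autoImplicit false

namespace Cfsg.Agent.Lib.Helper1.SolT6

open Cfsg.Agent.Lib.Helper12.SL2 Cfsg.Agent.Lib.Helper1.SolZ1 Cfsg.Agent.Lib.Helper1.SolZ5
  Cfsg.Agent.Lib.Helper1.SolT4 Cfsg.Agent.Lib.Helper1.DkOrders

variable {F : Type*} [Field F]

local notation "SL2" => Matrix.SpecialLinearGroup (Fin 2)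

/-- the circle of radius `r` -/
abbrev Circ (r : F) : Type _ := {z : F × F // z.1 ^ 2 + z.2 ^ 2 = r}

/-- the unit circle is the centralizer of `wm` -/
def circOneEquiv [Fintype F] : Circ (1 : F) ≃ Tor (wm : SL2 F) where
  toFun z := ⟨mk z.1.1 z.1.2 (-z.1.2) z.1.1 (by linear_combination z.2), by
    rw [Subgroup.mem_centralizer_singleton_iff, commute_wm_iff]
    simp only [mk_00, mk_01, mk_10, mk_11, and_self]⟩
  invFun y := ⟨(y.1 0 0, y.1 0 1), by
    have hy := y.2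
    rw [Subgroup.mem_centralizer_singleton_iff, commute_wm_iff] at hy
    have hd := Cfsg.Agent.Lib.Helper12.SL2.det_eq y.1
    show y.1 0 0 ^ 2 + y.1 0 1 ^ 2 = 1
    rw [← hy.1, hy.2] at hd
    linear_combination hd⟩
  left_inv z := by
    apply Subtype.ext
    simp only [mk_00, mk_01]
  right_inv y := by
    have hy := y.2
    rw [Subgroup.mem_centralizer_singleton_iff, commute_wm_iff] at hy
    apply Subtype.ext
    apply ext4
    · simp only [mk_00]
    · simp only [mk_01]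
    · simp only [mk_10]; exact hy.2.symm
    · simp only [mk_11]; exact hy.1

theorem card_circ_one [Fintype F] (h3 : (3 : F) = 0) (hsq : ¬ IsSquare (-1 : F)) :
    Nat.card (Circ (1 : F)) = Fintype.card F + 1 := by
  have h2 := two_ne_zero' h3
  rw [Nat.card_congr circOneEquiv]
  refine (Cfsg.Agent.Lib.Helper12.SL2.card_Tor_of_not_isSquare h2 wm ?_).1
  rw [tr_wm]
  have : (0 : F) ^ 2 - 4 = -1 := by linear_combination -h3
  rw [this]
  exact hsq

/-- multiplication by a point of the circle of radius `r` -/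
noncomputable def circMulEquiv {r : F} (hr : r ≠ 0) (z₀ : Circ r) : Circ (1 : F) ≃ Circ r where
  toFun w := ⟨(z₀.1.1 * w.1.1 - z₀.1.2 * w.1.2, z₀.1.1 * w.1.2 + z₀.1.2 * w.1.1), by
    have h0 := z₀.2
    have hw := w.2
    show (z₀.1.1 * w.1.1 - z₀.1.2 * w.1.2) ^ 2 + (z₀.1.1 * w.1.2 + z₀.1.2 * w.1.1) ^ 2 = r
    linear_combination (w.1.1 ^ 2 + w.1.2 ^ 2) * h0 + r * hw⟩
  invFun z := ⟨((z₀.1.1 * z.1.1 + z₀.1.2 * z.1.2) / r, (z₀.1.1 * z.1.2 - z₀.1.2 * z.1.1) / r), by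
    have h0 := z₀.2
    have hz := z.2
    show ((z₀.1.1 * z.1.1 + z₀.1.2 * z.1.2) / r) ^ 2 +
      ((z₀.1.1 * z.1.2 - z₀.1.2 * z.1.1) / r) ^ 2 = 1
    field_simp
    linear_combination (z.1.1 ^ 2 + z.1.2 ^ 2) * h0 + r * hz⟩
  left_inv w := by
    have h0 := z₀.2
    apply Subtype.ext
    apply Prod.ext
    · show (z₀.1.1 * (z₀.1.1 * w.1.1 - z₀.1.2 * w.1.2) +
        z₀.1.2 * (z₀.1.1 * w.1.2 + z₀.1.2 * w.1.1)) / r = w.1.1
      rw [div_eq_iff hr]
      linear_combination w.1.1 * h0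
    · show (z₀.1.1 * (z₀.1.1 * w.1.2 + z₀.1.2 * w.1.1) -
        z₀.1.2 * (z₀.1.1 * w.1.1 - z₀.1.2 * w.1.2)) / r = w.1.2
      rw [div_eq_iff hr]
      linear_combination w.1.2 * h0
  right_inv z := by
    have h0 := z₀.2
    apply Subtype.ext
    apply Prod.ext
    · show z₀.1.1 * ((z₀.1.1 * z.1.1 + z₀.1.2 * z.1.2) / r) -
        z₀.1.2 * ((z₀.1.1 * z.1.2 - z₀.1.2 * z.1.1) / r) = z.1.1
      field_simp
      linear_combination z.1.1 * h0
    · show z₀.1.1 * ((z₀.1.1 * z.1.2 - z₀.1.2 * z.1.1) / r) +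
        z₀.1.2 * ((z₀.1.1 * z.1.1 + z₀.1.2 * z.1.2) / r) = z.1.2
      field_simp
      linear_combination z.1.2 * h0

/-- every circle of nonzero radius has `q + 1` points -/
theorem card_circ [Fintype F] (h3 : (3 : F) = 0) (hsq : ¬ IsSquare (-1 : F)) {r : F}
    (hr : r ≠ 0) : Nat.card (Circ r) = Fintype.card F + 1 := by
  have h2 := two_ne_zero' h3
  have hex : Nonempty (Circ r) := by
    rcases Cfsg.Agent.Lib.Helper1.DkIso.dich h2 (-1) hsq r hr with ⟨e, he⟩ | ⟨e, he⟩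
    · exact ⟨⟨(e, 0), by show e ^ 2 + (0 : F) ^ 2 = r; rw [he]; ring⟩⟩
    · exact ⟨⟨(e, e), by show e ^ 2 + e ^ 2 = r; rw [he]; linear_combination e ^ 2 * h3⟩⟩
  obtain ⟨z₀⟩ := hex
  rw [← Nat.card_congr (circMulEquiv hr z₀), card_circ_one h3 hsq]

/-- the circle of radius zero is a point -/
theorem circ_zero (hsq : ¬ IsSquare (-1 : F)) {u v : F} (h : u ^ 2 + v ^ 2 = 0) :
    u = 0 ∧ v = 0 := by
  by_cases hv : v = 0
  · subst hv
    refine ⟨?_, rfl⟩
    have : u ^ 2 = 0 := by linear_combination h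
    exact pow_eq_zero_iff (by norm_num) |>.mp this
  · exfalso
    apply hsq
    refine ⟨u / v, ?_⟩
    field_simp
    linear_combination -h

end Cfsg.Agent.Lib.Helper1.SolT6
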