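import Cfsg.Agent.Lib.Helper1.SolT6

/-!
Solubilizers (helper1): the count for the solubilizer of an element of trace zero in characteristic
three.
-/

set_option autoImplicit false

namespace Cfsg.Agent.Lib.Helper1.SolT7

open Cfsg.Agent.Lib.Helper12.SL2 Cfsg.Agent.Lib.Helper1.SolZ1 Cfsg.Agent.Lib.Helper1.SolZ5
  Cfsg.Agent.Lib.Helper1.SolT4 Cfsg.Agent.Lib.Helper1.SolT5 Cfsg.Agent.Lib.Helper1.SolT6
  Cfsg.Agent.Lib.Helper1.DkOrders

variable {F : Type*} [Field F]

local notation "SL2" => Matrix.SpecialLinearGroup (Fin 2)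

/-! ### counting tools -/

theorem card_or_disjoint {α : Type*} [Finite α] (p q : α → Prop) (h : ∀ x, p x → q x → False) :
    Nat.card {x // p x ∨ q x} = Nat.card {x // p x} + Nat.card {x // q x} := by
  classical
  have hd : Disjoint p q := by
    intro r hp hq x hr
    exact (h x (hp x hr) (hq x hr)).elim
  rw [Nat.card_congr (subtypeOrEquiv p q hd), Nat.card_sum]

theorem card_not {α : Type*} [Finite α] (p : α → Prop) :
    Nat.card {x // ¬ p x} = Nat.card α - Nat.card {x // p x} := by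
  classical
  have := Nat.card_congr (Equiv.sumCompl p)
  rw [Nat.card_sum] at this
  omega

theorem card_sq_one [Fintype F] (h2 : (2 : F) ≠ 0) : Nat.card {u : F // u ^ 2 = 1} = 2 := by
  classical
  have hne : (1 : F) ≠ -1 := by
    intro h
    apply h2
    linear_combination h
  have hS : ({1, -1} : Finset F).card = 2 := Finset.card_pair hne
  have e : {u : F // u ^ 2 = 1} ≃ {u : F // u ∈ ({1, -1} : Finset F)} := by
    apply Equiv.subtypeEquivRight
    intro u
    simp only [Finset.mem_insert, Finset.mem_singleton]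
    constructor
    · intro h
      have : (u - 1) * (u + 1) = 0 := by linear_combination h
      rcases mul_eq_zero.mp this with h' | h'
      · exact Or.inl (sub_eq_zero.mp h')
      · exact Or.inr (eq_neg_of_add_eq_zero_left h')
    · rintro (rfl | rfl) <;> ring
  rw [Nat.card_congr e, Nat.card_eq_fintype_card, Fintype.card_coe, hS]

/-! ### the set of admissible pairs of traces -/

/-- admissible pairs of traces off the unit circle -/
def QA (ab : F × F) : Prop :=
  (ab.1 = 0 ∨ ab.2 = 0 ∨ (ab.1 ^ 2 = 1 ∧ ab.2 ^ 2 = 1)) ∧ ab.1 ^ 2 + ab.2 ^ 2 - 1 ≠ 0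

theorem card_QA [Fintype F] (h3 : (3 : F) = 0) :
    Nat.card {ab : F × F // QA ab} = 2 * Fintype.card F - 1 := by
  classical
  have h2 := two_ne_zero' h3
  have hq3 : 3 ≤ Fintype.card F := by
    have := card_cube_fixed h3
    have hle := Nat.card_le_card_of_injective (fun t : {t : F // t ^ 3 = t} => (t : F))
      Subtype.val_injective
    rw [this, Nat.card_eq_fintype_card] at hle
    exact hle
  -- the three pieces
  have hiff : ∀ ab : F × F, QA ab ↔ ((ab.1 = 0 ∧ ¬ (ab.2 ^ 2 = 1)) ∨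
      ((¬ (ab.1 ^ 3 = ab.1) ∧ ab.2 = 0) ∨ (ab.1 ^ 2 = 1 ∧ ab.2 ^ 2 = 1))) := by
    rintro ⟨α, β⟩
    simp only [QA]
    constructor
    · rintro ⟨hA, hr⟩
      by_cases hα : α = 0
      · left
        refine ⟨hα, ?_⟩
        intro hβ
        apply hr
        rw [hα, hβ]; ring
      · right
        rcases hA with h | h | ⟨h, h'⟩
        · exact absurd h hα
        · left
          refine ⟨?_, h⟩
          intro hc
          rcases cube_cases h3 hc with h0 | h1
          · exact hα h0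
          · apply hr
            rw [h1, h]; ring
        · right
          exact ⟨h, h'⟩
    · rintro (⟨h0, hβ⟩ | ⟨hα, h0⟩ | ⟨h1, h1'⟩)
      · refine ⟨Or.inl h0, ?_⟩
        intro hr
        apply hβ
        rw [h0] at hr
        linear_combination hr
      · refine ⟨Or.inr (Or.inl h0), ?_⟩
        intro hr
        apply hα
        rw [h0] at hr
        have : α ^ 2 = 1 := by linear_combination hr
        calc α ^ 3 = α ^ 2 * α := by ring
          _ = α := by rw [this, one_mul]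
      · refine ⟨Or.inr (Or.inr ⟨h1, h1'⟩), ?_⟩
        rw [h1, h1']
        intro h
        have : (1 : F) = 0 := by linear_combination h
        exact absurd this one_ne_zero
  have hd1 : ∀ ab : F × F, (ab.1 = 0 ∧ ¬ (ab.2 ^ 2 = 1)) →
      ((¬ (ab.1 ^ 3 = ab.1) ∧ ab.2 = 0) ∨ (ab.1 ^ 2 = 1 ∧ ab.2 ^ 2 = 1)) → False := by
    rintro ⟨α, β⟩ ⟨h0, hβ⟩ (⟨hα, _⟩ | ⟨h1, _⟩)
    · apply hα
      show α ^ 3 = α
      have h0' : α = 0 := h0
      rw [h0']; ring
    · have h0' : α = 0 := h0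
      have h1' : α ^ 2 = 1 := h1
      rw [h0'] at h1'
      have : (1 : F) = 0 := by linear_combination -h1'
      exact one_ne_zero this
  have hd2 : ∀ ab : F × F, (¬ (ab.1 ^ 3 = ab.1) ∧ ab.2 = 0) →
      (ab.1 ^ 2 = 1 ∧ ab.2 ^ 2 = 1) → False := by
    rintro ⟨α, β⟩ ⟨_, h0⟩ ⟨_, h1⟩
    have h0' : β = 0 := h0
    have h1' : β ^ 2 = 1 := h1
    rw [h0'] at h1'
    have : (1 : F) = 0 := by linear_combination -h1'
    exact one_ne_zero this
  have e1 : {ab : F × F // ab.1 = 0 ∧ ¬ (ab.2 ^ 2 = 1)} ≃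
      {a : F // a = 0} × {b : F // ¬ (b ^ 2 = 1)} :=
    Equiv.subtypeProdEquivProd (p := fun a : F => a = 0) (q := fun b : F => ¬ (b ^ 2 = 1))
  have e2 : {ab : F × F // ¬ (ab.1 ^ 3 = ab.1) ∧ ab.2 = 0} ≃
      {a : F // ¬ (a ^ 3 = a)} × {b : F // b = 0} :=
    Equiv.subtypeProdEquivProd (p := fun a : F => ¬ (a ^ 3 = a)) (q := fun b : F => b = 0)
  have e3 : {ab : F × F // ab.1 ^ 2 = 1 ∧ ab.2 ^ 2 = 1} ≃
      {a : F // a ^ 2 = 1} × {b : F // b ^ 2 = 1} :=
    Equiv.subtypeProdEquivProd (p := fun a : F => a ^ 2 = 1) (q := fun b : F => b ^ 2 = 1)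
  have hone : Nat.card {a : F // a = 0} = 1 := by
    rw [Nat.card_eq_fintype_card, Fintype.card_subtype_eq]
  rw [Nat.card_congr (Equiv.subtypeEquivRight hiff),
    card_or_disjoint (fun ab : F × F => ab.1 = 0 ∧ ¬ (ab.2 ^ 2 = 1)) _ hd1,
    card_or_disjoint (fun ab : F × F => ¬ (ab.1 ^ 3 = ab.1) ∧ ab.2 = 0) _ hd2,
    Nat.card_congr e1, Nat.card_congr e2, Nat.card_congr e3,
    Nat.card_prod, Nat.card_prod, Nat.card_prod, hone, card_not, card_not, card_sq_one h2,
    card_cube_fixed h3, Nat.card_eq_fintype_card]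
  omega

/-! ### fibres of the pair of traces -/

/-- elements with prescribed traces of `y` and `wm * y` -/
abbrev Fib (α β : F) : Type _ := {y : SL2 F // tr y = α ∧ y 1 0 - y 0 1 = β}

/-- the fibre over `(α, β)` is a circle -/
def fibCircEquiv (h3 : (3 : F) = 0) (α β : F) : Fib α β ≃ Circ (α ^ 2 + β ^ 2 - 1) where
  toFun y := ⟨(y.1 0 0 - y.1 1 1, y.1 0 1 + y.1 1 0), by
    have hd := Cfsg.Agent.Lib.Helper12.SL2.det_eq y.1
    have h1 := y.2.1
    have h2 := y.2.2
    unfold tr at h1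
    show (y.1 0 0 - y.1 1 1) ^ 2 + (y.1 0 1 + y.1 1 0) ^ 2 = α ^ 2 + β ^ 2 - 1
    linear_combination (-4 : F) * hd - h3 + (y.1 0 0 + y.1 1 1 + α) * h1 +
      (y.1 1 0 - y.1 0 1 + β) * h2⟩
  invFun z := ⟨mk (-(α + z.1.1)) (β - z.1.2) (-(β + z.1.2)) (-(α - z.1.1)) (by
      linear_combination -z.2), by
    constructor
    · unfold tr
      simp only [mk_00, mk_11]
      linear_combination (-α) * h3
    · simp only [mk_10, mk_01]
      linear_combination (-β) * h3⟩
  left_inv := by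
    rintro ⟨y, rfl, rfl⟩
    apply Subtype.ext
    apply ext4
    · simp only [mk_00]
      unfold tr
      linear_combination (-y 0 0) * h3
    · simp only [mk_01]
      linear_combination (-y 0 1) * h3
    · simp only [mk_10]
      linear_combination (-y 1 0) * h3
    · simp only [mk_11]
      unfold tr
      linear_combination (-y 1 1) * h3
  right_inv := by
    rintro ⟨⟨γ, δ⟩, hz⟩
    apply Subtype.ext
    apply Prod.ext
    · simp only [mk_00, mk_11]
      linear_combination (-γ) * h3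
    · simp only [mk_01, mk_10]
      linear_combination (-δ) * h3

/-- the admissible elements off the torus, fibred over the pairs of traces -/
def sigmaEquiv : {y : SL2 F // QA (tr y, y 1 0 - y 0 1)} ≃
    Σ ab : {ab : F × F // QA ab}, Fib ab.1.1 ab.1.2 where
  toFun y := ⟨⟨(tr y.1, y.1 1 0 - y.1 0 1), y.2⟩, ⟨y.1, rfl, rfl⟩⟩
  invFun t := ⟨t.2.1, by
    have h1 := t.2.2.1
    have h2 := t.2.2.2
    have := t.1.2
    rw [h1, h2]
    exact this⟩
  left_inv y := rfl
  right_inv := by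
    rintro ⟨⟨⟨α, β⟩, hab⟩, ⟨y, h1, h2⟩⟩
    dsimp only at h1 h2
    subst h1 h2
    rfl

theorem card_Tor_wm [Fintype F] (h3 : (3 : F) = 0) (hsq : ¬ IsSquare (-1 : F)) :
    Nat.card (Tor (wm : SL2 F)) = Fintype.card F + 1 := by
  rw [← Nat.card_congr circOneEquiv]
  exact card_circ_one h3 hsq

/-- the count for an element of trace zero -/
theorem card_wm_set [Fintype F] (h3 : (3 : F) = 0) (hsq : ¬ IsSquare (-1 : F)) :
    Nat.card {y : SL2 F // (y 0 0 = y 1 1 ∧ y 1 0 = -y 0 1) ∨ tr y = 0 ∨ y 1 0 - y 0 1 = 0 ∨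
      (tr y ^ 2 = 1 ∧ (y 1 0 - y 0 1) ^ 2 = 1)} = 2 * Fintype.card F * (Fintype.card F + 1) := by
  classical
  have h2 := two_ne_zero' h3
  -- the radius in terms of the other two coordinates
  have hrad : ∀ y : SL2 F, tr y ^ 2 + (y 1 0 - y 0 1) ^ 2 - 1 =
      (y 0 0 - y 1 1) ^ 2 + (y 0 1 + y 1 0) ^ 2 := by
    intro y
    have hd := Cfsg.Agent.Lib.Helper12.SL2.det_eq y
    unfold tr
    linear_combination (4 : F) * hd + h3
  have hiff : ∀ y : SL2 F, ((y 0 0 = y 1 1 ∧ y 1 0 = -y 0 1) ∨ tr y = 0 ∨ y 1 0 - y 0 1 = 0 ∨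
      (tr y ^ 2 = 1 ∧ (y 1 0 - y 0 1) ^ 2 = 1)) ↔
      ((y 0 0 = y 1 1 ∧ y 1 0 = -y 0 1) ∨ QA (tr y, y 1 0 - y 0 1)) := by
    intro y
    constructor
    · intro h
      by_cases hT : y 0 0 = y 1 1 ∧ y 1 0 = -y 0 1
      · exact Or.inl hT
      · right
        refine ⟨h.resolve_left hT, ?_⟩
        intro hr
        apply hT
        rw [hrad y] at hr
        obtain ⟨hγ, hδ⟩ := circ_zero hsq hr
        exact ⟨sub_eq_zero.mp hγ, by linear_combination hδ⟩
    · rintro (h | ⟨h, _⟩)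
      · exact Or.inl h
      · exact Or.inr h
  have hdisj : ∀ y : SL2 F, (y 0 0 = y 1 1 ∧ y 1 0 = -y 0 1) → QA (tr y, y 1 0 - y 0 1) →
      False := by
    rintro y ⟨h1, h2'⟩ ⟨_, hr⟩
    apply hr
    show tr y ^ 2 + (y 1 0 - y 0 1) ^ 2 - 1 = 0
    rw [hrad y, h1, h2']
    ring
  have e1 : {y : SL2 F // y 0 0 = y 1 1 ∧ y 1 0 = -y 0 1} ≃ Tor (wm : SL2 F) := by
    apply Equiv.subtypeEquivRight
    intro y
    rw [Subgroup.mem_centralizer_singleton_iff, commute_wm_iff]
  have hfib : ∀ ab : {ab : F × F // QA ab}, Nat.card (Fib ab.1.1 ab.1.2) = Fintype.card F + 1 := by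
    intro ab
    rw [Nat.card_congr (fibCircEquiv h3 ab.1.1 ab.1.2)]
    exact card_circ h3 hsq ab.2.2
  rw [Nat.card_congr (Equiv.subtypeEquivRight hiff),
    card_or_disjoint (fun y : SL2 F => y 0 0 = y 1 1 ∧ y 1 0 = -y 0 1) _ hdisj,
    Nat.card_congr e1, card_Tor_wm h3 hsq, Nat.card_congr sigmaEquiv, Nat.card_sigma,
    Finset.sum_congr rfl (fun ab _ => hfib ab), Finset.sum_const, Finset.card_univ,
    ← Nat.card_eq_fintype_card (α := {ab : F × F // QA ab}), card_QA h3, smul_eq_mul]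
  have hq : 1 ≤ Fintype.card F := Fintype.card_pos
  obtain ⟨n, hn⟩ : ∃ n, Fintype.card F = n + 1 := ⟨Fintype.card F - 1, by omega⟩
  rw [hn]
  have : 2 * (n + 1) - 1 = 2 * n + 1 := by omega
  rw [this]
  ring

end Cfsg.Agent.Lib.Helper1.SolT7
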