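import Cfsg.Agent.Lib.Helper1.SolZ5
import Cfsg.Agent.Lib.Helper1.SL2Eigen
import Cfsg.Agent.Lib.Helper16.DkTorusCard

/-!
Solubilizers (helper1): the three counts in `SL₂(F)`, `|F| = 2 ^ p`, `p` prime.
-/

set_option autoImplicit false

namespace Cfsg.Agent.Lib.Helper1.SolZ6

open Cfsg.Agent.Lib.Helper12.SL2 Cfsg.Agent.Lib.Helper1.SolZ1 Cfsg.Agent.Lib.Helper1.SolZ2
  Cfsg.Agent.Lib.Helper1.SolZ3 Cfsg.Agent.Lib.Helper1.SolZ4 Cfsg.Agent.Lib.Helper1.SolZ5
  Cfsg.Agent.Lib.Helper1.DkOrders Cfsg.Agent.Lib.Lead.DicksonStd Cfsg.Agent.Lib.Lead.DicksonSL2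

variable {F : Type*} [Field F] [Fintype F]

local notation "SL2" => Matrix.SpecialLinearGroup (Fin 2)

theorem eq_one_of_dvd_coprime {G : Type*} [Group G] (x : G) {a b : ℕ} (hab : Nat.Coprime a b)
    (ha : orderOf x ∣ a) (hb : orderOf x ∣ b) : x = 1 := by
  have : orderOf x ∣ Nat.gcd a b := Nat.dvd_gcd ha hb
  rw [hab.gcd_eq_one, Nat.dvd_one] at this
  exact orderOf_eq_one_iff.mp this

theorem tr_ne_zero_of_odd (h2 : (2 : F) = 0) (x : SL2 F) (hx1 : x ≠ 1) {n : ℕ} (hn : Odd n)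
    (hdvd : orderOf x ∣ n) : tr x ≠ 0 := by
  intro h0
  apply hx1
  have hsq : x ^ 2 = 1 := by rw [pow_two]; exact sq_eq_one_of_tr h2 x h0
  exact eq_one_of_dvd_coprime x (Nat.coprime_two_left.mpr hn) (orderOf_dvd_of_pow_eq_one hsq) hdvd

theorem disc_ne (h2 : (2 : F) = 0) (x : SL2 F) (hτ : tr x ≠ 0) : tr x ^ 2 ≠ 4 := by
  intro h
  apply hτ
  have : tr x ^ 2 = 0 := by rw [h]; linear_combination (2 : F) * h2
  exact pow_eq_zero_iff (by norm_num) |>.mp this

theorem coprime_sub_add {q : ℕ} (hq : Even q) (h1 : 1 ≤ q) : Nat.Coprime (q - 1) (q + 1) := by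
  have hodd : Odd (q - 1) := Nat.Even.sub_odd h1 hq odd_one
  have h : Nat.gcd (q - 1) (q + 1) ∣ 2 := by
    have h1' : Nat.gcd (q - 1) (q + 1) ∣ q + 1 := Nat.gcd_dvd_right _ _
    have h2' : Nat.gcd (q - 1) (q + 1) ∣ q - 1 := Nat.gcd_dvd_left _ _
    have := Nat.dvd_sub h1' h2'
    have e : q + 1 - (q - 1) = 2 := by omega
    rwa [e] at this
  have hodd' : Odd (Nat.gcd (q - 1) (q + 1)) := by
    obtain ⟨k, hk⟩ := Nat.gcd_dvd_left (q - 1) (q + 1)
    by_contra hne
    rw [Nat.not_odd_iff_even] at hne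
    have : Even (q - 1) := by rw [hk]; exact hne.mul_right k
    exact (Nat.not_even_iff_odd.mpr hodd) this
  rcases (Nat.dvd_prime Nat.prime_two).mp h with h | h
  · exact h
  · rw [h] at hodd'
    exact absurd hodd' (by decide)

theorem card_Tor_cases (h2 : (2 : F) = 0) (x : SL2 F) (hns : NonScalar x) (hτ : tr x ≠ 0) :
    (Nat.card (Tor x) = Fintype.card F - 1 ∧ ∃ m : F, m ^ 2 + tr x * m + 1 = 0) ∨
      Nat.card (Tor x) = Fintype.card F + 1 := by
  classical
  have hc : Nat.card (Tor x) = Nat.card {m : F // m ^ 2 + tr x * m + 1 ≠ 0} + 1 := by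
    show Nat.card (Subgroup.centralizer ({x} : Set (SL2 F))) = _
    rw [Cfsg.Agent.Lib.Helper16.DkTorusCard.card_centralizer_eq_conic x hns,
      Cfsg.Agent.Lib.Helper16.DkTorusCard.card_conic_two h2 (tr x) hτ]
  rcases Cfsg.Agent.Lib.Helper16.DkTorusCard.card_centralizer_two h2 x hns (disc_ne h2 x hτ)
    with h | h
  · left
    refine ⟨h, ?_⟩
    by_contra hno
    push Not at hno
    have : Nat.card {m : F // m ^ 2 + tr x * m + 1 ≠ 0} = Fintype.card F := by
      rw [← Nat.card_eq_fintype_card]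
      exact Nat.card_congr (Equiv.subtypeUnivEquiv hno)
    have h' : Nat.card (Tor x) = Fintype.card F - 1 := h
    rw [hc, this] at h'
    omega
  · exact Or.inr h

theorem pow_smul_eigen (x : SL2 F) (v : Fin 2 → F) (c : F) (h : x • v = c • v) (n : ℕ) :
    (x ^ n) • v = c ^ n • v := by
  induction n with
  | zero => simp
  | succ n ih =>
    rw [pow_succ, mul_smul, h, smul_comm, ih, smul_smul, pow_succ, mul_comm]

theorem no_eigen (h2 : (2 : F) = 0) (x : SL2 F) (hτ : tr x ≠ 0)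
    (hdvd : orderOf x ∣ Fintype.card F + 1) :
    ∀ v : Fin 2 → F, v ≠ 0 → ∀ c : F, x • v ≠ c • v := by
  intro v hv c hc
  have hc0 : c ≠ 0 := by
    rintro rfl
    rw [zero_smul] at hc
    apply hv
    have := congrArg (fun w => x⁻¹ • w) hc
    simpa using this
  have hpow : c ^ orderOf x = 1 := by
    have := pow_smul_eigen x v c hc (orderOf x)
    rw [pow_orderOf_eq_one, one_smul] at this
    by_contra hne
    apply hv
    have h' : (c ^ orderOf x - 1) • v = 0 := by rw [sub_smul, one_smul, ← this, sub_self]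
    rcases smul_eq_zero.mp h' with h'' | h''
    · exact absurd (sub_eq_zero.mp h'') hne
    · exact h''
  have hq1 : c ^ (Fintype.card F - 1) = 1 := FiniteField.pow_card_sub_one_eq_one c hc0
  have hq2 : c ^ (Fintype.card F + 1) = 1 := by
    obtain ⟨k, hk⟩ := hdvd
    rw [hk, pow_mul, hpow, one_pow]
  have hcc : c ^ 2 = 1 := by
    have hq : 1 ≤ Fintype.card F := Fintype.card_pos
    have e : Fintype.card F + 1 = (Fintype.card F - 1) + 2 := by omega
    rw [e, pow_add, hq1, one_mul] at hq2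
    exact hq2
  have hc1 : c = 1 := by
    have : (c - 1) ^ 2 = 0 := by linear_combination hcc + (1 - c) * h2
    exact sub_eq_zero.mp (pow_eq_zero_iff (by norm_num) |>.mp this)
  rw [hc1, one_smul] at hc
  apply hτ
  unfold tr
  rw [trace_eq_two_of_fix x v hv hc]
  exact h2

/-- a split semisimple element is conjugate, under an automorphism, to a diagonal element -/
theorem exists_aut_dg (h2 : (2 : F) = 0) (x : SL2 F) (hτ : tr x ≠ 0) (m : F)
    (hm : m ^ 2 + tr x * m + 1 = 0) :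
    ∃ (e : SL2 F ≃* SL2 F) (a : F) (ha : a ≠ 0), a ≠ 1 ∧ e x = dg a ha := by
  have htr : (x : Matrix (Fin 2) (Fin 2) F).trace = tr x := by
    rw [Matrix.trace_fin_two]; rfl
  have hlam : m ^ 2 - (x : Matrix (Fin 2) (Fin 2) F).trace * m + 1 = 0 := by
    rw [htr]; linear_combination hm - tr x * m * h2
  have ht : (x : Matrix (Fin 2) (Fin 2) F).trace ^ 2 ≠ 4 := by
    rw [htr]; exact disc_ne h2 x hτ
  obtain ⟨U, hU, hprod, hne⟩ :=
    Cfsg.Agent.Lib.Helper1.SL2Eigen.exists_diag (x : Matrix (Fin 2) (Fin 2) F) x.det_coe m hlam ht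
  rw [htr] at hU hprod hne
  have hm0 : m ≠ 0 := by
    rintro rfl
    rw [zero_mul] at hprod
    exact zero_ne_one hprod
  have hinv : tr x - m = m⁻¹ := eq_inv_of_mul_eq_one_right hprod
  refine ⟨conjEquiv ((U⁻¹ : (Matrix (Fin 2) (Fin 2) F)ˣ) : Matrix (Fin 2) (Fin 2) F)
    (U : Matrix (Fin 2) (Fin 2) F) (Units.inv_mul U) (Units.mul_inv U), m, hm0, ?_, ?_⟩
  · rintro rfl
    apply hne
    rw [hinv, inv_one]
  · apply Subtype.ext
    rw [conjEquiv_apply, conjHom_coe, ← Cfsg.Agent.Lib.Helper1.SL2Eigen.cj_apply, hU, hinv]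
    ext i j
    fin_cases i <;> fin_cases j <;> simp [dg, mk]

/-- **the three solubilizer counts in `SL₂(2 ^ p)`** -/
theorem main (p : ℕ) (hp : p.Prime) (hF : Fintype.card F = 2 ^ p) (x : SL2 F) :
    (orderOf x = 2 → Nat.card {y : SL2 F // Sol x y} = 3 * 2 ^ p * (2 ^ p - 1)) ∧
    (x ≠ 1 → orderOf x ∣ 2 ^ p - 1 → Nat.card {y : SL2 F // Sol x y} = 2 * 2 ^ p * (2 ^ p - 1)) ∧
    (x ≠ 1 → orderOf x ∣ 2 ^ p + 1 → Nat.card {y : SL2 F // Sol x y} = 2 * (2 ^ p + 1)) := by
  classical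
  have h2 := two_eq_zero p hp hF
  have h4 := four_le p hp hF
  have heven : Even (Fintype.card F) := by
    rw [hF]; exact (Nat.even_pow.mpr ⟨even_two, hp.ne_zero⟩)
  have hcop := coprime_sub_add heven (by omega)
  have hodd1 : Odd (Fintype.card F - 1) := Nat.Even.sub_odd (by omega) heven odd_one
  have hodd2 : Odd (Fintype.card F + 1) := heven.add_one
  haveI : CharP F 2 := CharTwo.of_one_ne_zero_of_two_eq_zero one_ne_zero h2
  haveI : Fact (Nat.Prime 2) := ⟨Nat.prime_two⟩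
  rw [← hF]
  refine ⟨?_, ?_, ?_⟩
  · intro hx
    obtain ⟨k, b, hb, hk⟩ := exists_conj_up_of_orderOf (p := 2) x hx
    have hx' : x = MulAut.conj k (up b) := by
      rw [MulAut.conj_apply, ← hk]; group
    rw [hx', card_sol_map (MulAut.conj k) (up b),
      Nat.card_congr (Equiv.subtypeEquivRight (sol_up_iff p hp hF hb)), card_inv_set h2 hb]
  · intro hx1 hdvd
    have hτ := tr_ne_zero_of_odd h2 x hx1 hodd1 hdvd
    have hns := nonScalar_of_ne_one h2 x hx1
    have hxT : orderOf x ∣ Nat.card (Tor x) :=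
      Subgroup.orderOf_dvd_natCard _ (Subgroup.mem_centralizer_singleton_iff.mpr rfl)
    rcases card_Tor_cases h2 x hns hτ with ⟨_, m, hm⟩ | h
    · obtain ⟨e, a, ha, ha1, hex⟩ := exists_aut_dg h2 x hτ m hm
      rw [← card_sol_map e x, hex,
        Nat.card_congr (Equiv.subtypeEquivRight (sol_dg_iff p hp hF ha ha1)), card_dg_set]
    · rw [h] at hxT
      exact absurd (eq_one_of_dvd_coprime x hcop hdvd hxT) hx1
  · intro hx1 hdvd
    have hτ := tr_ne_zero_of_odd h2 x hx1 hodd2 hdvd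
    have hns := nonScalar_of_ne_one h2 x hx1
    have hxT : orderOf x ∣ Nat.card (Tor x) :=
      Subgroup.orderOf_dvd_natCard _ (Subgroup.mem_centralizer_singleton_iff.mpr rfl)
    have hno := no_eigen h2 x hτ hdvd
    have hcard : Nat.card (Tor x) = Fintype.card F + 1 := by
      rcases card_Tor_cases h2 x hns hτ with ⟨h, _⟩ | h
      · rw [h] at hxT
        exact absurd (eq_one_of_dvd_coprime x hcop hxT hdvd) hx1
      · exact h
    rw [Nat.card_congr (Equiv.subtypeEquivRight (sol_nonsplit_iff p hp hF x hns hτ hno))]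
    have := Cfsg.Agent.Lib.Helper12.DkM.card_NTor x hns (disc_ne h2 x hτ)
    rw [hcard] at this
    exact this

end Cfsg.Agent.Lib.Helper1.SolZ6
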