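import Cfsg.Agent.Lib.Helper1.SolT7
import Cfsg.Agent.Lib.Helper1.SolZ6

/-!
Solubilizers (helper1): the four solubilizer counts in `SL₂(3 ^ p)`.
-/

set_option autoImplicit false

namespace Cfsg.Agent.Lib.Helper1.SolT8

open Cfsg.Agent.Lib.Helper12.SL2 Cfsg.Agent.Lib.Helper1.SolZ1 Cfsg.Agent.Lib.Helper1.SolZ5
  Cfsg.Agent.Lib.Helper1.SolT4 Cfsg.Agent.Lib.Helper1.SolT5 Cfsg.Agent.Lib.Helper1.SolT6
  Cfsg.Agent.Lib.Helper1.SolT7 Cfsg.Agent.Lib.Helper1.DkOrders Cfsg.Agent.Lib.Lead.DicksonStd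
  Cfsg.Agent.Lib.Lead.DicksonSL2

variable {F : Type*} [Field F] [Fintype F]

local notation "SL2" => Matrix.SpecialLinearGroup (Fin 2)
local notation "M2" => Matrix (Fin 2) (Fin 2)
local notation "NonSc" => Cfsg.Agent.Lib.Helper12.SL2.NonScalar

/-- an element of trace zero is conjugate, under an automorphism, to `wm` -/
theorem exists_aut_wm (hsq : ¬ IsSquare (-1 : F)) (x : SL2 F) (htr : tr x = 0) :
    ∃ e : SL2 F ≃* SL2 F, e x = wm := by
  have hd := Cfsg.Agent.Lib.Helper12.SL2.det_eq x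
  unfold tr at htr
  have hc : x 1 0 ≠ 0 := by
    intro h0
    apply hsq
    refine ⟨x 0 0, ?_⟩
    rw [h0, mul_zero, sub_zero] at hd
    linear_combination hd - x 0 0 * htr
  set M : M2 F := !![0, (x 1 0)⁻¹; 1, -(x 0 0 * (x 1 0)⁻¹)] with hM
  set Mi : M2 F := !![x 0 0, 1; x 1 0, 0] with hMi
  have h1 : M * Mi = 1 := by
    rw [hM, hMi, Matrix.mul_fin_two, Matrix.one_fin_two]
    have e1 : (0 : F) * x 0 0 + (x 1 0)⁻¹ * x 1 0 = 1 := by
      rw [zero_mul, zero_add, inv_mul_cancel₀ hc]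
    have e2 : (0 : F) * 1 + (x 1 0)⁻¹ * 0 = 0 := by ring
    have e3 : 1 * x 0 0 + -(x 0 0 * (x 1 0)⁻¹) * x 1 0 = 0 := by
      rw [neg_mul, mul_assoc, inv_mul_cancel₀ hc]; ring
    have e4 : (1 : F) * 1 + -(x 0 0 * (x 1 0)⁻¹) * 0 = 1 := by ring
    rw [e1, e2, e3, e4]
  have h2 : Mi * M = 1 := by
    rw [hM, hMi, Matrix.mul_fin_two, Matrix.one_fin_two]
    have e1 : x 0 0 * 0 + 1 * 1 = (1 : F) := by ring
    have e2 : x 0 0 * (x 1 0)⁻¹ + 1 * -(x 0 0 * (x 1 0)⁻¹) = 0 := by ring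
    have e3 : x 1 0 * 0 + 0 * 1 = (0 : F) := by ring
    have e4 : x 1 0 * (x 1 0)⁻¹ + 0 * -(x 0 0 * (x 1 0)⁻¹) = 1 := by
      rw [zero_mul, add_zero, mul_inv_cancel₀ hc]
    rw [e1, e2, e3, e4]
  refine ⟨conjEquiv M Mi h1 h2, ?_⟩
  have hx : (x : M2 F) * Mi = Mi * ((wm : SL2 F) : M2 F) := by
    have ex : (x : M2 F) = !![x 0 0, x 0 1; x 1 0, x 1 1] := Matrix.eta_fin_two _
    have ew : ((wm : SL2 F) : M2 F) = !![0, 1; -1, 0] := rfl
    rw [ex, ew, hMi, Matrix.mul_fin_two, Matrix.mul_fin_two]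
    simp only [mul_one, mul_zero, add_zero, zero_add, mul_neg, neg_zero]
    have e00 : x 0 0 * x 0 0 + x 0 1 * x 1 0 = -1 := by
      linear_combination -hd + x 0 0 * htr
    have e10 : x 1 0 * x 0 0 + x 1 1 * x 1 0 = 0 := by
      linear_combination x 1 0 * htr
    rw [e00, e10]
  apply Subtype.ext
  rw [conjEquiv_apply, conjHom_coe, mul_assoc, hx, ← mul_assoc, h1, one_mul]

/-- a non-scalar element of trace two has a fixed vector -/
theorem exists_fix_of_tr_two (x : SL2 F) (hns : NonSc x) (htr : tr x = 2) :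
    ∃ v : Fin 2 → F, v ≠ 0 ∧ x • v = v := by
  have hd := Cfsg.Agent.Lib.Helper12.SL2.det_eq x
  unfold tr at htr
  by_cases h : x 0 1 = 0 ∧ x 0 0 = 1
  · obtain ⟨h01, h00⟩ := h
    have h11 : x 1 1 = 1 := by linear_combination htr - h00
    refine ⟨![1 - x 1 1, x 1 0], ?_, ?_⟩
    · intro hv
      have hv1 := congrFun hv 1
      simp only [Matrix.cons_val_one, Matrix.cons_val_zero, Pi.zero_apply] at hv1
      exact hns ⟨h01, hv1, by rw [h00, h11]⟩
    · ext i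
      fin_cases i
      · show (x • ![1 - x 1 1, x 1 0]) 0 = 1 - x 1 1
        rw [Cfsg.Agent.Lib.Helper12.SL2.smul_apply]
        simp only [Matrix.cons_val_one, Matrix.cons_val_zero]
        rw [h01, h11]; ring
      · show (x • ![1 - x 1 1, x 1 0]) 1 = x 1 0
        rw [Cfsg.Agent.Lib.Helper12.SL2.smul_apply]
        simp only [Matrix.cons_val_one, Matrix.cons_val_zero]
        rw [h11]; ring
  · refine ⟨![x 0 1, 1 - x 0 0], ?_, ?_⟩
    · intro hv
      apply h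
      have hv0 := congrFun hv 0
      have hv1 := congrFun hv 1
      simp only [Matrix.cons_val_one, Matrix.cons_val_zero, Pi.zero_apply] at hv0 hv1
      exact ⟨hv0, by linear_combination -hv1⟩
    · ext i
      fin_cases i
      · show (x • ![x 0 1, 1 - x 0 0]) 0 = x 0 1
        rw [Cfsg.Agent.Lib.Helper12.SL2.smul_apply]
        simp only [Matrix.cons_val_one, Matrix.cons_val_zero]
        ring
      · show (x • ![x 0 1, 1 - x 0 0]) 1 = 1 - x 0 0
        rw [Cfsg.Agent.Lib.Helper12.SL2.smul_apply]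
        simp only [Matrix.cons_val_one, Matrix.cons_val_zero]
        linear_combination -hd + htr

/-- a non-scalar element of trace two is conjugate to some `up b`, `b ≠ 0` -/
theorem exists_aut_up (x : SL2 F) (hns : NonSc x) (htr : tr x = 2) :
    ∃ (e : SL2 F ≃* SL2 F) (b : F), b ≠ 0 ∧ e x = up b := by
  obtain ⟨v, hv, hfix⟩ := exists_fix_of_tr_two x hns htr
  obtain ⟨k, b, hk⟩ := exists_conj_up_of_fix x v hv hfix
  refine ⟨MulAut.conj k⁻¹, b, ?_, ?_⟩
  · rintro rfl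
    rw [up_zero] at hk
    have h1 : x = 1 := by
      have : x = k * (k⁻¹ * x * k) * k⁻¹ := by group
      rw [this, hk]; group
    apply hns
    rw [h1]
    simp
  · rw [MulAut.conj_apply, inv_inv]
    exact hk

/-- a split regular element is conjugate, under an automorphism, to a diagonal element -/
theorem exists_aut_dg3 (x : SL2 F) (hΔ : tr x ^ 2 ≠ 4) (m : F)
    (hm : m ^ 2 - tr x * m + 1 = 0) :
    ∃ (e : SL2 F ≃* SL2 F) (a : F) (ha : a ≠ 0), a ^ 2 ≠ 1 ∧ e x = dg a ha := by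
  have htr : (x : M2 F).trace = tr x := by
    rw [Matrix.trace_fin_two]; rfl
  have hlam : m ^ 2 - (x : M2 F).trace * m + 1 = 0 := by
    rw [htr]; exact hm
  have ht : (x : M2 F).trace ^ 2 ≠ 4 := by
    rw [htr]; exact hΔ
  obtain ⟨U, hU, hprod, hne⟩ :=
    Cfsg.Agent.Lib.Helper1.SL2Eigen.exists_diag (x : M2 F) x.det_coe m hlam ht
  rw [htr] at hU hprod hne
  have hm0 : m ≠ 0 := by
    rintro rfl
    rw [zero_mul] at hprod
    exact zero_ne_one hprod
  have hinv : tr x - m = m⁻¹ := eq_inv_of_mul_eq_one_right hprod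
  refine ⟨conjEquiv ((U⁻¹ : (M2 F)ˣ) : M2 F) (U : M2 F) (Units.inv_mul U) (Units.mul_inv U),
    m, hm0, ?_, ?_⟩
  · intro h1
    apply hne
    rw [hinv]
    apply eq_inv_of_mul_eq_one_right
    rw [← pow_two]; exact h1
  · apply Subtype.ext
    rw [conjEquiv_apply, conjHom_coe, ← Cfsg.Agent.Lib.Helper1.SL2Eigen.cj_apply, hU, hinv]
    ext i j
    fin_cases i <;> fin_cases j <;> simp [dg, mk]

/-- **the four solubilizer counts in `SL₂(3 ^ p)`** -/
theorem main3 (p : ℕ) (hp : p.Prime) (hodd : Odd p) (hF : Fintype.card F = 3 ^ p) (x : SL2 F) :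
    (tr x = 0 → Nat.card {y : SL2 F // Sol x y} = 2 * 3 ^ p * (3 ^ p + 1)) ∧
    (NonSc x → tr x = 2 → Nat.card {y : SL2 F // Sol x y} = 3 ^ p * (3 ^ p + 5)) ∧
    (tr x ^ 2 ≠ 4 → tr x ≠ 0 → (∃ v : Fin 2 → F, v ≠ 0 ∧ ∃ c : F, x • v = c • v) →
      Nat.card {y : SL2 F // Sol x y} = 2 * 3 ^ p * (3 ^ p - 1)) ∧
    (tr x ^ 2 ≠ 4 → tr x ≠ 0 → (∀ v : Fin 2 → F, v ≠ 0 → ∀ c : F, x • v ≠ c • v) →
      Nat.card {y : SL2 F // Sol x y} = 2 * (3 ^ p + 1)) := by
  classical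
  have h3 := three_eq_zero p hp hF
  have h2 := two_ne_zero' h3
  have hsq := not_isSquare_neg_one p hodd hF
  rw [← hF]
  refine ⟨?_, ?_, ?_, ?_⟩
  · intro htr
    obtain ⟨e, he⟩ := exists_aut_wm hsq x htr
    rw [← card_sol_map e x, he,
      Nat.card_congr (Equiv.subtypeEquivRight (sol_wm_iff p hp hodd hF)), card_wm_set h3 hsq]
  · intro hns htr
    obtain ⟨e, b, hb, he⟩ := exists_aut_up x hns htr
    rw [← card_sol_map e x, he,
      Nat.card_congr (Equiv.subtypeEquivRight (sol_up3_iff p hp hodd hF hb)), card_up3_set h3 hb]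
  · rintro hΔ hτ ⟨v, hv, c, hc⟩
    have hm := Cfsg.Agent.S2475.trace_of_eigen x v hv c hc
    have hm' : c ^ 2 - tr x * c + 1 = 0 := by
      unfold tr
      linear_combination hm
    obtain ⟨e, a, ha, ha1, he⟩ := exists_aut_dg3 x hΔ c hm'
    rw [← card_sol_map e x, he,
      Nat.card_congr (Equiv.subtypeEquivRight (sol_dg3_iff p hp hodd hF ha ha1)), card_dg_set]
  · intro hΔ hτ hno
    have hns : NonSc x := nonScalar_of_tr x hΔ
    have hE : ∀ (c : F) (v : Fin 2 → F), v ≠ 0 → (x : M2 F).mulVec v ≠ c • v :=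
      fun c v hv => hno v hv c
    have hnsq := Cfsg.Agent.Lib.Helper12.SL2.not_isSquare_of_noeig h2 x hE
    have hcard := (Cfsg.Agent.Lib.Helper12.SL2.card_Tor_of_not_isSquare h2 x hnsq).1
    rw [Nat.card_congr (Equiv.subtypeEquivRight (sol_nonsplit3_iff p hp hodd hF x hΔ hτ hno))]
    have := Cfsg.Agent.Lib.Helper12.DkM.card_NTor x hns hΔ
    rw [hcard] at this
    exact this

end Cfsg.Agent.Lib.Helper1.SolT8
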