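import Cfsg.Agent.Lib.Helper1.SolT8

/-!
Solubilizers (helper1): from `PSL₂(3 ^ p)` to `SL₂(3 ^ p)`.
-/

set_option autoImplicit false

namespace Cfsg.Agent.Lib.Helper1.SolT9

open Cfsg.Agent.Lib.Helper12.SL2 Cfsg.Agent.Lib.Helper1.SolZ1 Cfsg.Agent.Lib.Helper1.SolT2
  Cfsg.Agent.Lib.Helper1.SolT3 Cfsg.Agent.Lib.Helper1.SolT4 Cfsg.Agent.Lib.Helper1.SolT8
  Cfsg.Agent.Lib.Helper1.DkOrders

variable {F : Type*} [Field F] [Fintype F]

local notation "SL2" => Matrix.SpecialLinearGroup (Fin 2)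
local notation "M2" => Matrix (Fin 2) (Fin 2)
local notation "PSL2" => Matrix.ProjectiveSpecialLinearGroup (Fin 2)
local notation "NonSc" => Cfsg.Agent.Lib.Helper12.SL2.NonScalar
local notation "π" => QuotientGroup.mk' (Subgroup.center (Matrix.SpecialLinearGroup (Fin 2) F))

/-- the count upstairs is twice the count downstairs -/
theorem card_transfer (hq : Odd (Fintype.card F)) (x : SL2 F) :
    Nat.card {y : SL2 F // Sol x y} =
      2 * Nat.card {z : PSL2 F // Group.IsSolvable ↥(Subgroup.closure ({π x, z} : Set (PSL2 F)))} := by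
  have h1 := card_fiber_quot (Subgroup.center (SL2 F)) (fun z : PSL2 F => Sol (π x) z)
  have e : {y : SL2 F // Sol (π x) ((y : SL2 F) : SL2 F ⧸ Subgroup.center (SL2 F))} ≃
      {y : SL2 F // Sol x y} :=
    Equiv.subtypeEquivRight (fun y => sol_center_quot_iff x y)
  have hc : Nat.card (Subgroup.center (SL2 F)) = 2 := by
    rw [card_center_gcd]
    obtain ⟨k, hk⟩ := hq
    rw [hk]
    simp
  rw [← Nat.card_congr e, h1, hc, mul_comm]
  rfl

theorem pi_ne_one_iff (x : SL2 F) : π x ≠ 1 ↔ NonSc x := by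
  rw [ne_eq, QuotientGroup.mk'_apply, QuotientGroup.eq_one_iff, mem_center_iff_not_nonScalar,
    not_not]

theorem tr_of_order_two (x : SL2 F) (h : orderOf (π x) = 2) : tr x = 0 := by
  have hne : π x ≠ 1 := by
    intro h1
    rw [h1, orderOf_one] at h
    omega
  have hns := (pi_ne_one_iff x).mp hne
  apply tr_eq_zero_of_sq_mem_center x hns
  have h2 : π x ^ 2 = 1 := by
    have := pow_orderOf_eq_one (π x)
    rwa [h] at this
  rw [pow_two, ← map_mul] at h2
  exact (QuotientGroup.eq_one_iff _).mp h2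

theorem tr_of_order_three (x : SL2 F) (h : orderOf (π x) = 3) : NonSc x ∧ tr x ^ 2 = 1 := by
  have hne : π x ≠ 1 := by
    intro h1
    rw [h1, orderOf_one] at h
    omega
  have hns := (pi_ne_one_iff x).mp hne
  refine ⟨hns, tr_sq_eq_one_of_cube_mem_center x hns ?_⟩
  have h2 : π x ^ 3 = 1 := by
    have := pow_orderOf_eq_one (π x)
    rwa [h] at this
  rw [pow_succ, pow_two, ← map_mul, ← map_mul] at h2
  exact (QuotientGroup.eq_one_iff _).mp h2

theorem regular_of_order (h3 : (3 : F) = 0) (x : SL2 F) (hx1 : π x ≠ 1)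
    (hx2 : orderOf (π x) ≠ 2) (hx3 : ¬ 3 ∣ orderOf (π x)) : tr x ≠ 0 ∧ tr x ^ 2 ≠ 4 := by
  constructor
  · intro h0
    have := pi_sq_of_tr x h0
    have hd : orderOf (π x) ∣ 2 := orderOf_dvd_of_pow_eq_one (by rw [pow_two]; exact this)
    rcases (Nat.dvd_prime Nat.prime_two).mp hd with h | h
    · exact hx1 (orderOf_eq_one_iff.mp h)
    · exact hx2 h
  · intro h4
    have h1 : tr x ^ 2 = 1 := by rw [h4]; exact four_eq_one h3
    have := pi_cube_of_tr x h1
    have hd : orderOf (π x) ∣ 3 :=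
      orderOf_dvd_of_pow_eq_one (by rw [pow_succ, pow_two]; exact this)
    rcases (Nat.dvd_prime Nat.prime_three).mp hd with h | h
    · exact hx1 (orderOf_eq_one_iff.mp h)
    · exact hx3 (by rw [h])

theorem orderOf_pi_dvd (x : SL2 F) : orderOf (π x) ∣ Nat.card (Tor x) :=
  (orderOf_map_dvd _ x).trans
    (Subgroup.orderOf_dvd_natCard _ (Subgroup.mem_centralizer_singleton_iff.mpr rfl))

/-- the negative of an element -/
def ng (x : SL2 F) : SL2 F := mk (-x 0 0) (-x 0 1) (-x 1 0) (-x 1 1) (by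
  linear_combination Cfsg.Agent.Lib.Helper12.SL2.det_eq x)

theorem tr_ng (x : SL2 F) : tr (ng x) = -tr x := by
  unfold tr
  simp only [ng, mk_00, mk_11]
  ring

theorem pi_ng (x : SL2 F) : π (ng x) = π x := by
  symm
  rw [QuotientGroup.mk'_apply, QuotientGroup.mk'_apply, QuotientGroup.eq,
    Cfsg.Agent.S2475.mem_center_iff']
  simp only [mul_apply', inv_00, inv_01, inv_10, inv_11, ng, mk_00, mk_01, mk_10, mk_11]
  refine ⟨by ring, by ring, by ring⟩

end Cfsg.Agent.Lib.Helper1.SolT9
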