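import Mathlib

/-!
Solubilizers (helper1): general group lemmas.  `Sol x y` says that `x` and `y` generate a solvable
subgroup; invariance under isomorphisms, groups generated by two elements of order at most two are
solvable, and proper subgroups of finite groups lie in coatoms.
-/

set_option autoImplicit false

namespace Cfsg.Agent.Lib.Helper1.SolZ1

open Subgroup

/-- `x` and `y` generate a solvable subgroup -/
def Sol {G : Type*} [Group G] (x y : G) : Prop :=
  Group.IsSolvable ↥(Subgroup.closure ({x, y} : Set G))

theorem sol_map_iff {G G' : Type*} [Group G] [Group G'] (e : G ≃* G') (x y : G) :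
    Sol (e x) (e y) ↔ Sol x y := by
  unfold Sol
  have hmap : (Subgroup.closure ({x, y} : Set G)).map e.toMonoidHom =
      Subgroup.closure ({e x, e y} : Set G') := by
    rw [MonoidHom.map_closure, Set.image_pair]
    rfl
  have f : ↥(Subgroup.closure ({x, y} : Set G)) ≃* ↥(Subgroup.closure ({e x, e y} : Set G')) :=
    (Subgroup.equivMapOfInjective _ e.toMonoidHom e.injective).trans (MulEquiv.subgroupCongr hmap)
  constructor
  · intro h
    exact Group.isSolvable_of_isSolvable_injective (f := f.toMonoidHom) f.injective
  · intro h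
    exact Group.isSolvable_of_isSolvable_injective (f := f.symm.toMonoidHom) f.symm.injective

/-- the solubilizer count is invariant under isomorphisms -/
theorem card_sol_map {G G' : Type*} [Group G] [Group G'] (e : G ≃* G') (x : G) :
    Nat.card {y : G' // Sol (e x) y} = Nat.card {y : G // Sol x y} := by
  apply Nat.card_congr
  refine ⟨fun y => ⟨e.symm y.1, ?_⟩, fun y => ⟨e y.1, ?_⟩, ?_, ?_⟩
  · have := y.2
    rw [← sol_map_iff e]
    simpa using this
  · rw [sol_map_iff e]
    exact y.2
  · intro y; ext; simp
  · intro y; ext; simp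

theorem sol_of_le {G : Type*} [Group G] {x y : G} (H : Subgroup G) [Group.IsSolvable H]
    (hx : x ∈ H) (hy : y ∈ H) : Sol x y := by
  unfold Sol
  have hle : Subgroup.closure ({x, y} : Set G) ≤ H := by
    rw [Subgroup.closure_le]
    intro z hz
    rcases hz with rfl | rfl
    · exact hx
    · exact hy
  exact Group.isSolvable_of_isSolvable_injective (f := Subgroup.inclusion hle) (Subgroup.inclusion_injective hle)

theorem sol_of_closure_le {G : Type*} [Group G] {x y a b : G} (h : Sol a b)
    (hx : x ∈ Subgroup.closure ({a, b} : Set G)) (hy : y ∈ Subgroup.closure ({a, b} : Set G)) :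
    Sol x y := by
  unfold Sol at h
  exact sol_of_le (Subgroup.closure ({a, b} : Set G)) hx hy

/-- a group generated by two elements of order at most two is solvable -/
theorem solvable_of_two_gen {D : Type*} [Group D] (a b : D)
    (hgen : Subgroup.closure ({a, b} : Set D) = ⊤) (ha : a * a = 1) (hb : b * b = 1) :
    Group.IsSolvable D := by
  have hai : a⁻¹ = a := inv_eq_of_mul_eq_one_left ha
  have hbi : b⁻¹ = b := inv_eq_of_mul_eq_one_left hb
  set c := a * b with hc
  have hca : a * c * a⁻¹ = c⁻¹ := by
    rw [hc, mul_inv_rev, hai, hbi, ← mul_assoc, ha, one_mul]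
  have hcb : b * c * b⁻¹ = c⁻¹ := by
    rw [hc, mul_inv_rev, hai, hbi]
    rw [mul_assoc, mul_assoc, hb, mul_one]
  have hnorm : ∀ g : D, g * c * g⁻¹ = c⁻¹ → g⁻¹ = g → g ∈ Subgroup.normalizer (Subgroup.zpowers c : Set D) := by
    intro g hg hgi
    have hfwd : ∀ h : D, h ∈ Subgroup.zpowers c → g * h * g⁻¹ ∈ Subgroup.zpowers c := by
      intro h hh
      obtain ⟨k, rfl⟩ := Subgroup.mem_zpowers_iff.mp hh
      have : g * c ^ k * g⁻¹ = (c⁻¹) ^ k := by
        rw [← hg]
        exact (conj_zpow (a := g) (b := c) (i := k)).symm
      rw [this]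
      exact Subgroup.zpow_mem _ (Subgroup.inv_mem _ (Subgroup.mem_zpowers c)) k
    rw [Subgroup.mem_normalizer_iff]
    intro h
    constructor
    · exact hfwd h
    · intro hh
      have := hfwd _ hh
      rw [hgi] at this
      have e : g * (g * h * g) * g = (g * g) * h * (g * g) := by group
      have hgg : g * g = 1 := by
        have := mul_inv_cancel g
        rwa [hgi] at this
      rw [e, hgg, one_mul, mul_one] at this
      exact this
  have hNtop : Subgroup.normalizer (Subgroup.zpowers c : Set D) = ⊤ := by
    rw [eq_top_iff, ← hgen, Subgroup.closure_le]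
    intro z hz
    rcases hz with rfl | rfl
    · exact hnorm _ hca hai
    · exact hnorm _ hcb hbi
  haveI hN : (Subgroup.zpowers c).Normal := Subgroup.normalizer_eq_top_iff.mp hNtop
  -- the quotient is cyclic
  have hquot : ∀ y : D ⧸ Subgroup.zpowers c, y ∈ Subgroup.zpowers (QuotientGroup.mk' (Subgroup.zpowers c) a) := by
    have hcomap : (Subgroup.zpowers (QuotientGroup.mk' (Subgroup.zpowers c) a)).comap
        (QuotientGroup.mk' (Subgroup.zpowers c)) = ⊤ := by
      rw [eq_top_iff, ← hgen, Subgroup.closure_le]
      intro z hz
      rcases hz with rfl | rfl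
      · exact Subgroup.mem_zpowers _
      · rw [SetLike.mem_coe, Subgroup.mem_comap]
        have hz : z = a⁻¹ * c := by rw [hc]; group
        have h1 : QuotientGroup.mk' (Subgroup.zpowers c) c = 1 :=
          (QuotientGroup.eq_one_iff c).mpr (Subgroup.mem_zpowers c)
        rw [hz, map_mul, h1, mul_one, map_inv]
        exact Subgroup.inv_mem _ (Subgroup.mem_zpowers _)
    intro y
    induction y using QuotientGroup.induction_on with
    | H g =>
      have : g ∈ (Subgroup.zpowers (QuotientGroup.mk' (Subgroup.zpowers c) a)).comap
          (QuotientGroup.mk' (Subgroup.zpowers c)) := by rw [hcomap]; trivial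
      exact this
  haveI : IsCyclic (D ⧸ Subgroup.zpowers c) := ⟨⟨_, hquot⟩⟩
  haveI : Group.IsSolvable (D ⧸ Subgroup.zpowers c) :=
    Group.isSolvable_of_comm (fun x y => (IsCyclic.commGroup.mul_comm x y))
  haveI : Group.IsSolvable ↥(Subgroup.zpowers c) :=
    Group.isSolvable_of_comm (fun x y => (IsCyclic.commGroup.mul_comm x y))
  exact Group.isSolvable_of_ker_le_range (Subgroup.zpowers c).subtype (QuotientGroup.mk' (Subgroup.zpowers c))
    (by rw [QuotientGroup.ker_mk', Subgroup.range_subtype])

/-- two elements of order at most two generate a solvable subgroup -/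
theorem sol_of_sq {G : Type*} [Group G] {a b : G} (ha : a * a = 1) (hb : b * b = 1) : Sol a b := by
  unfold Sol
  have hamem : a ∈ Subgroup.closure ({a, b} : Set G) := Subgroup.subset_closure (by simp)
  have hbmem : b ∈ Subgroup.closure ({a, b} : Set G) := Subgroup.subset_closure (by simp)
  apply solvable_of_two_gen (⟨a, hamem⟩ : ↥(Subgroup.closure ({a, b} : Set G))) ⟨b, hbmem⟩
  · have := Subgroup.closure_closure_coe_preimage (k := ({a, b} : Set G))
    rw [← this]
    congr 1
    ext z
    constructor
    · intro hz
      rcases hz with rfl | rfl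
      · show a ∈ ({a, b} : Set G); simp
      · show b ∈ ({a, b} : Set G); simp
    · intro hz
      have hz' : (z : G) ∈ ({a, b} : Set G) := hz
      rcases hz' with h | h
      · left; exact Subtype.ext h
      · right; exact Subtype.ext h
  · exact Subtype.ext ha
  · exact Subtype.ext hb

/-- `x`, `y` with `y² = 1` and `(xy)² = 1` ... more generally a pair inside the closure of two
elements of order at most two -/
theorem sol_of_sq_mul {G : Type*} [Group G] {x y : G} (hy : y * y = 1) (hxy : (x * y) * (x * y) = 1) :
    Sol x y := by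
  have h := sol_of_sq hxy hy
  apply sol_of_closure_le h
  · have h1 : x * y ∈ Subgroup.closure ({x * y, y} : Set G) := Subgroup.subset_closure (by simp)
    have h2 : y ∈ Subgroup.closure ({x * y, y} : Set G) := Subgroup.subset_closure (by simp)
    have := Subgroup.mul_mem _ h1 (Subgroup.inv_mem _ h2)
    simpa using this
  · exact Subgroup.subset_closure (by simp)

theorem sol_of_sq_mul' {G : Type*} [Group G] {x y : G} (hx : x * x = 1) (hxy : (x * y) * (x * y) = 1) :
    Sol x y := by
  have h := sol_of_sq hx hxy
  apply sol_of_closure_le h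
  · exact Subgroup.subset_closure (by simp)
  · have h1 : x * y ∈ Subgroup.closure ({x, x * y} : Set G) := Subgroup.subset_closure (by simp)
    have h2 : x ∈ Subgroup.closure ({x, x * y} : Set G) := Subgroup.subset_closure (by simp)
    have := Subgroup.mul_mem _ (Subgroup.inv_mem _ h2) h1
    simpa using this

/-- a pair generating a solvable subgroup of a finite non-solvable group lies in a coatom -/
theorem exists_coatom_of_sol {G : Type*} [Group G] [Finite G] (hG : ¬ Group.IsSolvable G) {x y : G}
    (h : Sol x y) : ∃ M : Subgroup G, IsCoatom M ∧ x ∈ M ∧ y ∈ M := by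
  have hne : Subgroup.closure ({x, y} : Set G) ≠ ⊤ := by
    intro htop
    apply hG
    unfold Sol at h
    rw [htop] at h
    exact Group.isSolvable_of_surjective (f := (Subgroup.topEquiv : (⊤ : Subgroup G) ≃* G).toMonoidHom)
      Subgroup.topEquiv.surjective
  obtain ⟨M, hM, hle⟩ := (eq_top_or_exists_le_coatom (Subgroup.closure ({x, y} : Set G))).resolve_left hne
  exact ⟨M, hM, hle (Subgroup.subset_closure (by simp)), hle (Subgroup.subset_closure (by simp))⟩

end Cfsg.Agent.Lib.Helper1.SolZ1
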