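import Cfsg.Agent.Lib.Helper12.DkW

/-!
Solubilizers (helper1): `SL₂(F)` in characteristic two, tori and their normalizers.
-/

set_option autoImplicit false

namespace Cfsg.Agent.Lib.Helper1.SolZ2

open Cfsg.Agent.Lib.Helper12.SL2

variable {F : Type*} [Field F]

local notation "SL2" => Matrix.SpecialLinearGroup (Fin 2)

/-- trace zero elements are involutions in characteristic two -/
theorem sq_eq_one_of_tr (h2 : (2 : F) = 0) (y : SL2 F) (ht : tr y = 0) : y * y = 1 := by
  have hd := det_eq y
  unfold tr at ht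
  apply ext4 <;> simp only [mul_apply', Matrix.SpecialLinearGroup.coe_one, Matrix.one_apply_eq,
    Matrix.one_apply_ne, ne_eq, one_ne_zero, zero_ne_one, not_false_eq_true]
  · linear_combination (-1 : F) * hd + y 0 0 * ht - h2
  · linear_combination y 0 1 * ht
  · linear_combination y 1 0 * ht
  · linear_combination (-1 : F) * hd + y 1 1 * ht - h2

theorem tr_eq_zero_of_sq (y : SL2 F) (hy : y * y = 1) (hns : NonScalar y) :
    tr y = 0 := by
  have e01 := congrArg (fun g : SL2 F => g 0 1) hy
  have e10 := congrArg (fun g : SL2 F => g 1 0) hy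
  have e00 := congrArg (fun g : SL2 F => g 0 0) hy
  have e11 := congrArg (fun g : SL2 F => g 1 1) hy
  simp only [mul_apply', Matrix.SpecialLinearGroup.coe_one, Matrix.one_apply_eq,
    Matrix.one_apply_ne, ne_eq, one_ne_zero, zero_ne_one, not_false_eq_true] at e01 e10 e00 e11
  by_contra hne
  apply hns
  unfold tr at hne
  have h01 : y 0 1 = 0 := by
    have : y 0 1 * (y 0 0 + y 1 1) = 0 := by linear_combination e01
    exact (mul_eq_zero.mp this).resolve_right hne
  have h10 : y 1 0 = 0 := by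
    have : y 1 0 * (y 0 0 + y 1 1) = 0 := by linear_combination e10
    exact (mul_eq_zero.mp this).resolve_right hne
  refine ⟨h01, h10, ?_⟩
  have : (y 0 0 - y 1 1) * (y 0 0 + y 1 1) = 0 := by linear_combination e00 - e11
  exact sub_eq_zero.mp ((mul_eq_zero.mp this).resolve_right hne)

/-- scalars in characteristic two are trivial -/
theorem nonScalar_of_ne_one (h2 : (2 : F) = 0) (y : SL2 F) (hy : y ≠ 1) : NonScalar y := by
  rintro ⟨h01, h10, h00⟩
  apply hy
  have hd := det_eq y
  rw [h01, zero_mul, sub_zero, ← h00] at hd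
  have h1 : (y 0 0 - 1) ^ 2 = 0 := by linear_combination hd + (1 - y 0 0) * h2
  have h1' : y 0 0 = 1 := sub_eq_zero.mp (pow_eq_zero_iff (by norm_num) |>.mp h1)
  apply ext4 <;> simp [h01, h10, ← h00, h1']

theorem inv_eq_two (h2 : (2 : F) = 0) (x : SL2 F) :
    x⁻¹ 0 0 = x 1 1 ∧ x⁻¹ 0 1 = x 0 1 ∧ x⁻¹ 1 0 = x 1 0 ∧ x⁻¹ 1 1 = x 0 0 := by
  refine ⟨inv_00 x, ?_, ?_, inv_11 x⟩
  · rw [inv_01]; linear_combination (-(x 0 1)) * h2
  · rw [inv_10]; linear_combination (-(x 1 0)) * h2

theorem eq_or_eq_inv_of_tr_eq_two (h2 : (2 : F) = 0) (x y : SL2 F) (hns : NonScalar x)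
    (hτ : tr x ≠ 0) (hc : y * x = x * y) (htr : tr y = tr x) : y = x ∨ y = x⁻¹ := by
  obtain ⟨s, t, hst, rfl⟩ := exists_lin_of_commute x y hns hc
  rw [tr_lin] at htr
  have ht : t = 1 := by
    have : (t - 1) * tr x = 0 := by linear_combination htr - s * h2
    exact sub_eq_zero.mp ((mul_eq_zero.mp this).resolve_right hτ)
  subst ht
  have hs : s * (s + tr x) = 0 := by linear_combination hst
  rcases mul_eq_zero.mp hs with h | h
  · left
    subst h
    apply ext4 <;> simp [lin]
  · right
    have hs' : s = tr x := by linear_combination h - tr x * h2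
    subst hs'
    obtain ⟨i00, i01, i10, i11⟩ := inv_eq_two h2 x
    apply ext4 <;> simp only [i00, i01, i10, i11, lin, mk_00, mk_01, mk_10, mk_11, tr]
    · linear_combination x 0 0 * h2
    · ring
    · ring
    · linear_combination x 1 1 * h2

/-- the normalizer of the torus `C(x)` in characteristic two -/
theorem mem_NTor_iff (h2 : (2 : F) = 0) (x : SL2 F) (hns : NonScalar x) (hτ : tr x ≠ 0)
    (n : SL2 F) : n ∈ NTor x ↔ n * x * n⁻¹ = x ∨ n * x * n⁻¹ = x⁻¹ := by
  rw [Subgroup.mem_normalizer_iff]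
  constructor
  · intro h
    have hx : x ∈ Subgroup.centralizer ({x} : Set (SL2 F)) :=
      Subgroup.mem_centralizer_singleton_iff.mpr rfl
    have h1 := (h x).mp hx
    rw [Subgroup.mem_centralizer_singleton_iff] at h1
    exact eq_or_eq_inv_of_tr_eq_two h2 x _ hns hτ h1 (tr_conj n x)
  · intro h k
    have key := conj_mem_centralizer_iff n x k
    rcases h with h | h
    · rw [h] at key; exact key.symm
    · rw [h, centralizer_inv] at key; exact key.symm

theorem mem_Tor_of_conj (x n : SL2 F) (h : n * x * n⁻¹ = x) : n ∈ Tor x := by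
  rw [Subgroup.mem_centralizer_singleton_iff]
  calc n * x = n * x * n⁻¹ * n := by group
    _ = x * n := by rw [h]

/-- an element inverting a non-scalar element has trace zero -/
theorem tr_eq_zero_of_conj_inv (x g : SL2 F) (hns : NonScalar x) (h : g * x * g⁻¹ = x⁻¹) :
    tr g = 0 := by
  have h1 : g * x = x⁻¹ * g := by rw [← h]; group
  have e00 := congrArg (fun y : SL2 F => y 0 0) h1
  have e01 := congrArg (fun y : SL2 F => y 0 1) h1
  have e10 := congrArg (fun y : SL2 F => y 1 0) h1
  have e11 := congrArg (fun y : SL2 F => y 1 1) h1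
  simp only [mul_apply', inv_00, inv_01, inv_10, inv_11] at e00 e01 e10 e11
  by_contra hne
  apply hns
  unfold tr at hne
  have h01 : x 0 1 = 0 := by
    have : x 0 1 * (g 0 0 + g 1 1) = 0 := by linear_combination e01
    exact (mul_eq_zero.mp this).resolve_right hne
  have h10 : x 1 0 = 0 := by
    have : x 1 0 * (g 0 0 + g 1 1) = 0 := by linear_combination e10
    exact (mul_eq_zero.mp this).resolve_right hne
  refine ⟨h01, h10, ?_⟩
  have : (x 0 0 - x 1 1) * (g 0 0 + g 1 1) = 0 := by linear_combination e00 - e11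
  exact sub_eq_zero.mp ((mul_eq_zero.mp this).resolve_right hne)

/-- elements of `N(T) \ T` have trace zero -/
theorem mem_Tor_of_tr_ne (h2 : (2 : F) = 0) (x : SL2 F) (hns : NonScalar x) (hτ : tr x ≠ 0)
    (n : SL2 F) (hn : n ∈ NTor x) (htn : tr n ≠ 0) : n ∈ Tor x := by
  rcases (mem_NTor_iff h2 x hns hτ n).mp hn with h | h
  · exact mem_Tor_of_conj x n h
  · exact absurd (tr_eq_zero_of_conj_inv x n hns h) htn

/-- an element inverting `x` inverts the whole torus -/
theorem conj_eq_inv_of_mem_Tor (x g : SL2 F) (hns : NonScalar x) (hx : g * x * g⁻¹ = x⁻¹)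
    (t : SL2 F) (ht : t ∈ Tor x) : g * t * g⁻¹ = t⁻¹ := by
  rw [Subgroup.mem_centralizer_singleton_iff] at ht
  obtain ⟨s, u, hsu, rfl⟩ := exists_lin_of_commute x t hns ht
  have h1 : s ^ 2 + tr (g * x * g⁻¹) * s * u + u ^ 2 = 1 := by rw [tr_conj]; exact hsu
  have h2' : s ^ 2 + tr x⁻¹ * s * u + u ^ 2 = 1 := by rw [tr_inv]; exact hsu
  rw [conj_lin g x s u hsu h1, lin_inv x s u hsu h2']
  exact lin_congr _ _ hx s u _ _

/-- an involution in `N(T)` together with an element of trace nonzero: the involution inverts -/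
theorem sq_mul_eq_one (h2 : (2 : F) = 0) (g x y : SL2 F) (hns : NonScalar g) (hτ : tr g ≠ 0)
    (hx : x ∈ NTor g) (hxT : x ∉ Tor g) (hy : y ∈ Tor g) : (x * y) * (x * y) = 1 := by
  rcases (mem_NTor_iff h2 g hns hτ x).mp hx with h | h
  · exact absurd (mem_Tor_of_conj g x h) hxT
  · have hinv := conj_eq_inv_of_mem_Tor g x hns h y hy
    calc (x * y) * (x * y) = (x * y * x⁻¹) * (x * x) * y := by group
      _ = y⁻¹ * (x * x) * y := by rw [hinv]
      _ = 1 := by
        rw [sq_eq_one_of_tr h2 x (tr_eq_zero_of_conj_inv g x hns h)]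
        group

/-- tori of commuting non-scalar elements agree -/
theorem NTor_eq_of_commute (g h : SL2 F) (hg : NonScalar g) (hh : NonScalar h)
    (hc : h * g = g * h) : NTor h = NTor g := by
  have := centralizer_eq_of_commute g h hg hh hc
  show Subgroup.normalizer ((Tor h : Subgroup (SL2 F)) : Set (SL2 F)) =
    Subgroup.normalizer ((Tor g : Subgroup (SL2 F)) : Set (SL2 F))
  rw [show Tor h = Tor g from this]

end Cfsg.Agent.Lib.Helper1.SolZ2
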