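import Mathlib
import Cfsg.Agent.Lib.Helper14.SzP

/-!
# Suzuki groups: the standard embedding `Sz(K) → Sz(F)` attached to a field embedding (helper1)
-/

set_option autoImplicit false
set_option maxHeartbeats 2000000

namespace Cfsg.Agent.Lib.Helper1.SzSub

open Cfsg Cfsg.Agent.Lib.Helper14.Sz

section emb

variable {F : Type*} [Field F] [Fintype F] [CharP F 2] {m : ℕ}
variable {K : Type*} [Field K] [Fintype K] [CharP K 2] {k : ℕ}

theorem exists_ringHom (hK : Fintype.card K = 2 ^ (2 * k + 1))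
    (hF : Fintype.card F = 2 ^ (2 * m + 1)) (hdiv : 2 * k + 1 ∣ 2 * m + 1) :
    Nonempty (K →+* F) := by
  haveI : Fact (Nat.Prime 2) := ⟨Nat.prime_two⟩
  letI : Algebra (ZMod 2) K := ZMod.algebra K 2
  letI : Algebra (ZMod 2) F := ZMod.algebra F 2
  have h1 : Module.finrank (ZMod 2) K = 2 * k + 1 :=
    Nat.pow_right_injective (le_refl 2) (by
      show 2 ^ Module.finrank (ZMod 2) K = 2 ^ (2 * k + 1)
      rw [FiniteField.pow_finrank_eq_card, hK])
  have h2 : Module.finrank (ZMod 2) F = 2 * m + 1 :=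
    Nat.pow_right_injective (le_refl 2) (by
      show 2 ^ Module.finrank (ZMod 2) F = 2 ^ (2 * m + 1)
      rw [FiniteField.pow_finrank_eq_card, hF])
  obtain ⟨f⟩ := FiniteField.nonempty_algHom_of_finrank_dvd (F := ZMod 2) (K := K) (L := F) (by
    rw [h1, h2]
    exact hdiv)
  exact ⟨f.toRingHom⟩

theorem pow_two_pow_mul (hK : Fintype.card K = 2 ^ (2 * k + 1)) (x : K) (e : ℕ) :
    x ^ (2 ^ ((2 * k + 1) * e)) = x := by
  induction e with
  | zero => simp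
  | succ e ih => rw [Nat.mul_succ, pow_add, pow_mul, ih, ← hK, FiniteField.pow_card]

theorem exists_e (hdiv : 2 * k + 1 ∣ 2 * m + 1) : ∃ e, m = (2 * k + 1) * e + k := by
  obtain ⟨d, hd⟩ := hdiv
  obtain ⟨e, rfl | rfl⟩ := Nat.even_or_odd' d
  · exfalso
    have : (2 * k + 1) * (2 * e) = 2 * ((2 * k + 1) * e) := by ring
    omega
  · refine ⟨e, ?_⟩
    have : (2 * k + 1) * (2 * e + 1) = 2 * ((2 * k + 1) * e) + 2 * k + 1 := by ring
    omega

theorem rho_map (hK : Fintype.card K = 2 ^ (2 * k + 1)) (hdiv : 2 * k + 1 ∣ 2 * m + 1)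
    (ι : K →+* F) (x : K) : rho m (ι x) = ι (rho k x) := by
  obtain ⟨e, he⟩ := exists_e hdiv
  unfold rho
  rw [← map_pow]
  congr 1
  rw [he, pow_add, pow_mul, pow_two_pow_mul hK]

theorem sg_map (hK : Fintype.card K = 2 ^ (2 * k + 1)) (hdiv : 2 * k + 1 ∣ 2 * m + 1)
    (ι : K →+* F) (x : K) : sg m (ι x) = ι (sg k x) := by
  obtain ⟨e, he⟩ := exists_e hdiv
  unfold sg
  rw [← map_pow]
  congr 1
  have : m + 1 = (2 * k + 1) * e + (k + 1) := by omega
  rw [this, pow_add, pow_mul, pow_two_pow_mul hK]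

theorem ff_map (hK : Fintype.card K = 2 ^ (2 * k + 1)) (hdiv : 2 * k + 1 ∣ 2 * m + 1)
    (ι : K →+* F) (x y : K) : ff m (ι x) (ι y) = ι (ff k x y) := by
  unfold ff
  rw [sg_map hK hdiv, sg_map hK hdiv]
  simp only [map_add, map_mul, map_pow]

local notation "SL4" => Matrix.SpecialLinearGroup (Fin 4)

theorem map_Tg (hK : Fintype.card K = 2 ^ (2 * k + 1)) (hdiv : 2 * k + 1 ∣ 2 * m + 1)
    (ι : K →+* F) (a b : K) :
    Matrix.SpecialLinearGroup.map ι (Tg k a b) = Tg m (ι a) (ι b) := by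
  apply Subtype.ext
  show ι.mapMatrix (Tmat k a b) = Tmat m (ι a) (ι b)
  ext i j
  fin_cases i <;> fin_cases j <;>
    simp [Tmat, sg_map hK hdiv, ff_map hK hdiv, RingHom.mapMatrix_apply]

theorem map_Hg (hK : Fintype.card K = 2 ^ (2 * k + 1)) (hdiv : 2 * k + 1 ∣ 2 * m + 1)
    (ι : K →+* F) (c : Kˣ) :
    Matrix.SpecialLinearGroup.map ι (Hg k c) = Hg m (Units.map (ι : K →* F) c) := by
  apply Subtype.ext
  show ι.mapMatrix (Hmat k (c : K)) = Hmat m ((Units.map (ι : K →* F) c : Fˣ) : F)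
  ext i j
  fin_cases i <;> fin_cases j <;>
    simp [Hmat, rho_map hK hdiv, RingHom.mapMatrix_apply]

theorem map_Wg (ι : K →+* F) :
    Matrix.SpecialLinearGroup.map ι (Wg K) = Wg F := by
  apply Subtype.ext
  show ι.mapMatrix (Wmat K) = Wmat F
  ext i j
  fin_cases i <;> fin_cases j <;> simp [Wmat, RingHom.mapMatrix_apply]

theorem map_mem (hk : 1 ≤ k) (hK : Fintype.card K = 2 ^ (2 * k + 1))
    (hF : Fintype.card F = 2 ^ (2 * m + 1)) (hdiv : 2 * k + 1 ∣ 2 * m + 1)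
    (ι : K →+* F) (g : SL4 K) (hg : g ∈ Sz K k) :
    Matrix.SpecialLinearGroup.map ι g ∈ Sz F m := by
  rcases bruhat hk hK ⟨g, hg⟩ with ⟨a, b, c, e⟩ | ⟨c', d', a, b, c, e⟩
  · have e' : g = Tg k a b * Hg k c := congrArg Subtype.val e
    rw [e', map_mul, map_Tg hK hdiv, map_Hg hK hdiv]
    exact (Sz F m).mul_mem (Tg_mem hF _ _) (Hg_mem hF _)
  · have e' : g = Tg k c' d' * Wg K * (Tg k a b * Hg k c) := congrArg Subtype.val e
    rw [e', map_mul, map_mul, map_mul, map_Tg hK hdiv, map_Tg hK hdiv, map_Hg hK hdiv, map_Wg]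
    exact (Sz F m).mul_mem ((Sz F m).mul_mem (Tg_mem hF _ _) (Wg_mem hF))
      ((Sz F m).mul_mem (Tg_mem hF _ _) (Hg_mem hF _))

/-- the standard embedding attached to a field embedding -/
noncomputable def stdEmb (hk : 1 ≤ k) (hK : Fintype.card K = 2 ^ (2 * k + 1))
    (hF : Fintype.card F = 2 ^ (2 * m + 1)) (hdiv : 2 * k + 1 ∣ 2 * m + 1)
    (ι : K →+* F) : Sz K k →* Sz F m :=
  ((Matrix.SpecialLinearGroup.map ι).comp (Sz K k).subtype).codRestrict (Sz F m)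
    (fun g => map_mem hk hK hF hdiv ι g.1 g.2)

theorem stdEmb_injective (hk : 1 ≤ k) (hK : Fintype.card K = 2 ^ (2 * k + 1))
    (hF : Fintype.card F = 2 ^ (2 * m + 1)) (hdiv : 2 * k + 1 ∣ 2 * m + 1)
    (ι : K →+* F) : Function.Injective (stdEmb hk hK hF hdiv ι) := by
  intro x y h
  have h1 : Matrix.SpecialLinearGroup.map ι x.1 = Matrix.SpecialLinearGroup.map ι y.1 :=
    congrArg Subtype.val h
  have h2 : ι.mapMatrix (x.1 : Matrix (Fin 4) (Fin 4) K) = ι.mapMatrix (y.1 : Matrix (Fin 4) (Fin 4) K) :=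
    congrArg Subtype.val h1
  apply Subtype.ext
  apply Subtype.ext
  ext i j
  have := congrFun (congrFun h2 i) j
  simp only [RingHom.mapMatrix_apply, Matrix.map_apply] at this
  exact ι.injective this

theorem stdEmb_TS (hk : 1 ≤ k) (hK : Fintype.card K = 2 ^ (2 * k + 1))
    (hF : Fintype.card F = 2 ^ (2 * m + 1)) (hdiv : 2 * k + 1 ∣ 2 * m + 1)
    (ι : K →+* F) (a b : K) :
    stdEmb hk hK hF hdiv ι (TS hK a b) = TS hF (ι a) (ι b) :=
  Subtype.ext (map_Tg hK hdiv ι a b)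

theorem stdEmb_HS (hk : 1 ≤ k) (hK : Fintype.card K = 2 ^ (2 * k + 1))
    (hF : Fintype.card F = 2 ^ (2 * m + 1)) (hdiv : 2 * k + 1 ∣ 2 * m + 1)
    (ι : K →+* F) (c : Kˣ) :
    stdEmb hk hK hF hdiv ι (HS hK c) = HS hF (Units.map (ι : K →* F) c) :=
  Subtype.ext (map_Hg hK hdiv ι c)

theorem stdEmb_WS (hk : 1 ≤ k) (hK : Fintype.card K = 2 ^ (2 * k + 1))
    (hF : Fintype.card F = 2 ^ (2 * m + 1)) (hdiv : 2 * k + 1 ∣ 2 * m + 1)
    (ι : K →+* F) :
    stdEmb hk hK hF hdiv ι (WS hK) = WS hF :=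
  Subtype.ext (map_Wg ι)

end emb

end Cfsg.Agent.Lib.Helper1.SzSub
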