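import Mathlib
import Cfsg.Agent.Lib.Helper1.SzSa

/-!
# Suzuki groups: the range of the standard embedding does not depend on the field embedding (helper1)
-/

set_option autoImplicit false
set_option maxHeartbeats 2000000

namespace Cfsg.Agent.Lib.Helper1.SzSub

open Cfsg Cfsg.Agent.Lib.Helper14.Sz

section roots

variable {F : Type*} [Field F] [Fintype F] {K : Type*} [Field K] [Fintype K] {k : ℕ}

open Polynomial in
theorem mem_range_of_pow_eq (hK : Fintype.card K = 2 ^ (2 * k + 1)) (α : K →+* F) (y : F)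
    (hy : y ^ (2 ^ (2 * k + 1)) = y) : ∃ x, α x = y := by
  classical
  have hs : 1 < 2 ^ (2 * k + 1) := Nat.one_lt_two_pow (by omega)
  have hP : (X ^ (2 ^ (2 * k + 1)) - X : F[X]) ≠ 0 := FiniteField.X_pow_card_sub_X_ne_zero F hs
  have hdeg : (X ^ (2 ^ (2 * k + 1)) - X : F[X]).natDegree = 2 ^ (2 * k + 1) :=
    FiniteField.X_pow_card_sub_X_natDegree_eq F hs
  have hroot : ∀ z : F, z ∈ (X ^ (2 ^ (2 * k + 1)) - X : F[X]).roots.toFinset ↔
      z ^ (2 ^ (2 * k + 1)) = z := by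
    intro z
    rw [Multiset.mem_toFinset, Polynomial.mem_roots hP, Polynomial.IsRoot.def]
    simp [sub_eq_zero]
  have hI : (Finset.univ.image α).card = 2 ^ (2 * k + 1) := by
    rw [Finset.card_image_of_injective _ α.injective, Finset.card_univ, hK]
  have hsub : Finset.univ.image α ⊆ (X ^ (2 ^ (2 * k + 1)) - X : F[X]).roots.toFinset := by
    intro z hz
    obtain ⟨x, -, rfl⟩ := Finset.mem_image.mp hz
    rw [hroot, ← map_pow, ← hK, FiniteField.pow_card]
  have hcard : (X ^ (2 ^ (2 * k + 1)) - X : F[X]).roots.toFinset.card ≤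
      (Finset.univ.image α).card := by
    rw [hI]
    calc _ ≤ Multiset.card (X ^ (2 ^ (2 * k + 1)) - X : F[X]).roots := Multiset.toFinset_card_le _
      _ ≤ (X ^ (2 ^ (2 * k + 1)) - X : F[X]).natDegree := Polynomial.card_roots' _
      _ = 2 ^ (2 * k + 1) := hdeg
  have heq := Finset.eq_of_subset_of_card_le hsub hcard
  have hy' : y ∈ Finset.univ.image α := by
    rw [heq, hroot]
    exact hy
  obtain ⟨x, -, hx⟩ := Finset.mem_image.mp hy'
  exact ⟨x, hx⟩

theorem exists_eq_of_hom (hK : Fintype.card K = 2 ^ (2 * k + 1)) (α ι : K →+* F) (a : K) :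
    ∃ a' : K, ι a' = α a :=
  mem_range_of_pow_eq hK ι (α a) (by rw [← map_pow, ← hK, FiniteField.pow_card])

theorem exists_unit_eq_of_hom (hK : Fintype.card K = 2 ^ (2 * k + 1)) (α ι : K →+* F) (c : Kˣ) :
    ∃ c' : Kˣ, Units.map (ι : K →* F) c' = Units.map (α : K →* F) c := by
  obtain ⟨x, hx⟩ := exists_eq_of_hom hK α ι (c : K)
  have hx0 : x ≠ 0 := by
    rintro rfl
    rw [map_zero] at hx
    exact (map_ne_zero α).mpr c.ne_zero hx.symm
  refine ⟨Units.mk0 x hx0, ?_⟩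
  apply Units.ext
  exact hx

end roots

section emb

variable {F : Type*} [Field F] [Fintype F] [CharP F 2] {m : ℕ}
variable {K : Type*} [Field K] [Fintype K] [CharP K 2] {k : ℕ}

/-- homomorphisms out of a Suzuki group are determined on the standard generators -/
theorem hom_ext_gens (hk : 1 ≤ k) (hK : Fintype.card K = 2 ^ (2 * k + 1)) {X : Type*} [Group X]
    (ψ φ : Sz K k →* X) (hT : ∀ a b : K, ψ (TS hK a b) = φ (TS hK a b))
    (hH : ∀ c : Kˣ, ψ (HS hK c) = φ (HS hK c)) (hW : ψ (WS hK) = φ (WS hK)) (g : Sz K k) :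
    ψ g = φ g := by
  rcases bruhat hk hK g with ⟨a, b, c, rfl⟩ | ⟨c', d', a, b, c, rfl⟩
  · rw [map_mul, map_mul, hT, hH]
  · rw [map_mul, map_mul, map_mul, map_mul, map_mul, map_mul, hT, hT, hH, hW]

theorem stdEmb_range_le (hk : 1 ≤ k) (hK : Fintype.card K = 2 ^ (2 * k + 1))
    (hF : Fintype.card F = 2 ^ (2 * m + 1)) (hdiv : 2 * k + 1 ∣ 2 * m + 1)
    (α ι : K →+* F) : (stdEmb hk hK hF hdiv α).range ≤ (stdEmb hk hK hF hdiv ι).range := by
  have hT : ∀ a b : K, stdEmb hk hK hF hdiv α (TS hK a b) ∈ (stdEmb hk hK hF hdiv ι).range := by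
    intro a b
    obtain ⟨a', ha⟩ := exists_eq_of_hom hK α ι a
    obtain ⟨b', hb⟩ := exists_eq_of_hom hK α ι b
    refine ⟨TS hK a' b', ?_⟩
    rw [stdEmb_TS, stdEmb_TS, ha, hb]
  have hH : ∀ c : Kˣ, stdEmb hk hK hF hdiv α (HS hK c) ∈ (stdEmb hk hK hF hdiv ι).range := by
    intro c
    obtain ⟨c', hc⟩ := exists_unit_eq_of_hom hK α ι c
    refine ⟨HS hK c', ?_⟩
    rw [stdEmb_HS, stdEmb_HS, hc]
  have hW : stdEmb hk hK hF hdiv α (WS hK) ∈ (stdEmb hk hK hF hdiv ι).range :=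
    ⟨WS hK, by rw [stdEmb_WS, stdEmb_WS]⟩
  rintro x ⟨g, rfl⟩
  rcases bruhat hk hK g with ⟨a, b, c, rfl⟩ | ⟨c', d', a, b, c, rfl⟩
  · rw [map_mul]
    exact Subgroup.mul_mem _ (hT a b) (hH c)
  · rw [map_mul, map_mul, map_mul]
    exact Subgroup.mul_mem _ (Subgroup.mul_mem _ (hT _ _) hW) (Subgroup.mul_mem _ (hT _ _) (hH _))

theorem stdEmb_range_eq (hk : 1 ≤ k) (hK : Fintype.card K = 2 ^ (2 * k + 1))
    (hF : Fintype.card F = 2 ^ (2 * m + 1)) (hdiv : 2 * k + 1 ∣ 2 * m + 1)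
    (α ι : K →+* F) : (stdEmb hk hK hF hdiv α).range = (stdEmb hk hK hF hdiv ι).range :=
  le_antisymm (stdEmb_range_le hk hK hF hdiv α ι) (stdEmb_range_le hk hK hF hdiv ι α)

/-! ### translations: squares and orders -/

theorem TS_sq (hF : Fintype.card F = 2 ^ (2 * m + 1)) (a b : F) :
    TS hF a b * TS hF a b = TS hF 0 (sg m a * a) := by
  rw [TS_mul]
  congr 1
  · exact CharTwo.add_self_eq_zero a
  · rw [CharTwo.add_self_eq_zero b, zero_add]

theorem TS_sq_eq_one_iff (hF : Fintype.card F = 2 ^ (2 * m + 1)) (a b : F) :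
    TS hF a b * TS hF a b = 1 ↔ a = 0 := by
  rw [TS_sq, ← TS_zero hF]
  constructor
  · intro h
    have h2 := (TS_injective hF h).2
    rcases mul_eq_zero.mp h2 with h3 | h3
    · exact (sg_eq_zero_iff m a).mp h3
    · exact h3
  · rintro rfl
    rw [sg_zero, zero_mul]

theorem TS_pow_four (hF : Fintype.card F = 2 ^ (2 * m + 1)) (a b : F) :
    TS hF a b ^ 4 = 1 := by
  have : TS hF a b ^ 4 = (TS hF a b * TS hF a b) * (TS hF a b * TS hF a b) := by
    rw [← pow_two, ← pow_two, ← pow_mul]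
  rw [this, TS_sq, TS_sq, sg_zero, zero_mul, TS_zero]

theorem TS_split (hF : Fintype.card F = 2 ^ (2 * m + 1)) (a b : F) :
    TS hF a b = TS hF a 0 * TS hF 0 b := by
  rw [TS_mul, add_zero, zero_add, mul_zero, add_zero]

/-- conjugation of a homomorphism -/
def cj {A G : Type*} [Group A] [Group G] (g : G) (ψ : A →* G) : A →* G :=
  (MulAut.conj g).toMonoidHom.comp ψ

theorem cj_apply {A G : Type*} [Group A] [Group G] (g : G) (ψ : A →* G) (x : A) :
    cj g ψ x = g * ψ x * g⁻¹ := rfl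

theorem cj_injective {A G : Type*} [Group A] [Group G] (g : G) (ψ : A →* G)
    (h : Function.Injective ψ) : Function.Injective (cj g ψ) :=
  (MulAut.conj g).injective.comp h

theorem cj_cj {A G : Type*} [Group A] [Group G] (g h : G) (ψ : A →* G) :
    cj g (cj h ψ) = cj (g * h) ψ := by
  ext x
  rw [cj_apply, cj_apply, cj_apply]
  group

end emb

end Cfsg.Agent.Lib.Helper1.SzSub
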