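import Mathlib
import Cfsg.Agent.Lib.Helper1.SzSb

/-!
# Suzuki groups: normalizing an embedding `Sz(K) → Sz(F)`, first steps (helper1)
-/

set_option autoImplicit false
set_option maxHeartbeats 2000000

namespace Cfsg.Agent.Lib.Helper1.SzSub

open Cfsg Cfsg.Agent.Lib.Helper14.Sz

section emb

variable {F : Type*} [Field F] [Fintype F] [CharP F 2] {m : ℕ}
variable {K : Type*} [Field K] [Fintype K] [CharP K 2] {k : ℕ}

theorem HS_pow (hF : Fintype.card F = 2 ^ (2 * m + 1)) (c : Fˣ) (n : ℕ) :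
    HS (m := m) hF c ^ n = HS hF (c ^ n) := (map_pow (HgHom hF) c n).symm

theorem HS_zpow (hF : Fintype.card F = 2 ^ (2 * m + 1)) (c : Fˣ) (n : ℤ) :
    HS (m := m) hF c ^ n = HS hF (c ^ n) := (map_zpow (HgHom hF) c n).symm

theorem TS_ne_one (hF : Fintype.card F = 2 ^ (2 * m + 1)) : TS (m := m) hF 0 1 ≠ 1 := by
  intro e
  rw [← TS_zero hF] at e
  exact one_ne_zero (TS_injective hF e).2

theorem card_units_K (hK : Fintype.card K = 2 ^ (2 * k + 1)) :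
    Nat.card Kˣ = 2 ^ (2 * k + 1) - 1 := by
  rw [Nat.card_units, Nat.card_eq_fintype_card, hK]

theorem exists_conj_T (hm : 1 ≤ m) (hF : Fintype.card F = 2 ^ (2 * m + 1))
    (hK : Fintype.card K = 2 ^ (2 * k + 1)) (ψ : Sz K k →* Sz F m) :
    ∃ y : Sz F m, ∀ a b : K, ∃ a' b' : F, cj y ψ (TS hK a b) = TS hF a' b' := by
  haveI : Fact (Nat.Prime 2) := ⟨Nat.prime_two⟩
  have hp : IsPGroup 2 ((TSub (m := k) hK).map ψ) := (isPGroup_TSub hK).map ψ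
  obtain ⟨P, hP⟩ := hp.exists_le_sylow
  obtain ⟨z, hz⟩ := sylow_std hm hF P
  refine ⟨z⁻¹, fun a b => ?_⟩
  have h1 : ψ (TS hK a b) ∈ (P : Subgroup (Sz F m)) :=
    hP (Subgroup.mem_map_of_mem ψ ((mem_TSub_iff hK _).mpr ⟨a, b, rfl⟩))
  rw [hz, Subgroup.mem_map_equiv, MulAut.conj_symm_apply, mem_TSub_iff] at h1
  obtain ⟨a', b', h⟩ := h1
  refine ⟨a', b', ?_⟩
  rw [cj_apply, inv_inv]
  exact h

theorem exists_conj_H (hm : 1 ≤ m) (hF : Fintype.card F = 2 ^ (2 * m + 1)) (hk : 1 ≤ k)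
    (hK : Fintype.card K = 2 ^ (2 * k + 1)) (ψ : Sz K k →* Sz F m)
    (hinj : Function.Injective ψ)
    (hT : ∀ a b : K, ∃ a' b' : F, ψ (TS hK a b) = TS hF a' b') :
    ∃ t : Sz F m, (∀ a b : K, ∃ a' b' : F, cj t ψ (TS hK a b) = TS hF a' b') ∧
      ∀ c : Kˣ, ∃ c' : Fˣ, cj t ψ (HS hK c) = HS hF c' := by
  obtain ⟨c₀, hc₀⟩ := IsCyclic.exists_generator (α := Kˣ)
  obtain ⟨a₁, b₁, e₁⟩ := hT 0 1
  have hne₁ : TS hF a₁ b₁ ≠ 1 := by
    rw [← e₁]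
    intro e
    exact TS_ne_one hK (hinj (e.trans (map_one ψ).symm))
  have hconj := conj_HS_TS hK c₀ 0 1
  obtain ⟨a₂, b₂, e₂⟩ := hT ((c₀ : K) * 0) (sg k (c₀ : K) * (c₀ : K) * 1)
  have e₃ : ψ (HS hK c₀) * TS hF a₁ b₁ * (ψ (HS hK c₀))⁻¹ = TS hF a₂ b₂ := by
    rw [← e₁, ← e₂, ← hconj, map_mul, map_mul, map_inv]
  have hne₂ : TS hF a₂ b₂ ≠ 1 := by
    rw [← e₃]
    intro e
    apply hne₁
    have : TS hF a₁ b₁ = (ψ (HS hK c₀))⁻¹ *
        (ψ (HS hK c₀) * TS hF a₁ b₁ * (ψ (HS hK c₀))⁻¹) * ψ (HS hK c₀) := by group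
    rw [this, e]
    group
  have hfix : ψ (HS hK c₀) • oinf F m = oinf F m := by
    apply TS_fix_only hF hne₂
    rw [← e₃, mul_smul, mul_smul, inv_smul_smul, TS_oinf]
  obtain ⟨a, b, c, e⟩ := fix_oinf hm hF _ hfix
  have hc1 : c ≠ 1 := by
    rintro rfl
    rw [HS_one, mul_one] at e
    have h4 : ψ (HS hK c₀) ^ 4 = 1 := by rw [e, TS_pow_four]
    have h5 : HS hK c₀ ^ 4 = 1 := hinj (by rw [map_pow, h4, map_one])
    rw [HS_pow, ← HS_one hK] at h5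
    have h6 : c₀ ^ 4 = 1 := HS_injective hK h5
    have h7 : orderOf c₀ ∣ 4 := orderOf_dvd_of_pow_eq_one h6
    rw [orderOf_eq_card_of_forall_mem_zpowers hc₀, card_units_K hK] at h7
    have h8 := Nat.le_of_dvd (by norm_num) h7
    have h9 : 2 ^ 3 ≤ 2 ^ (2 * k + 1) := Nat.pow_le_pow_right (by norm_num) (by omega)
    omega
  obtain ⟨x, y, hxy⟩ := exists_fix_affine hF a b hc1
  rw [← e] at hxy
  have ht : TS hF x (y + sg m x * x) • opt m x y = opt m 0 0 := by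
    rw [TS_opt]
    congr 1
    · exact CharTwo.add_self_eq_zero x
    · rw [← add_assoc, CharTwo.add_self_eq_zero y, zero_add, CharTwo.add_self_eq_zero]
  refine ⟨TS hF x (y + sg m x * x), ?_, ?_⟩
  · intro a b
    obtain ⟨a', b', e'⟩ := hT a b
    exact ⟨_, _, by rw [cj_apply, e', TS_inv, TS_mul, TS_mul]⟩
  · have hgen : ∃ c₁, TS hF x (y + sg m x * x) * ψ (HS hK c₀) * (TS hF x (y + sg m x * x))⁻¹ =
        HS hF c₁ := by
      apply eq_HS_of_fix hm hF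
      · rw [mul_smul, mul_smul, inv_smul_eq_iff.mpr (TS_oinf hF _ _).symm, hfix, TS_oinf]
      · rw [mul_smul, mul_smul, inv_smul_eq_iff.mpr ht.symm, hxy, ht]
    obtain ⟨c₁, hc₁⟩ := hgen
    intro c
    obtain ⟨n, rfl⟩ := Subgroup.mem_zpowers_iff.mp (hc₀ c)
    refine ⟨c₁ ^ n, ?_⟩
    rw [cj_apply, ← HS_zpow, ← HS_zpow, map_zpow, ← hc₁, conj_zpow]

end emb

end Cfsg.Agent.Lib.Helper1.SzSub
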