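import Mathlib
import Cfsg.Agent.Lib.Helper1.SzSc

/-!
# Suzuki groups: an embedding that is triangular on the Borel subgroup comes from a field embedding
(helper1)
-/

set_option autoImplicit false
set_option maxHeartbeats 4000000

namespace Cfsg.Agent.Lib.Helper1.SzSub

open Cfsg Cfsg.Agent.Lib.Helper14.Sz

section emb

variable {F : Type*} [Field F] [Fintype F] [CharP F 2] {m : ℕ}
variable {K : Type*} [Field K] [Fintype K] [CharP K 2] {k : ℕ}

theorem exists_conj_one (hF : Fintype.card F = 2 ^ (2 * m + 1))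
    (hK : Fintype.card K = 2 ^ (2 * k + 1)) (ψ : Sz K k →* Sz F m)
    (hinj : Function.Injective ψ)
    (hT : ∀ a b : K, ∃ a' b' : F, ψ (TS hK a b) = TS hF a' b')
    (hH : ∀ c : Kˣ, ∃ c' : Fˣ, ψ (HS hK c) = HS hF c') :
    ∃ l : Fˣ, (∀ a b : K, ∃ a' b' : F, cj (HS hF l) ψ (TS hK a b) = TS hF a' b') ∧
      (∀ c : Kˣ, ∃ c' : Fˣ, cj (HS hF l) ψ (HS hK c) = HS hF c') ∧
      ∃ g₁ : F, cj (HS hF l) ψ (TS hK 1 0) = TS hF 1 g₁ := by
  obtain ⟨x, y, e⟩ := hT 1 0
  have hx : x ≠ 0 := by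
    rintro rfl
    have h1 : ψ (TS hK 1 0 * TS hK 1 0) = 1 := by
      rw [map_mul, e, (TS_sq_eq_one_iff hF 0 y).mpr rfl]
    have h2 := hinj (h1.trans (map_one ψ).symm)
    exact one_ne_zero ((TS_sq_eq_one_iff hK 1 0).mp h2)
  refine ⟨(Units.mk0 x hx)⁻¹, ?_, ?_, ?_⟩
  · intro a b
    obtain ⟨a', b', e'⟩ := hT a b
    exact ⟨_, _, by rw [cj_apply, e', conj_HS_TS]⟩
  · intro c
    obtain ⟨c', e'⟩ := hH c
    exact ⟨c', by rw [cj_apply, e', ← HS_mul, mul_comm, HS_mul, mul_inv_cancel_right]⟩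
  · refine ⟨sg m (((Units.mk0 x hx)⁻¹ : Fˣ) : F) * (((Units.mk0 x hx)⁻¹ : Fˣ) : F) * y, ?_⟩
    rw [cj_apply, e, conj_HS_TS]
    congr 1
    rw [Units.val_inv_eq_inv_val, Units.val_mk0, inv_mul_cancel₀ hx]

theorem field_of_borel (hk : 1 ≤ k) (hF : Fintype.card F = 2 ^ (2 * m + 1))
    (hK : Fintype.card K = 2 ^ (2 * k + 1)) (hdiv : 2 * k + 1 ∣ 2 * m + 1)
    (ψ : Sz K k →* Sz F m)
    (hT : ∀ a b : K, ∃ a' b' : F, ψ (TS hK a b) = TS hF a' b')
    (hH : ∀ c : Kˣ, ∃ c' : Fˣ, ψ (HS hK c) = HS hF c')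
    (h1 : ∃ g₁ : F, ψ (TS hK 1 0) = TS hF 1 g₁) :
    ∃ α : K →+* F, (∀ a b : K, ψ (TS hK a b) = TS hF (α a) (α b)) ∧
      ∀ c : Kˣ, ψ (HS hK c) = HS hF (Units.map (α : K →* F) c) := by
  choose τ₁ τ₂ hτ using hT
  choose χ hχ using hH
  obtain ⟨g₁, hg₁⟩ := h1
  have hmul : ∀ a b c d : K, τ₁ (a + c) (b + d + sg k a * c) = τ₁ a b + τ₁ c d ∧
      τ₂ (a + c) (b + d + sg k a * c) = τ₂ a b + τ₂ c d + sg m (τ₁ a b) * τ₁ c d := by
    intro a b c d
    have := congrArg ψ (TS_mul hK a b c d)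
    rw [map_mul, hτ, hτ, hτ, TS_mul] at this
    obtain ⟨e1, e2⟩ := TS_injective hF this
    exact ⟨e1.symm, e2.symm⟩
  have h0 : ∀ b : K, τ₁ 0 b = 0 := by
    intro b
    have e : TS hK 0 b * TS hK 0 b = 1 := (TS_sq_eq_one_iff hK 0 b).mpr rfl
    have := congrArg ψ e
    rw [map_mul, map_one, hτ] at this
    exact (TS_sq_eq_one_iff hF _ _).mp this
  have h00 : τ₂ 0 0 = 0 := by
    have := hτ 0 0
    rw [TS_zero, map_one, ← TS_zero hF] at this
    exact (TS_injective hF this).2.symm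
  have hsplit : ∀ a b : K, τ₁ a b = τ₁ a 0 ∧ τ₂ a b = τ₂ a 0 + τ₂ 0 b := by
    intro a b
    have := hmul a 0 0 b
    simp only [add_zero, zero_add, mul_zero, h0] at this
    exact this
  have F1 : ∀ a c : K, τ₁ (a + c) 0 = τ₁ a 0 + τ₁ c 0 := by
    intro a c
    have := (hmul a 0 c 0).1
    rw [(hsplit (a + c) _).1] at this
    exact this
  have F2 : ∀ b d : K, τ₂ 0 (b + d) = τ₂ 0 b + τ₂ 0 d := by
    intro b d
    have := (hmul 0 b 0 d).2
    simp only [add_zero, sg_zero, mul_zero, h0] at this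
    exact this
  have F3 : ∀ a c : K, τ₂ (a + c) 0 + τ₂ 0 (sg k a * c) =
      τ₂ a 0 + τ₂ c 0 + sg m (τ₁ a 0) * τ₁ c 0 := by
    intro a c
    have := (hmul a 0 c 0).2
    rw [(hsplit (a + c) _).2] at this
    simp only [add_zero, zero_add] at this
    exact this
  have hconj : ∀ (c : Kˣ) (a b : K),
      τ₁ ((c : K) * a) (sg k (c : K) * (c : K) * b) = (χ c : F) * τ₁ a b ∧
      τ₂ ((c : K) * a) (sg k (c : K) * (c : K) * b) =
        sg m (χ c : F) * (χ c : F) * τ₂ a b := by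
    intro c a b
    have := congrArg ψ (conj_HS_TS hK c a b)
    rw [map_mul, map_mul, map_inv, hχ, hτ, hτ, conj_HS_TS] at this
    obtain ⟨e1, e2⟩ := TS_injective hF this
    exact ⟨e1.symm, e2.symm⟩
  have F5 : ∀ (c : Kˣ) (a : K), τ₁ ((c : K) * a) 0 = (χ c : F) * τ₁ a 0 := by
    intro c a
    have := (hconj c a 0).1
    rw [mul_zero] at this
    exact this
  have F6 : ∀ (c : Kˣ) (a : K), τ₂ ((c : K) * a) 0 = sg m (χ c : F) * (χ c : F) * τ₂ a 0 := by
    intro c a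
    have := (hconj c a 0).2
    rw [mul_zero] at this
    exact this
  have hα1 : τ₁ 1 0 = 1 := by
    have := hτ 1 0
    rw [hg₁] at this
    exact (TS_injective hF this).1.symm
  have F8 : ∀ c : Kˣ, τ₁ (c : K) 0 = (χ c : F) := by
    intro c
    have := F5 c 1
    rw [mul_one, hα1, mul_one] at this
    exact this
  have F9 : ∀ x y : K, τ₁ (x * y) 0 = τ₁ x 0 * τ₁ y 0 := by
    intro x y
    by_cases hx : x = 0
    · subst hx
      rw [zero_mul, h0, zero_mul]
    · have := F5 (Units.mk0 x hx) y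
      rw [Units.val_mk0] at this
      rw [this, ← F8 (Units.mk0 x hx), Units.val_mk0]
  let α : K →+* F :=
    { toFun := fun a => τ₁ a 0
      map_one' := hα1
      map_mul' := F9
      map_zero' := h0 0
      map_add' := F1 }
  have hα : ∀ a : K, α a = τ₁ a 0 := fun a => rfl
  have hsgα : ∀ a : K, sg m (τ₁ a 0) = τ₁ (sg k a) 0 := fun a => sg_map hK hdiv α a
  have F10 : ∀ b : K, τ₂ 0 b = τ₁ b 0 := by
    intro b
    obtain ⟨a, rfl⟩ := sg_mul_self_surjective hK b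
    have e := TS_sq hK a 0
    have := congrArg ψ e
    rw [map_mul, hτ, hτ, TS_sq] at this
    have h2 := (TS_injective hF this).2
    show τ₂ 0 (sg k a * a) = τ₁ (sg k a * a) 0
    rw [← h2, F9, ← hsgα]
  -- `γ 1 = 0`
  have hg0 : τ₂ 1 0 = 0 := by
    obtain ⟨a, ha⟩ := exists_sg_ne hk hK
    have ha0 : a ≠ 0 := by
      rintro rfl
      exact ha (sg_zero k)
    have ha1 : a + 1 ≠ 0 := by
      intro e
      have : a = 1 := by
        have := CharTwo.add_eq_zero.mp e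
        exact this
      subst this
      exact ha (sg_one k)
    have hstar := F3 a 1
    rw [mul_one, F10, hα1, mul_one, hsgα] at hstar
    have hadd : τ₂ (a + 1) 0 = τ₂ a 0 + τ₂ 1 0 := by
      linear_combination hstar
    have e1 := F6 (Units.mk0 a ha0) 1
    rw [mul_one, Units.val_mk0, ← F8, Units.val_mk0] at e1
    have e2 := F6 (Units.mk0 (a + 1) ha1) 1
    rw [mul_one, Units.val_mk0, ← F8, Units.val_mk0, F1, hα1, sg_add, sg_one] at e2
    rw [e1, e2] at hadd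
    have hne : sg m (τ₁ a 0) + τ₁ a 0 ≠ 0 := by
      rw [hsgα, ← F1]
      intro e
      have h3 : α (sg k a + a) = 0 := e
      have h4 : sg k a + a = 0 := (map_eq_zero α).mp h3
      exact ha (CharTwo.add_eq_zero.mp h4)
    have hz : (sg m (τ₁ a 0) + τ₁ a 0) * τ₂ 1 0 = 0 := by
      linear_combination hadd
    rcases mul_eq_zero.mp hz with h | h
    · exact absurd h hne
    · exact h
  have F12 : ∀ c : K, τ₂ c 0 = 0 := by
    intro c
    by_cases hc : c = 0
    · subst hc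
      exact h00
    · have := F6 (Units.mk0 c hc) 1
      rw [mul_one, Units.val_mk0, hg0, mul_zero] at this
      exact this
  refine ⟨α, ?_, ?_⟩
  · intro a b
    rw [hτ, (hsplit a b).1, (hsplit a b).2, F12, zero_add, F10]
    rfl
  · intro c
    rw [hχ]
    congr 1
    apply Units.ext
    show (χ c : F) = α (c : K)
    rw [hα, F8]

end emb

end Cfsg.Agent.Lib.Helper1.SzSub
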