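import Mathlib
import Cfsg.Agent.Lib.Helper1.SzSd

/-!
# Suzuki groups: the Weyl element under a normalized embedding; every embedding is standard (helper1)
-/

set_option autoImplicit false
set_option maxHeartbeats 4000000

namespace Cfsg.Agent.Lib.Helper1.SzSub

open Cfsg Cfsg.Agent.Lib.Helper14.Sz

section emb

variable {F : Type*} [Field F] [Fintype F] [CharP F 2] {m : ℕ}
variable {K : Type*} [Field K] [Fintype K] [CharP K 2] {k : ℕ}

theorem WS_opt (hF : Fintype.card F = 2 ^ (2 * m + 1)) (x y : F) (hz : ff m x y ≠ 0) :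
    WS hF • opt m x y = opt m (y / ff m x y) (x / ff m x y) :=
  Subtype.ext (Wg_pt hF x y hz)

theorem WS_ne_one (hF : Fintype.card F = 2 ^ (2 * m + 1)) : WS (m := m) hF ≠ 1 := by
  intro e
  have := WS_oinf (m := m) hF
  rw [e, one_smul] at this
  exact opt_ne_oinf 0 0 this.symm

theorem HS_fixed (hF : Fintype.card F = 2 ^ (2 * m + 1)) {c : Fˣ} (hc : c ≠ 1)
    (p : suzukiOvoid F m) (h : HS hF c • p = p) : p = oinf F m ∨ p = opt m 0 0 := by
  rcases ovoid_cases p with e | ⟨x, y, e⟩
  · exact Or.inl e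
  · right
    subst e
    by_contra hne
    apply hc
    apply HS_fix_third hF c x y _ h
    rintro ⟨rfl, rfl⟩
    exact hne rfl

theorem ff_x_zero (x : F) : ff m x 0 = sg m x * x ^ 2 := by
  unfold ff
  rw [mul_zero, sg_zero, zero_add, add_zero]

theorem W_part (hm : 1 ≤ m) (hF : Fintype.card F = 2 ^ (2 * m + 1)) (hk : 1 ≤ k)
    (hK : Fintype.card K = 2 ^ (2 * k + 1)) (ψ : Sz K k →* Sz F m)
    (hinj : Function.Injective ψ) (α : K →+* F)
    (hT : ∀ a b : K, ψ (TS hK a b) = TS hF (α a) (α b))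
    (hH : ∀ c : Kˣ, ψ (HS hK c) = HS hF (Units.map (α : K →* F) c)) :
    ψ (WS hK) = WS hF := by
  have hw2 : ψ (WS hK) * ψ (WS hK) = 1 := by rw [← map_mul, WS_mul_self, map_one]
  have hw1 : ψ (WS hK) ≠ 1 := fun e => WS_ne_one hK (hinj (e.trans (map_one ψ).symm))
  haveI : Nontrivial Kˣ := by
    rw [← Finite.one_lt_card_iff_nontrivial, card_units_K hK]
    have h9 : 2 ^ 3 ≤ 2 ^ (2 * k + 1) := Nat.pow_le_pow_right (by norm_num) (by omega)
    omega
  obtain ⟨c₀, hc₀⟩ := exists_ne (1 : Kˣ)
  have hc' : Units.map (α : K →* F) c₀ ≠ 1 := by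
    intro e
    apply hc₀
    apply Units.map_injective (f := (α : K →* F)) α.injective
    rw [e, map_one]
  have hc'' : (Units.map (α : K →* F) c₀)⁻¹ ≠ 1 := by
    intro e
    apply hc'
    rw [← inv_inv (Units.map (α : K →* F) c₀), e, inv_one]
  have hrel : ψ (WS hK) * HS hF (Units.map (α : K →* F) c₀) * ψ (WS hK) =
      HS hF (Units.map (α : K →* F) c₀)⁻¹ := by
    rw [← hH, ← map_mul, ← map_mul, WS_HS, hH, map_inv]
  have hperm : ∀ p : suzukiOvoid F m, (p = oinf F m ∨ p = opt m 0 0) →
      (ψ (WS hK) • p = oinf F m ∨ ψ (WS hK) • p = opt m 0 0) := by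
    intro p hp
    apply HS_fixed hF hc''
    rw [← hrel, mul_smul, mul_smul, ← mul_smul (ψ (WS hK)) (ψ (WS hK)), hw2, one_smul]
    congr 1
    rcases hp with rfl | rfl
    · exact HS_oinf hF _
    · rw [HS_opt, mul_zero, mul_zero]
  have hinf : ψ (WS hK) • oinf F m = opt m 0 0 := by
    rcases hperm (oinf F m) (Or.inl rfl) with h | h
    · exfalso
      have h0 : ψ (WS hK) • opt m (0 : F) 0 = opt m 0 0 := by
        rcases hperm (opt m 0 0) (Or.inr rfl) with h' | h'
        · exfalso
          have := (MulAction.injective (ψ (WS hK))) (h'.trans h.symm)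
          exact opt_ne_oinf 0 0 this
        · exact h'
      obtain ⟨l, hl⟩ := eq_HS_of_fix hm hF _ h h0
      rw [hl, ← HS_mul, ← HS_one hF] at hw2
      have hll : l * l = 1 := HS_injective hF hw2
      have hl1 : l = 1 := by
        apply Units.ext
        have h2 : (l : F) * (l : F) = 1 := by
          have := congrArg Units.val hll
          rwa [Units.val_mul, Units.val_one] at this
        have h3 : ((l : F) + 1) * ((l : F) + 1) = 0 := by
          have : ((l : F) + 1) * ((l : F) + 1) = l * l + (l + l) + 1 := by ring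
          rw [this, h2, CharTwo.add_self_eq_zero, add_zero, CharTwo.add_self_eq_zero]
        have h4 := mul_self_eq_zero.mp h3
        exact CharTwo.add_eq_zero.mp h4
      apply hw1
      rw [hl, hl1, HS_one]
    · exact h
  have hzero : ψ (WS hK) • opt m (0 : F) 0 = oinf F m := by
    rcases hperm (opt m 0 0) (Or.inr rfl) with h | h
    · exact h
    · exfalso
      have := (MulAction.injective (ψ (WS hK))) (h.trans hinf.symm)
      exact opt_ne_oinf 0 0 this
  obtain ⟨l, hl⟩ := eq_HS_of_fix hm hF (WS hF * ψ (WS hK))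
    (by rw [mul_smul, hinf, WS_opt_zero]) (by rw [mul_smul, hzero, WS_oinf])
  have hw : ψ (WS hK) = WS hF * HS hF l := by
    rw [← hl, ← mul_assoc, WS_mul_self, one_mul]
  -- the relation
  have hff1 : ff k (1 : K) 0 = 1 := by
    rw [ff_x_zero, sg_one, one_pow, one_mul]
  have hgK : (WS hK * TS hK 1 0 * WS hK) • oinf K k = opt k 0 1 := by
    rw [mul_smul, mul_smul, WS_oinf, TS_opt, zero_add, zero_add, mul_zero, zero_add,
      WS_opt hK 1 0 (by rw [hff1]; exact one_ne_zero), hff1, zero_div, div_one]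
  rcases bruhat hk hK (WS hK * TS hK 1 0 * WS hK) with ⟨a, b, c, e⟩ | ⟨c', d', a, b, c, e⟩
  · exfalso
    rw [e, mul_smul, HS_oinf, TS_oinf] at hgK
    exact opt_ne_oinf 0 1 hgK.symm
  · have hcd : c' = 0 ∧ d' = 1 := by
      rw [e, mul_smul, mul_smul, mul_smul, HS_oinf, TS_oinf, WS_oinf, TS_opt, zero_add, zero_add,
        mul_zero, add_zero] at hgK
      exact opt_injective hgK
    obtain ⟨rfl, rfl⟩ := hcd
    have e' := congrArg ψ e
    rw [map_mul, map_mul, map_mul, map_mul, map_mul, hT, hT, hT, hH, map_zero, map_one] at e'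
    have hL : (ψ (WS hK) * TS hF 1 0 * ψ (WS hK)) • oinf F m = ψ (WS hK) • opt m 1 0 := by
      rw [mul_smul, mul_smul, hinf, TS_opt]
      simp only [zero_add, mul_zero, add_zero]
    have hR : (TS hF 0 1 * ψ (WS hK) * (TS hF (α a) (α b) *
        HS hF ((Units.map (α : K →* F)) c))) • oinf F m = opt m 0 1 := by
      rw [mul_smul, mul_smul, mul_smul, HS_oinf, TS_oinf, hinf, TS_opt]
      simp only [zero_add, add_zero, sg_zero, zero_mul]
    have e'' : ψ (WS hK) • opt m (1 : F) 0 = opt m 0 1 := by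
      rw [← hL, e', hR]
    rw [hw, mul_smul, HS_opt, mul_one, mul_zero] at e''
    have hl0 : (l : F) ≠ 0 := l.ne_zero
    have hffl : ff m (l : F) 0 ≠ 0 := by
      rw [ff_x_zero]
      exact mul_ne_zero ((sg_eq_zero_iff m _).not.mpr hl0) (pow_ne_zero _ hl0)
    rw [WS_opt hF _ _ hffl, zero_div, ff_x_zero] at e''
    have h3 := (opt_injective e'').2
    have h4 : sg m (l : F) * (l : F) = 1 := by
      have hne : sg m (l : F) * (l : F) ^ 2 ≠ 0 :=
        mul_ne_zero ((sg_eq_zero_iff m _).not.mpr hl0) (pow_ne_zero _ hl0)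
      have h5 : (l : F) = sg m (l : F) * (l : F) ^ 2 := (div_eq_one_iff_eq hne).mp h3
      have h6 : (l : F) * 1 = (l : F) * (sg m (l : F) * (l : F)) := by
        rw [mul_one]
        nth_rewrite 1 [h5]
        ring
      exact (mul_left_cancel₀ hl0 h6).symm
    have hl1 : l = 1 := by
      apply Units.ext
      have := sg_mul_self_injective (m := m) hF (a₁ := (l : F)) (a₂ := 1) (by
        simp only [sg_one, one_mul]
        rw [h4])
      exact this
    rw [hw, hl1, HS_one, mul_one]

end emb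

end Cfsg.Agent.Lib.Helper1.SzSub
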