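import Mathlib

/-!
# Counting elements by number of fixed points in a Zassenhaus-type action (helper1)

Burnside's lemma applied to the action on points and on ordered pairs of distinct points.
-/

set_option autoImplicit false
set_option maxHeartbeats 1000000

namespace Cfsg.Agent.Lib.Helper1.SzTori

open MulAction

section Burnside

variable {G X : Type*} [Group G] [MulAction G X]

/-- the number of fixed points -/
noncomputable def fx (X : Type*) [MulAction G X] (g : G) : ℕ := Nat.card (fixedBy X g)

theorem fx_one [Finite X] : fx X (1 : G) = Nat.card X := by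
  unfold fx
  have : fixedBy X (1 : G) = Set.univ := by
    ext a
    simp [mem_fixedBy]
  rw [this, Nat.card_coe_set_eq, Set.ncard_univ]

/-- Burnside's lemma for a transitive action -/
theorem sum_fx_eq [Finite G] [Finite X] [Nonempty X] [IsPretransitive G X] [Fintype G] :
    ∑ g : G, fx X g = Nat.card G := by
  classical
  haveI : Fintype X := Fintype.ofFinite X
  haveI : ∀ g : G, Fintype (fixedBy X g) := fun g => Fintype.ofFinite _
  haveI : Fintype (Quotient (orbitRel G X)) := Fintype.ofFinite _
  have h := sum_card_fixedBy_eq_card_orbits_mul_card_group G X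
  have h1 : Fintype.card (Quotient (orbitRel G X)) = 1 := by
    haveI : Subsingleton (Quotient (orbitRel G X)) :=
      (pretransitive_iff_subsingleton_quotient G X).1 inferInstance
    haveI : Nonempty (Quotient (orbitRel G X)) := ⟨Quotient.mk'' (Classical.arbitrary X)⟩
    exact Fintype.card_eq_one_iff_nonempty_unique.mpr ⟨⟨⟨Quotient.mk'' (Classical.arbitrary X)⟩, fun a => Subsingleton.elim _ _⟩⟩
  rw [h1, one_mul] at h
  rw [Nat.card_eq_fintype_card, ← h]
  apply Finset.sum_congr rfl
  intro g _
  unfold fx
  rw [Nat.card_eq_fintype_card]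

/-- fixed embeddings are embeddings into the fixed points -/
theorem fx_embedding [Finite X] (g : G) :
    fx (Fin 2 ↪ X) g = fx X g * (fx X g - 1) := by
  classical
  haveI : Fintype X := Fintype.ofFinite X
  haveI : Fintype (fixedBy X g) := Fintype.ofFinite _
  unfold fx
  have e : fixedBy (Fin 2 ↪ X) g ≃ (Fin 2 ↪ fixedBy X g) :=
    { toFun := fun x => ⟨fun i => ⟨x.1 i, by
          have := x.2
          rw [mem_fixedBy] at this ⊢
          exact DFunLike.congr_fun this i⟩, by
        intro i j hij
        have : x.1 i = x.1 j := congrArg Subtype.val hij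
        exact x.1.injective this⟩
      invFun := fun y => ⟨⟨fun i => (y i : X), by
          intro i j hij
          exact y.injective (Subtype.ext hij)⟩, by
        rw [mem_fixedBy]
        ext i
        exact (y i).2⟩
      left_inv := fun x => by
        apply Subtype.ext
        ext i
        rfl
      right_inv := fun y => by
        ext i
        rfl }
  rw [Nat.card_congr e, Nat.card_eq_fintype_card, Fintype.card_embedding_eq, Fintype.card_fin,
    Nat.card_eq_fintype_card]
  simp [Nat.descFactorial]
  exact mul_comm _ _

theorem sum_ite_card {G : Type*} [Fintype G] (P : G → Prop) [DecidablePred P] (k : ℕ) :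
    ∑ g : G, (if P g then k else 0) = k * Nat.card {g : G // P g} := by
  rw [Finset.sum_ite, Finset.sum_const_zero, add_zero, Finset.sum_const, smul_eq_mul,
    Nat.card_eq_fintype_card, Fintype.card_subtype, mul_comm]

/-- the numbers of elements with 0, 1, 2 fixed points in a Zassenhaus-type action -/
theorem zass_counts [Finite G] [Finite X] (h2 : IsMultiplyPretransitive G X 2)
    (h3 : ∀ g : G, ∀ a b c : X, a ≠ b → b ≠ c → a ≠ c → g • a = a → g • b = b → g • c = c →
      g = 1)
    (hN : 3 ≤ Nat.card X) :
    2 * Nat.card {g : G // fx X g = 2} + Nat.card X * (Nat.card X - 1) = Nat.card G ∧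
    Nat.card {g : G // fx X g = 1} + 2 * Nat.card {g : G // fx X g = 2} + Nat.card X =
      Nat.card G ∧
    Nat.card {g : G // fx X g = 0} + Nat.card {g : G // fx X g = 1} +
      Nat.card {g : G // fx X g = 2} + 1 = Nat.card G := by
  classical
  haveI : Fintype G := Fintype.ofFinite G
  haveI : Fintype X := Fintype.ofFinite X
  set N := Nat.card X with hNdef
  have hNc : Fintype.card X = N := by rw [hNdef, Nat.card_eq_fintype_card]
  haveI : Nonempty X := by
    apply Fintype.card_pos_iff.mp
    omega
  haveI : Nonempty (Fin 2 ↪ X) :=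
    Function.Embedding.nonempty_of_card_le (by rw [Fintype.card_fin, hNc]; omega)
  haveI : IsPretransitive G X := isPretransitive_of_is_two_pretransitive (G := G) (α := X)
  haveI : IsPretransitive G (Fin 2 ↪ X) := h2
  have hle : ∀ g : G, g ≠ 1 → fx X g ≤ 2 := by
    intro g hg
    by_contra hlt
    rw [not_le] at hlt
    haveI : Fintype (fixedBy X g) := Fintype.ofFinite _
    unfold fx at hlt
    rw [Nat.card_eq_fintype_card, Fintype.two_lt_card_iff] at hlt
    obtain ⟨a, b, c, hab, hac, hbc⟩ := hlt
    apply hg
    exact h3 g a b c (fun h => hab (Subtype.ext h)) (fun h => hbc (Subtype.ext h))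
      (fun h => hac (Subtype.ext h)) a.2 b.2 c.2
  have S1 := sum_fx_eq (G := G) (X := X)
  have S2 := sum_fx_eq (G := G) (X := Fin 2 ↪ X)
  have p1 : ∀ g : G, fx X g = (if g = 1 then N else 0) + (if fx X g = 1 then 1 else 0) +
      (if fx X g = 2 then 2 else 0) := by
    intro g
    by_cases hg : g = 1
    · subst hg
      rw [fx_one, ← hNdef, if_pos rfl, if_neg (by omega), if_neg (by omega)]
      rfl
    · have := hle g hg
      rw [if_neg hg]
      interval_cases h : fx X g <;> simp
  have p2 : ∀ g : G, fx (Fin 2 ↪ X) g = (if g = 1 then N * (N - 1) else 0) +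
      (if fx X g = 2 then 2 else 0) := by
    intro g
    rw [fx_embedding]
    by_cases hg : g = 1
    · subst hg
      rw [fx_one, ← hNdef, if_pos rfl, if_neg (by omega)]
      rfl
    · have := hle g hg
      rw [if_neg hg]
      interval_cases h : fx X g <;> simp
  have p3 : ∀ g : G, 1 = (if g = 1 then 1 else 0) + (if fx X g = 0 then 1 else 0) +
      (if fx X g = 1 then 1 else 0) + (if fx X g = 2 then 1 else 0) := by
    intro g
    by_cases hg : g = 1
    · subst hg
      rw [fx_one, ← hNdef, if_pos rfl, if_neg (by omega), if_neg (by omega), if_neg (by omega)]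
    · have := hle g hg
      rw [if_neg hg]
      interval_cases h : fx X g <;> simp
  have S3 : ∑ _g : G, 1 = Nat.card G := by
    rw [Finset.sum_const, Finset.card_univ, Nat.card_eq_fintype_card, smul_eq_mul, mul_one]
  rw [Finset.sum_congr rfl (fun g _ => p1 g), Finset.sum_add_distrib, Finset.sum_add_distrib,
    Finset.sum_ite_eq' Finset.univ (1 : G), sum_ite_card, sum_ite_card] at S1
  rw [Finset.sum_congr rfl (fun g _ => p2 g), Finset.sum_add_distrib,
    Finset.sum_ite_eq' Finset.univ (1 : G), sum_ite_card] at S2
  rw [Finset.sum_congr rfl (fun g _ => p3 g), Finset.sum_add_distrib, Finset.sum_add_distrib,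
    Finset.sum_add_distrib,
    Finset.sum_ite_eq' Finset.univ (1 : G), sum_ite_card, sum_ite_card, sum_ite_card] at S3
  simp only [Finset.mem_univ, if_true, one_mul] at S1 S2 S3
  refine ⟨?_, ?_, ?_⟩ <;> omega

end Burnside

end Cfsg.Agent.Lib.Helper1.SzTori
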