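import Mathlib
import Cfsg.Agent.Lib.Helper14.SzP
import Cfsg.Agent.Lib.Helper1.SzTa

/-!
# Suzuki groups: elements with and without fixed points on the ovoid (helper1)
-/

set_option autoImplicit false
set_option maxHeartbeats 1000000

namespace Cfsg.Agent.Lib.Helper1.SzTori

open Cfsg Cfsg.Agent.Lib.Helper14.Sz

section fixed

variable {F : Type*} [Field F] [Fintype F] [CharP F 2] {m : ℕ}

/-- `g` has a fixed point on the ovoid -/
def Fixes (g : Sz F m) : Prop := ∃ a : suzukiOvoid F m, g • a = a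

theorem fixes_conj (h g : Sz F m) : Fixes (h * g * h⁻¹) ↔ Fixes g := by
  constructor
  · rintro ⟨a, ha⟩
    refine ⟨h⁻¹ • a, ?_⟩
    rw [← mul_smul]
    have : g * h⁻¹ = h⁻¹ * (h * g * h⁻¹) := by group
    rw [this, mul_smul, ha]
  · rintro ⟨a, ha⟩
    refine ⟨h • a, ?_⟩
    rw [mul_smul, mul_smul, inv_smul_smul, ha]

/-- a nonidentity element with a fixed point is conjugate to a standard unipotent or torus
element -/
theorem exists_conj_std (hm : 1 ≤ m) (hF : Fintype.card F = 2 ^ (2 * m + 1)) (g : Sz F m)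
    (hg : g ≠ 1) (hfix : Fixes g) :
    ∃ h : Sz F m, (∃ a b : F, h * g * h⁻¹ = TS hF a b) ∨
      ∃ k : Fˣ, k ≠ 1 ∧ h * g * h⁻¹ = HS hF k := by
  obtain ⟨p, hp⟩ := hfix
  obtain ⟨h₀, hh₀⟩ := exists_smul_oinf hF p
  -- `h₀ • oinf = p`
  set g₁ := h₀⁻¹ * g * h₀ with hg₁
  have hg₁fix : g₁ • oinf F m = oinf F m := by
    rw [hg₁, mul_smul, mul_smul, hh₀, hp, ← hh₀, inv_smul_smul]
  obtain ⟨a, b, k, hab⟩ := fix_oinf hm hF g₁ hg₁fix
  by_cases hk : k = 1
  · refine ⟨h₀⁻¹, Or.inl ⟨a, b, ?_⟩⟩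
    rw [inv_inv, ← hg₁, hab, hk, HS_one, mul_one]
  · obtain ⟨x, y, hxy⟩ := exists_fix_affine hF a b hk
    rw [← hab] at hxy
    set t := TS hF x y with ht
    have ht0 : t • opt m (0 : F) 0 = opt m x y := by
      rw [ht, TS_opt]
      simp
    have htinf : t • oinf F m = oinf F m := TS_oinf hF x y
    set g₂ := t⁻¹ * g₁ * t with hg₂
    have f1 : g₂ • oinf F m = oinf F m := by
      rw [hg₂, mul_smul, mul_smul, htinf, hg₁fix, ← htinf, inv_smul_smul, htinf]
    have f2 : g₂ • opt m (0 : F) 0 = opt m 0 0 := by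
      rw [hg₂, mul_smul, mul_smul, ht0, hxy, ← ht0, inv_smul_smul]
    obtain ⟨k', hk'⟩ := eq_HS_of_fix hm hF g₂ f1 f2
    refine ⟨t⁻¹ * h₀⁻¹, Or.inr ⟨k', ?_, ?_⟩⟩
    · rintro rfl
      rw [HS_one] at hk'
      apply hg
      have e1 : g₁ = t * g₂ * t⁻¹ := by rw [hg₂]; group
      have e2 : g = h₀ * g₁ * h₀⁻¹ := by rw [hg₁]; group
      rw [e2, e1, hk']
      group
    · rw [← hk', hg₂, hg₁]
      group

/-- an element commuting with a nonidentity element having a fixed point has a fixed point -/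
theorem fixes_of_commute (hm : 1 ≤ m) (hF : Fintype.card F = 2 ^ (2 * m + 1)) (c g : Sz F m)
    (hc : c ≠ 1) (hfix : Fixes c) (hcomm : Commute c g) : Fixes g := by
  obtain ⟨h, hh⟩ := exists_conj_std hm hF c hc hfix
  have hcomm' : Commute (h * c * h⁻¹) (h * g * h⁻¹) := by
    show h * c * h⁻¹ * (h * g * h⁻¹) = h * g * h⁻¹ * (h * c * h⁻¹)
    have e1 : h * c * h⁻¹ * (h * g * h⁻¹) = h * (c * g) * h⁻¹ := by group
    have e2 : h * g * h⁻¹ * (h * c * h⁻¹) = h * (g * c) * h⁻¹ := by group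
    rw [e1, e2, hcomm.eq]
  rw [← fixes_conj h g]
  rcases hh with ⟨a, b, hab⟩ | ⟨k, hk, hkk⟩
  · have hne : TS hF a b ≠ 1 := by
      rw [← hab]
      intro e
      apply hc
      have : c = h⁻¹ * (h * c * h⁻¹) * h := by group
      rw [this, e]
      group
    rw [hab] at hcomm'
    have hmem : h * g * h⁻¹ ∈ Subgroup.centralizer ({TS hF a b} : Set (Sz F m)) := by
      rw [Subgroup.mem_centralizer_singleton_iff]
      exact hcomm'.eq.symm
    obtain ⟨a', b', e⟩ := (mem_TSub_iff hF _).mp (centralizer_TS hm hF hne hmem)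
    exact ⟨oinf F m, by rw [e, TS_oinf]⟩
  · rw [hkk] at hcomm'
    have hmem : h * g * h⁻¹ ∈ Subgroup.centralizer ({HS hF k} : Set (Sz F m)) := by
      rw [Subgroup.mem_centralizer_singleton_iff]
      exact hcomm'.eq.symm
    obtain ⟨l, e⟩ := centralizer_HS hm hF hk _ hmem
    exact ⟨oinf F m, by rw [e, HS_oinf]⟩

end fixed

end Cfsg.Agent.Lib.Helper1.SzTori
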