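import Mathlib
import Cfsg.Agent.Lib.Helper1.SzTb

/-!
# Suzuki groups: the cyclic tori containing the fixed-point-free elements (helper1)
-/

set_option autoImplicit false
set_option maxHeartbeats 1000000

namespace Cfsg.Agent.Lib.Helper1.SzTori

open Cfsg Cfsg.Agent.Lib.Helper14.Sz

section tori

variable {F : Type*} [Field F] [Fintype F] [CharP F 2] {m : ℕ}

/-- `g` has no fixed point on the ovoid -/
def Free (g : Sz F m) : Prop := ∀ a : suzukiOvoid F m, g • a ≠ a

theorem free_iff_not_fixes (g : Sz F m) : Free g ↔ ¬ Fixes g := by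
  unfold Free Fixes
  rw [not_exists]

theorem free_ne_one {g : Sz F m} (hg : Free g) : g ≠ 1 := by
  rintro rfl
  exact hg (oinf F m) (one_smul _ _)

theorem free_of_commute (hm : 1 ≤ m) (hF : Fintype.card F = 2 ^ (2 * m + 1)) {c g : Sz F m}
    (hg : Free g) (hc : c ≠ 1) (hcomm : Commute c g) : Free c := by
  rw [free_iff_not_fixes] at hg ⊢
  intro hfix
  exact hg (fixes_of_commute hm hF c g hc hfix hcomm)

theorem free_conj (h g : Sz F m) : Free (h * g * h⁻¹) ↔ Free g := by
  rw [free_iff_not_fixes, free_iff_not_fixes, fixes_conj]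

/-- a fixed-point-free element of prime order acts irreducibly -/
theorem prime_dvd_of_free (hF : Fintype.card F = 2 ^ (2 * m + 1))
    (g : Sz F m) {p : ℕ} [Fact p.Prime] (hord : orderOf g = p) (hfree : Free g) :
    p ∣ (2 ^ (2 * m + 1)) ^ 2 + 1 ∧ p ≠ 2 := by
  classical
  set q : ℕ := 2 ^ (2 * m + 1) with hq
  have hpg : IsPGroup p (Subgroup.zpowers g) :=
    IsPGroup.of_card (n := 1) (by rw [Nat.card_zpowers, hord, pow_one])
  have h1 := hpg.card_modEq_card_fixedPoints (suzukiOvoid F m)
  haveI : IsEmpty (MulAction.fixedPoints (Subgroup.zpowers g) (suzukiOvoid F m)) :=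
    ⟨fun a => hfree a.1 (a.2 ⟨g, Subgroup.mem_zpowers g⟩)⟩
  have hcard0 : Nat.card (MulAction.fixedPoints (Subgroup.zpowers g) (suzukiOvoid F m)) = 0 :=
    Nat.card_of_isEmpty
  rw [hcard0, card_ovoid hF, ← hq] at h1
  have hdvd : p ∣ q ^ 2 + 1 := (Nat.modEq_zero_iff_dvd).mp h1
  refine ⟨hdvd, ?_⟩
  rintro rfl
  have h2 : 2 ∣ q ^ 2 := by
    rw [hq]
    exact dvd_pow (dvd_pow_self 2 (by omega)) (by norm_num)
  have := (Nat.dvd_add_right h2).mp hdvd
  omega

theorem irr_of_free (hF : Fintype.card F = 2 ^ (2 * m + 1))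
    (g : Sz F m) {p : ℕ} [Fact p.Prime] (hord : orderOf g = p) (hfree : Free g) :
    Irr (matHom F m g) := by
  have hpp : p.Prime := Fact.out
  obtain ⟨hdvd, hp2⟩ := prime_dvd_of_free hF g hord hfree
  obtain ⟨hx0, hx1, hx2, hx3⟩ := zmod_conds hp2 _ hdvd
  set A := matHom F m g with hA
  have hAp : A ^ p = 1 := by
    rw [hA, ← map_pow, ← hord, pow_orderOf_eq_one, map_one]
  have hA1 : A ≠ 1 := by
    intro e
    rw [hA, ← map_one (matHom F m)] at e
    have h2 := matHom_injective e
    rw [h2, orderOf_one] at hord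
    exact hpp.one_lt.ne hord
  apply irr_of_order A hAp hA1
  · rw [hF]; exact hx0
  · rw [hF]; exact hx1
  · rw [hF]; exact hx2
  · rw [hF]; exact hx3

theorem isCyclic_centralizer_of_free_prime (hF : Fintype.card F = 2 ^ (2 * m + 1))
    (g : Sz F m) {p : ℕ} [Fact p.Prime] (hord : orderOf g = p) (hfree : Free g) :
    IsCyclic (Subgroup.centralizer ({g} : Set (Sz F m))) := by
  have hirr := irr_of_free hF g hord hfree
  let ρ : Subgroup.centralizer ({g} : Set (Sz F m)) →* Matrix (Fin 4) (Fin 4) F :=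
    (matHom F m).comp (Subgroup.centralizer ({g} : Set (Sz F m))).subtype
  have hρ : Function.Injective ρ := by
    intro a b hab
    exact Subtype.ext (matHom_injective hab)
  apply isCyclic_of_irr hirr ρ hρ
  intro c
  have := Subgroup.mem_centralizer_singleton_iff.mp c.2
  show matHom F m c * matHom F m g = matHom F m g * matHom F m c
  rw [← map_mul, ← map_mul, this]

/-- a prime-order power -/
theorem exists_prime_pow (g : Sz F m) (hg : g ≠ 1) :
    ∃ p : ℕ, p.Prime ∧ p ∣ orderOf g ∧ orderOf (g ^ (orderOf g / p)) = p := by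
  have hn0 : orderOf g ≠ 0 := (orderOf_pos g).ne'
  have hn1 : orderOf g ≠ 1 := fun e => hg (orderOf_eq_one_iff.mp e)
  obtain ⟨p, hpp, hpdvd⟩ := Nat.exists_prime_and_dvd hn1
  exact ⟨p, hpp, hpdvd, orderOf_pow_orderOf_div hn0 hpdvd⟩

theorem centralizer_pow_eq (hm : 1 ≤ m) (hF : Fintype.card F = 2 ^ (2 * m + 1))
    (g : Sz F m) (hfree : Free g) {p : ℕ} (hpp : p.Prime)
    (hord : orderOf (g ^ (orderOf g / p)) = p) :
    Subgroup.centralizer ({g ^ (orderOf g / p)} : Set (Sz F m)) =
      Subgroup.centralizer ({g} : Set (Sz F m)) ∧ Free (g ^ (orderOf g / p)) := by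
  haveI : Fact p.Prime := ⟨hpp⟩
  set g' := g ^ (orderOf g / p) with hg'
  have hg'1 : g' ≠ 1 := by
    intro e
    rw [e, orderOf_one] at hord
    exact hpp.one_lt.ne hord
  have hcomm : Commute g' g := (Commute.refl g).pow_left _
  have hfree' : Free g' := free_of_commute hm hF hfree hg'1 hcomm
  haveI := isCyclic_centralizer_of_free_prime hF g' hord hfree'
  refine ⟨?_, hfree'⟩
  apply le_antisymm
  · intro c hc
    have hgmem : g ∈ Subgroup.centralizer ({g'} : Set (Sz F m)) := by
      rw [Subgroup.mem_centralizer_singleton_iff]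
      exact hcomm.eq.symm
    rw [Subgroup.mem_centralizer_singleton_iff]
    have := (IsCyclic.commutative
      (α := Subgroup.centralizer ({g'} : Set (Sz F m)))).is_comm.comm ⟨c, hc⟩ ⟨g, hgmem⟩
    exact congrArg Subtype.val this
  · intro c hc
    rw [Subgroup.mem_centralizer_singleton_iff] at hc ⊢
    have : Commute c g := hc
    exact (this.pow_right _).eq

theorem isCyclic_centralizer_of_free (hm : 1 ≤ m) (hF : Fintype.card F = 2 ^ (2 * m + 1))
    (g : Sz F m) (hfree : Free g) :
    IsCyclic (Subgroup.centralizer ({g} : Set (Sz F m))) := by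
  obtain ⟨p, hpp, -, hord⟩ := exists_prime_pow g (free_ne_one hfree)
  haveI : Fact p.Prime := ⟨hpp⟩
  obtain ⟨heq, hfree'⟩ := centralizer_pow_eq hm hF g hfree hpp hord
  rw [← heq]
  exact isCyclic_centralizer_of_free_prime hF _ hord hfree'

theorem centralizer_comm (hm : 1 ≤ m) (hF : Fintype.card F = 2 ^ (2 * m + 1))
    (g : Sz F m) (hfree : Free g) (x y : Sz F m)
    (hx : x ∈ Subgroup.centralizer ({g} : Set (Sz F m)))
    (hy : y ∈ Subgroup.centralizer ({g} : Set (Sz F m))) : x * y = y * x := by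
  haveI := isCyclic_centralizer_of_free hm hF g hfree
  have := (IsCyclic.commutative
    (α := Subgroup.centralizer ({g} : Set (Sz F m)))).is_comm.comm ⟨x, hx⟩ ⟨y, hy⟩
  exact congrArg Subtype.val this

/-- the torus of a fixed-point-free element is the torus of each of its nonidentity elements -/
theorem centralizer_eq_of_mem (hm : 1 ≤ m) (hF : Fintype.card F = 2 ^ (2 * m + 1))
    (g : Sz F m) (hfree : Free g) (c : Sz F m)
    (hc : c ∈ Subgroup.centralizer ({g} : Set (Sz F m))) (hc1 : c ≠ 1) :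
    Subgroup.centralizer ({c} : Set (Sz F m)) = Subgroup.centralizer ({g} : Set (Sz F m)) ∧
      Free c := by
  have hcg : Commute c g := by
    have := Subgroup.mem_centralizer_singleton_iff.mp hc
    exact this
  have hcfree : Free c := free_of_commute hm hF hfree hc1 hcg
  refine ⟨?_, hcfree⟩
  have hgc : g ∈ Subgroup.centralizer ({c} : Set (Sz F m)) := by
    rw [Subgroup.mem_centralizer_singleton_iff]
    exact hcg.eq.symm
  apply le_antisymm
  · intro x hx
    rw [Subgroup.mem_centralizer_singleton_iff]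
    exact centralizer_comm hm hF c hcfree x g hx hgc
  · intro x hx
    rw [Subgroup.mem_centralizer_singleton_iff]
    exact centralizer_comm hm hF g hfree x c hx hc

end tori

end Cfsg.Agent.Lib.Helper1.SzTori
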