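import Mathlib
import Cfsg.Agent.Lib.Helper1.SzTc

/-!
# Suzuki groups: the tori are Hall subgroups, conjugacy and normalizers (helper1)
-/

set_option autoImplicit false
set_option maxHeartbeats 1000000

namespace Cfsg.Agent.Lib.Helper1.SzTori

open Cfsg Cfsg.Agent.Lib.Helper14.Sz
open scoped Pointwise

section general

variable {G : Type*} [Group G]

theorem centralizer_conj (h c : G) :
    Subgroup.centralizer ({h * c * h⁻¹} : Set G) =
      (Subgroup.centralizer ({c} : Set G)).map (MulAut.conj h).toMonoidHom := by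
  ext x
  rw [Subgroup.mem_map_equiv, Subgroup.mem_centralizer_singleton_iff,
    Subgroup.mem_centralizer_singleton_iff, MulAut.conj_symm_apply]
  constructor
  · intro e
    have : h⁻¹ * x * h * c = h⁻¹ * (x * (h * c * h⁻¹)) * h := by group
    rw [this, e]
    group
  · intro e
    have : x * (h * c * h⁻¹) = h * (h⁻¹ * x * h * c) * h⁻¹ := by group
    rw [this, e]
    group

theorem mem_normalizer_of_map_eq (h : G) (K : Subgroup G)
    (e : K.map (MulAut.conj h).toMonoidHom = K) : h ∈ Subgroup.normalizer (K : Set G) := by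
  rw [Subgroup.mem_normalizer_iff]
  intro x
  constructor
  · intro hx
    rw [← e, Subgroup.mem_map_equiv, MulAut.conj_symm_apply]
    have : h⁻¹ * (h * x * h⁻¹) * h = x := by group
    rw [this]
    exact hx
  · intro hx
    rw [← e, Subgroup.mem_map_equiv, MulAut.conj_symm_apply] at hx
    have : h⁻¹ * (h * x * h⁻¹) * h = x := by group
    rwa [this] at hx

end general

section hall

variable {F : Type*} [Field F] [Fintype F] [CharP F 2] {m : ℕ}

theorem card_centralizer_dvd (hm : 1 ≤ m) (hF : Fintype.card F = 2 ^ (2 * m + 1))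
    (g : Sz F m) (hfree : Free g) :
    Nat.card (Subgroup.centralizer ({g} : Set (Sz F m))) ∣ (2 ^ (2 * m + 1)) ^ 2 + 1 := by
  set C := Subgroup.centralizer ({g} : Set (Sz F m)) with hC
  have hstab : ∀ a : suzukiOvoid F m, MulAction.stabilizer ↥C a = ⊥ := by
    intro a
    rw [Subgroup.eq_bot_iff_forall]
    intro c hc
    by_contra hc1
    have hc1' : (c : Sz F m) ≠ 1 := fun e => hc1 (Subtype.ext e)
    have := (centralizer_eq_of_mem hm hF g hfree c c.2 hc1').2
    exact this a (MulAction.mem_stabilizer_iff.mp hc)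
  have e := Nat.card_congr (MulAction.selfEquivOrbitsQuotientProd hstab)
  rw [Nat.card_prod, card_ovoid hF] at e
  exact ⟨_, by rw [e, mul_comm]⟩

/-- the tori are Hall subgroups: they contain a full Sylow subgroup for each prime divisor -/
theorem exists_sylow_le (hm : 1 ≤ m) (hF : Fintype.card F = 2 ^ (2 * m + 1))
    (g : Sz F m) (hfree : Free g) {p : ℕ} [hp : Fact p.Prime]
    (hpd : p ∣ Nat.card (Subgroup.centralizer ({g} : Set (Sz F m)))) :
    ∃ P : Sylow p (Sz F m), ∃ c ∈ (P : Subgroup (Sz F m)), c ≠ 1 ∧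
      c ∈ Subgroup.centralizer ({g} : Set (Sz F m)) ∧
      (P : Subgroup (Sz F m)) ≤ Subgroup.centralizer ({g} : Set (Sz F m)) := by
  set C := Subgroup.centralizer ({g} : Set (Sz F m)) with hC
  obtain ⟨c, hc⟩ := exists_prime_orderOf_dvd_card' (G := ↥C) p hpd
  have hcG : orderOf (c : Sz F m) = p := by rw [Subgroup.orderOf_coe]; exact hc
  have hc1 : (c : Sz F m) ≠ 1 := by
    intro e
    rw [e, orderOf_one] at hcG
    exact hp.out.one_lt.ne hcG
  have hpg : IsPGroup p (Subgroup.zpowers (c : Sz F m)) := by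
    apply IsPGroup.of_card (n := 1)
    rw [Nat.card_zpowers, hcG, pow_one]
  obtain ⟨P, hP⟩ := hpg.exists_le_sylow
  have hcP : (c : Sz F m) ∈ (P : Subgroup (Sz F m)) := hP (Subgroup.mem_zpowers _)
  have hp2 : p ≠ 2 := by
    rintro rfl
    have h1 := dvd_trans hpd (card_centralizer_dvd hm hF g hfree)
    have h2 : 2 ∣ (2 ^ (2 * m + 1)) ^ 2 := dvd_pow (dvd_pow_self 2 (by omega)) (by norm_num)
    have := (Nat.dvd_add_right h2).mp h1
    omega
  haveI := sylow_cyclic hm hF hp2 P
  refine ⟨P, c, hcP, hc1, c.2, ?_⟩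
  intro x hx
  show x ∈ Subgroup.centralizer ({g} : Set (Sz F m))
  rw [← (centralizer_eq_of_mem hm hF g hfree c c.2 hc1).1,
    Subgroup.mem_centralizer_singleton_iff]
  have := (IsCyclic.commutative
    (α := (P : Subgroup (Sz F m)))).is_comm.comm ⟨x, hx⟩ ⟨c, hcP⟩
  exact congrArg Subtype.val this

/-- tori sharing a prime divisor are conjugate -/
theorem torus_conj (hm : 1 ≤ m) (hF : Fintype.card F = 2 ^ (2 * m + 1))
    (g g' : Sz F m) (hfree : Free g) (hfree' : Free g') {p : ℕ} [hp : Fact p.Prime]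
    (hpd : p ∣ Nat.card (Subgroup.centralizer ({g} : Set (Sz F m))))
    (hpd' : p ∣ Nat.card (Subgroup.centralizer ({g'} : Set (Sz F m)))) :
    ∃ h : Sz F m, Subgroup.centralizer ({g'} : Set (Sz F m)) =
      (Subgroup.centralizer ({g} : Set (Sz F m))).map (MulAut.conj h).toMonoidHom := by
  obtain ⟨P, c, hcP, hc1, hcC, hPC⟩ := exists_sylow_le hm hF g hfree hpd
  obtain ⟨P', c', hcP', hc1', hcC', hPC'⟩ := exists_sylow_le hm hF g' hfree' hpd'
  obtain ⟨h, hh⟩ := MulAction.exists_smul_eq (Sz F m) P P'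
  refine ⟨h, ?_⟩
  have hmem : h * c * h⁻¹ ∈ (P' : Subgroup (Sz F m)) := by
    have h1 : MulAut.conj h • c ∈ MulAut.conj h • (P : Subgroup (Sz F m)) :=
      Subgroup.smul_mem_pointwise_smul c (MulAut.conj h) (P : Subgroup (Sz F m)) hcP
    rw [MulAut.smul_def, MulAut.conj_apply] at h1
    rw [← hh, Sylow.smul_def, Sylow.pointwise_smul_def]
    exact h1
  have hne : h * c * h⁻¹ ≠ 1 := by
    intro e
    apply hc1
    have : c = h⁻¹ * (h * c * h⁻¹) * h := by group
    rw [this, e]
    group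
  have e1 := (centralizer_eq_of_mem hm hF g' hfree' _ (hPC' hmem) hne).1
  have e2 := (centralizer_eq_of_mem hm hF g hfree c hcC hc1).1
  rw [← e1, centralizer_conj, e2]

/-- the tori are TI-subgroups -/
theorem mem_normalizer_of_conj_mem (hm : 1 ≤ m) (hF : Fintype.card F = 2 ^ (2 * m + 1))
    (g : Sz F m) (hfree : Free g) (h c : Sz F m)
    (hc : c ∈ Subgroup.centralizer ({g} : Set (Sz F m))) (hc1 : c ≠ 1)
    (hhc : h * c * h⁻¹ ∈ Subgroup.centralizer ({g} : Set (Sz F m))) :
    h ∈ Subgroup.normalizer ((Subgroup.centralizer ({g} : Set (Sz F m)) : Subgroup (Sz F m)) :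
      Set (Sz F m)) := by
  have hne : h * c * h⁻¹ ≠ 1 := by
    intro e
    apply hc1
    have : c = h⁻¹ * (h * c * h⁻¹) * h := by group
    rw [this, e]
    group
  have e1 := (centralizer_eq_of_mem hm hF g hfree _ hhc hne).1
  have e2 := (centralizer_eq_of_mem hm hF g hfree c hc hc1).1
  apply mem_normalizer_of_map_eq
  rw [← e2, ← centralizer_conj, e1, e2]

end hall

end Cfsg.Agent.Lib.Helper1.SzTori
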