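import Mathlib
import Cfsg.Agent.Lib.Helper1.SzTd

/-!
# Suzuki groups: the normalizer of a torus has index at most four over it (helper1)

Conjugates of an irreducible matrix `A` inside the commutative domain of matrices commuting with `A`
are roots of the characteristic polynomial of `A`, so there are at most four of them.
-/

set_option autoImplicit false
set_option maxHeartbeats 1000000

namespace Cfsg.Agent.Lib.Helper1.SzTori

open Cfsg Cfsg.Agent.Lib.Helper14.Sz Polynomial

section roots

variable {F : Type*} [Field F]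

/-- at most four matrices commuting with an irreducible `A` have the characteristic polynomial
of `A` -/
theorem card_le_four_of_irr {A : Matrix (Fin 4) (Fin 4) F} (hA : Irr A)
    (T : Finset (Matrix (Fin 4) (Fin 4) F))
    (hT : ∀ B ∈ T, B * A = A * B ∧ B.charpoly = A.charpoly) : T.card ≤ 4 := by
  classical
  let S : Subalgebra F (Matrix (Fin 4) (Fin 4) F) := Subalgebra.centralizer F {A}
  have hS : ∀ c : S, (c : Matrix (Fin 4) (Fin 4) F) * A = A * c := by
    intro c
    have := (Subalgebra.mem_centralizer_iff F).mp c.2 A (Set.mem_singleton A)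
    exact this.symm
  letI instCR : CommRing S :=
    { (inferInstance : Ring S) with
      mul_comm := fun a b => Subtype.ext (commute_of_irr hA a b (hS a) (hS b)) }
  haveI : NoZeroDivisors S := ⟨by
    intro a b hab
    have h := congrArg Subtype.val hab
    rcases eq_zero_of_irr hA a b (hS a) h with h0 | h0
    · exact Or.inl (Subtype.ext h0)
    · exact Or.inr (Subtype.ext h0)⟩
  haveI : Nontrivial S := inferInstance
  haveI : IsDomain S := NoZeroDivisors.to_isDomain S
  set χ : F[X] := A.charpoly with hχ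
  have hχmonic : χ.Monic := Matrix.charpoly_monic A
  have hχdeg : χ.natDegree = 4 := by
    rw [hχ, Matrix.charpoly_natDegree_eq_dim, Fintype.card_fin]
  set χS : S[X] := χ.map (algebraMap F S) with hχS
  have hχS0 : χS ≠ 0 := (hχmonic.map _).ne_zero
  have hmem : ∀ B ∈ T, ∃ s : S, (s : Matrix (Fin 4) (Fin 4) F) = B ∧ s ∈ χS.roots.toFinset := by
    intro B hB
    obtain ⟨h1, h2⟩ := hT B hB
    have hBS : B ∈ S := (Subalgebra.mem_centralizer_iff F).mpr (by
      intro x hx
      rw [Set.mem_singleton_iff.mp hx]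
      exact h1.symm)
    refine ⟨⟨B, hBS⟩, rfl, ?_⟩
    rw [Multiset.mem_toFinset, mem_roots hχS0, IsRoot.def, hχS, eval_map, ← aeval_def]
    apply Subtype.ext
    rw [aeval_subalgebra_coe]
    show aeval B χ = 0
    rw [← h2]
    exact Matrix.aeval_self_charpoly B
  have hinj : T.card ≤ χS.roots.toFinset.card := by
    apply Finset.card_le_card_of_injOn (fun B => if h : B ∈ S then (⟨B, h⟩ : S) else 0)
    · intro B hB
      obtain ⟨s, hs1, hs2⟩ := hmem B hB
      have hBS : B ∈ S := by rw [← hs1]; exact s.2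
      show (if h : B ∈ S then (⟨B, h⟩ : S) else 0) ∈ _
      rw [dif_pos hBS]
      have : (⟨B, hBS⟩ : S) = s := Subtype.ext hs1.symm
      rw [this]
      exact hs2
    · intro B hB B' hB' e
      obtain ⟨s, hs1, -⟩ := hmem B hB
      obtain ⟨s', hs1', -⟩ := hmem B' hB'
      have hBS : B ∈ S := by rw [← hs1]; exact s.2
      have hBS' : B' ∈ S := by rw [← hs1']; exact s'.2
      simp only [dif_pos hBS, dif_pos hBS'] at e
      exact congrArg Subtype.val e
  calc T.card ≤ χS.roots.toFinset.card := hinj
    _ ≤ Multiset.card χS.roots := Multiset.toFinset_card_le _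
    _ ≤ χS.natDegree := card_roots' _
    _ = 4 := by rw [hχS, hχmonic.natDegree_map, hχdeg]

end roots

section normalizer

variable {F : Type*} [Field F] [Fintype F] [CharP F 2] {m : ℕ}

theorem card_normalizer_le_prime (hF : Fintype.card F = 2 ^ (2 * m + 1))
    (g : Sz F m) {p : ℕ} [Fact p.Prime] (hord : orderOf g = p) (hfree : Free g) :
    Nat.card (Subgroup.normalizer
      ((Subgroup.centralizer ({g} : Set (Sz F m)) : Subgroup (Sz F m)) : Set (Sz F m))) ≤
      4 * Nat.card (Subgroup.centralizer ({g} : Set (Sz F m))) := by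
  classical
  set C := Subgroup.centralizer ({g} : Set (Sz F m)) with hC
  set N := Subgroup.normalizer ((C : Subgroup (Sz F m)) : Set (Sz F m)) with hN
  haveI : Fintype ↥N := Fintype.ofFinite _
  haveI : Fintype ↥C := Fintype.ofFinite _
  have hirr := irr_of_free hF g hord hfree
  set A := matHom F m g with hA
  have hgC : g ∈ C := by
    rw [hC, Subgroup.mem_centralizer_singleton_iff]
  let ψ : ↥N → Matrix (Fin 4) (Fin 4) F := fun n => matHom F m ((n : Sz F m) * g * (n : Sz F m)⁻¹)
  have hconjC : ∀ n : ↥N, (n : Sz F m) * g * (n : Sz F m)⁻¹ ∈ C := by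
    intro n
    exact (Subgroup.mem_normalizer_iff.mp n.2 g).mp hgC
  have hT : ∀ B ∈ Finset.univ.image ψ, B * A = A * B ∧ B.charpoly = A.charpoly := by
    intro B hB
    obtain ⟨n, -, rfl⟩ := Finset.mem_image.mp hB
    constructor
    · have := Subgroup.mem_centralizer_singleton_iff.mp (hconjC n)
      show matHom F m _ * matHom F m g = matHom F m g * matHom F m _
      rw [← map_mul, ← map_mul, this]
    · show (matHom F m ((n : Sz F m) * g * (n : Sz F m)⁻¹)).charpoly = _
      rw [map_mul, map_mul, Matrix.charpoly_mul_comm, ← mul_assoc, ← map_mul, inv_mul_cancel,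
        map_one, one_mul]
  have h4 := card_le_four_of_irr hirr _ hT
  have hfib : ∀ B ∈ Finset.univ.image ψ,
      (Finset.univ.filter (fun n : ↥N => ψ n = B)).card ≤ Fintype.card ↥C := by
    intro B hB
    obtain ⟨n₀, -, rfl⟩ := Finset.mem_image.mp hB
    have hmemC : ∀ n : ↥N, ψ n = ψ n₀ → (n₀ : Sz F m)⁻¹ * (n : Sz F m) ∈ C := by
      intro n hn
      have h1 : (n : Sz F m) * g * (n : Sz F m)⁻¹ = (n₀ : Sz F m) * g * (n₀ : Sz F m)⁻¹ :=
        matHom_injective hn
      rw [hC, Subgroup.mem_centralizer_singleton_iff]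
      have h2 : (n₀ : Sz F m)⁻¹ * (n : Sz F m) * g =
          (n₀ : Sz F m)⁻¹ * ((n : Sz F m) * g * (n : Sz F m)⁻¹) * (n : Sz F m) := by group
      rw [h2, h1]
      group
    rw [← Finset.card_univ]
    apply Finset.card_le_card_of_injOn
      (fun n => if h : ψ n = ψ n₀ then (⟨(n₀ : Sz F m)⁻¹ * (n : Sz F m), hmemC n h⟩ : ↥C) else 1)
    · intro n _
      exact Finset.mem_univ _
    · intro n hn n' hn' e
      have hn1 : ψ n = ψ n₀ := (Finset.mem_filter.mp hn).2
      have hn2 : ψ n' = ψ n₀ := (Finset.mem_filter.mp hn').2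
      simp only [dif_pos hn1, dif_pos hn2] at e
      have e' : (n₀ : Sz F m)⁻¹ * (n : Sz F m) = (n₀ : Sz F m)⁻¹ * (n' : Sz F m) :=
        congrArg Subtype.val e
      exact Subtype.ext (mul_left_cancel e')
  have hcard := Finset.card_le_mul_card_image (f := ψ) Finset.univ (Fintype.card ↥C) hfib
  rw [Finset.card_univ] at hcard
  rw [Nat.card_eq_fintype_card, Nat.card_eq_fintype_card]
  calc Fintype.card ↥N ≤ Fintype.card ↥C * (Finset.univ.image ψ).card := hcard
    _ ≤ Fintype.card ↥C * 4 := Nat.mul_le_mul_left _ h4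
    _ = 4 * Fintype.card ↥C := mul_comm _ _

theorem card_normalizer_le (hm : 1 ≤ m) (hF : Fintype.card F = 2 ^ (2 * m + 1))
    (g : Sz F m) (hfree : Free g) :
    Nat.card (Subgroup.normalizer
      ((Subgroup.centralizer ({g} : Set (Sz F m)) : Subgroup (Sz F m)) : Set (Sz F m))) ≤
      4 * Nat.card (Subgroup.centralizer ({g} : Set (Sz F m))) := by
  obtain ⟨p, hpp, -, hord⟩ := exists_prime_pow g (free_ne_one hfree)
  haveI : Fact p.Prime := ⟨hpp⟩
  obtain ⟨heq, hfree'⟩ := centralizer_pow_eq hm hF g hfree hpp hord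
  rw [← heq]
  exact card_normalizer_le_prime hF _ hord hfree'

end normalizer

end Cfsg.Agent.Lib.Helper1.SzTori
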