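import Mathlib
import Cfsg.Agent.Lib.Helper1.SzTe

/-!
# Suzuki groups: counting the elements of the conjugates of a torus (helper1)
-/

set_option autoImplicit false
set_option maxHeartbeats 1000000

namespace Cfsg.Agent.Lib.Helper1.SzTori

open Cfsg Cfsg.Agent.Lib.Helper14.Sz

section classes

variable {F : Type*} [Field F] [Fintype F] [CharP F 2] {m : ℕ}

/-- `x` is a nonidentity element of a conjugate of the torus of `g` -/
def InU (g x : Sz F m) : Prop :=
  ∃ h c : Sz F m, c ∈ Subgroup.centralizer ({g} : Set (Sz F m)) ∧ c ≠ 1 ∧ x = h * c * h⁻¹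

theorem inU_self (g : Sz F m) (hg : g ≠ 1) : InU g g :=
  ⟨1, g, by rw [Subgroup.mem_centralizer_singleton_iff], hg, by group⟩

theorem free_of_inU (hm : 1 ≤ m) (hF : Fintype.card F = 2 ^ (2 * m + 1)) (g x : Sz F m)
    (hfree : Free g) (hx : InU g x) : Free x := by
  obtain ⟨h, c, hc, hc1, rfl⟩ := hx
  rw [free_conj]
  exact (centralizer_eq_of_mem hm hF g hfree c hc hc1).2

/-- the centralizer of an element of `U` is a conjugate of the torus -/
theorem centralizer_of_inU (hm : 1 ≤ m) (hF : Fintype.card F = 2 ^ (2 * m + 1)) (g x : Sz F m)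
    (hfree : Free g) (hx : InU g x) :
    ∃ h : Sz F m, Subgroup.centralizer ({x} : Set (Sz F m)) =
      (Subgroup.centralizer ({g} : Set (Sz F m))).map (MulAut.conj h).toMonoidHom := by
  obtain ⟨h, c, hc, hc1, rfl⟩ := hx
  refine ⟨h, ?_⟩
  rw [centralizer_conj, (centralizer_eq_of_mem hm hF g hfree c hc hc1).1]

theorem card_map_conj {G : Type*} [Group G] (K : Subgroup G) (h : G) :
    Nat.card (K.map (MulAut.conj h).toMonoidHom) = Nat.card K :=
  Subgroup.card_map_of_injective (MulAut.conj h).injective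

/-- the counting formula for the conjugates of a torus -/
theorem card_inU (hm : 1 ≤ m) (hF : Fintype.card F = 2 ^ (2 * m + 1)) (g : Sz F m)
    (hfree : Free g) :
    Nat.card {x : Sz F m // InU g x} *
      Nat.card (Subgroup.normalizer
        ((Subgroup.centralizer ({g} : Set (Sz F m)) : Subgroup (Sz F m)) : Set (Sz F m))) =
    Nat.card (Sz F m) * (Nat.card (Subgroup.centralizer ({g} : Set (Sz F m))) - 1) := by
  classical
  set C := Subgroup.centralizer ({g} : Set (Sz F m)) with hC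
  set N := Subgroup.normalizer ((C : Subgroup (Sz F m)) : Set (Sz F m)) with hN
  -- representatives
  have hrep : ∀ x : {x : Sz F m // InU g x}, ∃ hc : Sz F m × Sz F m,
      hc.2 ∈ C ∧ hc.2 ≠ 1 ∧ (x : Sz F m) = hc.1 * hc.2 * hc.1⁻¹ := by
    rintro ⟨x, h, c, hc, hc1, e⟩
    exact ⟨(h, c), hc, hc1, e⟩
  choose rep hrepC hrep1 hrepx using hrep
  have hconjN : ∀ (n : ↥N) (c : Sz F m), c ∈ C → (n : Sz F m) * c * (n : Sz F m)⁻¹ ∈ C :=
    fun n c hc => (Subgroup.mem_normalizer_iff.mp n.2 c).mp hc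
  have hne : ∀ (n c : Sz F m), c ≠ 1 → n * c * n⁻¹ ≠ 1 := by
    intro n c hc e
    apply hc
    have : c = n⁻¹ * (n * c * n⁻¹) * n := by group
    rw [this, e]
    group
  let e : (Sz F m × {c : ↥C // c ≠ 1}) ≃ ({x : Sz F m // InU g x} × ↥N) :=
    { toFun := fun a =>
        let x : {x : Sz F m // InU g x} :=
          ⟨a.1 * (a.2.1 : Sz F m) * a.1⁻¹, a.1, a.2.1, a.2.1.2,
            fun h => a.2.2 (Subtype.ext h), rfl⟩
        (x, ⟨a.1⁻¹ * (rep x).1, by
          apply mem_normalizer_of_conj_mem hm hF g hfree _ (rep x).2 (hrepC x) (hrep1 x)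
          have h1 : a.1⁻¹ * (rep x).1 * (rep x).2 * (a.1⁻¹ * (rep x).1)⁻¹ =
              a.1⁻¹ * ((rep x).1 * (rep x).2 * (rep x).1⁻¹) * a.1 := by group
          rw [h1, ← hrepx x]
          show a.1⁻¹ * (a.1 * (a.2.1 : Sz F m) * a.1⁻¹) * a.1 ∈ C
          have h2 : a.1⁻¹ * (a.1 * (a.2.1 : Sz F m) * a.1⁻¹) * a.1 = (a.2.1 : Sz F m) := by group
          rw [h2]
          exact a.2.1.2⟩)
      invFun := fun b =>
        ((rep b.1).1 * (b.2 : Sz F m)⁻¹,
          ⟨⟨(b.2 : Sz F m) * (rep b.1).2 * (b.2 : Sz F m)⁻¹, hconjN b.2 _ (hrepC b.1)⟩,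
            fun h => hne _ _ (hrep1 b.1) (congrArg Subtype.val h)⟩)
      left_inv := by
        rintro ⟨h, ⟨c, hc⟩, hc1⟩
        simp only
        set x : {x : Sz F m // InU g x} :=
          ⟨h * c * h⁻¹, h, c, hc, fun e => hc1 (Subtype.ext e), rfl⟩ with hx
        have hxx := hrepx x
        have hxv : (x : Sz F m) = h * c * h⁻¹ := rfl
        rw [hxv] at hxx
        apply Prod.ext
        · show (rep x).1 * (h⁻¹ * (rep x).1)⁻¹ = h
          group
        · apply Subtype.ext
          apply Subtype.ext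
          show h⁻¹ * (rep x).1 * (rep x).2 * (h⁻¹ * (rep x).1)⁻¹ = c
          have h1 : h⁻¹ * (rep x).1 * (rep x).2 * (h⁻¹ * (rep x).1)⁻¹ =
              h⁻¹ * ((rep x).1 * (rep x).2 * (rep x).1⁻¹) * h := by group
          rw [h1, ← hxx]
          group
      right_inv := by
        rintro ⟨x, n⟩
        have hxx := hrepx x
        have hx' : (⟨(rep x).1 * (n : Sz F m)⁻¹ * ((n : Sz F m) * (rep x).2 * (n : Sz F m)⁻¹) *
            ((rep x).1 * (n : Sz F m)⁻¹)⁻¹, (rep x).1 * (n : Sz F m)⁻¹,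
            (n : Sz F m) * (rep x).2 * (n : Sz F m)⁻¹, hconjN n _ (hrepC x),
            hne _ _ (hrep1 x), rfl⟩ : {x : Sz F m // InU g x}) = x := by
          apply Subtype.ext
          show (rep x).1 * (n : Sz F m)⁻¹ * ((n : Sz F m) * (rep x).2 * (n : Sz F m)⁻¹) *
            ((rep x).1 * (n : Sz F m)⁻¹)⁻¹ = (x : Sz F m)
          rw [hxx]
          group
        apply Prod.ext
        · exact hx'
        · apply Subtype.ext
          show ((rep x).1 * (n : Sz F m)⁻¹)⁻¹ * (rep _).1 = (n : Sz F m)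
          rw [hx']
          group }
  have hcard := Nat.card_congr e
  rw [Nat.card_prod, Nat.card_prod] at hcard
  have hC1 : Nat.card {c : ↥C // c ≠ 1} = Nat.card ↥C - 1 := by
    have e' := Nat.card_congr (Equiv.optionSubtypeNe (1 : ↥C))
    rw [Finite.card_option] at e'
    omega
  rw [hC1] at hcard
  exact hcard.symm

end classes

end Cfsg.Agent.Lib.Helper1.SzTori
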