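import Mathlib
import Cfsg.Agent.Lib.Helper1.SzTf

/-!
# Suzuki groups: the number of fixed-point-free elements; free elements of prime order (helper1)
-/

set_option autoImplicit false
set_option maxHeartbeats 1000000

namespace Cfsg.Agent.Lib.Helper1.SzTori

open Cfsg Cfsg.Agent.Lib.Helper14.Sz

section counts

variable {F : Type*} [Field F] [Fintype F] [CharP F 2] {m : ℕ}

theorem fx_eq_zero_iff (g : Sz F m) : fx (suzukiOvoid F m) g = 0 ↔ Free g := by
  unfold fx
  rw [Nat.card_eq_zero]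
  constructor
  · rintro (h | h)
    · intro a ha
      exact h.false ⟨a, ha⟩
    · exfalso
      exact h.not_finite (Set.toFinite _)
  · intro h
    left
    exact ⟨fun a => h a.1 a.2⟩

/-- the number of fixed-point-free elements -/
theorem card_free (hm : 1 ≤ m) (hF : Fintype.card F = 2 ^ (2 * m + 1)) (q d : ℕ)
    (hq : q = 2 ^ (2 * m + 1)) (hd : q = d + 1) :
    2 * Nat.card {g : Sz F m // Free g} = q ^ 3 * d ^ 2 := by
  obtain ⟨-, h2, h3, -, -⟩ := zassenhaus hm hF
  have hN : Nat.card (suzukiOvoid F m) = q ^ 2 + 1 := by rw [card_ovoid hF, hq]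
  have hG : Nat.card (Sz F m) = q ^ 2 * (q ^ 2 + 1) * d := by
    rw [card_Sz hm hF, ← hq, hd]
    simp
  have hq8 : 8 ≤ q := by
    rw [hq]
    calc 8 = 2 ^ 3 := by norm_num
      _ ≤ 2 ^ (2 * m + 1) := Nat.pow_le_pow_right (by norm_num) (by omega)
  obtain ⟨e1, e2, e3⟩ := zass_counts (G := Sz F m) (X := suzukiOvoid F m) h2 h3 (by
    rw [hN]
    nlinarith)
  have e0 : Nat.card {g : Sz F m // Free g} =
      Nat.card {g : Sz F m // fx (suzukiOvoid F m) g = 0} :=
    Nat.card_congr (Equiv.subtypeEquivRight (fun g => (fx_eq_zero_iff g).symm))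
  rw [e0]
  rw [hN, hG] at e1 e2
  rw [hG] at e3
  have hP : (q ^ 2 + 1) * (q ^ 2 + 1 - 1) = (q ^ 2 + 1) * q ^ 2 := by simp
  rw [hP] at e1
  generalize Nat.card {g : Sz F m // fx (suzukiOvoid F m) g = 0} = n0 at *
  generalize Nat.card {g : Sz F m // fx (suzukiOvoid F m) g = 1} = n1 at *
  generalize Nat.card {g : Sz F m // fx (suzukiOvoid F m) g = 2} = n2 at *
  have key : 2 * n0 + (q ^ 2 + 1) * q ^ 2 + 2 = 2 * (q ^ 2 + 1) + q ^ 2 * (q ^ 2 + 1) * d := by
    omega
  subst hd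
  have : 2 * n0 + ((d + 1) ^ 2 + 1) * (d + 1) ^ 2 + 2 =
      (d + 1) ^ 3 * d ^ 2 + ((d + 1) ^ 2 + 1) * (d + 1) ^ 2 + 2 := by
    rw [key]
    ring
  omega

/-- fixed-point-free elements of each prime order dividing `q² + 1` -/
theorem exists_free_of_prime (hm : 1 ≤ m) (hF : Fintype.card F = 2 ^ (2 * m + 1)) {p : ℕ}
    [hp : Fact p.Prime] (hpd : p ∣ (2 ^ (2 * m + 1)) ^ 2 + 1) :
    ∃ g : Sz F m, orderOf g = p ∧ Free g := by
  classical
  obtain ⟨-, -, h3, -, -⟩ := zassenhaus hm hF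
  have hpG : p ∣ Nat.card (Sz F m) := by
    rw [card_Sz hm hF]
    exact dvd_mul_of_dvd_left (dvd_mul_of_dvd_right hpd _) _
  obtain ⟨g, hg⟩ := exists_prime_orderOf_dvd_card' (G := Sz F m) p hpG
  refine ⟨g, hg, ?_⟩
  have hg1 : g ≠ 1 := by
    intro e
    rw [e, orderOf_one] at hg
    exact hp.out.one_lt.ne hg
  have hp2 : p ≠ 2 := by
    rintro rfl
    have h2 : 2 ∣ (2 ^ (2 * m + 1)) ^ 2 := dvd_pow (dvd_pow_self 2 (by omega)) (by norm_num)
    have := (Nat.dvd_add_right h2).mp hpd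
    omega
  have hp3 : 3 ≤ p := by
    have := hp.out.two_le
    omega
  have hpg : IsPGroup p (Subgroup.zpowers g) :=
    IsPGroup.of_card (n := 1) (by rw [Nat.card_zpowers, hg, pow_one])
  have h1 := hpg.card_modEq_card_fixedPoints (suzukiOvoid F m)
  rw [card_ovoid hF] at h1
  have h0 : Nat.card (MulAction.fixedPoints (Subgroup.zpowers g) (suzukiOvoid F m)) % p = 0 := by
    have := h1.symm
    rw [Nat.ModEq, Nat.mod_eq_zero_of_dvd hpd] at this
    exact this
  intro a ha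
  haveI : Fintype (MulAction.fixedPoints (Subgroup.zpowers g) (suzukiOvoid F m)) :=
    Fintype.ofFinite _
  have hle : Nat.card (MulAction.fixedPoints (Subgroup.zpowers g) (suzukiOvoid F m)) ≤ 2 := by
    by_contra hlt
    rw [not_le, Nat.card_eq_fintype_card, Fintype.two_lt_card_iff] at hlt
    obtain ⟨x, y, z, hxy, hxz, hyz⟩ := hlt
    apply hg1
    have hfix : ∀ w : MulAction.fixedPoints (Subgroup.zpowers g) (suzukiOvoid F m),
        g • (w : suzukiOvoid F m) = w := fun w => w.2 ⟨g, Subgroup.mem_zpowers g⟩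
    exact h3 g x y z (fun h => hxy (Subtype.ext h)) (fun h => hyz (Subtype.ext h))
      (fun h => hxz (Subtype.ext h)) (hfix x) (hfix y) (hfix z)
  have hpos : 0 < Nat.card (MulAction.fixedPoints (Subgroup.zpowers g) (suzukiOvoid F m)) := by
    rw [Nat.card_pos_iff]
    refine ⟨⟨⟨a, ?_⟩⟩, inferInstance⟩
    have hle' : Subgroup.zpowers g ≤ MulAction.stabilizer (Sz F m) a :=
      (Subgroup.zpowers_le).2 (MulAction.mem_stabilizer_iff.2 ha)
    rintro ⟨x, hx⟩
    exact MulAction.mem_stabilizer_iff.1 (hle' hx)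
  have hdvd : p ∣ Nat.card (MulAction.fixedPoints (Subgroup.zpowers g) (suzukiOvoid F m)) :=
    Nat.dvd_of_mod_eq_zero h0
  have := Nat.le_of_dvd hpos hdvd
  omega

end counts

end Cfsg.Agent.Lib.Helper1.SzTori
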