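import Mathlib
import Cfsg.Agent.Lib.Helper1.SzTg

/-!
# Suzuki groups: conjugacy of tori, the Hall property, counting lemmas (helper1)
-/

set_option autoImplicit false
set_option maxHeartbeats 1000000

namespace Cfsg.Agent.Lib.Helper1.SzTori

open Cfsg Cfsg.Agent.Lib.Helper14.Sz

section general

variable {G : Type*} [Group G]

theorem map_conj_mul (K : Subgroup G) (a b : G) :
    (K.map (MulAut.conj b).toMonoidHom).map (MulAut.conj a).toMonoidHom =
      K.map (MulAut.conj (a * b)).toMonoidHom := by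
  ext x
  rw [Subgroup.mem_map_equiv, Subgroup.mem_map_equiv, Subgroup.mem_map_equiv,
    MulAut.conj_symm_apply, MulAut.conj_symm_apply, MulAut.conj_symm_apply]
  have : b⁻¹ * (a⁻¹ * x * a) * b = (a * b)⁻¹ * x * (a * b) := by group
  rw [this]

theorem map_conj_one (K : Subgroup G) :
    K.map (MulAut.conj (1 : G)).toMonoidHom = K := by
  ext x
  rw [Subgroup.mem_map_equiv, MulAut.conj_symm_apply]
  simp

theorem card_normalizer_map_conj [Finite G] (K : Subgroup G) (h : G) :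
    Nat.card (Subgroup.normalizer ((K.map (MulAut.conj h).toMonoidHom : Subgroup G) : Set G)) =
      Nat.card (Subgroup.normalizer ((K : Subgroup G) : Set G)) := by
  rw [← Subgroup.map_equiv_normalizer_eq]
  exact Subgroup.card_map_of_injective (MulAut.conj h).injective

/-- counting two disjoint subsets -/
theorem card_add_le {α : Type*} [Finite α] (P₁ P₂ R : α → Prop) (h₁ : ∀ x, P₁ x → R x)
    (h₂ : ∀ x, P₂ x → R x) (hd : ∀ x, P₁ x → ¬ P₂ x) :
    Nat.card {x // P₁ x} + Nat.card {x // P₂ x} ≤ Nat.card {x // R x} := by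
  have e1 : Nat.card {x // P₁ x} = Set.ncard {x | P₁ x} := Nat.card_coe_set_eq _
  have e2 : Nat.card {x // P₂ x} = Set.ncard {x | P₂ x} := Nat.card_coe_set_eq _
  have e3 : Nat.card {x // R x} = Set.ncard {x | R x} := Nat.card_coe_set_eq _
  rw [e1, e2, e3, ← Set.ncard_union_eq (by
    rw [Set.disjoint_left]
    intro x hx hx'
    exact hd x hx hx') (Set.toFinite _) (Set.toFinite _)]
  apply Set.ncard_le_ncard _ (Set.toFinite _)
  rintro x (hx | hx)
  · exact h₁ x hx
  · exact h₂ x hx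

theorem card_add_eq {α : Type*} [Finite α] (P₁ P₂ R : α → Prop) (h₁ : ∀ x, P₁ x → R x)
    (h₂ : ∀ x, P₂ x → R x) (hd : ∀ x, P₁ x → ¬ P₂ x) (hc : ∀ x, R x → P₁ x ∨ P₂ x) :
    Nat.card {x // P₁ x} + Nat.card {x // P₂ x} = Nat.card {x // R x} := by
  have e1 : Nat.card {x // P₁ x} = Set.ncard {x | P₁ x} := Nat.card_coe_set_eq _
  have e2 : Nat.card {x // P₂ x} = Set.ncard {x | P₂ x} := Nat.card_coe_set_eq _
  have e3 : Nat.card {x // R x} = Set.ncard {x | R x} := Nat.card_coe_set_eq _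
  rw [e1, e2, e3, ← Set.ncard_union_eq (by
    rw [Set.disjoint_left]
    intro x hx hx'
    exact hd x hx hx') (Set.toFinite _) (Set.toFinite _)]
  congr 1
  ext x
  constructor
  · rintro (hx | hx)
    · exact h₁ x hx
    · exact h₂ x hx
  · intro hx
    exact hc x hx

theorem card_add_add_le {α : Type*} [Finite α] (P₁ P₂ P₃ R : α → Prop) (h₁ : ∀ x, P₁ x → R x)
    (h₂ : ∀ x, P₂ x → R x) (h₃ : ∀ x, P₃ x → R x) (hd₁₂ : ∀ x, P₁ x → ¬ P₂ x)
    (hd₁₃ : ∀ x, P₁ x → ¬ P₃ x) (hd₂₃ : ∀ x, P₂ x → ¬ P₃ x) :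
    Nat.card {x // P₁ x} + Nat.card {x // P₂ x} + Nat.card {x // P₃ x} ≤
      Nat.card {x // R x} := by
  have e := card_add_eq P₁ P₂ (fun x => P₁ x ∨ P₂ x) (fun x h => Or.inl h) (fun x h => Or.inr h)
    hd₁₂ (fun x h => h)
  rw [e]
  apply card_add_le (fun x => P₁ x ∨ P₂ x) P₃ R
  · rintro x (h | h)
    · exact h₁ x h
    · exact h₂ x h
  · exact h₃
  · rintro x (h | h)
    · exact hd₁₃ x h
    · exact hd₂₃ x h

end general

section numeric

/-- each class of tori contains at least a fifth of the group -/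
theorem five_u_ge {Γ u n c : ℕ} (h : u * n = Γ * (c - 1)) (hn : n ≤ 4 * c) (hc : 5 ≤ c) :
    Γ ≤ 5 * u := by
  obtain ⟨k, rfl⟩ := Nat.exists_eq_add_of_le hc
  have e : 5 + k - 1 = k + 4 := by omega
  rw [e] at h
  by_contra hlt
  rw [not_le] at hlt
  have h1 : (5 * u + 1) * (k + 4) ≤ Γ * (k + 4) := Nat.mul_le_mul_right _ hlt
  have h2 : u * n ≤ u * (4 * (5 + k)) := Nat.mul_le_mul_left _ hn
  nlinarith

theorem five_u_ge_two {Γ u n c : ℕ} (h : u * n = Γ * (c - 1)) (hn : n ≤ 2 * c) (hc : 5 ≤ c) :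
    2 * Γ ≤ 5 * u := by
  obtain ⟨k, rfl⟩ := Nat.exists_eq_add_of_le hc
  have e : 5 + k - 1 = k + 4 := by omega
  rw [e] at h
  by_contra hlt
  rw [not_le] at hlt
  have h1 : (5 * u + 1) * (k + 4) ≤ 2 * Γ * (k + 4) := Nat.mul_le_mul_right _ hlt
  have h2 : u * n ≤ u * (2 * (5 + k)) := Nat.mul_le_mul_left _ hn
  nlinarith

theorem le_two_mul_of {n c : ℕ} (hc : 0 < c) (hd : c ∣ n) (hn : n ≤ 4 * c) (h3 : ¬ 3 ∣ n)
    (h4 : n ≠ 4 * c) : n ≤ 2 * c := by
  obtain ⟨e, rfl⟩ := hd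
  have he : e ≤ 4 := by
    by_contra hlt
    rw [not_le] at hlt
    have : c * 5 ≤ c * e := Nat.mul_le_mul_left _ hlt
    omega
  interval_cases e
  · omega
  · omega
  · omega
  · exact absurd (Dvd.intro_left c rfl) h3
  · exact absurd (mul_comm c 4) h4

theorem q_mod_three (m : ℕ) : 2 ^ (2 * m + 1) % 3 = 2 := by
  have : 2 ^ (2 * m + 1) = 2 * 4 ^ m := by
    rw [pow_succ, pow_mul]
    norm_num
    exact mul_comm _ _
  rw [this, Nat.mul_mod, Nat.pow_mod]
  norm_num

theorem three_not_dvd (q d : ℕ) (hq : q % 3 = 2) (hd : q = d + 1) :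
    ¬ 3 ∣ q ^ 2 * (q ^ 2 + 1) * d := by
  have h2 : q ^ 2 % 3 = 1 := by
    rw [Nat.pow_mod, hq]
  intro h
  rcases (Nat.Prime.dvd_mul Nat.prime_three).1 h with h | h
  · rcases (Nat.Prime.dvd_mul Nat.prime_three).1 h with h | h
    · omega
    · omega
  · omega

theorem five_le_of_dvd (q c : ℕ) (hq3 : q % 3 = 2) (hq2 : q % 2 = 0) (hc : c ∣ q ^ 2 + 1)
    (hc1 : 1 < c) : 5 ≤ c := by
  have h2 : q ^ 2 % 3 = 1 := by
    rw [Nat.pow_mod, hq3]
  have h2' : q ^ 2 % 2 = 0 := by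
    rw [Nat.pow_mod, hq2]
  by_contra hlt
  rw [not_le] at hlt
  interval_cases c
  · omega
  · omega
  · have : 2 ∣ q ^ 2 + 1 := dvd_trans (by norm_num) hc
    omega

end numeric

section suzuki

variable {F : Type*} [Field F] [Fintype F] [CharP F 2] {m : ℕ}

theorem inU_iff (hm : 1 ≤ m) (hF : Fintype.card F = 2 ^ (2 * m + 1)) (g x : Sz F m)
    (hfree : Free g) (hx : x ≠ 1) :
    InU g x ↔ ∃ h : Sz F m, Subgroup.centralizer ({x} : Set (Sz F m)) =
      (Subgroup.centralizer ({g} : Set (Sz F m))).map (MulAut.conj h).toMonoidHom := by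
  constructor
  · exact centralizer_of_inU hm hF g x hfree
  · rintro ⟨h, e⟩
    have hxC : x ∈ Subgroup.centralizer ({x} : Set (Sz F m)) :=
      Subgroup.mem_centralizer_singleton_iff.mpr rfl
    rw [e, Subgroup.mem_map] at hxC
    obtain ⟨c, hc, hcx⟩ := hxC
    have hcx' : h * c * h⁻¹ = x := hcx
    refine ⟨h, c, hc, ?_, hcx'.symm⟩
    rintro rfl
    apply hx
    rw [← hcx']
    group

/-- two classes of tori with a common element coincide -/
theorem inU_of_common (hm : 1 ≤ m) (hF : Fintype.card F = 2 ^ (2 * m + 1)) (g g' y : Sz F m)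
    (hfree : Free g) (hfree' : Free g') (h1 : InU g y) (h2 : InU g' y) : InU g g' := by
  obtain ⟨a, ea⟩ := centralizer_of_inU hm hF g y hfree h1
  obtain ⟨b, eb⟩ := centralizer_of_inU hm hF g' y hfree' h2
  rw [inU_iff hm hF g g' hfree (free_ne_one hfree')]
  refine ⟨b⁻¹ * a, ?_⟩
  rw [← map_conj_mul, ← ea, eb, map_conj_mul, inv_mul_cancel, map_conj_one]

theorem inU_of_prime (hm : 1 ≤ m) (hF : Fintype.card F = 2 ^ (2 * m + 1)) (g x : Sz F m)
    (hfree : Free g) (hx : Free x) {p : ℕ} [Fact p.Prime]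
    (hp : p ∣ Nat.card (Subgroup.centralizer ({g} : Set (Sz F m))))
    (hp' : p ∣ Nat.card (Subgroup.centralizer ({x} : Set (Sz F m)))) : InU g x := by
  rw [inU_iff hm hF g x hfree (free_ne_one hx)]
  exact torus_conj hm hF g x hfree hx hp hp'

theorem card_eq_of_inU (hm : 1 ≤ m) (hF : Fintype.card F = 2 ^ (2 * m + 1)) (g x : Sz F m)
    (hfree : Free g) (hx : InU g x) :
    Nat.card (Subgroup.centralizer ({x} : Set (Sz F m))) =
      Nat.card (Subgroup.centralizer ({g} : Set (Sz F m))) := by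
  obtain ⟨h, e⟩ := centralizer_of_inU hm hF g x hfree hx
  rw [e, card_map_conj]

theorem card_normalizer_eq_of_inU (hm : 1 ≤ m) (hF : Fintype.card F = 2 ^ (2 * m + 1))
    (g x : Sz F m) (hfree : Free g) (hx : InU g x) :
    Nat.card (Subgroup.normalizer
      ((Subgroup.centralizer ({x} : Set (Sz F m)) : Subgroup (Sz F m)) : Set (Sz F m))) =
    Nat.card (Subgroup.normalizer
      ((Subgroup.centralizer ({g} : Set (Sz F m)) : Subgroup (Sz F m)) : Set (Sz F m))) := by
  obtain ⟨h, e⟩ := centralizer_of_inU hm hF g x hfree hx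
  rw [e, card_normalizer_map_conj]

/-- the torus is a Hall subgroup of a cyclic group of order `q² + 1` (numerically) -/
theorem not_mul_dvd (hm : 1 ≤ m) (hF : Fintype.card F = 2 ^ (2 * m + 1)) (g : Sz F m)
    (hfree : Free g) {p : ℕ} [hp : Fact p.Prime]
    (hpd : p ∣ Nat.card (Subgroup.centralizer ({g} : Set (Sz F m)))) :
    ¬ p * Nat.card (Subgroup.centralizer ({g} : Set (Sz F m))) ∣ (2 ^ (2 * m + 1)) ^ 2 + 1 := by
  obtain ⟨P, -, -, -, -, hPC⟩ := exists_sylow_le hm hF g hfree hpd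
  intro hdvd
  have h1 : Nat.card (P : Subgroup (Sz F m)) ∣
      Nat.card (Subgroup.centralizer ({g} : Set (Sz F m))) := Subgroup.card_dvd_of_le hPC
  have h2 : p * Nat.card (P : Subgroup (Sz F m)) ∣ Nat.card (Sz F m) := by
    refine dvd_trans (Nat.mul_dvd_mul_left p h1) (dvd_trans hdvd ?_)
    rw [card_Sz hm hF]
    exact dvd_mul_of_dvd_left (dvd_mul_left _ _) _
  rw [Sylow.card_eq_multiplicity, ← pow_succ'] at h2
  exact Nat.pow_succ_factorization_not_dvd Nat.card_pos.ne' hp.out h2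

theorem one_lt_card_centralizer (g : Sz F m) (hg : g ≠ 1) :
    1 < Nat.card (Subgroup.centralizer ({g} : Set (Sz F m))) := by
  rw [Finite.one_lt_card_iff_nontrivial]
  exact ⟨⟨⟨g, Subgroup.mem_centralizer_singleton_iff.mpr rfl⟩, 1, fun h => hg (congrArg Subtype.val h)⟩⟩

theorem card_centralizer_dvd_normalizer (g : Sz F m) :
    Nat.card (Subgroup.centralizer ({g} : Set (Sz F m))) ∣
      Nat.card (Subgroup.normalizer
        ((Subgroup.centralizer ({g} : Set (Sz F m)) : Subgroup (Sz F m)) : Set (Sz F m))) :=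
  Subgroup.card_dvd_of_le Subgroup.le_normalizer

end suzuki

end Cfsg.Agent.Lib.Helper1.SzTori
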