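import Mathlib
import Cfsg.Agent.Lib.Helper1.SzSe
import Cfsg.Agent.Lib.Helper1.SzTh

/-!
# Suzuki groups: every embedding `Sz(K) → Sz(F)` is conjugate to a standard one (helper1)
-/

set_option autoImplicit false
set_option maxHeartbeats 4000000

namespace Cfsg.Agent.Lib.Helper1.SzSub

open Cfsg Cfsg.Agent.Lib.Helper14.Sz

section emb

variable {F : Type*} [Field F] [Fintype F] [CharP F 2] {m : ℕ}
variable {K : Type*} [Field K] [Fintype K] [CharP K 2] {k : ℕ}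

theorem embedding_standard (hm : 1 ≤ m) (hF : Fintype.card F = 2 ^ (2 * m + 1)) (hk : 1 ≤ k)
    (hK : Fintype.card K = 2 ^ (2 * k + 1)) (hdiv : 2 * k + 1 ∣ 2 * m + 1)
    (ψ : Sz K k →* Sz F m) (hinj : Function.Injective ψ) :
    ∃ g : Sz F m, ∃ α : K →+* F, ∀ x, cj g ψ x = stdEmb hk hK hF hdiv α x := by
  obtain ⟨y, hy⟩ := exists_conj_T hm hF hK ψ
  obtain ⟨t, ht1, ht2⟩ := exists_conj_H hm hF hk hK (cj y ψ) (cj_injective y ψ hinj) hy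
  obtain ⟨l, hl1, hl2, hl3⟩ := exists_conj_one hF hK (cj t (cj y ψ))
    (cj_injective _ _ (cj_injective _ _ hinj)) ht1 ht2
  have hinj' : Function.Injective (cj (HS hF l) (cj t (cj y ψ))) :=
    cj_injective _ _ (cj_injective _ _ (cj_injective _ _ hinj))
  obtain ⟨α, hα1, hα2⟩ := field_of_borel hk hF hK hdiv _ hl1 hl2 hl3
  have hW := W_part hm hF hk hK _ hinj' α hα1 hα2
  refine ⟨HS hF l * (t * y), α, fun x => ?_⟩
  rw [← cj_cj, ← cj_cj]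
  apply hom_ext_gens hk hK
  · intro a b
    rw [hα1, stdEmb_TS]
  · intro c
    rw [hα2, stdEmb_HS]
  · rw [hW, stdEmb_WS]

theorem conj_to_std (hm : 1 ≤ m) (hF : Fintype.card F = 2 ^ (2 * m + 1)) (hk : 1 ≤ k)
    (hK : Fintype.card K = 2 ^ (2 * k + 1)) (hdiv : 2 * k + 1 ∣ 2 * m + 1) (ι : K →+* F)
    (S : Subgroup (Sz F m)) (e : S ≃* Sz K k) :
    ∃ g : Sz F m, S.map (MulAut.conj g).toMonoidHom = (stdEmb hk hK hF hdiv ι).range := by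
  have hinj : Function.Injective (S.subtype.comp e.symm.toMonoidHom) :=
    S.subtype_injective.comp e.symm.injective
  obtain ⟨g, α, h⟩ := embedding_standard hm hF hk hK hdiv _ hinj
  refine ⟨g, ?_⟩
  rw [← stdEmb_range_eq hk hK hF hdiv α ι]
  ext x
  constructor
  · rintro ⟨s, hs, rfl⟩
    refine ⟨e ⟨s, hs⟩, ?_⟩
    rw [← h, cj_apply]
    show g * ((e.symm (e ⟨s, hs⟩) : S) : Sz F m) * g⁻¹ = g * s * g⁻¹
    rw [e.symm_apply_apply]
  · rintro ⟨a, rfl⟩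
    rw [← h, cj_apply]
    exact ⟨((e.symm a : S) : Sz F m), (e.symm a).2, rfl⟩

theorem subfield_main (hm : 1 ≤ m) (hF : Fintype.card F = 2 ^ (2 * m + 1)) (hk : 1 ≤ k)
    (hK : Fintype.card K = 2 ^ (2 * k + 1)) (hdiv : 2 * k + 1 ∣ 2 * m + 1) :
    (∃ S : Subgroup (Sz F m), Nonempty (S ≃* Sz K k)) ∧
    ∀ S₁ S₂ : Subgroup (Sz F m), Nonempty (S₁ ≃* Sz K k) → Nonempty (S₂ ≃* Sz K k) →
      ∃ g : Sz F m, S₂ = S₁.map (MulAut.conj g).toMonoidHom := by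
  obtain ⟨ι⟩ := exists_ringHom (k := k) (m := m) (K := K) (F := F) hK hF hdiv
  constructor
  · exact ⟨(stdEmb hk hK hF hdiv ι).range,
      ⟨(MonoidHom.ofInjective (stdEmb_injective hk hK hF hdiv ι)).symm⟩⟩
  · rintro S₁ S₂ ⟨e₁⟩ ⟨e₂⟩
    obtain ⟨g₁, h₁⟩ := conj_to_std hm hF hk hK hdiv ι S₁ e₁
    obtain ⟨g₂, h₂⟩ := conj_to_std hm hF hk hK hdiv ι S₂ e₂
    refine ⟨g₂⁻¹ * g₁, ?_⟩
    rw [← Cfsg.Agent.Lib.Helper1.SzTori.map_conj_mul, h₁, ← h₂,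
      Cfsg.Agent.Lib.Helper1.SzTori.map_conj_mul, inv_mul_cancel,
      Cfsg.Agent.Lib.Helper1.SzTori.map_conj_one]

end emb

end Cfsg.Agent.Lib.Helper1.SzSub
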