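import Mathlib
import Cfsg.Agent.Lib.Helper1.SzTh

/-!
# Suzuki groups: the two classes of fixed-point-free tori (helper1)
-/

set_option autoImplicit false
set_option maxHeartbeats 2000000

namespace Cfsg.Agent.Lib.Helper1.SzTori

open Cfsg Cfsg.Agent.Lib.Helper14.Sz

section suzuki

variable {F : Type*} [Field F] [Fintype F] [CharP F 2] {m : ℕ}

theorem card_Sz' (hm : 1 ≤ m) (hF : Fintype.card F = 2 ^ (2 * m + 1)) (q d : ℕ)
    (hq : q = 2 ^ (2 * m + 1)) (hd : q = d + 1) :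
    Nat.card (Sz F m) = q ^ 2 * (q ^ 2 + 1) * d := by
  rw [card_Sz hm hF, ← hq, hd]
  simp

theorem torus_facts (hm : 1 ≤ m) (hF : Fintype.card F = 2 ^ (2 * m + 1)) (q d : ℕ)
    (hq : q = 2 ^ (2 * m + 1)) (hd : q = d + 1) (g : Sz F m) (hfree : Free g) :
    ∃ c n u : ℕ, c = Nat.card (Subgroup.centralizer ({g} : Set (Sz F m))) ∧
      n = Nat.card (Subgroup.normalizer
        ((Subgroup.centralizer ({g} : Set (Sz F m)) : Subgroup (Sz F m)) : Set (Sz F m))) ∧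
      u = Nat.card {x : Sz F m // InU g x} ∧
      c ∣ q ^ 2 + 1 ∧ 5 ≤ c ∧
      u * n = q ^ 2 * (q ^ 2 + 1) * d * (c - 1) ∧
      q ^ 2 * (q ^ 2 + 1) * d ≤ 5 * u ∧
      (n ≠ 4 * c → 2 * (q ^ 2 * (q ^ 2 + 1) * d) ≤ 5 * u) := by
  have hq3 : q % 3 = 2 := by
    rw [hq]
    exact q_mod_three m
  have hq2 : q % 2 = 0 := by
    rw [hq, pow_succ]
    omega
  have hG := card_Sz' hm hF q d hq hd
  have hdvd : Nat.card (Subgroup.centralizer ({g} : Set (Sz F m))) ∣ q ^ 2 + 1 := by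
    rw [hq]
    exact card_centralizer_dvd hm hF g hfree
  have h5 := five_le_of_dvd q _ hq3 hq2 hdvd (one_lt_card_centralizer g (free_ne_one hfree))
  have hun := card_inU hm hF g hfree
  rw [hG] at hun
  have hle := card_normalizer_le hm hF g hfree
  have h3 : ¬ 3 ∣ Nat.card (Subgroup.normalizer
      ((Subgroup.centralizer ({g} : Set (Sz F m)) : Subgroup (Sz F m)) : Set (Sz F m))) := by
    intro h
    apply three_not_dvd q d hq3 hd
    rw [← hG]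
    exact dvd_trans h (Subgroup.card_subgroup_dvd_card _)
  refine ⟨_, _, _, rfl, rfl, rfl, hdvd, h5, hun, five_u_ge hun hle h5, ?_⟩
  intro h4
  exact five_u_ge_two hun (le_two_mul_of (by omega) (card_centralizer_dvd_normalizer g) hle h3 h4) h5

/-- the key arithmetic step -/
theorem tori_arith (q d a b t u₁ u₂ : ℕ) (hd : q = d + 1) (hd0 : 0 < d)
    (E1 : u₁ * (4 * (a + 1)) = q ^ 2 * (q ^ 2 + 1) * d * a)
    (E2 : u₂ * (4 * (b + 1)) = q ^ 2 * (q ^ 2 + 1) * d * b)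
    (E3 : 2 * (u₁ + u₂) = q ^ 3 * d ^ 2)
    (E5 : q ^ 2 + 1 = (a + 1) * (b + 1) * t) :
    t * ((a + 1) + (b + 1)) = 2 * q + 2 := by
  have hq0 : 0 < q := by omega
  have E1' : (u₁ : ℤ) * (4 * (a + 1)) = q ^ 2 * (q ^ 2 + 1) * d * a := by exact_mod_cast E1
  have E2' : (u₂ : ℤ) * (4 * (b + 1)) = q ^ 2 * (q ^ 2 + 1) * d * b := by exact_mod_cast E2
  have E3' : 2 * ((u₁ : ℤ) + u₂) = q ^ 3 * d ^ 2 := by exact_mod_cast E3
  have E5' : (q : ℤ) ^ 2 + 1 = (a + 1) * (b + 1) * t := by exact_mod_cast E5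
  have E6' : (q : ℤ) = d + 1 := by exact_mod_cast hd
  have key : ((q : ℤ) ^ 2 * d * ((a + 1) * (b + 1))) * (t * ((a + 1) + (b + 1))) =
      ((q : ℤ) ^ 2 * d * ((a + 1) * (b + 1))) * (2 * q + 2) := by
    linear_combination ((b : ℤ) + 1) * E1' + ((a : ℤ) + 1) * E2' -
      2 * ((a : ℤ) + 1) * ((b : ℤ) + 1) * E3' +
      ((q : ℤ) ^ 2 * d * (a * (b + 1) + b * (a + 1)) - 2 * q ^ 2 * d * ((a + 1) * (b + 1))) * E5' +
      2 * (q : ℤ) ^ 3 * d * ((a + 1) * (b + 1)) * E6'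
  have hne : ((q : ℤ) ^ 2 * d * ((a + 1) * (b + 1))) ≠ 0 := by positivity
  have := mul_left_cancel₀ hne key
  exact_mod_cast this

end suzuki

end Cfsg.Agent.Lib.Helper1.SzTori
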