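import Mathlib
import Cfsg.Agent.Lib.Helper1.SzTi

/-!
# Suzuki groups: the two classes of fixed-point-free tori, main counting theorem (helper1)
-/

set_option autoImplicit false
set_option maxHeartbeats 2000000

namespace Cfsg.Agent.Lib.Helper1.SzTori

open Cfsg Cfsg.Agent.Lib.Helper14.Sz

section suzuki

variable {F : Type*} [Field F] [Fintype F] [CharP F 2] {m : ℕ}

theorem self_mem_centralizer (g : Sz F m) :
    g ∈ Subgroup.centralizer ({g} : Set (Sz F m)) :=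
  Subgroup.mem_centralizer_singleton_iff.mpr rfl

theorem tori_pair (hm : 1 ≤ m) (hF : Fintype.card F = 2 ^ (2 * m + 1)) (q : ℕ)
    (hq : q = 2 ^ (2 * m + 1)) :
    ∃ g₁ g₂ : Sz F m, Free g₁ ∧ Free g₂ ∧
      Nat.card (Subgroup.centralizer ({g₁} : Set (Sz F m))) +
        Nat.card (Subgroup.centralizer ({g₂} : Set (Sz F m))) = 2 * q + 2 ∧
      Nat.card (Subgroup.centralizer ({g₁} : Set (Sz F m))) *
        Nat.card (Subgroup.centralizer ({g₂} : Set (Sz F m))) = q ^ 2 + 1 ∧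
      Nat.card (Subgroup.normalizer
        ((Subgroup.centralizer ({g₁} : Set (Sz F m)) : Subgroup (Sz F m)) : Set (Sz F m))) =
        4 * Nat.card (Subgroup.centralizer ({g₁} : Set (Sz F m))) ∧
      Nat.card (Subgroup.normalizer
        ((Subgroup.centralizer ({g₂} : Set (Sz F m)) : Subgroup (Sz F m)) : Set (Sz F m))) =
        4 * Nat.card (Subgroup.centralizer ({g₂} : Set (Sz F m))) ∧
      ∀ x : Sz F m, Free x → InU g₁ x ∨ InU g₂ x := by
  classical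
  have hq8 : 8 ≤ q := by
    rw [hq]
    calc 8 = 2 ^ 3 := by norm_num
      _ ≤ 2 ^ (2 * m + 1) := Nat.pow_le_pow_right (by norm_num) (by omega)
  obtain ⟨d, hd⟩ : ∃ d, q = d + 1 := ⟨q - 1, by omega⟩
  have hd7 : 7 ≤ d := by omega
  have hq2 : q % 2 = 0 := by
    rw [hq, pow_succ]
    omega
  have hn0 := card_free hm hF q d hq hd
  generalize hn₀ : Nat.card {g : Sz F m // Free g} = n₀ at hn0
  have hlt : 2 * n₀ < q ^ 2 * (q ^ 2 + 1) * d := by
    rw [hn0]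
    have h1 : q ^ 3 * d ^ 2 = q ^ 2 * d * (q * d) := by ring
    have h2 : q ^ 2 * (q ^ 2 + 1) * d = q ^ 2 * d * (q ^ 2 + 1) := by ring
    rw [h1, h2]
    apply Nat.mul_lt_mul_of_pos_left
    · subst hd
      nlinarith
    · positivity
  generalize hΓ : q ^ 2 * (q ^ 2 + 1) * d = Γ at hlt
  -- the first torus
  have hQ1 : q ^ 2 + 1 ≠ 1 := by
    have : 0 < q ^ 2 := by positivity
    omega
  obtain ⟨p₁, hp₁, hp₁Q⟩ := Nat.exists_prime_and_dvd hQ1
  haveI : Fact p₁.Prime := ⟨hp₁⟩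
  obtain ⟨g₁, ho₁, hf₁⟩ := exists_free_of_prime hm hF (p := p₁) (by rw [← hq]; exact hp₁Q)
  obtain ⟨c₁, n₁, u₁, hc₁, hn₁, hu₁, hcQ₁, h5c₁, hun₁, h5u₁, h2u₁⟩ :=
    torus_facts hm hF q d hq hd g₁ hf₁
  rw [hΓ] at hun₁ h5u₁ h2u₁
  have hp₁c : p₁ ∣ c₁ := by
    rw [hc₁, ← ho₁]
    exact Subgroup.orderOf_dvd_natCard _ (self_mem_centralizer g₁)
  by_cases hcase : c₁ = q ^ 2 + 1
  · exfalso
    have hall : ∀ x, Free x → InU g₁ x := by
      intro x hx
      have h1 := one_lt_card_centralizer x (free_ne_one hx)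
      obtain ⟨p, hp, hpd⟩ := Nat.exists_prime_and_dvd h1.ne'
      haveI : Fact p.Prime := ⟨hp⟩
      have hpQ : p ∣ q ^ 2 + 1 :=
        dvd_trans hpd (by rw [hq]; exact card_centralizer_dvd hm hF x hx)
      exact inU_of_prime hm hF g₁ x hf₁ hx (p := p) (by rw [← hc₁, hcase]; exact hpQ) hpd
    have hu_eq : u₁ = n₀ := by
      rw [hu₁, ← hn₀]
      exact Nat.card_congr (Equiv.subtypeEquivRight
        (fun x => ⟨free_of_inU hm hF g₁ x hf₁, hall x⟩))
    have hn4 : n₁ ≤ 4 * c₁ := by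
      rw [hn₁, hc₁]
      exact card_normalizer_le hm hF g₁ hf₁
    have hcn : c₁ ∣ n₁ := by
      rw [hn₁, hc₁]
      exact card_centralizer_dvd_normalizer g₁
    rw [hcase] at hun₁ hcn hn4
    rw [Nat.add_sub_cancel] at hun₁
    obtain ⟨e, rfl⟩ := hcn
    have he : e ≤ 4 := by
      by_contra hlt'
      rw [not_le] at hlt'
      have : (q ^ 2 + 1) * 5 ≤ (q ^ 2 + 1) * e := Nat.mul_le_mul_left _ hlt'
      omega
    have key : d * e = 2 * q := by
      have h : (q ^ 3 * d * (q ^ 2 + 1)) * (d * e) = (q ^ 3 * d * (q ^ 2 + 1)) * (2 * q) := by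
        calc (q ^ 3 * d * (q ^ 2 + 1)) * (d * e) = (q ^ 3 * d ^ 2) * ((q ^ 2 + 1) * e) := by ring
          _ = 2 * (u₁ * ((q ^ 2 + 1) * e)) := by rw [← hn0, ← hu_eq]; ring
          _ = (q ^ 3 * d * (q ^ 2 + 1)) * (2 * q) := by rw [hun₁, ← hΓ]; ring
      exact Nat.eq_of_mul_eq_mul_left (by positivity) h
    subst hd
    interval_cases e <;> omega
  · have hcQ₁' := hcQ₁
    obtain ⟨s, hs⟩ := hcQ₁'
    have hs1 : s ≠ 1 := by
      rintro rfl
      apply hcase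
      rw [hs, mul_one]
    obtain ⟨p₂, hp₂, hp₂s⟩ := Nat.exists_prime_and_dvd hs1
    haveI : Fact p₂.Prime := ⟨hp₂⟩
    have hp₂Q : p₂ ∣ q ^ 2 + 1 := by
      rw [hs]
      exact dvd_mul_of_dvd_right hp₂s _
    obtain ⟨g₂, ho₂, hf₂⟩ := exists_free_of_prime hm hF (p := p₂) (by rw [← hq]; exact hp₂Q)
    obtain ⟨c₂, n₂, u₂, hc₂, hn₂, hu₂, hcQ₂, h5c₂, hun₂, h5u₂, h2u₂⟩ :=
      torus_facts hm hF q d hq hd g₂ hf₂
    rw [hΓ] at hun₂ h5u₂ h2u₂
    have hp₂c : p₂ ∣ c₂ := by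
      rw [hc₂, ← ho₂]
      exact Subgroup.orderOf_dvd_natCard _ (self_mem_centralizer g₂)
    have hp₂c₁ : ¬ p₂ ∣ c₁ := by
      intro h
      apply not_mul_dvd hm hF g₁ hf₁ (p := p₂) (by rw [← hc₁]; exact h)
      rw [← hq, ← hc₁, hs, mul_comm]
      exact Nat.mul_dvd_mul_left c₁ hp₂s
    have hne : c₁ ≠ c₂ := by
      rintro rfl
      exact hp₂c₁ hp₂c
    have hne' : ¬ InU g₁ g₂ := by
      intro h
      have := card_eq_of_inU hm hF g₁ g₂ hf₁ h
      apply hne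
      rw [hc₁, hc₂, this]
    have hdisj : ∀ x, InU g₁ x → ¬ InU g₂ x := by
      intro x h1 h2
      exact hne' (inU_of_common hm hF g₁ g₂ x hf₁ hf₂ h1 h2)
    have hsum : u₁ + u₂ ≤ n₀ := by
      rw [hu₁, hu₂, ← hn₀]
      exact card_add_le _ _ _ (fun x => free_of_inU hm hF g₁ x hf₁)
        (fun x => free_of_inU hm hF g₂ x hf₂) hdisj
    have hn₁4 : n₁ = 4 * c₁ := by
      by_contra h
      have := h2u₁ h
      omega
    have hn₂4 : n₂ = 4 * c₂ := by
      by_contra h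
      have := h2u₂ h
      omega
    have hcover : ∀ x, Free x → InU g₁ x ∨ InU g₂ x := by
      intro x hx
      by_contra hnot
      rw [not_or] at hnot
      obtain ⟨c₃, n₃, u₃, hc₃, hn₃, hu₃, -, -, -, h5u₃, -⟩ :=
        torus_facts hm hF q d hq hd x hx
      rw [hΓ] at h5u₃
      have : u₁ + u₂ + u₃ ≤ n₀ := by
        rw [hu₁, hu₂, hu₃, ← hn₀]
        apply card_add_add_le _ _ _ _ (fun y => free_of_inU hm hF g₁ y hf₁)
          (fun y => free_of_inU hm hF g₂ y hf₂) (fun y => free_of_inU hm hF x y hx) hdisj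
        · intro y h1 h3
          exact hnot.1 (inU_of_common hm hF g₁ x y hf₁ hx h1 h3)
        · intro y h2 h3
          exact hnot.2 (inU_of_common hm hF g₂ x y hf₂ hx h2 h3)
      omega
    have hsum_eq : u₁ + u₂ = n₀ := by
      rw [hu₁, hu₂, ← hn₀]
      exact card_add_eq _ _ _ (fun x => free_of_inU hm hF g₁ x hf₁)
        (fun x => free_of_inU hm hF g₂ x hf₂) hdisj hcover
    have hcop : Nat.Coprime c₁ c₂ := by
      apply Nat.coprime_of_dvd
      intro p hp h1 h2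
      haveI : Fact p.Prime := ⟨hp⟩
      exact hne' (inU_of_prime hm hF g₁ g₂ hf₁ hf₂ (p := p) (by rw [← hc₁]; exact h1)
        (by rw [← hc₂]; exact h2))
    obtain ⟨t, ht⟩ := hcop.mul_dvd_of_dvd_of_dvd hcQ₁ hcQ₂
    obtain ⟨a, rfl⟩ : ∃ a, c₁ = a + 1 := ⟨c₁ - 1, by omega⟩
    obtain ⟨b, rfl⟩ : ∃ b, c₂ = b + 1 := ⟨c₂ - 1, by omega⟩
    rw [hn₁4, Nat.add_sub_cancel, ← hΓ] at hun₁
    rw [hn₂4, Nat.add_sub_cancel, ← hΓ] at hun₂
    have hsumt := tori_arith q d a b t u₁ u₂ hd (by omega) hun₁ hun₂ (by rw [hsum_eq, hn0]) ht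
    -- `t = 1`
    have ht2 : t % 2 = 1 := by
      by_contra h
      have h2t : 2 ∣ t := by omega
      have : 2 ∣ q ^ 2 + 1 := dvd_trans h2t ⟨(a + 1) * (b + 1), by rw [ht]; ring⟩
      have h2' : q ^ 2 % 2 = 0 := by
        rw [Nat.pow_mod, hq2]
      omega
    have htq : t ∣ q + 1 := by
      have hc : Nat.Coprime t 2 := by
        rw [Nat.coprime_two_right]
        exact Nat.odd_iff.mpr ht2
      apply hc.dvd_of_dvd_mul_left
      exact ⟨(a + 1) + (b + 1), by rw [hsumt]; ring⟩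
    have ht1 : t = 1 := by
      have e : q ^ 2 + 1 = (q + 1) * d + 2 := by
        subst hd
        ring
      have h1 : t ∣ (q + 1) * d + 2 := by
        rw [← e, ht]
        exact dvd_mul_left _ _
      have h2 : t ∣ 2 := (Nat.dvd_add_right (dvd_mul_of_dvd_left htq d)).mp h1
      have := Nat.le_of_dvd (by norm_num) h2
      interval_cases t <;> omega
    subst ht1
    refine ⟨g₁, g₂, hf₁, hf₂, ?_, ?_, ?_, ?_, hcover⟩
    · rw [← hc₁, ← hc₂]
      omega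
    · rw [← hc₁, ← hc₂, ht, mul_one]
    · rw [← hc₁, ← hn₁, hn₁4]
    · rw [← hc₂, ← hn₂, hn₂4]

end suzuki

end Cfsg.Agent.Lib.Helper1.SzTori
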