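import Mathlib
import Cfsg.Agent.Lib.Helper1.SzTj

/-!
# Suzuki groups: the tori of orders `q ± 2r + 1` (helper1)
-/

set_option autoImplicit false
set_option maxHeartbeats 2000000

namespace Cfsg.Agent.Lib.Helper1.SzTori

open Cfsg Cfsg.Agent.Lib.Helper14.Sz

section numeric

theorem roots_of_sum_prod (q r c₁ c₂ : ℕ) (hR : q = 2 * r ^ 2) (hS : c₁ + c₂ = 2 * q + 2)
    (hP : c₁ * c₂ = q ^ 2 + 1) :
    (c₁ = q + 2 * r + 1 ∧ c₂ = q - 2 * r + 1) ∨ (c₁ = q - 2 * r + 1 ∧ c₂ = q + 2 * r + 1) := by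
  have hle : 2 * r ≤ q := by
    rw [hR]
    rcases Nat.eq_zero_or_pos r with h | h
    · subst h
      simp
    · nlinarith
  have hS' : (c₁ : ℤ) + c₂ = 2 * q + 2 := by exact_mod_cast hS
  have hP' : (c₁ : ℤ) * c₂ = q ^ 2 + 1 := by exact_mod_cast hP
  have hR' : (q : ℤ) = 2 * r ^ 2 := by exact_mod_cast hR
  have key : ((c₁ : ℤ) - (q + 2 * r + 1)) * ((c₁ : ℤ) - (q - 2 * r + 1)) = 0 := by
    linear_combination (c₁ : ℤ) * hS' - hP' + 2 * hR'
  rcases mul_eq_zero.mp key with h | h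
  · left
    have h1 : c₁ = q + 2 * r + 1 := by
      have : (c₁ : ℤ) = q + 2 * r + 1 := by linarith
      exact_mod_cast this
    refine ⟨h1, ?_⟩
    omega
  · right
    have h1 : c₁ + 2 * r = q + 1 := by
      have : (c₁ : ℤ) + 2 * r = q + 1 := by linarith
      exact_mod_cast this
    constructor
    · omega
    · omega

theorem q_eq_two_mul_sq (m : ℕ) : 2 ^ (2 * m + 1) = 2 * (2 ^ m) ^ 2 := by
  rw [pow_succ, ← pow_mul, mul_comm m 2, mul_comm]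

end numeric

section suzuki

variable {F : Type*} [Field F] [Fintype F] [CharP F 2] {m : ℕ}

theorem tori_final (hm : 1 ≤ m) (hF : Fintype.card F = 2 ^ (2 * m + 1)) :
    ∃ g₁ g₂ : Sz F m, Free g₁ ∧ Free g₂ ∧
      Nat.card (Subgroup.centralizer ({g₁} : Set (Sz F m))) =
        2 ^ (2 * m + 1) + 2 ^ (m + 1) + 1 ∧
      Nat.card (Subgroup.centralizer ({g₂} : Set (Sz F m))) =
        2 ^ (2 * m + 1) - 2 ^ (m + 1) + 1 ∧
      Nat.card (Subgroup.normalizer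
        ((Subgroup.centralizer ({g₁} : Set (Sz F m)) : Subgroup (Sz F m)) : Set (Sz F m))) =
        4 * Nat.card (Subgroup.centralizer ({g₁} : Set (Sz F m))) ∧
      Nat.card (Subgroup.normalizer
        ((Subgroup.centralizer ({g₂} : Set (Sz F m)) : Subgroup (Sz F m)) : Set (Sz F m))) =
        4 * Nat.card (Subgroup.centralizer ({g₂} : Set (Sz F m))) ∧
      ∀ x : Sz F m, Free x → InU g₁ x ∨ InU g₂ x := by
  obtain ⟨g₁, g₂, hf₁, hf₂, hS, hP, hn₁, hn₂, hcover⟩ := tori_pair hm hF _ rfl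
  have h2r : 2 ^ (m + 1) = 2 * 2 ^ m := by rw [pow_succ, mul_comm]
  rw [h2r]
  rcases roots_of_sum_prod (2 ^ (2 * m + 1)) (2 ^ m) _ _ (q_eq_two_mul_sq m) hS hP with
    ⟨h1, h2⟩ | ⟨h1, h2⟩
  · exact ⟨g₁, g₂, hf₁, hf₂, h1, h2, hn₁, hn₂, hcover⟩
  · exact ⟨g₂, g₁, hf₂, hf₁, h2, h1, hn₂, hn₁, fun x hx => (hcover x hx).symm⟩

end suzuki

end Cfsg.Agent.Lib.Helper1.SzTori
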