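import Mathlib

/-!
# Arithmetic of the four orders `q²`, `q - 1`, `q ± 2r + 1` (helper1)
-/

set_option autoImplicit false
set_option maxHeartbeats 1000000

namespace Cfsg.Agent.Lib.Helper1.SzTori

section numeric

theorem num_basic (m : ℕ) :
    2 ^ (m + 1) ≤ 2 ^ (2 * m + 1) ∧ 2 ^ (2 * m + 1) % 2 = 0 ∧ 2 ^ (m + 1) % 2 = 0 ∧
      (2 ^ (m + 1)) ^ 2 = 2 * 2 ^ (2 * m + 1) ∧ 2 ≤ 2 ^ (2 * m + 1) := by
  refine ⟨Nat.pow_le_pow_right (by norm_num) (by omega), ?_, ?_, ?_, ?_⟩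
  · rw [pow_succ]
    omega
  · rw [pow_succ]
    omega
  · rw [← pow_mul, ← pow_succ']
    congr 1
    ring
  · calc 2 = 2 ^ 1 := by norm_num
      _ ≤ 2 ^ (2 * m + 1) := Nat.pow_le_pow_right (by norm_num) (by omega)

theorem coprime_sq_of_odd (m n : ℕ) (hn : n % 2 = 1) :
    Nat.Coprime ((2 ^ (2 * m + 1)) ^ 2) n := by
  apply Nat.Coprime.pow_left
  apply Nat.Coprime.pow_left
  rw [Nat.coprime_two_left]
  exact Nat.odd_iff.mpr hn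

theorem prod_k (q t : ℕ) (ht : t ^ 2 = 2 * q) (hle : t ≤ q) :
    (q + t + 1) * (q - t + 1) = q ^ 2 + 1 := by
  obtain ⟨s, rfl⟩ := Nat.exists_eq_add_of_le hle
  have : t + s - t = s := by omega
  rw [this]
  nlinarith

theorem coprime_pred_sq_add_one (q : ℕ) (hq : 2 ≤ q) (hq2 : q % 2 = 0) :
    Nat.Coprime (q - 1) (q ^ 2 + 1) := by
  obtain ⟨d, rfl⟩ : ∃ d, q = d + 1 := ⟨q - 1, by omega⟩
  have e : (d + 1) ^ 2 + 1 = 2 + d * (d + 2) := by ring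
  rw [Nat.add_sub_cancel, e, Nat.coprime_add_mul_left_right, Nat.coprime_two_right]
  exact Nat.odd_iff.mpr (by omega)

/-- the four orders are pairwise coprime -/
theorem four_coprime (m : ℕ) :
    Nat.Coprime ((2 ^ (2 * m + 1)) ^ 2) (2 ^ (2 * m + 1) - 1) ∧
    Nat.Coprime ((2 ^ (2 * m + 1)) ^ 2) (2 ^ (2 * m + 1) + 2 ^ (m + 1) + 1) ∧
    Nat.Coprime ((2 ^ (2 * m + 1)) ^ 2) (2 ^ (2 * m + 1) - 2 ^ (m + 1) + 1) ∧
    Nat.Coprime (2 ^ (2 * m + 1) - 1) (2 ^ (2 * m + 1) + 2 ^ (m + 1) + 1) ∧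
    Nat.Coprime (2 ^ (2 * m + 1) - 1) (2 ^ (2 * m + 1) - 2 ^ (m + 1) + 1) ∧
    Nat.Coprime (2 ^ (2 * m + 1) + 2 ^ (m + 1) + 1) (2 ^ (2 * m + 1) - 2 ^ (m + 1) + 1) := by
  obtain ⟨hle, hq2, ht2, htq, hq⟩ := num_basic m
  have hprod := prod_k _ _ htq hle
  have hc := coprime_pred_sq_add_one _ hq hq2
  refine ⟨coprime_sq_of_odd m _ (by omega), coprime_sq_of_odd m _ (by omega),
    coprime_sq_of_odd m _ (by omega), ?_, ?_, ?_⟩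
  · exact Nat.Coprime.coprime_dvd_right ⟨_, hprod.symm⟩ hc
  · exact Nat.Coprime.coprime_dvd_right ⟨_, by rw [← hprod, mul_comm]⟩ hc
  · have e : 2 ^ (2 * m + 1) + 2 ^ (m + 1) + 1 =
        2 ^ (m + 2) + (2 ^ (2 * m + 1) - 2 ^ (m + 1) + 1) := by
      have : 2 ^ (m + 2) = 2 * 2 ^ (m + 1) := by rw [pow_succ, mul_comm]
      omega
    rw [e, Nat.coprime_add_self_left]
    apply Nat.Coprime.pow_left
    rw [Nat.coprime_two_left]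
    exact Nat.odd_iff.mpr (by omega)

/-- a nontrivial common divisor identifies the order -/
theorem eq_of_common_dvd (m o n₁ n₂ : ℕ) (ho : o ≠ 1) (h₁ : o ∣ n₁) (h₂ : o ∣ n₂)
    (hn₁ : n₁ = (2 ^ (2 * m + 1)) ^ 2 ∨ n₁ = 2 ^ (2 * m + 1) - 1 ∨
      n₁ = 2 ^ (2 * m + 1) + 2 ^ (m + 1) + 1 ∨ n₁ = 2 ^ (2 * m + 1) - 2 ^ (m + 1) + 1)
    (hn₂ : n₂ = (2 ^ (2 * m + 1)) ^ 2 ∨ n₂ = 2 ^ (2 * m + 1) - 1 ∨
      n₂ = 2 ^ (2 * m + 1) + 2 ^ (m + 1) + 1 ∨ n₂ = 2 ^ (2 * m + 1) - 2 ^ (m + 1) + 1) :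
    n₁ = n₂ := by
  obtain ⟨c1, c2, c3, c4, c5, c6⟩ := four_coprime m
  have key : ∀ a b : ℕ, Nat.Coprime a b → o ∣ a → o ∣ b → False := fun a b hab ha hb =>
    ho (Nat.eq_one_of_dvd_coprimes hab ha hb)
  rcases hn₁ with rfl | rfl | rfl | rfl <;> rcases hn₂ with rfl | rfl | rfl | rfl
  · rfl
  · exact (key _ _ c1 h₁ h₂).elim
  · exact (key _ _ c2 h₁ h₂).elim
  · exact (key _ _ c3 h₁ h₂).elim
  · exact (key _ _ c1 h₂ h₁).elim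
  · rfl
  · exact (key _ _ c4 h₁ h₂).elim
  · exact (key _ _ c5 h₁ h₂).elim
  · exact (key _ _ c2 h₂ h₁).elim
  · exact (key _ _ c4 h₂ h₁).elim
  · rfl
  · exact (key _ _ c6 h₁ h₂).elim
  · exact (key _ _ c3 h₂ h₁).elim
  · exact (key _ _ c5 h₂ h₁).elim
  · exact (key _ _ c6 h₂ h₁).elim
  · rfl

/-- the square of `q` is none of the three odd orders -/
theorem sq_ne_odd (m n : ℕ)
    (hn : n = 2 ^ (2 * m + 1) - 1 ∨
      n = 2 ^ (2 * m + 1) + 2 ^ (m + 1) + 1 ∨ n = 2 ^ (2 * m + 1) - 2 ^ (m + 1) + 1) :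
    n ≠ (2 ^ (2 * m + 1)) ^ 2 := by
  obtain ⟨hle, hq2, ht2, htq, hq⟩ := num_basic m
  have h2 : (2 ^ (2 * m + 1)) ^ 2 % 2 = 0 := by
    rw [Nat.pow_mod, hq2]
  rcases hn with rfl | rfl | rfl <;> omega

end numeric

end Cfsg.Agent.Lib.Helper1.SzTori
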