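import Mathlib
import Cfsg.Agent.Lib.Helper1.SzTk
import Cfsg.Agent.Lib.Helper1.SzTl

/-!
# Suzuki groups: the partition into Sylow 2-subgroups and cyclic tori (helper1)
-/

set_option autoImplicit false
set_option maxHeartbeats 2000000

namespace Cfsg.Agent.Lib.Helper1.SzTori

open Cfsg Cfsg.Agent.Lib.Helper14.Sz

section general

variable {G : Type*} [Group G]

theorem map_conj_of_mem_normalizer (K : Subgroup G) (n : G)
    (hn : n ∈ Subgroup.normalizer (K : Set G)) : K.map (MulAut.conj n).toMonoidHom = K := by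
  ext x
  rw [Subgroup.mem_map_equiv, MulAut.conj_symm_apply]
  rw [Subgroup.mem_normalizer_iff] at hn
  rw [hn (n⁻¹ * x * n)]
  have : n * (n⁻¹ * x * n) * n⁻¹ = x := by group
  rw [this]

end general

section suzuki

variable {F : Type*} [Field F] [Fintype F] [CharP F 2] {m : ℕ}

/-- the standard split torus -/
noncomputable def HSub (hF : Fintype.card F = 2 ^ (2 * m + 1)) : Subgroup (Sz F m) :=
  (HgHom (m := m) hF).range

theorem mem_HSub_iff (hF : Fintype.card F = 2 ^ (2 * m + 1)) (x : Sz F m) :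
    x ∈ HSub hF ↔ ∃ k : Fˣ, x = HS hF k := by
  constructor
  · rintro ⟨k, rfl⟩
    exact ⟨k, rfl⟩
  · rintro ⟨k, rfl⟩
    exact ⟨k, rfl⟩

theorem card_HSub (hF : Fintype.card F = 2 ^ (2 * m + 1)) :
    Nat.card (HSub (m := m) hF) = 2 ^ (2 * m + 1) - 1 := by
  unfold HSub
  rw [Nat.card_congr (MonoidHom.ofInjective (HgHom_injective hF)).toEquiv.symm, Nat.card_units,
    Nat.card_eq_fintype_card, hF]

theorem isCyclic_HSub (hF : Fintype.card F = 2 ^ (2 * m + 1)) :
    IsCyclic (HSub (m := m) hF) := by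
  unfold HSub
  exact isCyclic_of_surjective (HgHom hF).rangeRestrict (HgHom hF).rangeRestrict_surjective

theorem centralizer_HS_eq (hm : 1 ≤ m) (hF : Fintype.card F = 2 ^ (2 * m + 1)) {k : Fˣ}
    (hk : k ≠ 1) : Subgroup.centralizer ({HS hF k} : Set (Sz F m)) = HSub hF := by
  ext c
  constructor
  · intro hc
    obtain ⟨l, rfl⟩ := centralizer_HS hm hF hk c hc
    exact (mem_HSub_iff hF _).mpr ⟨l, rfl⟩
  · intro hc
    obtain ⟨l, rfl⟩ := (mem_HSub_iff hF _).mp hc
    rw [Subgroup.mem_centralizer_singleton_iff, ← HS_mul, ← HS_mul, mul_comm]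

/-- the type of a nonidentity element -/
theorem type_of_ne_one (hm : 1 ≤ m) (hF : Fintype.card F = 2 ^ (2 * m + 1)) (g : Sz F m)
    (hg : g ≠ 1) :
    ∃ N : ℕ, (N = (2 ^ (2 * m + 1)) ^ 2 ∨ N = 2 ^ (2 * m + 1) - 1 ∨
        N = 2 ^ (2 * m + 1) + 2 ^ (m + 1) + 1 ∨ N = 2 ^ (2 * m + 1) - 2 ^ (m + 1) + 1) ∧
      orderOf g ∣ N ∧
      (N ≠ (2 ^ (2 * m + 1)) ^ 2 → IsCyclic (Subgroup.centralizer ({g} : Set (Sz F m))) ∧
        Nat.card (Subgroup.centralizer ({g} : Set (Sz F m))) = N) ∧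
      (N = (2 ^ (2 * m + 1)) ^ 2 → ∃ P : Sylow 2 (Sz F m), g ∈ P) := by
  by_cases hfree : Free g
  · obtain ⟨g₁, g₂, hf₁, hf₂, hc₁, hc₂, -, -, hcover⟩ := tori_final hm hF
    have hcyc := isCyclic_centralizer_of_free hm hF g hfree
    have hord : orderOf g ∣ Nat.card (Subgroup.centralizer ({g} : Set (Sz F m))) :=
      Subgroup.orderOf_dvd_natCard _ (self_mem_centralizer g)
    rcases hcover g hfree with h | h
    · have e := card_eq_of_inU hm hF g₁ g hf₁ h
      rw [hc₁] at e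
      exact ⟨_, Or.inr (Or.inr (Or.inl rfl)), by rw [← e]; exact hord, fun _ => ⟨hcyc, e⟩,
        fun h => absurd h (sq_ne_odd m _ (Or.inr (Or.inl rfl)))⟩
    · have e := card_eq_of_inU hm hF g₂ g hf₂ h
      rw [hc₂] at e
      exact ⟨_, Or.inr (Or.inr (Or.inr rfl)), by rw [← e]; exact hord, fun _ => ⟨hcyc, e⟩,
        fun h => absurd h (sq_ne_odd m _ (Or.inr (Or.inr rfl)))⟩
  · rw [free_iff_not_fixes, not_not] at hfree
    obtain ⟨h, ⟨a, b, e⟩ | ⟨k, hk, e⟩⟩ := exists_conj_std hm hF g hg hfree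
    · have hg' : g = h⁻¹ * TS hF a b * h⁻¹⁻¹ := by
        rw [← e]
        group
      have hmem : g ∈ (TSub (m := m) hF).map (MulAut.conj h⁻¹).toMonoidHom := by
        rw [Subgroup.mem_map]
        exact ⟨TS hF a b, (mem_TSub_iff hF _).mpr ⟨a, b, rfl⟩, hg'.symm⟩
      have hp : IsPGroup 2 ((TSub (m := m) hF).map (MulAut.conj h⁻¹).toMonoidHom) :=
        (isPGroup_TSub hF).map _
      obtain ⟨P, hP⟩ := hp.exists_le_sylow
      refine ⟨_, Or.inl rfl, ?_, fun h => absurd rfl h, fun _ => ⟨P, hP hmem⟩⟩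
      have := Subgroup.orderOf_dvd_natCard _ hmem
      rwa [card_map_conj, card_TSub hF] at this
    · have hg' : g = h⁻¹ * HS hF k * h⁻¹⁻¹ := by
        rw [← e]
        group
      have hC : Subgroup.centralizer ({g} : Set (Sz F m)) =
          (HSub hF).map (MulAut.conj h⁻¹).toMonoidHom := by
        rw [hg', centralizer_conj, centralizer_HS_eq hm hF hk]
      have hcard : Nat.card (Subgroup.centralizer ({g} : Set (Sz F m))) =
          2 ^ (2 * m + 1) - 1 := by
        rw [hC, card_map_conj, card_HSub]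
      have hcyc : IsCyclic (Subgroup.centralizer ({g} : Set (Sz F m))) := by
        rw [hC]
        haveI := isCyclic_HSub (m := m) hF
        exact isCyclic_of_surjective
          ((HSub hF).equivMapOfInjective _ (MulAut.conj h⁻¹).injective) (MulEquiv.surjective _)
      exact ⟨_, Or.inr (Or.inl rfl), by
        rw [← hcard]
        exact Subgroup.orderOf_dvd_natCard _ (self_mem_centralizer g), fun _ => ⟨hcyc, hcard⟩,
        fun h => absurd h (sq_ne_odd m _ (Or.inl rfl))⟩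

theorem cyclic_unique (hm : 1 ≤ m) (hF : Fintype.card F = 2 ^ (2 * m + 1)) (g : Sz F m)
    (hg : g ≠ 1) (U : Subgroup (Sz F m)) [hU : IsCyclic U]
    (hcard : Nat.card U = 2 ^ (2 * m + 1) - 1 ∨
      Nat.card U = 2 ^ (2 * m + 1) + 2 ^ (m + 1) + 1 ∨
      Nat.card U = 2 ^ (2 * m + 1) - 2 ^ (m + 1) + 1) (hgU : g ∈ U) :
    U = Subgroup.centralizer ({g} : Set (Sz F m)) := by
  obtain ⟨N, hN, hoN, hC, -⟩ := type_of_ne_one hm hF g hg
  have ho1 : orderOf g ≠ 1 := fun e => hg (orderOf_eq_one_iff.mp e)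
  have hoU : orderOf g ∣ Nat.card U := Subgroup.orderOf_dvd_natCard _ hgU
  have hNU : N = Nat.card U := eq_of_common_dvd m _ _ _ ho1 hoN hoU hN (Or.inr hcard)
  have hNsq : N ≠ (2 ^ (2 * m + 1)) ^ 2 := by
    rw [hNU]
    exact sq_ne_odd m _ hcard
  obtain ⟨-, hcardC⟩ := hC hNsq
  apply Subgroup.eq_of_le_of_card_ge
  · intro u hu
    rw [Subgroup.mem_centralizer_singleton_iff]
    have := (IsCyclic.commutative (α := U)).is_comm.comm ⟨u, hu⟩ ⟨g, hgU⟩
    exact congrArg Subtype.val this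
  · rw [hcardC, hNU]

theorem sylow_unique (hm : 1 ≤ m) (hF : Fintype.card F = 2 ^ (2 * m + 1)) (g : Sz F m)
    (hg : g ≠ 1) (P P' : Sylow 2 (Sz F m)) (h : g ∈ P) (h' : g ∈ P') :
    (P : Subgroup (Sz F m)) = P' := by
  obtain ⟨y, hy⟩ := sylow_std hm hF P
  obtain ⟨y', hy'⟩ := sylow_std hm hF P'
  have key : ∀ (z : Sz F m), g ∈ (TSub (m := m) hF).map (MulAut.conj z).toMonoidHom →
      ∀ p : suzukiOvoid F m, g • p = p → p = z • oinf F m := by
    intro z hz p hp
    rw [Subgroup.mem_map_equiv, MulAut.conj_symm_apply, mem_TSub_iff] at hz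
    obtain ⟨a, b, hab⟩ := hz
    have hne : TS hF a b ≠ 1 := by
      rw [← hab]
      intro e
      apply hg
      have : g = z * (z⁻¹ * g * z) * z⁻¹ := by group
      rw [this, e]
      group
    have := TS_fix_only hF hne (z⁻¹ • p) (by
      rw [← hab, mul_smul, mul_smul, smul_inv_smul, hp])
    rw [← this, smul_inv_smul]
  have hfix : ∀ (z : Sz F m), g ∈ (TSub (m := m) hF).map (MulAut.conj z).toMonoidHom →
      g • (z • oinf F m) = z • oinf F m := by
    intro z hz
    rw [Subgroup.mem_map_equiv, MulAut.conj_symm_apply, mem_TSub_iff] at hz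
    obtain ⟨a, b, hab⟩ := hz
    have : g = z * TS hF a b * z⁻¹ := by
      rw [← hab]
      group
    rw [this, mul_smul, mul_smul, inv_smul_smul, TS_oinf]
  have hP : g ∈ (TSub (m := m) hF).map (MulAut.conj y).toMonoidHom := by
    rw [← hy]
    exact h
  have hP' : g ∈ (TSub (m := m) hF).map (MulAut.conj y').toMonoidHom := by
    rw [← hy']
    exact h'
  have e : y' • oinf F m = y • oinf F m := key y hP _ (hfix y' hP')
  have hn : y⁻¹ * y' ∈
      Subgroup.normalizer ((TSub (m := m) hF : Subgroup (Sz F m)) : Set (Sz F m)) := by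
    rw [normalizer_TSub hm hF]
    show (y⁻¹ * y') • oinf F m = oinf F m
    rw [mul_smul, e, inv_smul_smul]
  rw [hy, hy']
  have hmap := map_conj_of_mem_normalizer _ _ hn
  have e2 : (TSub (m := m) hF).map (MulAut.conj y').toMonoidHom =
      (TSub (m := m) hF).map (MulAut.conj (y * (y⁻¹ * y'))).toMonoidHom := by
    congr 3
    group
  rw [e2, ← map_conj_mul, hmap]

end suzuki

end Cfsg.Agent.Lib.Helper1.SzTori
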