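import Mathlib
import Cfsg.Agent.Lib.Helper1.SzTm
import Cfsg.Agent.Lib.Helper1.SzSf

/-!
# Suzuki groups: tori of odd-order elements and odd-order elements of their normalizers (helper1)
-/

set_option autoImplicit false
set_option maxHeartbeats 2000000

namespace Cfsg.Agent.Lib.Helper1.SzMax

open Cfsg Cfsg.Agent.Lib.Helper14.Sz Cfsg.Agent.Lib.Helper1.SzTori

section general

variable {G : Type*} [Group G]

theorem mem_of_pow_mem_of_coprime (A : Subgroup G) (h : G) (n : ℕ)
    (hcop : Nat.Coprime n (orderOf h)) (hn : h ^ n ∈ A) : h ∈ A := by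
  obtain ⟨j, hj⟩ := exists_pow_eq_self_of_coprime hcop
  rw [← hj]
  exact A.pow_mem hn j

/-- odd-order elements of the normalizer of a subgroup of 2-power index in its normalizer -/
theorem mem_of_mem_normalizer_of_odd [Finite G] (A : Subgroup G) (e : ℕ)
    (hcard : Nat.card (Subgroup.normalizer (A : Set G)) = 2 ^ e * Nat.card A) (h : G)
    (hh : h ∈ Subgroup.normalizer (A : Set G)) (hodd : Odd (orderOf h)) : h ∈ A := by
  have hidx : (A.subgroupOf (Subgroup.normalizer (A : Set G))).index = 2 ^ e := by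
    have h1 := Subgroup.card_mul_index (A.subgroupOf (Subgroup.normalizer (A : Set G)))
    have h2 : Nat.card (A.subgroupOf (Subgroup.normalizer (A : Set G))) = Nat.card A :=
      Nat.card_congr (Subgroup.subgroupOfEquivOfLe Subgroup.le_normalizer).toEquiv
    rw [h2, hcard] at h1
    have hpos : 0 < Nat.card A := Nat.card_pos
    exact Nat.eq_of_mul_eq_mul_left hpos (by rw [h1, mul_comm])
  have h1 : orderOf (QuotientGroup.mk' (A.subgroupOf (Subgroup.normalizer (A : Set G)))
      ⟨h, hh⟩) ∣ orderOf h := by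
    have := orderOf_map_dvd (QuotientGroup.mk' (A.subgroupOf (Subgroup.normalizer (A : Set G))))
      (⟨h, hh⟩ : Subgroup.normalizer (A : Set G))
    rwa [Subgroup.orderOf_mk] at this
  have h2 : orderOf (QuotientGroup.mk' (A.subgroupOf (Subgroup.normalizer (A : Set G)))
      ⟨h, hh⟩) ∣ 2 ^ e := by
    rw [← hidx]
    exact orderOf_dvd_natCard _
  have h3 : orderOf (QuotientGroup.mk' (A.subgroupOf (Subgroup.normalizer (A : Set G)))
      ⟨h, hh⟩) = 1 := by
    have hc : Nat.Coprime (orderOf h) (2 ^ e) := by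
      apply Nat.Coprime.pow_right
      rw [Nat.coprime_two_right]
      exact hodd
    exact Nat.eq_one_of_dvd_coprimes hc h1 h2
  rw [orderOf_eq_one_iff, QuotientGroup.mk'_apply, QuotientGroup.eq_one_iff] at h3
  exact h3

end general

section suzuki

variable {F : Type*} [Field F] [Fintype F] [CharP F 2] {m : ℕ}

theorem ne_one_of_odd_pow_two {j : ℕ} (h : Odd (2 ^ j)) : j = 0 := by
  by_contra hj
  exact (Nat.not_even_iff_odd.mpr h) (Nat.even_pow.mpr ⟨even_two, hj⟩)

/-- the torus of a nonidentity element of odd order -/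
theorem torus_of_odd (hm : 1 ≤ m) (hF : Fintype.card F = 2 ^ (2 * m + 1)) (g : Sz F m)
    (hg : g ≠ 1) (hodd : Odd (orderOf g)) :
    IsCyclic (Subgroup.centralizer ({g} : Set (Sz F m))) ∧
    (Nat.card (Subgroup.centralizer ({g} : Set (Sz F m))) = 2 ^ (2 * m + 1) - 1 ∨
      Nat.card (Subgroup.centralizer ({g} : Set (Sz F m))) = 2 ^ (2 * m + 1) + 2 ^ (m + 1) + 1 ∨
      Nat.card (Subgroup.centralizer ({g} : Set (Sz F m))) = 2 ^ (2 * m + 1) - 2 ^ (m + 1) + 1) ∧
    ∀ x ∈ Subgroup.centralizer ({g} : Set (Sz F m)), x ≠ 1 →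
      Subgroup.centralizer ({x} : Set (Sz F m)) = Subgroup.centralizer ({g} : Set (Sz F m)) := by
  obtain ⟨N, hN, hoN, hC, -⟩ := type_of_ne_one hm hF g hg
  have hNsq : N ≠ (2 ^ (2 * m + 1)) ^ 2 := by
    rintro rfl
    rw [← pow_mul] at hoN
    obtain ⟨j, -, hj⟩ := (Nat.dvd_prime_pow Nat.prime_two).mp hoN
    rw [hj] at hodd
    have := ne_one_of_odd_pow_two hodd
    rw [this, pow_zero] at hj
    exact hg (orderOf_eq_one_iff.mp hj)
  obtain ⟨hcyc, hcard⟩ := hC hNsq
  have hcard' : Nat.card (Subgroup.centralizer ({g} : Set (Sz F m))) = 2 ^ (2 * m + 1) - 1 ∨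
      Nat.card (Subgroup.centralizer ({g} : Set (Sz F m))) = 2 ^ (2 * m + 1) + 2 ^ (m + 1) + 1 ∨
      Nat.card (Subgroup.centralizer ({g} : Set (Sz F m))) = 2 ^ (2 * m + 1) - 2 ^ (m + 1) + 1 := by
    rcases hN with h | h
    · exact absurd h hNsq
    · rw [hcard]
      exact h
  refine ⟨hcyc, hcard', ?_⟩
  intro x hx hx1
  haveI := hcyc
  exact (cyclic_unique hm hF x hx1 _ hcard' hx).symm

theorem exists_unit_ne_one (hm : 1 ≤ m) (hF : Fintype.card F = 2 ^ (2 * m + 1)) :
    ∃ k : Fˣ, k ≠ 1 := by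
  haveI : Nontrivial Fˣ := by
    rw [← Finite.one_lt_card_iff_nontrivial, Nat.card_units, Nat.card_eq_fintype_card, hF]
    have h9 : 2 ^ 3 ≤ 2 ^ (2 * m + 1) := Nat.pow_le_pow_right (by norm_num) (by omega)
    omega
  exact exists_ne 1

theorem HS_fixed' (hF : Fintype.card F = 2 ^ (2 * m + 1)) {c : Fˣ} (hc : c ≠ 1)
    (p : suzukiOvoid F m) (h : HS hF c • p = p) : p = oinf F m ∨ p = opt m 0 0 := by
  rcases ovoid_cases p with e | ⟨x, y, e⟩
  · exact Or.inl e
  · right
    subst e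
    by_contra hne
    apply hc
    apply HS_fix_third hF c x y _ h
    rintro ⟨rfl, rfl⟩
    exact hne rfl

theorem sq_mem_HSub_of_mem_normalizer (hm : 1 ≤ m) (hF : Fintype.card F = 2 ^ (2 * m + 1))
    (n : Sz F m) (hn : n ∈ Subgroup.normalizer ((HSub (m := m) hF : Subgroup (Sz F m)) : Set (Sz F m))) :
    n * n ∈ HSub hF := by
  obtain ⟨k, hk⟩ := exists_unit_ne_one (F := F) hm hF
  have h1 : n * HS hF k * n⁻¹ ∈ HSub hF :=
    (Subgroup.mem_normalizer_iff.mp hn _).mp ((mem_HSub_iff hF _).mpr ⟨k, rfl⟩)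
  obtain ⟨k', hk'⟩ := (mem_HSub_iff hF _).mp h1
  have hk'1 : k' ≠ 1 := by
    rintro rfl
    rw [HS_one] at hk'
    apply hk
    apply HS_injective hF
    rw [HS_one]
    have : HS hF k = n⁻¹ * (n * HS hF k * n⁻¹) * n := by group
    rw [this, hk']
    group
  have hfix : ∀ p : suzukiOvoid F m, HS hF k • p = p → HS hF k' • (n • p) = n • p := by
    intro p hp
    rw [← hk', mul_smul, mul_smul, inv_smul_smul, hp]
  have hinf0 := HS_fixed' hF hk'1 _ (hfix (oinf F m) (HS_oinf hF k))
  have hzer0 := HS_fixed' hF hk'1 _ (hfix (opt m 0 0) (by rw [HS_opt, mul_zero, mul_zero]))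
  have hne : n • oinf F m ≠ n • opt m (0 : F) 0 := by
    intro e
    exact opt_ne_oinf 0 0 ((MulAction.injective n) e).symm
  have key : (n * n) • oinf F m = oinf F m ∧ (n * n) • opt m (0 : F) 0 = opt m 0 0 := by
    rcases hinf0 with h | h
    · rcases hzer0 with h' | h'
      · exact absurd (h.trans h'.symm) hne
      · exact ⟨by rw [mul_smul, h, h], by rw [mul_smul, h', h']⟩
    · rcases hzer0 with h' | h'
      · exact ⟨by rw [mul_smul, h, h'], by rw [mul_smul, h', h]⟩
      · exact absurd (h.trans h'.symm) hne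
  obtain ⟨l, hl⟩ := eq_HS_of_fix hm hF (n * n) key.1 key.2
  exact (mem_HSub_iff hF _).mpr ⟨l, hl⟩

/-- odd-order elements normalizing a torus lie in it -/
theorem odd_mem_of_mem_normalizer (hm : 1 ≤ m) (hF : Fintype.card F = 2 ^ (2 * m + 1))
    (g : Sz F m) (hg : g ≠ 1) (hodd : Odd (orderOf g)) (h : Sz F m)
    (hh : h ∈ Subgroup.normalizer
      ((Subgroup.centralizer ({g} : Set (Sz F m)) : Subgroup (Sz F m)) : Set (Sz F m)))
    (hhodd : Odd (orderOf h)) : h ∈ Subgroup.centralizer ({g} : Set (Sz F m)) := by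
  by_cases hfree : Free g
  · obtain ⟨g₁, g₂, hf₁, hf₂, -, -, hn₁, hn₂, hcover⟩ := tori_final hm hF
    have hcard : Nat.card (Subgroup.normalizer
        ((Subgroup.centralizer ({g} : Set (Sz F m)) : Subgroup (Sz F m)) : Set (Sz F m))) =
        2 ^ 2 * Nat.card (Subgroup.centralizer ({g} : Set (Sz F m))) := by
      rcases hcover g hfree with hU | hU
      · rw [card_normalizer_eq_of_inU hm hF g₁ g hf₁ hU, card_eq_of_inU hm hF g₁ g hf₁ hU, hn₁]
        norm_num
      · rw [card_normalizer_eq_of_inU hm hF g₂ g hf₂ hU, card_eq_of_inU hm hF g₂ g hf₂ hU, hn₂]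
        norm_num
    exact mem_of_mem_normalizer_of_odd _ 2 hcard h hh hhodd
  · rw [free_iff_not_fixes, not_not] at hfree
    obtain ⟨h₀, ⟨a, b, e⟩ | ⟨k, hk, e⟩⟩ := exists_conj_std hm hF g hg hfree
    · exfalso
      have h4 : g ^ 4 = 1 := by
        have : g = h₀⁻¹ * TS hF a b * h₀⁻¹⁻¹ := by
          rw [← e]
          group
        rw [this, conj_pow, Cfsg.Agent.Lib.Helper1.SzSub.TS_pow_four]
        group
      have h5 : orderOf g ∣ 4 := orderOf_dvd_of_pow_eq_one h4
      have h6 : orderOf g ∣ 2 ^ 2 := by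
        norm_num
        exact h5
      obtain ⟨j, -, hj⟩ := (Nat.dvd_prime_pow Nat.prime_two).mp h6
      rw [hj] at hodd
      have := ne_one_of_odd_pow_two hodd
      rw [this, pow_zero] at hj
      exact hg (orderOf_eq_one_iff.mp hj)
    · have hg' : g = h₀⁻¹ * HS hF k * h₀⁻¹⁻¹ := by
        rw [← e]
        group
      have hC : Subgroup.centralizer ({g} : Set (Sz F m)) =
          (HSub hF).map (MulAut.conj h₀⁻¹).toMonoidHom := by
        rw [hg', centralizer_conj, centralizer_HS_eq hm hF hk]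
      rw [hC, ← Subgroup.map_equiv_normalizer_eq, Subgroup.mem_map] at hh
      obtain ⟨n, hn, en⟩ := hh
      have hsq := sq_mem_HSub_of_mem_normalizer hm hF n hn
      have h2 : h ^ 2 ∈ Subgroup.centralizer ({g} : Set (Sz F m)) := by
        rw [hC, Subgroup.mem_map]
        refine ⟨n * n, hsq, ?_⟩
        rw [map_mul, en, pow_two]
      apply mem_of_pow_mem_of_coprime _ h 2 _ h2
      rw [Nat.coprime_two_left]
      exact hhodd

end suzuki

end Cfsg.Agent.Lib.Helper1.SzMax
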