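import Mathlib
import Cfsg.Agent.Lib.Helper1.SzMa

/-!
# Suzuki groups: subgroups of odd order lie in a torus (helper1)
-/

set_option autoImplicit false
set_option maxHeartbeats 2000000

namespace Cfsg.Agent.Lib.Helper1.SzMax

open Cfsg Cfsg.Agent.Lib.Helper14.Sz Cfsg.Agent.Lib.Helper1.SzTori

universe u

section general

variable {G : Type u} [Group G]

theorem mem_normalizer_of_map_conj_eq (A : Subgroup G) (n : G)
    (h : A.map (MulAut.conj n).toMonoidHom = A) : n ∈ Subgroup.normalizer (A : Set G) := by
  rw [Subgroup.mem_normalizer_iff]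
  intro x
  constructor
  · intro hx
    rw [← h]
    exact Subgroup.mem_map.mpr ⟨x, hx, by simp [MulAut.conj_apply]⟩
  · intro hx
    rw [← h] at hx
    obtain ⟨a, ha, e⟩ := Subgroup.mem_map.mp hx
    have e' : n * a * n⁻¹ = n * x * n⁻¹ := by simpa [MulAut.conj_apply] using e
    have : a = x := by
      have h1 := mul_right_cancel e'
      exact mul_left_cancel h1
    rwa [← this]

/-- an element conjugating `g` into `C(g) \ 1` normalizes `C(g)` (TI condition) -/
theorem mem_normalizer_centralizer_of_conj_mem (g : G)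
    (hsame : ∀ x ∈ Subgroup.centralizer ({g} : Set G), x ≠ 1 →
      Subgroup.centralizer ({x} : Set G) = Subgroup.centralizer ({g} : Set G))
    (n : G) (h1 : n * g * n⁻¹ ∈ Subgroup.centralizer ({g} : Set G)) (h2 : n * g * n⁻¹ ≠ 1) :
    n ∈ Subgroup.normalizer ((Subgroup.centralizer ({g} : Set G) : Subgroup G) : Set G) := by
  apply mem_normalizer_of_map_conj_eq
  rw [← centralizer_conj]
  exact hsame _ h1 h2

/-- abstract form: groups whose odd-order elements have TI abelian centralizers with no odd
automizer have all odd-order subgroups inside such a centralizer -/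
theorem odd_aux [Finite G]
    (hT : ∀ g : G, g ≠ 1 → Odd (orderOf g) →
      (∀ a ∈ Subgroup.centralizer ({g} : Set G), ∀ b ∈ Subgroup.centralizer ({g} : Set G),
        a * b = b * a) ∧
      (∀ x ∈ Subgroup.centralizer ({g} : Set G), x ≠ 1 →
        Subgroup.centralizer ({x} : Set G) = Subgroup.centralizer ({g} : Set G)) ∧
      (∀ h ∈ Subgroup.normalizer ((Subgroup.centralizer ({g} : Set G) : Subgroup G) : Set G),
        Odd (orderOf h) → h ∈ Subgroup.centralizer ({g} : Set G))) :
    ∀ (n : ℕ) (L : Type u) [Group L] [Finite L] (φ : L →* G), Function.Injective φ →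
      Nat.card L = n → Odd (Nat.card L) → Nontrivial L →
      ∃ g : L, g ≠ 1 ∧ ∀ l : L, φ l ∈ Subgroup.centralizer ({φ g} : Set G) := by
  intro n
  induction n using Nat.strong_induction_on with
  | _ n ih =>
  intro L _ _ φ hφ hn hodd hnt
  have hoddel : ∀ l : L, Odd (orderOf (φ l)) := by
    intro l
    rw [orderOf_injective φ hφ l]
    exact Odd.of_dvd_nat hodd (orderOf_dvd_natCard l)
  have hne1 : ∀ l : L, l ≠ 1 → φ l ≠ 1 := by
    intro l hl e
    apply hl
    apply hφ
    rw [e, map_one]
  have hcard1 : Nat.card L ≠ 1 := by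
    have := Finite.one_lt_card (α := L)
    omega
  have hp : (Nat.card L).minFac.Prime := Nat.minFac_prime hcard1
  haveI : Fact (Nat.card L).minFac.Prime := ⟨hp⟩
  obtain ⟨P⟩ := (inferInstance : Nonempty (Sylow (Nat.card L).minFac L))
  have hPne : (P : Subgroup L) ≠ ⊥ := Sylow.ne_bot_of_dvd_card P (Nat.minFac_dvd _)
  haveI : Nontrivial (P : Subgroup L) := (Subgroup.nontrivial_iff_ne_bot _).mpr hPne
  haveI : Nontrivial (Subgroup.center (P : Subgroup L)) := IsPGroup.center_nontrivial P.2
  obtain ⟨x', hx'⟩ := exists_ne (1 : Subgroup.center (P : Subgroup L))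
  have hxP : (((x' : (P : Subgroup L)) : L)) ∈ (P : Subgroup L) := (x' : (P : Subgroup L)).2
  have hx1 : (((x' : (P : Subgroup L)) : L)) ≠ 1 := by
    intro e
    apply hx'
    apply Subtype.ext
    apply Subtype.ext
    simpa using e
  have hxc : ∀ y : L, y ∈ (P : Subgroup L) →
      y * ((x' : (P : Subgroup L)) : L) = ((x' : (P : Subgroup L)) : L) * y := by
    intro y hy
    have h1 := Subgroup.mem_center_iff.mp x'.2 ⟨y, hy⟩
    have h2 := congrArg (Subtype.val) h1
    simpa using h2
  set x : L := ((x' : (P : Subgroup L)) : L) with hxdef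
  obtain ⟨hcomm, hsame, hnorm⟩ := hT (φ x) (hne1 x hx1) (hoddel x)
  have hPA : ∀ y : L, y ∈ (P : Subgroup L) → φ y ∈ Subgroup.centralizer ({φ x} : Set G) := by
    intro y hy
    rw [Subgroup.mem_centralizer_singleton_iff]
    rw [← map_mul, ← map_mul, hxc y hy]
  have hNP : Subgroup.normalizer ((P : Subgroup L) : Set L) ≤
      Subgroup.centralizer ((P : Subgroup L) : Set L) := by
    intro n hn
    have hx2 : n * x * n⁻¹ ∈ (P : Subgroup L) := (Subgroup.mem_normalizer_iff.mp hn x).mp hxP
    have hx21 : n * x * n⁻¹ ≠ 1 := by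
      intro e
      apply hx1
      have : x = n⁻¹ * (n * x * n⁻¹) * n := by group
      rw [this, e]
      group
    have h3 : φ n ∈ Subgroup.normalizer
        ((Subgroup.centralizer ({φ x} : Set G) : Subgroup G) : Set G) := by
      apply mem_normalizer_centralizer_of_conj_mem (φ x) hsame (φ n)
      · have := hPA _ hx2
        rwa [map_mul, map_mul, map_inv] at this
      · have := hne1 _ hx21
        rwa [map_mul, map_mul, map_inv] at this
    have h4 := hnorm _ h3 (hoddel n)
    rw [Subgroup.mem_centralizer_iff]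
    intro y hy
    apply hφ
    rw [map_mul, map_mul]
    exact hcomm _ (hPA y hy) _ h4
  have hcompl := MonoidHom.ker_transferSylow_isComplement' P hNP
  have hmul := hcompl.card_mul
  have hPcard : 1 < Nat.card (P : Subgroup L) := Finite.one_lt_card
  by_cases hK : Nontrivial (MonoidHom.transferSylow P hNP).ker
  · have hlt : Nat.card (MonoidHom.transferSylow P hNP).ker < n := by
      have hmul' : Nat.card (MonoidHom.transferSylow P hNP).ker * Nat.card (P : Subgroup L) = n :=
        hmul.trans hn
      have hKpos : 0 < Nat.card (MonoidHom.transferSylow P hNP).ker := Nat.card_pos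
      nlinarith
    have hKodd : Odd (Nat.card (MonoidHom.transferSylow P hNP).ker) :=
      Odd.of_dvd_nat hodd (Subgroup.card_subgroup_dvd_card _)
    obtain ⟨g₀, hg₀, hcen⟩ := ih _ hlt (MonoidHom.transferSylow P hNP).ker
      (φ.comp (MonoidHom.transferSylow P hNP).ker.subtype)
      (hφ.comp (Subgroup.subtype_injective _)) rfl hKodd hK
    have hg₀1 : (g₀ : L) ≠ 1 := by
      intro e
      apply hg₀
      exact Subtype.ext e
    refine ⟨(g₀ : L), hg₀1, ?_⟩
    obtain ⟨hcomm', hsame', hnorm'⟩ := hT (φ (g₀ : L)) (hne1 _ hg₀1) (hoddel _)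
    intro l
    have hk2 : l * (g₀ : L) * l⁻¹ ∈ (MonoidHom.transferSylow P hNP).ker :=
      (MonoidHom.normal_ker _).conj_mem _ g₀.2 l
    have hk21 : l * (g₀ : L) * l⁻¹ ≠ 1 := by
      intro e
      apply hg₀1
      have : (g₀ : L) = l⁻¹ * (l * (g₀ : L) * l⁻¹) * l := by group
      rw [this, e]
      group
    have h3 : φ l ∈ Subgroup.normalizer
        ((Subgroup.centralizer ({φ (g₀ : L)} : Set G) : Subgroup G) : Set G) := by
      apply mem_normalizer_centralizer_of_conj_mem (φ (g₀ : L)) hsame' (φ l)
      · have := hcen ⟨_, hk2⟩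
        simp only [MonoidHom.coe_comp, Function.comp_apply, Subgroup.coe_subtype] at this
        rwa [map_mul, map_mul, map_inv] at this
      · have := hne1 _ hk21
        rwa [map_mul, map_mul, map_inv] at this
    exact hnorm' _ h3 (hoddel l)
  · refine ⟨x, hx1, ?_⟩
    have hK1 : Nat.card (MonoidHom.transferSylow P hNP).ker = 1 := by
      by_contra hne
      apply hK
      rw [← Finite.one_lt_card_iff_nontrivial]
      have hKpos : 0 < Nat.card (MonoidHom.transferSylow P hNP).ker := Nat.card_pos
      omega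
    rw [hK1, one_mul] at hmul
    have htop : (P : Subgroup L) = ⊤ := Subgroup.eq_top_of_card_eq _ hmul
    intro l
    apply hPA
    rw [htop]
    exact Subgroup.mem_top l

end general

section suzuki

variable {F : Type u} [Field F] [Fintype F] [CharP F 2] {m : ℕ}

theorem comm_of_isCyclic {G : Type*} [Group G] (A : Subgroup G) [IsCyclic A] (a b : G)
    (ha : a ∈ A) (hb : b ∈ A) : a * b = b * a := by
  letI : CommGroup A := IsCyclic.commGroup
  have := mul_comm (⟨a, ha⟩ : A) ⟨b, hb⟩
  exact congrArg Subtype.val this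

/-- every nontrivial subgroup of odd order lies in the centralizer (a cyclic torus) of one of
its nonidentity elements -/
theorem odd_subgroup_le_torus (hm : 1 ≤ m) (hF : Fintype.card F = 2 ^ (2 * m + 1))
    (L : Subgroup (Sz F m)) (hodd : Odd (Nat.card L)) (hL : L ≠ ⊥) :
    ∃ g ∈ L, g ≠ 1 ∧ L ≤ Subgroup.centralizer ({g} : Set (Sz F m)) := by
  haveI : Nontrivial L := (Subgroup.nontrivial_iff_ne_bot _).mpr hL
  have hT : ∀ g : Sz F m, g ≠ 1 → Odd (orderOf g) →
      (∀ a ∈ Subgroup.centralizer ({g} : Set (Sz F m)),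
        ∀ b ∈ Subgroup.centralizer ({g} : Set (Sz F m)), a * b = b * a) ∧
      (∀ x ∈ Subgroup.centralizer ({g} : Set (Sz F m)), x ≠ 1 →
        Subgroup.centralizer ({x} : Set (Sz F m)) = Subgroup.centralizer ({g} : Set (Sz F m))) ∧
      (∀ h ∈ Subgroup.normalizer
        ((Subgroup.centralizer ({g} : Set (Sz F m)) : Subgroup (Sz F m)) : Set (Sz F m)),
        Odd (orderOf h) → h ∈ Subgroup.centralizer ({g} : Set (Sz F m))) := by
    intro g hg hgodd
    obtain ⟨hcyc, -, hsame⟩ := torus_of_odd hm hF g hg hgodd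
    refine ⟨?_, hsame, ?_⟩
    · intro a ha b hb
      haveI := hcyc
      exact comm_of_isCyclic _ a b ha hb
    · intro h hh hhodd
      exact odd_mem_of_mem_normalizer hm hF g hg hgodd h hh hhodd
  obtain ⟨g, hg, hcen⟩ := odd_aux hT _ L L.subtype (Subgroup.subtype_injective _) rfl hodd
    inferInstance
  refine ⟨(g : Sz F m), g.2, ?_, ?_⟩
  · intro e
    apply hg
    exact Subtype.ext e
  · intro l hl
    exact hcen ⟨l, hl⟩

end suzuki

end Cfsg.Agent.Lib.Helper1.SzMax
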