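import Mathlib
import Cfsg.Agent.Lib.Helper1.SzMb

/-!
# Suzuki groups: the conclusion of the subgroup theorem, conjugation invariance, easy cases (helper1)
-/

set_option autoImplicit false
set_option maxHeartbeats 2000000

namespace Cfsg.Agent.Lib.Helper1.SzMax

open Cfsg Cfsg.Agent.Lib.Helper14.Sz Cfsg.Agent.Lib.Helper1.SzTori

universe u

variable {F : Type u} [Field F] [Fintype F] {m : ℕ}

/-- the conclusion of the subgroup theorem -/
def Concl (M : Subgroup ↥(Cfsg.Sz F m)) : Prop :=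
  (∃ P : Sylow 2 ↥(Cfsg.Sz F m), M ≤ Subgroup.normalizer ((P : Subgroup ↥(Cfsg.Sz F m)) : Set ↥(Cfsg.Sz F m))) ∨
    (∃ U : Subgroup ↥(Cfsg.Sz F m), IsCyclic ↥U ∧ Nat.card ↥U ∈ ({2 ^ (2 * m + 1) - 1, 2 ^ (2 * m + 1) + 2 ^ (m + 1) + 1, 2 ^ (2 * m + 1) - 2 ^ (m + 1) + 1} : Set ℕ) ∧
      M ≤ Subgroup.normalizer (U : Set ↥(Cfsg.Sz F m))) ∨
    (∃ (K : Type) (_ : Field K) (_ : Fintype K) (k : ℕ), 1 ≤ k ∧ k < m ∧ Fintype.card K = 2 ^ (2 * k + 1) ∧ 2 * k + 1 ∣ 2 * m + 1 ∧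
      ∃ S : Subgroup ↥(Cfsg.Sz F m), Nonempty (↥S ≃* ↥(Cfsg.Sz K k)) ∧ M ≤ S)

theorem concl_mono {M M' : Subgroup (Sz F m)} (h : M ≤ M') (hc : Concl M') : Concl M := by
  rcases hc with ⟨P, hP⟩ | ⟨U, h1, h2, h3⟩ | ⟨K, i1, i2, k, h1, h2, h3, h4, S, h5, h6⟩
  · exact Or.inl ⟨P, h.trans hP⟩
  · exact Or.inr (Or.inl ⟨U, h1, h2, h.trans h3⟩)
  · exact Or.inr (Or.inr ⟨K, i1, i2, k, h1, h2, h3, h4, S, h5, h.trans h6⟩)

theorem concl_conj {M : Subgroup (Sz F m)} (g : Sz F m)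
    (hc : Concl (M.map (MulAut.conj g).toMonoidHom)) : Concl M := by
  have hmem : ∀ x ∈ M, g * x * g⁻¹ ∈ M.map (MulAut.conj g).toMonoidHom := by
    intro x hx
    exact Subgroup.mem_map.mpr ⟨x, hx, by simp [MulAut.conj_apply]⟩
  have hback : ∀ (A : Subgroup (Sz F m)) (x : Sz F m), g * x * g⁻¹ ∈ A →
      x ∈ A.map (MulAut.conj g⁻¹).toMonoidHom := by
    intro A x hx
    refine Subgroup.mem_map.mpr ⟨_, hx, ?_⟩
    simp only [MulEquiv.coe_toMonoidHom, MulAut.conj_apply]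
    group
  rcases hc with ⟨P, hP⟩ | ⟨U, h1, h2, h3⟩ | ⟨K, i1, i2, k, h1, h2, h3, h4, S, h5, h6⟩
  · left
    refine ⟨g⁻¹ • P, ?_⟩
    intro x hx
    have h1 : (g * x * g⁻¹) • P = P := Sylow.smul_eq_iff_mem_normalizer.mpr (hP (hmem x hx))
    have h2 : x • (g⁻¹ • P) = g⁻¹ • P := by
      rw [← mul_smul]
      have h3 : g⁻¹ • ((g * x * g⁻¹) • P) = g⁻¹ • P := by rw [h1]
      rw [← mul_smul] at h3
      rw [← h3]
      congr 1
      group
    exact Sylow.smul_eq_iff_mem_normalizer.mp h2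
  · right
    left
    refine ⟨U.map (MulAut.conj g⁻¹).toMonoidHom, ?_, ?_, ?_⟩
    · exact (MulEquiv.isCyclic (Subgroup.equivMapOfInjective U (MulAut.conj g⁻¹).toMonoidHom
        (MulAut.conj g⁻¹).injective)).mp h1
    · rw [← Nat.card_congr (Subgroup.equivMapOfInjective U (MulAut.conj g⁻¹).toMonoidHom
        (MulAut.conj g⁻¹).injective).toEquiv]
      exact h2
    · intro x hx
      rw [← Subgroup.map_equiv_normalizer_eq]
      exact hback _ x (h3 (hmem x hx))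
  · right
    right
    refine ⟨K, i1, i2, k, h1, h2, h3, h4, S.map (MulAut.conj g⁻¹).toMonoidHom, ?_, ?_⟩
    · obtain ⟨e⟩ := h5
      exact ⟨(Subgroup.equivMapOfInjective S (MulAut.conj g⁻¹).toMonoidHom
        (MulAut.conj g⁻¹).injective).symm.trans e⟩
    · intro x hx
      exact hback _ x (h6 (hmem x hx))

variable [CharP F 2]

/-- subgroups fixing the point at infinity -/
theorem concl_of_fix (hm : 1 ≤ m) (hF : Fintype.card F = 2 ^ (2 * m + 1)) (M : Subgroup (Sz F m))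
    (h : ∀ x ∈ M, x • oinf F m = oinf F m) : Concl M := by
  left
  obtain ⟨P₀, hP₀⟩ := exists_sylow_eq hm hF
  refine ⟨P₀, ?_⟩
  rw [hP₀, normalizer_TSub hm hF]
  intro x hx
  exact MulAction.mem_stabilizer_iff.mpr (h x hx)

/-- subgroups fixing a point -/
theorem concl_of_fix_point (hm : 1 ≤ m) (hF : Fintype.card F = 2 ^ (2 * m + 1))
    (M : Subgroup (Sz F m)) (p : suzukiOvoid F m)
    (h : ∀ x ∈ M, x • p = p) : Concl M := by
  obtain ⟨g, hg⟩ := exists_smul_oinf hF p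
  apply concl_conj g⁻¹
  apply concl_of_fix hm hF
  intro y hy
  obtain ⟨x, hx, rfl⟩ := Subgroup.mem_map.mp hy
  simp only [MulEquiv.coe_toMonoidHom, MulAut.conj_apply, inv_inv]
  rw [mul_smul, mul_smul, hg, h x hx, ← hg, inv_smul_smul]

theorem concl_bot (hm : 1 ≤ m) (hF : Fintype.card F = 2 ^ (2 * m + 1)) :
    Concl (⊥ : Subgroup (Sz F m)) := by
  apply concl_of_fix hm hF
  intro x hx
  rw [Subgroup.mem_bot.mp hx, one_smul]

/-- subgroups with a nontrivial normal subgroup of odd order -/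
theorem concl_of_odd_normal (hm : 1 ≤ m) (hF : Fintype.card F = 2 ^ (2 * m + 1))
    (M L : Subgroup (Sz F m)) (hnorm : ∀ x ∈ M, ∀ l ∈ L, x * l * x⁻¹ ∈ L)
    (hodd : Odd (Nat.card L)) (hL : L ≠ ⊥) : Concl M := by
  obtain ⟨g, hgL, hg1, hle⟩ := odd_subgroup_le_torus hm hF L hodd hL
  have hgodd : Odd (orderOf g) := by
    have : orderOf g ∣ Nat.card L := by
      have := orderOf_dvd_natCard (⟨g, hgL⟩ : L)
      rwa [Subgroup.orderOf_mk] at this
    exact Odd.of_dvd_nat hodd this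
  obtain ⟨hcyc, hcard, hsame⟩ := torus_of_odd hm hF g hg1 hgodd
  right
  left
  refine ⟨Subgroup.centralizer ({g} : Set (Sz F m)), hcyc, ?_, ?_⟩
  · simpa using hcard
  · intro x hx
    apply mem_normalizer_centralizer_of_conj_mem g hsame x
    · exact hle (hnorm x hx g hgL)
    · intro e
      apply hg1
      have : g = x⁻¹ * (x * g * x⁻¹) * x := by group
      rw [this, e]
      group

/-- subgroups of odd order -/
theorem concl_of_odd (hm : 1 ≤ m) (hF : Fintype.card F = 2 ^ (2 * m + 1))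
    (M : Subgroup (Sz F m)) (hodd : Odd (Nat.card M)) : Concl M := by
  by_cases hM : M = ⊥
  · rw [hM]
    exact concl_bot hm hF
  · exact concl_of_odd_normal hm hF M M (fun x hx l hl => M.mul_mem (M.mul_mem hx hl) (M.inv_mem hx))
      hodd hM

end Cfsg.Agent.Lib.Helper1.SzMax
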