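import Mathlib

/-!
# An abstract involution count for groups with a strongly embedded point stabilizer (helper1)
-/

set_option autoImplicit false
set_option maxHeartbeats 2000000

namespace Cfsg.Agent.Lib.Helper1.SzMax

open Finset

section counting

open Classical

variable {G : Type*} [Group G] [Fintype G] {Ω : Type*} [MulAction G Ω] [Fintype Ω]

/-- hypotheses of the count -/
structure CountHyp (M T : Subgroup G) (o : Ω) : Prop where
  fixT : ∀ t ∈ T, t • o = o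
  onlyT : ∀ t ∈ T, t ≠ 1 → ∀ p : Ω, t • p = p → p = o
  two : ∀ x : G, x • o = o → x ∉ T → ∀ p q : Ω, p ≠ o → q ≠ o → x • p = p → x • q = q → p = q
  inv : ∀ u : G, u * u = 1 → u • o = o → u ∈ T
  cen : ∀ v ∈ T, v ≠ 1 → ∀ y : G, y * v * y⁻¹ = v → y ∈ T
  syl : ∀ u ∈ M, u ≠ 1 → u * u = 1 → ∃ x ∈ M, x⁻¹ * u * x ∈ T

noncomputable def Qf (M T : Subgroup G) : Finset G := univ.filter (fun x => x ∈ M ∧ x ∈ T)

noncomputable def Sf (M : Subgroup G) (o : Ω) : Finset G := univ.filter (fun x => x ∈ M ∧ x • o = o)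

noncomputable def Vf (M T : Subgroup G) : Finset G :=
  univ.filter (fun v => v ∈ M ∧ v ∈ T ∧ v ≠ 1 ∧ v * v = 1)

noncomputable def Jf (M : Subgroup G) (o : Ω) : Finset G :=
  univ.filter (fun u => u ∈ M ∧ u ≠ 1 ∧ u * u = 1 ∧ u • o ≠ o)

noncomputable def Df (M : Subgroup G) (o : Ω) : Finset Ω :=
  univ.filter (fun p => p ≠ o ∧ ∃ x ∈ M, x • o = p)

noncomputable def Mf (M : Subgroup G) : Finset G := univ.filter (fun x => x ∈ M)

noncomputable def Kf (M : Subgroup G) (o p : Ω) : Finset G :=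
  univ.filter (fun x => x ∈ M ∧ x • o = o ∧ x • p = p)

variable {M T : Subgroup G} {o : Ω}

theorem mem_Qf {x : G} : x ∈ Qf M T ↔ x ∈ M ∧ x ∈ T := by simp [Qf]

theorem mem_Sf {x : G} : x ∈ Sf M o ↔ x ∈ M ∧ x • o = o := by simp [Sf]

theorem mem_Vf {x : G} : x ∈ Vf M T ↔ x ∈ M ∧ x ∈ T ∧ x ≠ 1 ∧ x * x = 1 := by simp [Vf]

theorem mem_Jf {x : G} : x ∈ Jf M o ↔ x ∈ M ∧ x ≠ 1 ∧ x * x = 1 ∧ x • o ≠ o := by simp [Jf]

theorem mem_Df {p : Ω} : p ∈ Df M o ↔ p ≠ o ∧ ∃ x ∈ M, x • o = p := by simp [Df]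

theorem mem_Mf {x : G} : x ∈ Mf M ↔ x ∈ M := by simp [Mf]

theorem mem_Kf {x : G} {p : Ω} : x ∈ Kf M o p ↔ x ∈ M ∧ x • o = o ∧ x • p = p := by simp [Kf]

theorem inv_eq_self_of_sq {u : G} (h : u * u = 1) : u⁻¹ = u := inv_eq_of_mul_eq_one_left h

/-- an involution of `M` fixes at most one point -/
theorem invol_unique (H : CountHyp M T o) {u : G} (hu : u ∈ M) (hu1 : u ≠ 1) (hu2 : u * u = 1)
    {p q : Ω} (hp : u • p = p) (hq : u • q = q) : p = q := by
  obtain ⟨x, hx, hxT⟩ := H.syl u hu hu1 hu2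
  have hv1 : x⁻¹ * u * x ≠ 1 := by
    intro e
    apply hu1
    have : u = x * (x⁻¹ * u * x) * x⁻¹ := by group
    rw [this, e]
    group
  have key : ∀ r : Ω, u • r = r → r = x • o := by
    intro r hr
    have h1 : (x⁻¹ * u * x) • (x⁻¹ • r) = x⁻¹ • r := by
      rw [mul_smul, mul_smul, smul_inv_smul, hr]
    have h2 := H.onlyT _ hxT hv1 _ h1
    rw [← h2, smul_inv_smul]
  rw [key p hp, key q hq]

theorem invol_fix_exists (H : CountHyp M T o) {u : G} (hu : u ∈ M) (hu1 : u ≠ 1)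
    (hu2 : u * u = 1) : ∃ x ∈ M, u • (x • o) = x • o := by
  obtain ⟨x, hx, hxT⟩ := H.syl u hu hu1 hu2
  refine ⟨x, hx, ?_⟩
  have h1 := H.fixT _ hxT
  rw [mul_smul, mul_smul] at h1
  have h2 := congrArg (fun r => x • r) h1
  simp only [smul_inv_smul] at h2
  exact h2

/-- the involutions of `M` fixing the point `p` -/
noncomputable def Fp (M : Subgroup G) (p : Ω) : Finset G :=
  univ.filter (fun u => u ∈ M ∧ u ≠ 1 ∧ u * u = 1 ∧ u • p = p)

theorem mem_Fp {x : G} {p : Ω} : x ∈ Fp M p ↔ x ∈ M ∧ x ≠ 1 ∧ x * x = 1 ∧ x • p = p := by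
  simp [Fp]

theorem card_Fp (H : CountHyp M T o) {p : Ω} (hp : p ∈ Df M o) : (Fp M p).card = (Vf M T).card := by
  obtain ⟨hpo, x, hx, rfl⟩ := mem_Df.mp hp
  symm
  apply Finset.card_bij (fun v _ => x * v * x⁻¹)
  · intro v hv
    obtain ⟨h1, h2, h3, h4⟩ := mem_Vf.mp hv
    refine mem_Fp.mpr ⟨M.mul_mem (M.mul_mem hx h1) (M.inv_mem hx), ?_, ?_, ?_⟩
    · intro e
      apply h3
      have : v = x⁻¹ * (x * v * x⁻¹) * x := by group
      rw [this, e]
      group
    · have : x * v * x⁻¹ * (x * v * x⁻¹) = x * (v * v) * x⁻¹ := by group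
      rw [this, h4]
      group
    · rw [mul_smul, mul_smul, inv_smul_smul, H.fixT v h2]
  · intro a _ b _ e
    have h1 := mul_right_cancel e
    exact mul_left_cancel h1
  · intro u hu
    obtain ⟨h1, h2, h3, h4⟩ := mem_Fp.mp hu
    have hsq : x⁻¹ * u * x * (x⁻¹ * u * x) = 1 := by
      have : x⁻¹ * u * x * (x⁻¹ * u * x) = x⁻¹ * (u * u) * x := by group
      rw [this, h3]
      group
    refine ⟨x⁻¹ * u * x, mem_Vf.mpr ⟨M.mul_mem (M.mul_mem (M.inv_mem hx) h1) hx, ?_, ?_, hsq⟩, ?_⟩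
    · apply H.inv _ hsq
      rw [mul_smul, mul_smul, h4, inv_smul_smul]
    · intro e
      apply h2
      have : u = x * (x⁻¹ * u * x) * x⁻¹ := by group
      rw [this, e]
      group
    · group

theorem Jf_eq_biUnion (H : CountHyp M T o) : Jf M o = (Df M o).biUnion (fun p => Fp M p) := by
  ext u
  rw [mem_biUnion]
  constructor
  · intro hu
    obtain ⟨h1, h2, h3, h4⟩ := mem_Jf.mp hu
    obtain ⟨x, hx, hfix⟩ := invol_fix_exists H h1 h2 h3
    refine ⟨x • o, mem_Df.mpr ⟨?_, x, hx, rfl⟩, mem_Fp.mpr ⟨h1, h2, h3, hfix⟩⟩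
    intro e
    rw [e] at hfix
    exact h4 hfix
  · rintro ⟨p, hp, hu⟩
    obtain ⟨h1, h2, h3, h4⟩ := mem_Fp.mp hu
    obtain ⟨hpo, -⟩ := mem_Df.mp hp
    refine mem_Jf.mpr ⟨h1, h2, h3, ?_⟩
    intro e
    exact hpo (invol_unique H h1 h2 h3 h4 e)

/-- (I1) -/
theorem card_Jf (H : CountHyp M T o) : (Jf M o).card = (Df M o).card * (Vf M T).card := by
  rw [Jf_eq_biUnion H, Finset.card_biUnion]
  · rw [Finset.sum_congr rfl (fun p hp => card_Fp H hp), Finset.sum_const, smul_eq_mul]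
  · intro p _ q _ hpq
    rw [Function.onFun, Finset.disjoint_left]
    intro u hup huq
    obtain ⟨h1, h2, h3, h4⟩ := mem_Fp.mp hup
    obtain ⟨-, -, -, h4'⟩ := mem_Fp.mp huq
    exact hpq (invol_unique H h1 h2 h3 h4 h4')

theorem Qf_eq (H : CountHyp M T o) : Qf M T = (Sf M o).filter (fun y => y ∈ T) := by
  ext x
  rw [mem_filter, mem_Qf, mem_Sf]
  constructor
  · rintro ⟨h1, h2⟩
    exact ⟨⟨h1, H.fixT x h2⟩, h2⟩
  · rintro ⟨⟨h1, -⟩, h2⟩
    exact ⟨h1, h2⟩

/-- (I2) -/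
theorem card_Jf_le (H : CountHyp M T o) :
    (Jf M o).card + (Qf M T).card ≤ (Df M o).card + (Sf M o).card := by
  have ha : (Jf M o).card = ∑ p ∈ Df M o, ((Jf M o).filter (fun u => u • o = p)).card := by
    apply Finset.card_eq_sum_card_fiberwise
    intro u hu
    obtain ⟨h1, h2, h3, h4⟩ := mem_Jf.mp hu
    exact mem_Df.mpr ⟨h4, u, h1, rfl⟩
  have hb : ∀ p ∈ Df M o, ((Jf M o).filter (fun u => u • o = p)).card ≤
      ((Sf M o).filter (fun y => y • p = p)).card := by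
    intro p _
    by_cases hne : ((Jf M o).filter (fun u => u • o = p)).Nonempty
    · obtain ⟨u₀, hu₀⟩ := hne
      obtain ⟨hu₀J, hu₀p⟩ := mem_filter.mp hu₀
      obtain ⟨h1, h2, h3, h4⟩ := mem_Jf.mp hu₀J
      have hinv : u₀⁻¹ = u₀ := inv_eq_self_of_sq h3
      have hu₀p' : u₀ • p = o := by rw [← hu₀p, ← mul_smul, h3, one_smul]
      apply Finset.card_le_card_of_injOn (fun u => u₀⁻¹ * u)
      · intro u hu
        obtain ⟨huJ, hup⟩ := mem_filter.mp hu
        obtain ⟨g1, g2, g3, g4⟩ := mem_Jf.mp huJ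
        have hup' : u • p = o := by rw [← hup, ← mul_smul, g3, one_smul]
        apply mem_filter.mpr
        refine ⟨mem_Sf.mpr ⟨M.mul_mem (M.inv_mem h1) g1, ?_⟩, ?_⟩
        · rw [mul_smul, hup, hinv, hu₀p']
        · rw [mul_smul, hup', hinv, hu₀p]
      · intro a _ b _ e
        exact mul_left_cancel e
    · rw [not_nonempty_iff_eq_empty.mp hne, card_empty]
      exact Nat.zero_le _
  have hc : ∑ p ∈ Df M o, ((Sf M o).filter (fun y => y • p = p)).card =
      ∑ y ∈ Sf M o, ((Df M o).filter (fun p => y • p = p)).card :=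
    Finset.sum_card_bipartiteAbove_eq_sum_card_bipartiteBelow (fun (p : Ω) (y : G) => y • p = p)
  have hd : ∀ y ∈ Sf M o, ((Df M o).filter (fun p => y • p = p)).card ≤
      (if y ∈ T then (if y = 1 then (Df M o).card else 0) else 1) := by
    intro y hy
    obtain ⟨hyM, hyo⟩ := mem_Sf.mp hy
    by_cases hT : y ∈ T
    · rw [if_pos hT]
      by_cases h1 : y = 1
      · rw [if_pos h1]
        exact Finset.card_filter_le _ _
      · rw [if_neg h1, Nat.le_zero, card_eq_zero, filter_eq_empty_iff]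
        intro p hp hfix
        exact (mem_Df.mp hp).1 (H.onlyT y hT h1 p hfix)
    · rw [if_neg hT, Finset.card_le_one]
      intro p hp q hq
      obtain ⟨hpD, hpf⟩ := mem_filter.mp hp
      obtain ⟨hqD, hqf⟩ := mem_filter.mp hq
      exact H.two y hyo hT p q (mem_Df.mp hpD).1 (mem_Df.mp hqD).1 hpf hqf
  have he : ∑ y ∈ Sf M o, (if y ∈ T then (if y = 1 then (Df M o).card else 0) else 1) =
      (Df M o).card + ((Sf M o).filter (fun y => ¬ y ∈ T)).card := by
    rw [Finset.sum_ite, Finset.sum_ite_eq', Finset.sum_const, smul_eq_mul, mul_one]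
    rw [if_pos]
    apply mem_filter.mpr
    exact ⟨mem_Sf.mpr ⟨M.one_mem, one_smul _ _⟩, T.one_mem⟩
  have hf : ((Sf M o).filter (fun y => y ∈ T)).card + ((Sf M o).filter (fun y => ¬ y ∈ T)).card =
      (Sf M o).card := Finset.card_filter_add_card_filter_not _
  rw [Qf_eq H]
  calc (Jf M o).card + ((Sf M o).filter (fun y => y ∈ T)).card
      ≤ (∑ p ∈ Df M o, ((Sf M o).filter (fun y => y • p = p)).card) +
          ((Sf M o).filter (fun y => y ∈ T)).card := by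
        rw [ha]
        exact Nat.add_le_add_right (Finset.sum_le_sum hb) _
    _ ≤ ((Df M o).card + ((Sf M o).filter (fun y => ¬ y ∈ T)).card) +
          ((Sf M o).filter (fun y => y ∈ T)).card := by
        rw [hc, ← he]
        exact Nat.add_le_add_right (Finset.sum_le_sum hd) _
    _ = (Df M o).card + (Sf M o).card := by rw [← hf]; ring

/-- (I3) -/
theorem card_Qf_le (H : CountHyp M T o) {p₀ : Ω} (hp₀ : p₀ ∈ Df M o) :
    (Qf M T).card ≤ (Df M o).card := by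
  obtain ⟨hpo, x₀, hx₀, rfl⟩ := mem_Df.mp hp₀
  apply Finset.card_le_card_of_injOn (fun t => t • (x₀ • o))
  · intro t ht
    obtain ⟨h1, h2⟩ := mem_Qf.mp ht
    apply mem_Df.mpr
    refine ⟨?_, t * x₀, M.mul_mem h1 hx₀, mul_smul _ _ _⟩
    intro e
    apply hpo
    have e' : t • (x₀ • o) = o := e
    have h3 : t • (x₀ • o) = t • o := by rw [e', H.fixT t h2]
    exact (MulAction.injective t) h3
  · intro a ha b hb e
    obtain ⟨-, haT⟩ := mem_Qf.mp ha
    obtain ⟨-, hbT⟩ := mem_Qf.mp hb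
    simp only at e
    have h1 : (b⁻¹ * a) • (x₀ • o) = x₀ • o := by
      rw [mul_smul, e, inv_smul_smul]
    by_contra hne
    have h2 : b⁻¹ * a ≠ 1 := by
      intro e'
      apply hne
      have : a = b * (b⁻¹ * a) := by group
      rw [this, e', mul_one]
    exact hpo (H.onlyT _ (T.mul_mem (T.inv_mem hbT) haT) h2 _ h1)

/-- (I4) -/
theorem card_Sf_le (H : CountHyp M T o) {v₀ : G} (hv₀ : v₀ ∈ Vf M T) :
    (Sf M o).card ≤ (Qf M T).card * (Vf M T).card := by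
  obtain ⟨hvM, hvT, hv1, hv2⟩ := mem_Vf.mp hv₀
  have h1 := Finset.card_le_mul_card_image (f := fun y => y * v₀ * y⁻¹) (Sf M o) (Qf M T).card ?_
  · refine h1.trans (Nat.mul_le_mul_left _ (Finset.card_le_card ?_))
    intro a ha
    obtain ⟨y, hy, rfl⟩ := mem_image.mp ha
    obtain ⟨hyM, hyo⟩ := mem_Sf.mp hy
    have hsq : y * v₀ * y⁻¹ * (y * v₀ * y⁻¹) = 1 := by
      have : y * v₀ * y⁻¹ * (y * v₀ * y⁻¹) = y * (v₀ * v₀) * y⁻¹ := by group
      rw [this, hv2]
      group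
    refine mem_Vf.mpr ⟨M.mul_mem (M.mul_mem hyM hvM) (M.inv_mem hyM), ?_, ?_, hsq⟩
    · apply H.inv _ hsq
      have : y⁻¹ • o = o := by
        rw [inv_smul_eq_iff, hyo]
      rw [mul_smul, mul_smul, this, H.fixT v₀ hvT, hyo]
    · intro e
      apply hv1
      have : v₀ = y⁻¹ * (y * v₀ * y⁻¹) * y := by group
      rw [this, e]
      group
  · intro a ha
    obtain ⟨y₀, hy₀, rfl⟩ := mem_image.mp ha
    obtain ⟨hy₀M, hy₀o⟩ := mem_Sf.mp hy₀
    apply Finset.card_le_card_of_injOn (fun y => y₀⁻¹ * y)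
    · intro y hy
      obtain ⟨hyS, hye⟩ := mem_filter.mp hy
      obtain ⟨hyM, hyo⟩ := mem_Sf.mp hyS
      apply mem_Qf.mpr
      refine ⟨M.mul_mem (M.inv_mem hy₀M) hyM, ?_⟩
      apply H.cen v₀ hvT hv1
      have : y₀⁻¹ * y * v₀ * (y₀⁻¹ * y)⁻¹ = y₀⁻¹ * (y * v₀ * y⁻¹) * y₀ := by group
      rw [this, hye]
      group
    · intro a _ b _ e
      exact mul_left_cancel e

/-- (I5) -/
theorem card_Mf (M : Subgroup G) (o : Ω) : (Mf M).card = (Sf M o).card * ((Df M o).card + 1) := by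
  have hnot : o ∉ Df M o := fun h => (mem_Df.mp h).1 rfl
  have ha : (Mf M).card = ∑ p ∈ insert o (Df M o), ((Mf M).filter (fun x => x • o = p)).card := by
    apply Finset.card_eq_sum_card_fiberwise
    intro x hx
    show x • o ∈ ((insert o (Df M o) : Finset Ω) : Set Ω)
    by_cases h : x • o = o
    · rw [h]
      exact mem_coe.mpr (mem_insert_self _ _)
    · exact mem_coe.mpr (mem_insert_of_mem (mem_Df.mpr ⟨h, x, mem_Mf.mp hx, rfl⟩))
  have hb : ∀ p ∈ insert o (Df M o), ((Mf M).filter (fun x => x • o = p)).card = (Sf M o).card := by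
    intro p hp
    have hx₀ : ∃ x₀ ∈ M, x₀ • o = p := by
      rcases mem_insert.mp hp with rfl | hp
      · exact ⟨1, M.one_mem, one_smul _ _⟩
      · exact (mem_Df.mp hp).2
    obtain ⟨x₀, hx₀M, rfl⟩ := hx₀
    symm
    apply Finset.card_bij (fun y _ => x₀ * y)
    · intro y hy
      obtain ⟨hyM, hyo⟩ := mem_Sf.mp hy
      exact mem_filter.mpr ⟨mem_Mf.mpr (M.mul_mem hx₀M hyM), by rw [mul_smul, hyo]⟩
    · intro a _ b _ e
      exact mul_left_cancel e
    · intro x hx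
      obtain ⟨hxM, hxo⟩ := mem_filter.mp hx
      refine ⟨x₀⁻¹ * x, mem_Sf.mpr ⟨M.mul_mem (M.inv_mem hx₀M) (mem_Mf.mp hxM), ?_⟩, by group⟩
      rw [mul_smul, hxo, inv_smul_smul]
  rw [ha, Finset.sum_congr rfl hb, Finset.sum_const, smul_eq_mul, Finset.card_insert_of_notMem hnot,
    mul_comm]

end counting

end Cfsg.Agent.Lib.Helper1.SzMax
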