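import Mathlib
import Cfsg.Agent.Lib.Helper1.SzMd

/-!
# The abstract involution count: conclusions (helper1)
-/

set_option autoImplicit false
set_option maxHeartbeats 2000000

namespace Cfsg.Agent.Lib.Helper1.SzMax

open Finset

section counting

open Classical

variable {G : Type*} [Group G] [Fintype G] {Ω : Type*} [MulAction G Ω] [Fintype Ω]
variable {M T : Subgroup G} {o : Ω}

theorem smul_mem_Df (H : CountHyp M T o) {p₀ : Ω} (hp₀ : p₀ ∈ Df M o) {t : G}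
    (ht : t ∈ Qf M T) : t • p₀ ∈ Df M o := by
  obtain ⟨hpo, x₀, hx₀, rfl⟩ := mem_Df.mp hp₀
  obtain ⟨h1, h2⟩ := mem_Qf.mp ht
  apply mem_Df.mpr
  refine ⟨?_, t * x₀, M.mul_mem h1 hx₀, mul_smul _ _ _⟩
  intro e
  apply hpo
  have h3 : t • (x₀ • o) = t • o := by rw [e, H.fixT t h2]
  exact (MulAction.injective t) h3

theorem smul_injOn (H : CountHyp M T o) {p₀ : Ω} (hp₀ : p₀ ∈ Df M o) {a b : G}
    (ha : a ∈ Qf M T) (hb : b ∈ Qf M T) (e : a • p₀ = b • p₀) : a = b := by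
  obtain ⟨hpo, -⟩ := mem_Df.mp hp₀
  obtain ⟨-, haT⟩ := mem_Qf.mp ha
  obtain ⟨-, hbT⟩ := mem_Qf.mp hb
  have h1 : (b⁻¹ * a) • p₀ = p₀ := by
    rw [mul_smul, e, inv_smul_smul]
  by_contra hne
  have h2 : b⁻¹ * a ≠ 1 := by
    intro e'
    apply hne
    have : a = b * (b⁻¹ * a) := by group
    rw [this, e', mul_one]
  exact hpo (H.onlyT _ (T.mul_mem (T.inv_mem hbT) haT) h2 _ h1)

theorem one_mem_Qf : (1 : G) ∈ Qf M T := mem_Qf.mpr ⟨M.one_mem, T.one_mem⟩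

theorem count_main (H : CountHyp M T o) {p₀ : Ω} (hp₀ : p₀ ∈ Df M o)
    (hV : 2 ≤ (Vf M T).card) :
    (Df M o).card = (Qf M T).card ∧ (Sf M o).card = (Qf M T).card * (Vf M T).card ∧
      (Mf M).card = (Qf M T).card * (Vf M T).card * ((Qf M T).card + 1) := by
  have hVne : (Vf M T).Nonempty := by
    rw [← Finset.card_pos]
    omega
  obtain ⟨v₀, hv₀⟩ := hVne
  have h1 := card_Jf H
  have h2 := card_Jf_le H
  have h3 := card_Qf_le H hp₀
  have h4 := card_Sf_le (o := o) H hv₀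
  have h5 := card_Mf M o
  obtain ⟨V', hV'⟩ : ∃ V', (Vf M T).card = V' + 2 := ⟨(Vf M T).card - 2, by omega⟩
  rw [hV'] at h1 h4 ⊢
  rw [h1] at h2
  have h6 : (Df M o).card * (V' + 1) ≤ (Qf M T).card * (V' + 1) := by nlinarith
  have h7 : (Df M o).card ≤ (Qf M T).card := Nat.le_of_mul_le_mul_right h6 (by omega)
  have h8 : (Df M o).card = (Qf M T).card := le_antisymm h7 h3
  rw [h8] at h2 h5
  have h9 : (Sf M o).card = (Qf M T).card * (V' + 2) := by nlinarith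
  refine ⟨h8, h9, ?_⟩
  rw [h5, h9]

theorem regular (H : CountHyp M T o) {p₀ : Ω} (hp₀ : p₀ ∈ Df M o)
    (hcard : (Df M o).card = (Qf M T).card) :
    ∀ p ∈ Df M o, ∃ t ∈ Qf M T, t • p₀ = p := by
  have himg : (Qf M T).image (fun t => t • p₀) = Df M o := by
    apply Finset.eq_of_subset_of_card_le
    · intro p hp
      obtain ⟨t, ht, rfl⟩ := mem_image.mp hp
      exact smul_mem_Df H hp₀ ht
    · rw [Finset.card_image_of_injOn, hcard]
      intro a ha b hb e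
      exact smul_injOn H hp₀ ha hb e
  intro p hp
  rw [← himg] at hp
  obtain ⟨t, ht, e⟩ := mem_image.mp hp
  exact ⟨t, ht, e⟩

theorem card_Sf_eq (H : CountHyp M T o) {p₀ : Ω} (hp₀ : p₀ ∈ Df M o)
    (hcard : (Df M o).card = (Qf M T).card) :
    (Sf M o).card = (Qf M T).card * (Kf M o p₀).card := by
  rw [← Finset.card_product]
  symm
  apply Finset.card_bij (fun tk _ => tk.1 * tk.2)
  · intro tk htk
    obtain ⟨h1, h2⟩ := mem_product.mp htk
    obtain ⟨g1, g2⟩ := mem_Qf.mp h1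
    obtain ⟨k1, k2, k3⟩ := mem_Kf.mp h2
    exact mem_Sf.mpr ⟨M.mul_mem g1 k1, by rw [mul_smul, k2, H.fixT _ g2]⟩
  · intro tk htk tk' htk' e
    obtain ⟨h1, h2⟩ := mem_product.mp htk
    obtain ⟨h1', h2'⟩ := mem_product.mp htk'
    obtain ⟨k1, k2, k3⟩ := mem_Kf.mp h2
    obtain ⟨k1', k2', k3'⟩ := mem_Kf.mp h2'
    have e1 : tk.1 • p₀ = tk'.1 • p₀ := by
      have := congrArg (fun x => x • p₀) e
      simp only [mul_smul, k3, k3'] at this
      exact this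
    have e2 : tk.1 = tk'.1 := smul_injOn H hp₀ h1 h1' e1
    have e3 : tk.2 = tk'.2 := by
      rw [e2] at e
      exact mul_left_cancel e
    exact Prod.ext e2 e3
  · intro y hy
    obtain ⟨hyM, hyo⟩ := mem_Sf.mp hy
    obtain ⟨hpo, x₀, hx₀, hx₀p⟩ := mem_Df.mp hp₀
    have hyp : y • p₀ ∈ Df M o := by
      apply mem_Df.mpr
      refine ⟨?_, y * x₀, M.mul_mem hyM hx₀, by rw [mul_smul, hx₀p]⟩
      intro e
      apply hpo
      have : y • p₀ = y • o := by rw [e, hyo]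
      exact (MulAction.injective y) this
    obtain ⟨t, ht, e⟩ := regular H hp₀ hcard _ hyp
    obtain ⟨g1, g2⟩ := mem_Qf.mp ht
    have hto : t⁻¹ • o = o := by rw [inv_smul_eq_iff, H.fixT _ g2]
    refine ⟨(t, t⁻¹ * y), mem_product.mpr ⟨ht, mem_Kf.mpr ⟨M.mul_mem (M.inv_mem g1) hyM, ?_, ?_⟩⟩, ?_⟩
    · rw [mul_smul, hyo, hto]
    · rw [mul_smul, ← e, inv_smul_smul]
    · simp only
      group

theorem card_Kf_eq (H : CountHyp M T o) {p₀ : Ω} (hp₀ : p₀ ∈ Df M o)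
    (hV : 2 ≤ (Vf M T).card) : (Kf M o p₀).card = (Vf M T).card := by
  obtain ⟨h1, h2, -⟩ := count_main H hp₀ hV
  have h3 := card_Sf_eq H hp₀ h1
  rw [h2] at h3
  have hpos : 0 < (Qf M T).card := Finset.card_pos.mpr ⟨1, one_mem_Qf⟩
  exact (Nat.eq_of_mul_eq_mul_left hpos h3).symm

end counting

end Cfsg.Agent.Lib.Helper1.SzMax
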