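import Mathlib
import Cfsg.Agent.Lib.Helper1.SzMc
import Cfsg.Agent.Lib.Helper1.SzMe

/-!
# Suzuki groups: the involution count applies to subgroups in standard position (helper1)
-/

set_option autoImplicit false
set_option maxHeartbeats 2000000

namespace Cfsg.Agent.Lib.Helper1.SzMax

open Cfsg Cfsg.Agent.Lib.Helper14.Sz Cfsg.Agent.Lib.Helper1.SzTori

universe u

variable {F : Type u} [Field F] [Fintype F] [CharP F 2] {m : ℕ}

noncomputable def fintypeSz (F : Type u) [Field F] [Fintype F] (m : ℕ) : Fintype (Sz F m) :=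
  Fintype.ofFinite _

noncomputable def fintypeOvoid (F : Type u) [Field F] [Fintype F] (m : ℕ) :
    Fintype (suzukiOvoid F m) :=
  Fintype.ofFinite _

attribute [local instance] fintypeSz fintypeOvoid

theorem InB_one (hF : Fintype.card F = 2 ^ (2 * m + 1)) {k : Fˣ} (h : InB hF (1 : Sz F m) k) :
    k = 1 := by
  obtain ⟨a, b, e⟩ := h
  have h1 := congrArg (fun g : Sz F m => g • opt m (0 : F) 0) e
  simp only [one_smul, mul_smul, HS_opt, mul_zero, TS_opt, zero_add, add_zero] at h1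
  obtain ⟨h2, h3⟩ := opt_injective h1
  rw [← h2, ← h3, TS_zero, one_mul] at e
  apply HS_injective hF
  rw [HS_one, ← e]

theorem unit_sq_eq_one {k : Fˣ} (h : k * k = 1) : k = 1 := by
  apply Units.ext
  have h2 : (k : F) * (k : F) = 1 := by
    have := congrArg Units.val h
    rwa [Units.val_mul, Units.val_one] at this
  have h3 : ((k : F) + 1) * ((k : F) + 1) = 0 := by
    have : ((k : F) + 1) * ((k : F) + 1) = k * k + (k + k) + 1 := by ring
    rw [this, h2, CharTwo.add_self_eq_zero, add_zero, CharTwo.add_self_eq_zero]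
  have h4 := mul_self_eq_zero.mp h3
  exact CharTwo.add_eq_zero.mp h4

theorem unit_add_one_ne {k : Fˣ} (hk : k ≠ 1) : (k : F) + 1 ≠ 0 := by
  intro e
  apply hk
  apply Units.ext
  rw [Units.val_one]
  exact CharTwo.add_eq_zero.mp e

theorem sg_mul_self_ne_one (hF : Fintype.card F = 2 ^ (2 * m + 1)) {k : Fˣ} (hk : k ≠ 1) :
    sg m (k : F) * (k : F) ≠ 1 := by
  intro e
  apply hk
  apply Units.ext
  have := sg_mul_self_injective (m := m) hF (a₁ := (k : F)) (a₂ := 1) (by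
    simp only [sg_one, one_mul]
    rw [e])
  exact this

/-- the hypotheses of the count, for a subgroup whose involutions are conjugate into `T` -/
theorem countHyp_Sz (hm : 1 ≤ m) (hF : Fintype.card F = 2 ^ (2 * m + 1)) (M : Subgroup (Sz F m))
    (hsyl : ∀ u ∈ M, u ≠ 1 → u * u = 1 → ∃ x ∈ M, x⁻¹ * u * x ∈ TSub hF) :
    CountHyp M (TSub hF) (oinf F m) where
  fixT := by
    intro t ht
    obtain ⟨a, b, rfl⟩ := (mem_TSub_iff hF t).mp ht
    exact TS_oinf hF a b
  onlyT := by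
    intro t ht ht1 p hp
    obtain ⟨a, b, rfl⟩ := (mem_TSub_iff hF t).mp ht
    exact TS_fix_only hF ht1 p hp
  two := by
    intro x hx hxT p q hp hq hxp hxq
    obtain ⟨a, b, k, rfl⟩ := fix_oinf hm hF x hx
    have hk : k ≠ 1 := by
      rintro rfl
      apply hxT
      rw [HS_one, mul_one]
      exact (mem_TSub_iff hF _).mpr ⟨a, b, rfl⟩
    rcases ovoid_cases p with e | ⟨x₁, y₁, rfl⟩
    · exact absurd e hp
    rcases ovoid_cases q with e | ⟨x₂, y₂, rfl⟩
    · exact absurd e hq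
    rw [mul_smul, HS_opt, TS_opt] at hxp hxq
    obtain ⟨h1, h2⟩ := opt_injective hxp
    obtain ⟨h3, h4⟩ := opt_injective hxq
    have htwo : (2 : F) = 0 := CharTwo.two_eq_zero
    have hx12 : ((k : F) + 1) * (x₁ - x₂) = 0 := by
      linear_combination h1 - h3 + (x₁ - x₂) * htwo
    have hx : x₁ = x₂ := by
      rcases mul_eq_zero.mp hx12 with h | h
      · exact absurd h (unit_add_one_ne hk)
      · exact sub_eq_zero.mp h
    subst hx
    have hy12 : (sg m (k : F) * (k : F) - 1) * (y₁ - y₂) = 0 := by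
      linear_combination h2 - h4
    have hy : y₁ = y₂ := by
      rcases mul_eq_zero.mp hy12 with h | h
      · exact absurd (sub_eq_zero.mp h) (sg_mul_self_ne_one hF hk)
      · exact sub_eq_zero.mp h
    rw [hy]
  inv := by
    intro u hu2 huo
    obtain ⟨a, b, k, rfl⟩ := fix_oinf hm hF u huo
    have h1 : InB hF (TS hF a b * HS hF k) k := ⟨a, b, rfl⟩
    have h2 := InB_mul hF h1 h1
    rw [hu2] at h2
    have h3 := unit_sq_eq_one (InB_one hF h2)
    rw [h3, HS_one, mul_one]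
    exact (mem_TSub_iff hF _).mpr ⟨a, b, rfl⟩
  cen := by
    intro v hv hv1 y hy
    obtain ⟨a, b, rfl⟩ := (mem_TSub_iff hF v).mp hv
    apply centralizer_TS hm hF hv1
    rw [Subgroup.mem_centralizer_singleton_iff]
    have : y * TS hF a b = y * TS hF a b * y⁻¹ * y := by group
    rw [this, hy]
  syl := hsyl

/-- standard position -/
structure StdPos (hF : Fintype.card F = 2 ^ (2 * m + 1)) (M : Subgroup (Sz F m)) : Prop where
  syl : ∀ u ∈ M, u ≠ 1 → u * u = 1 → ∃ x ∈ M, x⁻¹ * u * x ∈ TSub hF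
  h01 : TS hF 0 1 ∈ M
  hb : ∃ b : F, b ≠ 0 ∧ b ≠ 1 ∧ TS hF 0 b ∈ M
  hx₀ : ∃ x ∈ M, x • oinf F m = opt m 0 0

theorem TS_zero_ne_one (hF : Fintype.card F = 2 ^ (2 * m + 1)) {b : F} (hb : b ≠ 0) :
    TS (m := m) hF 0 b ≠ 1 := by
  intro e
  rw [← TS_zero hF] at e
  exact hb (TS_injective hF e).2

theorem TS_zero_sq (hF : Fintype.card F = 2 ^ (2 * m + 1)) (b : F) :
    TS (m := m) hF 0 b * TS hF 0 b = 1 := by
  rw [TS_mul, sg_zero, zero_mul, add_zero, add_zero, CharTwo.add_self_eq_zero, TS_zero]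

theorem two_le_card_Vf (hF : Fintype.card F = 2 ^ (2 * m + 1)) {M : Subgroup (Sz F m)}
    (sp : StdPos hF M) : 2 ≤ (Vf M (TSub hF)).card := by
  classical
  obtain ⟨b, hb0, hb1, hbM⟩ := sp.hb
  have hne : TS (m := m) hF 0 1 ≠ TS hF 0 b := by
    intro e
    exact hb1 (TS_injective hF e).2.symm
  rw [← Finset.card_pair hne]
  apply Finset.card_le_card
  intro x hx
  rcases Finset.mem_insert.mp hx with rfl | hx
  · exact mem_Vf.mpr ⟨sp.h01, (mem_TSub_iff hF _).mpr ⟨0, 1, rfl⟩, TS_zero_ne_one hF one_ne_zero,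
      TS_zero_sq hF 1⟩
  · rw [Finset.mem_singleton] at hx
    subst hx
    exact mem_Vf.mpr ⟨hbM, (mem_TSub_iff hF _).mpr ⟨0, b, rfl⟩, TS_zero_ne_one hF hb0,
      TS_zero_sq hF b⟩

theorem zero_mem_Df (hF : Fintype.card F = 2 ^ (2 * m + 1)) {M : Subgroup (Sz F m)}
    (sp : StdPos hF M) : opt m (0 : F) 0 ∈ Df M (oinf F m) := by
  obtain ⟨x, hx, e⟩ := sp.hx₀
  exact mem_Df.mpr ⟨opt_ne_oinf 0 0, x, hx, e⟩

/-- the unipotent part acts regularly on the rest of the orbit -/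
theorem std_regular (hm : 1 ≤ m) (hF : Fintype.card F = 2 ^ (2 * m + 1)) {M : Subgroup (Sz F m)}
    (sp : StdPos hF M) (x : Sz F m) (hx : x ∈ M) (hxo : x • oinf F m ≠ oinf F m) :
    ∃ a b : F, TS hF a b ∈ M ∧ x • oinf F m = opt m a b := by
  have H := countHyp_Sz hm hF M sp.syl
  obtain ⟨h1, -, -⟩ := count_main H (zero_mem_Df hF sp) (two_le_card_Vf hF sp)
  obtain ⟨t, ht, e⟩ := regular H (zero_mem_Df hF sp) h1 (x • oinf F m)
    (mem_Df.mpr ⟨hxo, x, hx, rfl⟩)
  obtain ⟨htM, htT⟩ := mem_Qf.mp ht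
  obtain ⟨a, b, rfl⟩ := (mem_TSub_iff hF t).mp htT
  refine ⟨a, b, htM, ?_⟩
  rw [← e, TS_opt]
  simp

theorem std_card_K (hm : 1 ≤ m) (hF : Fintype.card F = 2 ^ (2 * m + 1)) {M : Subgroup (Sz F m)}
    (sp : StdPos hF M) :
    (Kf M (oinf F m) (opt m 0 0)).card = (Vf M (TSub hF)).card :=
  card_Kf_eq (countHyp_Sz hm hF M sp.syl) (zero_mem_Df hF sp) (two_le_card_Vf hF sp)

theorem std_card_M (hm : 1 ≤ m) (hF : Fintype.card F = 2 ^ (2 * m + 1)) {M : Subgroup (Sz F m)}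
    (sp : StdPos hF M) :
    (Mf M).card = (Qf M (TSub hF)).card * (Vf M (TSub hF)).card * ((Qf M (TSub hF)).card + 1) :=
  (count_main (countHyp_Sz hm hF M sp.syl) (zero_mem_Df hF sp) (two_le_card_Vf hF sp)).2.2

end Cfsg.Agent.Lib.Helper1.SzMax
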