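import Mathlib
import Cfsg.Agent.Lib.Helper1.SzMf

/-!
# Suzuki groups: the torus part and the centre part of a subgroup in standard position (helper1)
-/

set_option autoImplicit false
set_option maxHeartbeats 2000000

namespace Cfsg.Agent.Lib.Helper1.SzMax

open Cfsg Cfsg.Agent.Lib.Helper14.Sz Cfsg.Agent.Lib.Helper1.SzTori

universe u

variable {F : Type u} [Field F] [Fintype F] [CharP F 2] {m : ℕ}

attribute [local instance] fintypeSz fintypeOvoid

/-- the torus part -/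
def Cgrp (hF : Fintype.card F = 2 ^ (2 * m + 1)) (M : Subgroup (Sz F m)) : Subgroup Fˣ where
  carrier := {c | HS hF c ∈ M}
  one_mem' := by
    rw [Set.mem_setOf_eq, HS_one]
    exact M.one_mem
  mul_mem' := by
    intro a b ha hb
    rw [Set.mem_setOf_eq, HS_mul]
    exact M.mul_mem ha hb
  inv_mem' := by
    intro a ha
    rw [Set.mem_setOf_eq, ← HS_inv]
    exact M.inv_mem ha

theorem mem_Cgrp (hF : Fintype.card F = 2 ^ (2 * m + 1)) (M : Subgroup (Sz F m)) (c : Fˣ) :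
    c ∈ Cgrp hF M ↔ HS hF c ∈ M := Iff.rfl

/-- the centre part -/
def Zgrp (hF : Fintype.card F = 2 ^ (2 * m + 1)) (M : Subgroup (Sz F m)) : AddSubgroup F where
  carrier := {b | TS hF 0 b ∈ M}
  zero_mem' := by
    rw [Set.mem_setOf_eq, TS_zero]
    exact M.one_mem
  add_mem' := by
    intro a b ha hb
    rw [Set.mem_setOf_eq]
    have := M.mul_mem ha hb
    rw [TS_mul, sg_zero, zero_mul, add_zero, add_zero] at this
    exact this
  neg_mem' := by
    intro a ha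
    rw [CharTwo.neg_eq]
    exact ha

theorem mem_Zgrp (hF : Fintype.card F = 2 ^ (2 * m + 1)) (M : Subgroup (Sz F m)) (b : F) :
    b ∈ Zgrp hF M ↔ TS hF 0 b ∈ M := Iff.rfl

theorem card_Cgrp (hm : 1 ≤ m) (hF : Fintype.card F = 2 ^ (2 * m + 1)) (M : Subgroup (Sz F m)) :
    Nat.card (Cgrp hF M) = (Kf M (oinf F m) (opt m 0 0)).card := by
  classical
  rw [Nat.card_eq_fintype_card, ← Finset.card_univ]
  apply Finset.card_bij (fun (c : ↥(Cgrp hF M)) _ => HS hF (c : Fˣ))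
  · intro c _
    refine mem_Kf.mpr ⟨c.2, HS_oinf hF _, ?_⟩
    rw [HS_opt, mul_zero, mul_zero]
  · intro a _ b _ e
    exact Subtype.ext (HS_injective hF e)
  · intro x hx
    obtain ⟨h1, h2, h3⟩ := mem_Kf.mp hx
    obtain ⟨k, rfl⟩ := eq_HS_of_fix hm hF x h2 h3
    exact ⟨⟨k, h1⟩, Finset.mem_univ _, rfl⟩

theorem card_Zgrp (hF : Fintype.card F = 2 ^ (2 * m + 1)) (M : Subgroup (Sz F m)) :
    Nat.card (Zgrp hF M) = (Vf M (TSub hF)).card + 1 := by
  classical
  have hnot : (1 : Sz F m) ∉ Vf M (TSub hF) := fun h => (mem_Vf.mp h).2.2.1 rfl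
  rw [← Finset.card_insert_of_notMem hnot, Nat.card_eq_fintype_card, ← Finset.card_univ]
  apply Finset.card_bij (fun (b : ↥(Zgrp hF M)) _ => TS hF 0 (b : F))
  · intro b _
    by_cases hb : (b : F) = 0
    · rw [hb, TS_zero]
      exact Finset.mem_insert_self _ _
    · apply Finset.mem_insert_of_mem
      exact mem_Vf.mpr ⟨b.2, (mem_TSub_iff hF _).mpr ⟨0, b, rfl⟩, TS_zero_ne_one hF hb,
        TS_zero_sq hF b⟩
  · intro a _ b _ e
    exact Subtype.ext (TS_injective hF e).2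
  · intro x hx
    rcases Finset.mem_insert.mp hx with rfl | hx
    · exact ⟨0, Finset.mem_univ _, TS_zero hF⟩
    · obtain ⟨h1, h2, h3, h4⟩ := mem_Vf.mp hx
      obtain ⟨a, b, rfl⟩ := (mem_TSub_iff hF x).mp h2
      have ha : a = 0 := (Cfsg.Agent.Lib.Helper1.SzSub.TS_sq_eq_one_iff hF a b).mp h4
      subst ha
      exact ⟨⟨b, h1⟩, Finset.mem_univ _, rfl⟩

theorem two_pow_sub_one_dvd {j n : ℕ} (h : 2 ^ j - 1 ∣ 2 ^ n - 1) : j ∣ n := by
  have h1 := Nat.pow_sub_one_gcd_pow_sub_one 2 j n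
  rw [Nat.gcd_eq_left h] at h1
  have h2 : 2 ^ j = 2 ^ (j.gcd n) := by
    have p1 : 1 ≤ 2 ^ j := Nat.one_le_two_pow
    have p2 : 1 ≤ 2 ^ (j.gcd n) := Nat.one_le_two_pow
    omega
  have h3 : j = j.gcd n := Nat.pow_right_injective (le_refl 2) h2
  rw [h3]
  exact Nat.gcd_dvd_right j n

/-- the orders of the centre part and the torus part -/
theorem std_field (hm : 1 ≤ m) (hF : Fintype.card F = 2 ^ (2 * m + 1)) {M : Subgroup (Sz F m)}
    (sp : StdPos hF M) :
    ∃ k : ℕ, 1 ≤ k ∧ 2 * k + 1 ∣ 2 * m + 1 ∧ Nat.card (Zgrp hF M) = 2 ^ (2 * k + 1) ∧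
      Nat.card (Cgrp hF M) = 2 ^ (2 * k + 1) - 1 ∧
      (Vf M (TSub hF)).card = 2 ^ (2 * k + 1) - 1 := by
  have hZ := card_Zgrp hF M
  have hC := card_Cgrp hm hF M
  rw [std_card_K hm hF sp] at hC
  have hV := two_le_card_Vf hF sp
  have hdvd : Nat.card (Zgrp hF M) ∣ 2 ^ (2 * m + 1) := by
    have := AddSubgroup.card_addSubgroup_dvd_card (Zgrp hF M)
    rwa [Nat.card_eq_fintype_card (α := F), hF] at this
  obtain ⟨j, hj, hZj⟩ := (Nat.dvd_prime_pow Nat.prime_two).mp hdvd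
  have hCj : Nat.card (Cgrp hF M) = 2 ^ j - 1 := by
    rw [hC]
    omega
  have hdvd2 : 2 ^ j - 1 ∣ 2 ^ (2 * m + 1) - 1 := by
    have := Subgroup.card_subgroup_dvd_card (Cgrp hF M)
    rwa [Nat.card_units, Nat.card_eq_fintype_card (α := F), hF, hCj] at this
  have hjn : j ∣ 2 * m + 1 := two_pow_sub_one_dvd hdvd2
  have hj2 : 2 ≤ j := by
    by_contra hlt
    have : j = 0 ∨ j = 1 := by omega
    rcases this with rfl | rfl
    · rw [pow_zero] at hZj
      omega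
    · rw [pow_one] at hZj
      omega
  have hjodd : Odd j := by
    have : Odd (2 * m + 1) := ⟨m, rfl⟩
    exact Odd.of_dvd_nat this hjn
  obtain ⟨k, rfl⟩ := hjodd
  refine ⟨k, by omega, hjn, hZj, hCj, ?_⟩
  rw [← hC]
  exact hCj

/-- elements of the torus part lie in the subfield -/
theorem Cgrp_pow (hF : Fintype.card F = 2 ^ (2 * m + 1)) {M : Subgroup (Sz F m)} {j : ℕ}
    (hC : Nat.card (Cgrp hF M) = 2 ^ j - 1) {c : Fˣ} (hc : c ∈ Cgrp hF M) :
    (c : F) ^ 2 ^ j = c := by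
  have h1 : (⟨c, hc⟩ : Cgrp hF M) ^ Nat.card (Cgrp hF M) = 1 := pow_card_eq_one'
  have h2 : c ^ (2 ^ j - 1) = 1 := by
    have := congrArg Subtype.val h1
    rwa [hC] at this
  have h3 : (c : F) ^ (2 ^ j - 1) = 1 := by
    have := congrArg Units.val h2
    rwa [Units.val_pow_eq_pow_val, Units.val_one] at this
  have h4 : 2 ^ j = (2 ^ j - 1) + 1 := by
    have : 1 ≤ 2 ^ j := Nat.one_le_two_pow
    omega
  rw [h4, pow_succ, h3, one_mul]

/-- the torus part contains all units of the subfield -/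
theorem mem_Cgrp_of_pow (hF : Fintype.card F = 2 ^ (2 * m + 1)) {M : Subgroup (Sz F m)} {j : ℕ}
    (hj : 1 ≤ j) (hC : Nat.card (Cgrp hF M) = 2 ^ j - 1) {c : Fˣ} (hc : (c : F) ^ 2 ^ j = c) :
    c ∈ Cgrp hF M := by
  classical
  have hpos : 0 < 2 ^ j - 1 := by
    have : 2 ^ 1 ≤ 2 ^ j := Nat.pow_le_pow_right (by norm_num) hj
    omega
  have h1 := IsCyclic.card_pow_eq_one_le (α := Fˣ) hpos
  have hsub : (Finset.univ.filter (fun a : Fˣ => a ∈ Cgrp hF M)) ⊆
      Finset.univ.filter (fun a : Fˣ => a ^ (2 ^ j - 1) = 1) := by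
    intro a ha
    rw [Finset.mem_filter] at ha ⊢
    refine ⟨Finset.mem_univ _, ?_⟩
    have h2 : (⟨a, ha.2⟩ : Cgrp hF M) ^ Nat.card (Cgrp hF M) = 1 := pow_card_eq_one'
    have := congrArg Subtype.val h2
    rwa [hC] at this
  have hcard : (Finset.univ.filter (fun a : Fˣ => a ∈ Cgrp hF M)).card = 2 ^ j - 1 := by
    rw [← hC, Nat.card_eq_fintype_card, Fintype.card_subtype]
  have heq := Finset.eq_of_subset_of_card_le hsub (by rw [hcard]; exact h1)
  have hmem : c ∈ Finset.univ.filter (fun a : Fˣ => a ^ (2 ^ j - 1) = 1) := by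
    rw [Finset.mem_filter]
    refine ⟨Finset.mem_univ _, ?_⟩
    apply Units.ext
    rw [Units.val_pow_eq_pow_val, Units.val_one]
    have h4 : 2 ^ j = (2 ^ j - 1) + 1 := by
      have : 1 ≤ 2 ^ j := Nat.one_le_two_pow
      omega
    rw [h4, pow_succ] at hc
    have hc0 : (c : F) ≠ 0 := c.ne_zero
    have h5 : (c : F) ^ (2 ^ j - 1) * (c : F) = 1 * (c : F) := by rw [hc, one_mul]
    exact mul_right_cancel₀ hc0 h5
  rw [← heq, Finset.mem_filter] at hmem
  exact hmem.2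

end Cfsg.Agent.Lib.Helper1.SzMax
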