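import Mathlib
import Cfsg.Agent.Lib.Helper1.SzMg

/-!
# Suzuki groups: the unipotent part of a subgroup in standard position (helper1)
-/

set_option autoImplicit false
set_option maxHeartbeats 2000000

namespace Cfsg.Agent.Lib.Helper1.SzMax

open Cfsg Cfsg.Agent.Lib.Helper14.Sz Cfsg.Agent.Lib.Helper1.SzTori

universe u

variable {F : Type u} [Field F] [Fintype F] [CharP F 2] {m : ℕ}

attribute [local instance] fintypeSz fintypeOvoid

/-- membership in the subfield of order `2^(2k+1)` -/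
def InK (k : ℕ) (x : F) : Prop := x ^ 2 ^ (2 * k + 1) = x

omit [Fintype F] in
theorem InK_zero (k : ℕ) : InK k (0 : F) := zero_pow (by positivity)

omit [Fintype F] [CharP F 2] in
theorem InK_one (k : ℕ) : InK k (1 : F) := one_pow _

omit [Fintype F] in
theorem InK_add {k : ℕ} {x y : F} (hx : InK k x) (hy : InK k y) : InK k (x + y) := by
  unfold InK at *
  rw [add_pow_char_pow, hx, hy]

omit [Fintype F] [CharP F 2] in
theorem InK_mul {k : ℕ} {x y : F} (hx : InK k x) (hy : InK k y) : InK k (x * y) := by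
  unfold InK at *
  rw [mul_pow, hx, hy]

omit [Fintype F] [CharP F 2] in
theorem InK_inv {k : ℕ} {x : F} (hx : InK k x) : InK k x⁻¹ := by
  unfold InK at *
  rw [inv_pow, hx]

omit [Fintype F] [CharP F 2] in
theorem InK_sg {k : ℕ} {x : F} (hx : InK k x) : InK k (sg m x) := by
  unfold InK sg at *
  rw [pow_right_comm, hx]

omit [Fintype F] [CharP F 2] in
theorem InK_of_mul {k : ℕ} {e x : F} (he : InK k e) (he0 : e ≠ 0) (h : InK k (e * x)) :
    InK k x := by
  have := InK_mul (InK_inv he) h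
  rwa [inv_mul_cancel_left₀ he0] at this

/-- numerical data of a subgroup in standard position -/
structure FieldData (hF : Fintype.card F = 2 ^ (2 * m + 1)) (M : Subgroup (Sz F m)) (k : ℕ) :
    Prop where
  hk : 1 ≤ k
  hdiv : 2 * k + 1 ∣ 2 * m + 1
  hZ : Nat.card (Zgrp hF M) = 2 ^ (2 * k + 1)
  hC : Nat.card (Cgrp hF M) = 2 ^ (2 * k + 1) - 1

variable {hF : Fintype.card F = 2 ^ (2 * m + 1)} {M : Subgroup (Sz F m)} {k : ℕ}

theorem InK_of_mem_C (fd : FieldData hF M k) {c : Fˣ} (hc : c ∈ Cgrp hF M) : InK k (c : F) :=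
  Cgrp_pow hF fd.hC hc

theorem mem_C_of_InK (fd : FieldData hF M k) {c : Fˣ} (hc : InK k (c : F)) : c ∈ Cgrp hF M :=
  mem_Cgrp_of_pow hF (by omega) fd.hC hc

theorem conj_mem (sp : StdPos hF M) {c : Fˣ} (hc : c ∈ Cgrp hF M) {a b : F}
    (h : TS hF a b ∈ M) : TS hF ((c : F) * a) (sg m (c : F) * (c : F) * b) ∈ M := by
  rw [← conj_HS_TS]
  exact M.mul_mem (M.mul_mem hc h) (M.inv_mem hc)

/-- every nonzero element of the centre part is `c^(1+θ)` for `c` in the torus part -/
theorem Z_surj (sp : StdPos hF M) (fd : FieldData hF M k) {b : F} (hb : b ∈ Zgrp hF M)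
    (hb0 : b ≠ 0) : ∃ c ∈ Cgrp hF M, b = sg m (c : F) * (c : F) := by
  classical
  have himg : (Finset.univ.filter (fun c : Fˣ => c ∈ Cgrp hF M)).image
      (fun c : Fˣ => sg m (c : F) * (c : F)) =
      (Finset.univ.filter (fun b : F => b ∈ Zgrp hF M)).erase 0 := by
    apply Finset.eq_of_subset_of_card_le
    · intro x hx
      obtain ⟨c, hc, rfl⟩ := Finset.mem_image.mp hx
      rw [Finset.mem_filter] at hc
      rw [Finset.mem_erase, Finset.mem_filter]
      refine ⟨?_, Finset.mem_univ _, ?_⟩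
      · exact mul_ne_zero ((sg_eq_zero_iff m _).not.mpr c.ne_zero) c.ne_zero
      · have := conj_mem sp hc.2 sp.h01
        rwa [mul_zero, mul_one] at this
    · rw [Finset.card_image_of_injective, Finset.card_erase_of_mem]
      · have h1 : (Finset.univ.filter (fun b : F => b ∈ Zgrp hF M)).card = 2 ^ (2 * k + 1) := by
          rw [← fd.hZ, Nat.card_eq_fintype_card, Fintype.card_subtype]
        have h2 : (Finset.univ.filter (fun c : Fˣ => c ∈ Cgrp hF M)).card = 2 ^ (2 * k + 1) - 1 := by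
          rw [← fd.hC, Nat.card_eq_fintype_card, Fintype.card_subtype]
        rw [h1, h2]
      · rw [Finset.mem_filter]
        exact ⟨Finset.mem_univ _, (Zgrp hF M).zero_mem⟩
      · intro c c' e
        exact Units.ext (sg_mul_self_injective (m := m) hF e)
  have hmem : b ∈ (Finset.univ.filter (fun b : F => b ∈ Zgrp hF M)).erase 0 := by
    rw [Finset.mem_erase, Finset.mem_filter]
    exact ⟨hb0, Finset.mem_univ _, hb⟩
  rw [← himg] at hmem
  obtain ⟨c, hc, e⟩ := Finset.mem_image.mp hmem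
  rw [Finset.mem_filter] at hc
  exact ⟨c, hc.2, e.symm⟩

theorem Z_sub (sp : StdPos hF M) (fd : FieldData hF M k) {b : F} (hb : b ∈ Zgrp hF M) :
    InK k b := by
  by_cases hb0 : b = 0
  · rw [hb0]
    exact InK_zero k
  · obtain ⟨c, hc, rfl⟩ := Z_surj sp fd hb hb0
    exact InK_mul (InK_sg (InK_of_mem_C fd hc)) (InK_of_mem_C fd hc)

theorem Z_eq (sp : StdPos hF M) (fd : FieldData hF M k) {x : F} (hx : InK k x) :
    x ∈ Zgrp hF M := by
  classical
  have hsub : (Finset.univ.filter (fun b : F => b ∈ Zgrp hF M)) ⊆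
      insert 0 ((Finset.univ.filter (fun c : Fˣ => c ∈ Cgrp hF M)).image
        (fun c : Fˣ => (c : F))) := by
    intro b hb
    rw [Finset.mem_filter] at hb
    by_cases hb0 : b = 0
    · rw [hb0]
      exact Finset.mem_insert_self _ _
    · apply Finset.mem_insert_of_mem
      apply Finset.mem_image.mpr
      refine ⟨Units.mk0 b hb0, ?_, rfl⟩
      rw [Finset.mem_filter]
      exact ⟨Finset.mem_univ _, mem_C_of_InK fd (Z_sub sp fd hb.2)⟩
  have h1 : (Finset.univ.filter (fun b : F => b ∈ Zgrp hF M)).card = 2 ^ (2 * k + 1) := by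
    rw [← fd.hZ, Nat.card_eq_fintype_card, Fintype.card_subtype]
  have h2 : (Finset.univ.filter (fun c : Fˣ => c ∈ Cgrp hF M)).card = 2 ^ (2 * k + 1) - 1 := by
    rw [← fd.hC, Nat.card_eq_fintype_card, Fintype.card_subtype]
  have hcard : (insert 0 ((Finset.univ.filter (fun c : Fˣ => c ∈ Cgrp hF M)).image
      (fun c : Fˣ => (c : F)))).card ≤ 2 ^ (2 * k + 1) := by
    refine (Finset.card_insert_le _ _).trans ?_
    have := Finset.card_image_le (s := Finset.univ.filter (fun c : Fˣ => c ∈ Cgrp hF M))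
      (f := fun c : Fˣ => (c : F))
    have p1 : 1 ≤ 2 ^ (2 * k + 1) := Nat.one_le_two_pow
    omega
  have heq := Finset.eq_of_subset_of_card_le hsub (by rw [h1]; exact hcard)
  have hmem : x ∈ insert 0 ((Finset.univ.filter (fun c : Fˣ => c ∈ Cgrp hF M)).image
      (fun c : Fˣ => (c : F))) := by
    by_cases hx0 : x = 0
    · rw [hx0]
      exact Finset.mem_insert_self _ _
    · apply Finset.mem_insert_of_mem
      apply Finset.mem_image.mpr
      refine ⟨Units.mk0 x hx0, ?_, rfl⟩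
      rw [Finset.mem_filter]
      exact ⟨Finset.mem_univ _, mem_C_of_InK fd hx⟩
  rw [← heq, Finset.mem_filter] at hmem
  exact hmem.2

/-- the first coordinate of an element of the unipotent part lies in the torus part -/
theorem A_sub (sp : StdPos hF M) (fd : FieldData hF M k) {a b : F} (h : TS hF a b ∈ M)
    (ha : a ≠ 0) : Units.mk0 a ha ∈ Cgrp hF M := by
  have h1 := M.mul_mem h h
  rw [Cfsg.Agent.Lib.Helper1.SzSub.TS_sq] at h1
  have h2 : sg m a * a ≠ 0 := mul_ne_zero ((sg_eq_zero_iff m _).not.mpr ha) ha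
  obtain ⟨c, hc, e⟩ := Z_surj sp fd ((mem_Zgrp hF M _).mpr h1) h2
  have h3 : a = (c : F) := sg_mul_self_injective (m := m) hF e
  have h4 : Units.mk0 a ha = c := Units.ext h3
  rw [h4]
  exact hc

theorem A_InK (sp : StdPos hF M) (fd : FieldData hF M k) {a b : F} (h : TS hF a b ∈ M) :
    InK k a := by
  by_cases ha : a = 0
  · rw [ha]
    exact InK_zero k
  · exact InK_of_mem_C fd (A_sub sp fd h ha)

theorem same_first {a y₁ y₂ : F} (h1 : TS hF a y₁ ∈ M) (h2 : TS hF a y₂ ∈ M) :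
    y₁ + y₂ ∈ Zgrp hF M := by
  have h3 := M.mul_mem h1 (M.inv_mem h2)
  rw [TS_inv, TS_mul, CharTwo.add_self_eq_zero] at h3
  have : y₁ + (y₂ + sg m a * a) + sg m a * a = y₁ + y₂ := by
    have htwo : (2 : F) = 0 := CharTwo.two_eq_zero
    linear_combination (sg m a * a) * htwo
  rw [this] at h3
  exact h3

/-- the second coordinate of an element of the unipotent part with first coordinate `1` -/
theorem B_sub_one (sp : StdPos hF M) (fd : FieldData hF M k)
    (hc₀ : ∃ c₀ : F, InK k c₀ ∧ sg m c₀ ≠ c₀) {b : F} (h : TS hF 1 b ∈ M) : InK k b := by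
  obtain ⟨c₀, hc₀K, hc₀sg⟩ := hc₀
  have hc₀0 : c₀ ≠ 0 := by
    rintro rfl
    exact hc₀sg (sg_zero m)
  have hc₀1 : c₀ ≠ 1 := by
    rintro rfl
    exact hc₀sg (sg_one m)
  have hcC : Units.mk0 c₀ hc₀0 ∈ Cgrp hF M := mem_C_of_InK fd hc₀K
  have h1 := conj_mem sp hcC h
  rw [Units.val_mk0, mul_one] at h1
  have h2 := M.mul_mem h h1
  rw [TS_mul, sg_one, one_mul] at h2
  have hd0 : 1 + c₀ ≠ 0 := by
    intro e
    apply hc₀1
    exact (CharTwo.add_eq_zero.mp e).symm
  have hdK : InK k (1 + c₀) := InK_add (InK_one k) hc₀K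
  have hdC : Units.mk0 (1 + c₀) hd0 ∈ Cgrp hF M := mem_C_of_InK fd hdK
  have h3 := conj_mem sp hdC h
  rw [Units.val_mk0, mul_one] at h3
  have h4 := Z_sub sp fd (same_first h2 h3)
  have htwo : (2 : F) = 0 := CharTwo.two_eq_zero
  have h5 : b + sg m c₀ * c₀ * b + c₀ + sg m (1 + c₀) * (1 + c₀) * b =
      (c₀ + sg m c₀) * b + c₀ := by
    rw [sg_add, sg_one]
    linear_combination (b + sg m c₀ * c₀ * b) * htwo
  rw [h5] at h4
  have h6 : InK k ((c₀ + sg m c₀) * b) := by
    have := InK_add h4 hc₀K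
    have e : (c₀ + sg m c₀) * b + c₀ + c₀ = (c₀ + sg m c₀) * b := by
      linear_combination c₀ * htwo
    rwa [e] at this
  have he0 : c₀ + sg m c₀ ≠ 0 := by
    intro e
    apply hc₀sg
    exact (CharTwo.add_eq_zero.mp e).symm
  exact InK_of_mul (InK_add hc₀K (InK_sg hc₀K)) he0 h6

theorem B_sub (sp : StdPos hF M) (fd : FieldData hF M k)
    (hc₀ : ∃ c₀ : F, InK k c₀ ∧ sg m c₀ ≠ c₀) {a b : F} (h : TS hF a b ∈ M) : InK k b := by
  by_cases ha : a = 0
  · subst ha
    exact Z_sub sp fd ((mem_Zgrp hF M b).mpr h)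
  · have hC := A_sub sp fd h ha
    have hC' := (Cgrp hF M).inv_mem hC
    have h1 := conj_mem sp hC' h
    have e1 : ((Units.mk0 a ha)⁻¹ : Fˣ) = Units.mk0 a⁻¹ (inv_ne_zero ha) := by
      apply Units.ext
      simp
    rw [e1, Units.val_mk0, inv_mul_cancel₀ ha] at h1
    have h2 := B_sub_one sp fd hc₀ h1
    have haK : InK k a := InK_of_mem_C fd hC
    have h3 : InK k (sg m a⁻¹ * a⁻¹) := InK_mul (InK_sg (InK_inv haK)) (InK_inv haK)
    have h30 : sg m a⁻¹ * a⁻¹ ≠ 0 :=
      mul_ne_zero ((sg_eq_zero_iff m _).not.mpr (inv_ne_zero ha)) (inv_ne_zero ha)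
    exact InK_of_mul h3 h30 h2

end Cfsg.Agent.Lib.Helper1.SzMax
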