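import Mathlib
import Cfsg.Agent.Lib.Helper1.SzMh

/-!
# Suzuki groups: a subgroup in standard position lies in a subfield subgroup (helper1)
-/

set_option autoImplicit false
set_option maxHeartbeats 2000000

namespace Cfsg.Agent.Lib.Helper1.SzMax

open Cfsg Cfsg.Agent.Lib.Helper14.Sz Cfsg.Agent.Lib.Helper1.SzTori

universe u

variable {F : Type u} [Field F] [Fintype F] [CharP F 2] {m : ℕ}

attribute [local instance] fintypeSz fintypeOvoid

variable {hF : Fintype.card F = 2 ^ (2 * m + 1)} {M : Subgroup (Sz F m)} {k : ℕ}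

theorem std_fix_decomp (hm : 1 ≤ m) (sp : StdPos hF M) {x : Sz F m} (hx : x ∈ M)
    (hxo : x • oinf F m = oinf F m) :
    ∃ (a b : F) (c : Fˣ), x = TS hF a b * HS hF c ∧ TS hF a b ∈ M ∧ HS hF c ∈ M := by
  obtain ⟨a, b, c, rfl⟩ := fix_oinf hm hF x hxo
  obtain ⟨x₀, hx₀, e₀⟩ := sp.hx₀
  have h1 : (TS hF a b * HS hF c * x₀) • oinf F m = opt m a b := by
    rw [mul_smul, e₀, mul_smul, HS_opt, mul_zero, mul_zero, TS_opt]
    simp
  have h2 : (TS hF a b * HS hF c * x₀) • oinf F m ≠ oinf F m := by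
    rw [h1]
    exact opt_ne_oinf a b
  obtain ⟨a', b', hM', e'⟩ := std_regular hm hF sp _ (M.mul_mem hx hx₀) h2
  rw [h1] at e'
  obtain ⟨rfl, rfl⟩ := opt_injective e'
  refine ⟨a, b, c, rfl, hM', ?_⟩
  have : HS hF c = (TS hF a b)⁻¹ * (TS hF a b * HS hF c) := by group
  rw [this]
  exact M.mul_mem (M.inv_mem hM') hx

theorem std_swap (hm : 1 ≤ m) (sp : StdPos hF M) :
    ∃ u ∈ M, ∃ l : Fˣ, u = WS hF * HS hF l := by
  obtain ⟨x₀, hx₀, e₀⟩ := sp.hx₀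
  have h1 : x₀⁻¹ • oinf F m ≠ oinf F m := by
    intro e
    rw [inv_smul_eq_iff, e₀] at e
    exact opt_ne_oinf 0 0 e.symm
  obtain ⟨a₁, b₁, hM₁, e₁⟩ := std_regular hm hF sp _ (M.inv_mem hx₀) h1
  have hu1 : (x₀ * TS hF a₁ b₁) • oinf F m = opt m 0 0 := by
    rw [mul_smul, TS_oinf, e₀]
  have hu2 : (x₀ * TS hF a₁ b₁) • opt m (0 : F) 0 = oinf F m := by
    rw [mul_smul, TS_opt]
    simp only [zero_add, mul_zero, add_zero]
    rw [← e₁, smul_inv_smul]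
  obtain ⟨l, hl⟩ := eq_HS_of_fix hm hF (WS hF * (x₀ * TS hF a₁ b₁))
    (by rw [mul_smul, hu1, WS_opt_zero]) (by rw [mul_smul, hu2, WS_oinf])
  refine ⟨x₀ * TS hF a₁ b₁, M.mul_mem hx₀ hM₁, l, ?_⟩
  rw [← hl, ← mul_assoc, WS_mul_self, one_mul]

theorem std_l_mem (hm : 1 ≤ m) (sp : StdPos hF M) (fd : FieldData hF M k)
    (h10 : TS hF 1 0 ∈ M) {l : Fˣ} (hu : WS hF * HS hF l ∈ M) : l ∈ Cgrp hF M := by
  obtain ⟨x₀, hx₀, e₀⟩ := sp.hx₀
  have hl0 : (l : F) ≠ 0 := l.ne_zero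
  have hffl : ff m (l : F) 0 ≠ 0 := by
    rw [Cfsg.Agent.Lib.Helper1.SzSub.ff_x_zero]
    exact mul_ne_zero ((sg_eq_zero_iff m _).not.mpr hl0) (pow_ne_zero _ hl0)
  have h1 : (WS hF * HS hF l * TS hF 1 0 * x₀) • oinf F m =
      opt m 0 ((l : F) / (sg m (l : F) * (l : F) ^ 2)) := by
    rw [mul_smul, e₀, mul_smul, TS_opt, mul_smul, HS_opt]
    simp only [zero_add, mul_zero, add_zero, mul_one]
    rw [Cfsg.Agent.Lib.Helper1.SzSub.WS_opt hF _ _ hffl, zero_div,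
      Cfsg.Agent.Lib.Helper1.SzSub.ff_x_zero]
  have h2 : (WS hF * HS hF l * TS hF 1 0 * x₀) • oinf F m ≠ oinf F m := by
    rw [h1]
    exact opt_ne_oinf _ _
  obtain ⟨a', b', hM', e'⟩ := std_regular hm hF sp _ (M.mul_mem (M.mul_mem hu h10) hx₀) h2
  rw [h1] at e'
  obtain ⟨rfl, rfl⟩ := opt_injective e'
  have hbZ : (l : F) / (sg m (l : F) * (l : F) ^ 2) ∈ Zgrp hF M := (mem_Zgrp hF M _).mpr hM'
  have hbK := InK_inv (Z_sub sp fd hbZ)
  have hsl0 : sg m (l : F) ≠ 0 := (sg_eq_zero_iff m _).not.mpr hl0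
  have e1 : ((l : F) / (sg m (l : F) * (l : F) ^ 2))⁻¹ = sg m (l : F) * (l : F) := by
    field_simp
  rw [e1] at hbK
  have h3 : sg m (l : F) * (l : F) ≠ 0 := mul_ne_zero hsl0 hl0
  obtain ⟨c, hc, e⟩ := Z_surj sp fd (Z_eq sp fd hbK) h3
  have h4 : (l : F) = (c : F) := sg_mul_self_injective (m := m) hF e
  have h5 : l = c := Units.ext h4
  rw [h5]
  exact hc

theorem std_decomp2 (hm : 1 ≤ m) (sp : StdPos hF M) {u : Sz F m} (hu : u ∈ M)
    (huo : u • oinf F m = opt m 0 0) {x : Sz F m} (hx : x ∈ M)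
    (hxo : x • oinf F m ≠ oinf F m) :
    ∃ a b : F, TS hF a b ∈ M ∧ ∃ y ∈ M, y • oinf F m = oinf F m ∧ x = TS hF a b * u * y := by
  obtain ⟨a, b, hM', e⟩ := std_regular hm hF sp x hx hxo
  refine ⟨a, b, hM', u⁻¹ * (TS hF a b)⁻¹ * x,
    M.mul_mem (M.mul_mem (M.inv_mem hu) (M.inv_mem hM')) hx, ?_, by group⟩
  have h1 : TS hF a b • opt m (0 : F) 0 = opt m a b := by
    rw [TS_opt]
    simp
  rw [mul_smul, mul_smul, e, ← h1, inv_smul_smul, inv_smul_eq_iff, huo]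

/-- the case where the unipotent part is not elementary abelian -/
theorem std_caseA (hm : 1 ≤ m) (sp : StdPos hF M) (fd : FieldData hF M k)
    (hc₀ : ∃ c₀ : F, InK k c₀ ∧ sg m c₀ ≠ c₀)
    (hA : ∃ a b : F, a ≠ 0 ∧ TS hF a b ∈ M) :
    (∀ a b : F, InK k a → InK k b → TS hF a b ∈ M) ∧
    (∀ c : Fˣ, InK k (c : F) → HS hF c ∈ M) ∧ WS hF ∈ M ∧
    (∀ x ∈ M, (∃ (a b : F) (c : Fˣ), InK k a ∧ InK k b ∧ InK k (c : F) ∧
        x = TS hF a b * HS hF c) ∨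
      (∃ (a' b' a b : F) (c : Fˣ), InK k a' ∧ InK k b' ∧ InK k a ∧ InK k b ∧ InK k (c : F) ∧
        x = TS hF a' b' * WS hF * (TS hF a b * HS hF c))) := by
  obtain ⟨a₀, b₀, ha₀, hM₀⟩ := hA
  -- `TS 1 0 ∈ M`
  have h10 : TS hF 1 0 ∈ M := by
    have hC := A_sub sp fd hM₀ ha₀
    have hC' := (Cgrp hF M).inv_mem hC
    have h1 := conj_mem sp hC' hM₀
    have e1 : ((Units.mk0 a₀ ha₀)⁻¹ : Fˣ) = Units.mk0 a₀⁻¹ (inv_ne_zero ha₀) := by
      apply Units.ext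
      simp
    rw [e1, Units.val_mk0, inv_mul_cancel₀ ha₀] at h1
    have h2 := Z_eq sp fd (B_sub_one sp fd hc₀ h1)
    have h3 := M.mul_mem h1 ((mem_Zgrp hF M _).mp h2)
    rw [TS_mul, add_zero, mul_zero, add_zero, CharTwo.add_self_eq_zero] at h3
    exact h3
  have hT : ∀ a b : F, InK k a → InK k b → TS hF a b ∈ M := by
    intro a b ha hb
    have hbM : TS hF 0 b ∈ M := (mem_Zgrp hF M _).mp (Z_eq sp fd hb)
    by_cases ha0 : a = 0
    · rw [ha0]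
      exact hbM
    · have hC : Units.mk0 a ha0 ∈ Cgrp hF M := mem_C_of_InK fd ha
      have h1 := conj_mem sp hC h10
      rw [Units.val_mk0, mul_one, mul_zero] at h1
      have h2 := M.mul_mem h1 hbM
      rw [TS_mul, add_zero, mul_zero, add_zero, zero_add] at h2
      exact h2
  have hH : ∀ c : Fˣ, InK k (c : F) → HS hF c ∈ M := fun c hc => mem_C_of_InK fd hc
  obtain ⟨u, hu, l, rfl⟩ := std_swap hm sp
  have hl := std_l_mem hm sp fd h10 hu
  have hW : WS hF ∈ M := by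
    have : WS hF = WS hF * HS hF l * (HS hF l)⁻¹ := by group
    rw [this]
    exact M.mul_mem hu (M.inv_mem hl)
  refine ⟨hT, hH, hW, ?_⟩
  have hfix : ∀ x ∈ M, x • oinf F m = oinf F m → ∃ (a b : F) (c : Fˣ), InK k a ∧ InK k b ∧
      InK k (c : F) ∧ x = TS hF a b * HS hF c := by
    intro x hx hxo
    obtain ⟨a, b, c, rfl, h1, h2⟩ := std_fix_decomp hm sp hx hxo
    exact ⟨a, b, c, A_InK sp fd h1, B_sub sp fd hc₀ h1, InK_of_mem_C fd h2, rfl⟩
  intro x hx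
  by_cases hxo : x • oinf F m = oinf F m
  · exact Or.inl (hfix x hx hxo)
  · right
    have huo : (WS hF * HS hF l) • oinf F m = opt m 0 0 := by
      rw [mul_smul, HS_oinf, WS_oinf]
    obtain ⟨a', b', h1, y, hy, hyo, rfl⟩ := std_decomp2 hm sp hu huo hx hxo
    obtain ⟨a, b, c, ha, hb, hc, rfl⟩ := hfix y hy hyo
    have e1 : HS hF l * (TS hF a b * HS hF c) =
        TS hF ((l : F) * a) (sg m (l : F) * (l : F) * b) * HS hF (l * c) := by
      rw [← mul_assoc, HS_mul_TS, mul_assoc, ← HS_mul]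
    have hlK := InK_of_mem_C fd hl
    refine ⟨a', b', (l : F) * a, sg m (l : F) * (l : F) * b, l * c, A_InK sp fd h1,
      B_sub sp fd hc₀ h1, InK_mul hlK ha, InK_mul (InK_mul (InK_sg hlK) hlK) hb, ?_, ?_⟩
    · rw [Units.val_mul]
      exact InK_mul hlK hc
    · rw [← e1]
      group

end Cfsg.Agent.Lib.Helper1.SzMax
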