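import Mathlib
import Cfsg.Agent.Lib.Helper1.SzMi

/-!
# Suzuki groups: subgroups in standard position satisfy the conclusion (helper1)
-/

set_option autoImplicit false
set_option maxHeartbeats 2000000

namespace Cfsg.Agent.Lib.Helper1.SzMax

open Cfsg Cfsg.Agent.Lib.Helper14.Sz Cfsg.Agent.Lib.Helper1.SzTori

universe u

variable {F : Type u} [Field F] [Fintype F] [CharP F 2] {m : ℕ}

attribute [local instance] fintypeSz fintypeOvoid

variable {hF : Fintype.card F = 2 ^ (2 * m + 1)} {M : Subgroup (Sz F m)} {k : ℕ}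

/-- the unipotent part cannot be elementary abelian: the order would be divisible by `3` -/
theorem std_caseB (hm : 1 ≤ m) (sp : StdPos hF M) (fd : FieldData hF M k)
    (hV : (Vf M (TSub hF)).card = 2 ^ (2 * k + 1) - 1)
    (hB : ¬ ∃ a b : F, a ≠ 0 ∧ TS hF a b ∈ M) : False := by
  classical
  have hQ : (Qf M (TSub hF)).card = 2 ^ (2 * k + 1) := by
    rw [← fd.hZ, Nat.card_eq_fintype_card, ← Finset.card_univ]
    symm
    apply Finset.card_bij (fun (b : ↥(Zgrp hF M)) _ => TS hF 0 (b : F))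
    · intro b _
      exact mem_Qf.mpr ⟨b.2, (mem_TSub_iff hF _).mpr ⟨0, b, rfl⟩⟩
    · intro a _ b _ e
      exact Subtype.ext (TS_injective hF e).2
    · intro x hx
      obtain ⟨h1, h2⟩ := mem_Qf.mp hx
      obtain ⟨a, b, rfl⟩ := (mem_TSub_iff hF x).mp h2
      have ha : a = 0 := by
        by_contra ha
        exact hB ⟨a, b, ha, h1⟩
      subst ha
      exact ⟨⟨b, h1⟩, Finset.mem_univ _, rfl⟩
  have hMc := std_card_M hm hF sp
  rw [hQ, hV] at hMc
  have hz3 : 2 ^ (2 * k + 1) % 3 = 2 := q_mod_three k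
  have h3 : 3 ∣ (Mf M).card := by
    rw [hMc]
    apply Dvd.dvd.mul_left
    omega
  have hcardM : (Mf M).card = Nat.card M := by
    rw [Nat.card_eq_fintype_card, Fintype.card_subtype]
    rfl
  rw [hcardM] at h3
  have h4 := h3.trans (Subgroup.card_subgroup_dvd_card M)
  rw [card_Sz hm hF] at h4
  have hq1 : 1 ≤ 2 ^ (2 * m + 1) := Nat.one_le_two_pow
  exact three_not_dvd (2 ^ (2 * m + 1)) (2 ^ (2 * m + 1) - 1) (q_mod_three m) (by omega) h4

theorem InK_top (hF : Fintype.card F = 2 ^ (2 * m + 1)) (x : F) : InK m x := by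
  unfold InK
  rw [← hF, FiniteField.pow_card]

/-- subgroups in standard position -/
theorem std_main (hm : 1 ≤ m) (hF : Fintype.card F = 2 ^ (2 * m + 1)) (M : Subgroup (Sz F m))
    (hM : M ≠ ⊤) (sp : StdPos hF M) : Concl M := by
  obtain ⟨k, hk, hdiv, hZ, hC, hV⟩ := std_field hm hF sp
  have fd : FieldData hF M k := ⟨hk, hdiv, hZ, hC⟩
  haveI : Fact (Nat.Prime 2) := ⟨Nat.prime_two⟩
  letI : Fintype (GaloisField 2 (2 * k + 1)) := Fintype.ofFinite _
  have hK : Fintype.card (GaloisField 2 (2 * k + 1)) = 2 ^ (2 * k + 1) := by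
    rw [Fintype.card_eq_nat_card, GaloisField.card 2 (2 * k + 1) (by omega)]
  obtain ⟨ι⟩ := Cfsg.Agent.Lib.Helper1.SzSub.exists_ringHom hK hF hdiv
  have hιK : ∀ x : GaloisField 2 (2 * k + 1), InK k (ι x) := by
    intro x
    unfold InK
    rw [← map_pow, ← hK, FiniteField.pow_card]
  have hc₀ : ∃ c₀ : F, InK k c₀ ∧ sg m c₀ ≠ c₀ := by
    obtain ⟨x, hx⟩ := exists_sg_ne hk hK
    refine ⟨ι x, hιK x, ?_⟩
    rw [Cfsg.Agent.Lib.Helper1.SzSub.sg_map hK hdiv ι x]
    intro e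
    exact hx (ι.injective e)
  by_cases hA : ∃ a b : F, a ≠ 0 ∧ TS hF a b ∈ M
  · obtain ⟨hT, hH, hW, hall⟩ := std_caseA hm sp fd hc₀ hA
    have hkm : k ≤ m := by
      have := Nat.le_of_dvd (by omega) hdiv
      omega
    rcases Nat.lt_or_ge k m with hlt | hge
    · right
      right
      refine ⟨GaloisField 2 (2 * k + 1), inferInstance, inferInstance, k, hk, hlt, hK, hdiv,
        (Cfsg.Agent.Lib.Helper1.SzSub.stdEmb hk hK hF hdiv ι).range,
        ⟨(MonoidHom.ofInjective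
          (Cfsg.Agent.Lib.Helper1.SzSub.stdEmb_injective hk hK hF hdiv ι)).symm⟩, ?_⟩
      have hTR : ∀ a b : F, InK k a → InK k b →
          TS hF a b ∈ (Cfsg.Agent.Lib.Helper1.SzSub.stdEmb hk hK hF hdiv ι).range := by
        intro a b ha hb
        obtain ⟨a', rfl⟩ := Cfsg.Agent.Lib.Helper1.SzSub.mem_range_of_pow_eq hK ι a ha
        obtain ⟨b', rfl⟩ := Cfsg.Agent.Lib.Helper1.SzSub.mem_range_of_pow_eq hK ι b hb
        exact ⟨TS hK a' b', Cfsg.Agent.Lib.Helper1.SzSub.stdEmb_TS hk hK hF hdiv ι a' b'⟩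
      have hHR : ∀ c : Fˣ, InK k (c : F) →
          HS hF c ∈ (Cfsg.Agent.Lib.Helper1.SzSub.stdEmb hk hK hF hdiv ι).range := by
        intro c hc
        obtain ⟨c', hc'⟩ := Cfsg.Agent.Lib.Helper1.SzSub.mem_range_of_pow_eq hK ι (c : F) hc
        have hc'0 : c' ≠ 0 := by
          rintro rfl
          rw [map_zero] at hc'
          exact c.ne_zero hc'.symm
        refine ⟨HS hK (Units.mk0 c' hc'0), ?_⟩
        rw [Cfsg.Agent.Lib.Helper1.SzSub.stdEmb_HS]
        congr 1
        apply Units.ext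
        rw [Units.coe_map, Units.val_mk0]
        exact hc'
      have hWR : WS hF ∈ (Cfsg.Agent.Lib.Helper1.SzSub.stdEmb hk hK hF hdiv ι).range :=
        ⟨WS hK, Cfsg.Agent.Lib.Helper1.SzSub.stdEmb_WS hk hK hF hdiv ι⟩
      intro x hx
      rcases hall x hx with ⟨a, b, c, ha, hb, hc, rfl⟩ | ⟨a', b', a, b, c, ha', hb', ha, hb, hc, rfl⟩
      · exact Subgroup.mul_mem _ (hTR a b ha hb) (hHR c hc)
      · exact Subgroup.mul_mem _ (Subgroup.mul_mem _ (hTR a' b' ha' hb') hWR)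
          (Subgroup.mul_mem _ (hTR a b ha hb) (hHR c hc))
    · exfalso
      have hkm' : k = m := le_antisymm hkm hge
      subst hkm'
      apply hM
      rw [eq_top_iff]
      intro g _
      rcases bruhat hm hF g with ⟨a, b, c, rfl⟩ | ⟨c', d', a, b, c, rfl⟩
      · exact M.mul_mem (hT a b (InK_top hF a) (InK_top hF b)) (hH c (InK_top hF _))
      · exact M.mul_mem (M.mul_mem (hT c' d' (InK_top hF _) (InK_top hF _)) hW)
          (M.mul_mem (hT a b (InK_top hF a) (InK_top hF b)) (hH c (InK_top hF _)))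
  · exact (std_caseB hm sp fd hV hA).elim

end Cfsg.Agent.Lib.Helper1.SzMax
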