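import Mathlib
import Cfsg.Agent.Lib.Helper1.SzMj

/-!
# Suzuki groups: Sylow 2-subgroups of subgroups; the cyclic case (helper1)
-/

set_option autoImplicit false
set_option maxHeartbeats 2000000

namespace Cfsg.Agent.Lib.Helper1.SzMax

open Cfsg Cfsg.Agent.Lib.Helper14.Sz Cfsg.Agent.Lib.Helper1.SzTori

universe u

section general

variable {G : Type u} [Group G] [Finite G]

/-- involutions of `M` are `M`-conjugate into a fixed Sylow 2-subgroup of `M` -/
theorem sylow_conj_invol (M : Subgroup G) (P₁ : Sylow 2 M) (u : G) (hu : u ∈ M) (hu1 : u ≠ 1)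
    (hu2 : u * u = 1) :
    ∃ x ∈ M, x⁻¹ * u * x ∈ (P₁ : Subgroup M).map M.subtype := by
  haveI : Fact (Nat.Prime 2) := ⟨Nat.prime_two⟩
  have hu1' : (⟨u, hu⟩ : M) ≠ 1 := by
    intro e
    exact hu1 (congrArg Subtype.val e)
  have hu2' : (⟨u, hu⟩ : M) ^ 2 = 1 := by
    rw [pow_two]
    exact Subtype.ext hu2
  have hord : orderOf (⟨u, hu⟩ : M) = 2 := orderOf_eq_prime hu2' hu1'
  have hp : IsPGroup 2 (Subgroup.zpowers (⟨u, hu⟩ : M)) := by
    apply IsPGroup.of_card (n := 1)
    rw [Nat.card_zpowers, hord, pow_one]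
  obtain ⟨P, hP⟩ := hp.exists_le_sylow
  obtain ⟨g, hg⟩ := MulAction.exists_smul_eq M P P₁
  have h1 : (⟨u, hu⟩ : M) ∈ (P : Subgroup M) := hP (Subgroup.mem_zpowers _)
  have h2 : g * (⟨u, hu⟩ : M) * g⁻¹ ∈ (P₁ : Subgroup M) := by
    rw [← hg, Sylow.coe_subgroup_smul]
    have := (Subgroup.smul_mem_pointwise_smul_iff (a := MulAut.conj g) (S := (P : Subgroup M))
      (x := (⟨u, hu⟩ : M))).mpr h1
    rwa [MulAut.smul_def, MulAut.conj_apply] at this
  refine ⟨((g⁻¹ : M) : G), (g⁻¹ : M).2, ?_⟩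
  refine Subgroup.mem_map.mpr ⟨_, h2, ?_⟩
  simp

theorem map_normal_conj_mem (M : Subgroup G) (K : Subgroup M) [hK : K.Normal] (x : G) (hx : x ∈ M)
    (l : G) (hl : l ∈ K.map M.subtype) : x * l * x⁻¹ ∈ K.map M.subtype := by
  obtain ⟨l', hl', rfl⟩ := Subgroup.mem_map.mp hl
  have h1 : (⟨x, hx⟩ : M) * l' * (⟨x, hx⟩ : M)⁻¹ ∈ K := hK.conj_mem l' hl' ⟨x, hx⟩
  refine Subgroup.mem_map.mpr ⟨(⟨x, hx⟩ : M) * l' * (⟨x, hx⟩ : M)⁻¹, h1, ?_⟩
  simp

end general

section suzuki

variable {F : Type u} [Field F] [Fintype F] [CharP F 2] {m : ℕ}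

/-- a subgroup of `T` whose only involution is `TS 0 1` is cyclic -/
theorem cyclic_of_unique_invol (hF : Fintype.card F = 2 ^ (2 * m + 1)) (Q : Subgroup (Sz F m))
    (hQT : Q ≤ TSub hF) (h : ∀ b : F, TS hF 0 b ∈ Q → b = 0 ∨ b = 1) : IsCyclic Q := by
  have hone : ∀ a b : F, TS hF a b ∈ Q → a ≠ 0 → a = 1 := by
    intro a b hab ha
    have h1 := Q.mul_mem hab hab
    rw [Cfsg.Agent.Lib.Helper1.SzSub.TS_sq] at h1
    rcases h _ h1 with h2 | h2
    · exfalso
      rcases mul_eq_zero.mp h2 with h3 | h3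
      · exact ha ((sg_eq_zero_iff m a).mp h3)
      · exact ha h3
    · exact sg_mul_self_injective (m := m) hF (a₁ := a) (a₂ := 1) (by
        simp only [sg_one, one_mul]
        exact h2)
  by_cases hex : ∃ a b : F, a ≠ 0 ∧ TS hF a b ∈ Q
  · obtain ⟨a, b, ha, hab⟩ := hex
    have ha1 := hone a b hab ha
    subst ha1
    have hsq : TS hF 1 b ^ 2 = TS hF 0 1 := by
      rw [pow_two, Cfsg.Agent.Lib.Helper1.SzSub.TS_sq, sg_one, one_mul]
    have hcube : TS hF 1 b ^ 3 = TS hF 1 (b + 1) := by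
      rw [pow_succ, hsq, TS_mul, zero_add, sg_zero, zero_mul, add_zero, add_comm]
    have hle : Q ≤ Subgroup.zpowers (TS hF 1 b) := by
      intro y hy
      obtain ⟨a', b', rfl⟩ := (mem_TSub_iff hF y).mp (hQT hy)
      by_cases ha' : a' = 0
      · subst ha'
        rcases h _ hy with rfl | rfl
        · rw [TS_zero]
          exact Subgroup.one_mem _
        · rw [← hsq]
          exact Subgroup.pow_mem _ (Subgroup.mem_zpowers _) 2
      · have ha'1 := hone a' b' hy ha'
        subst ha'1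
        have h1 := Q.mul_mem hy (Q.inv_mem hab)
        rw [TS_inv, TS_mul, CharTwo.add_self_eq_zero, sg_one, one_mul] at h1
        have htwo : (2 : F) = 0 := CharTwo.two_eq_zero
        have e1 : b' + (b + 1) + 1 = b' + b := by
          linear_combination htwo
        rw [e1] at h1
        rcases h _ h1 with h2 | h2
        · have : b' = b := by
            have := CharTwo.add_eq_zero.mp h2
            exact this
          rw [this]
          exact Subgroup.mem_zpowers _
        · have : b' = b + 1 := by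
            linear_combination h2 - b * htwo
          rw [this, ← hcube]
          exact Subgroup.pow_mem _ (Subgroup.mem_zpowers _) 3
    exact Subgroup.isCyclic_of_le hle
  · have hle : Q ≤ Subgroup.zpowers (TS hF 0 1) := by
      intro y hy
      obtain ⟨a', b', rfl⟩ := (mem_TSub_iff hF y).mp (hQT hy)
      have ha' : a' = 0 := by
        by_contra ha'
        exact hex ⟨a', b', ha', hy⟩
      subst ha'
      rcases h _ hy with rfl | rfl
      · rw [TS_zero]
        exact Subgroup.one_mem _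
      · exact Subgroup.mem_zpowers _
    exact Subgroup.isCyclic_of_le hle

/-- subgroups of even order with cyclic Sylow 2-subgroups -/
theorem concl_of_cyclic_sylow (hm : 1 ≤ m) (hF : Fintype.card F = 2 ^ (2 * m + 1))
    (M : Subgroup (Sz F m)) (heven : 2 ∣ Nat.card M) (P₁ : Sylow 2 M)
    (hcyc : IsCyclic (P₁ : Subgroup M)) : Concl M := by
  haveI : Fact (Nat.Prime 2) := ⟨Nat.prime_two⟩
  have hmin : (Nat.card M).minFac = 2 := (Nat.minFac_eq_two_iff _).mpr heven
  have hNP := IsCyclic.normalizer_le_centralizer hmin (P := P₁) hcyc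
  have hcompl := MonoidHom.ker_transferSylow_isComplement' P₁ hNP
  have hodd : ¬ 2 ∣ Nat.card (MonoidHom.transferSylow P₁ hNP).ker :=
    MonoidHom.not_dvd_card_ker_transferSylow P₁ hNP
  have hmul := hcompl.card_mul_card
  by_cases hK : (MonoidHom.transferSylow P₁ hNP).ker = ⊥
  · -- `M` is a 2-group
    have hK1 : Nat.card (MonoidHom.transferSylow P₁ hNP).ker = 1 := by
      rw [hK]
      exact Subgroup.card_bot
    rw [hK1, one_mul] at hmul
    obtain ⟨e, he⟩ := (IsPGroup.iff_card (p := 2)).mp P₁.2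
    have hMp : IsPGroup 2 M := IsPGroup.of_card (n := e) (by rw [← hmul, he])
    obtain ⟨PG, hPG⟩ := hMp.exists_le_sylow
    left
    exact ⟨PG, hPG.trans Subgroup.le_normalizer⟩
  · apply concl_of_odd_normal hm hF M ((MonoidHom.transferSylow P₁ hNP).ker.map M.subtype)
    · intro x hx l hl
      haveI : (MonoidHom.transferSylow P₁ hNP).ker.Normal := MonoidHom.normal_ker _
      exact map_normal_conj_mem M _ x hx l hl
    · rw [Subgroup.card_map_of_injective (Subgroup.subtype_injective M)]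
      exact Nat.not_even_iff_odd.mp (fun h => hodd (even_iff_two_dvd.mp h))
    · intro e
      apply hK
      rw [Subgroup.map_eq_bot_iff_of_injective _ (Subgroup.subtype_injective M)] at e
      exact e

end suzuki

end Cfsg.Agent.Lib.Helper1.SzMax
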