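import Mathlib
import Cfsg.Agent.Lib.Helper1.SzMk

/-!
# Suzuki groups: the subgroup theorem (helper1)
-/

set_option autoImplicit false
set_option maxHeartbeats 2000000

namespace Cfsg.Agent.Lib.Helper1.SzMax

open Cfsg Cfsg.Agent.Lib.Helper14.Sz Cfsg.Agent.Lib.Helper1.SzTori

universe u

section general

variable {G : Type u} [Group G]

theorem conj_mem_map (M : Subgroup G) (γ : G) {x : G} (hx : x ∈ M) :
    γ * x * γ⁻¹ ∈ M.map (MulAut.conj γ).toMonoidHom :=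
  Subgroup.mem_map.mpr ⟨x, hx, by simp [MulAut.conj_apply]⟩

theorem exists_of_mem_map_conj (M : Subgroup G) (γ : G) {u : G}
    (hu : u ∈ M.map (MulAut.conj γ).toMonoidHom) : ∃ x ∈ M, u = γ * x * γ⁻¹ := by
  obtain ⟨x, hx, e⟩ := Subgroup.mem_map.mp hu
  exact ⟨x, hx, by rw [← e]; simp [MulAut.conj_apply]⟩

end general

variable {F : Type u} [Field F] [Fintype F] [CharP F 2] {m : ℕ}

theorem TS_central (hF : Fintype.card F = 2 ^ (2 * m + 1)) (a b : F) :
    (TS hF a b)⁻¹ * TS hF 0 1 * TS hF a b = TS (m := m) hF 0 1 := by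
  have h1 : TS hF 0 1 * TS hF a b = TS hF a b * TS (m := m) hF 0 1 := by
    rw [TS_mul, TS_mul, sg_zero, zero_mul, mul_zero, zero_add, add_zero, add_zero, add_zero,
      add_comm 1 b]
  rw [mul_assoc, h1, ← mul_assoc, inv_mul_cancel, one_mul]

/-- the normalisation step: an involution of `T` is conjugate to `TS 0 1` under the torus -/
theorem exists_HS_conj (hF : Fintype.card F = 2 ^ (2 * m + 1)) {b₀ : F} (hb₀ : b₀ ≠ 0) :
    ∃ k : Fˣ, HS hF k * TS hF 0 b₀ * (HS hF k)⁻¹ = TS (m := m) hF 0 1 := by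
  obtain ⟨a₁, ha₁⟩ := sg_mul_self_surjective (m := m) hF b₀
  simp only at ha₁
  have ha₁0 : a₁ ≠ 0 := by
    rintro rfl
    rw [sg_zero, zero_mul] at ha₁
    exact hb₀ ha₁.symm
  refine ⟨(Units.mk0 a₁ ha₁0)⁻¹, ?_⟩
  rw [conj_HS_TS, mul_zero]
  congr 1
  have e1 : (((Units.mk0 a₁ ha₁0)⁻¹ : Fˣ) : F) = a₁⁻¹ := by simp
  rw [e1, ← ha₁, sg_inv]
  have hs : sg m a₁ ≠ 0 := (sg_eq_zero_iff m _).not.mpr ha₁0
  field_simp

/-- **Suzuki's subgroup theorem** -/
theorem subgroup_theorem (hm : 1 ≤ m) (hF : Fintype.card F = 2 ^ (2 * m + 1))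
    (M : Subgroup (Sz F m)) (hM : M ≠ ⊤) : Concl M := by
  haveI : Fact (Nat.Prime 2) := ⟨Nat.prime_two⟩
  rcases Nat.even_or_odd (Nat.card M) with heven | hodd
  swap
  · exact concl_of_odd hm hF M hodd
  obtain ⟨P₁⟩ := (inferInstance : Nonempty (Sylow 2 M))
  by_cases hcyc : IsCyclic (P₁ : Subgroup M)
  · exact concl_of_cyclic_sylow hm hF M (even_iff_two_dvd.mp heven) P₁ hcyc
  have hQ₁M : (P₁ : Subgroup M).map M.subtype ≤ M := by
    intro x hx
    obtain ⟨x', -, rfl⟩ := Subgroup.mem_map.mp hx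
    exact x'.2
  have hQ₁p : IsPGroup 2 ((P₁ : Subgroup M).map M.subtype) := P₁.2.map _
  obtain ⟨PG, hPG⟩ := hQ₁p.exists_le_sylow
  obtain ⟨y, hy⟩ := sylow_std hm hF PG
  have s1 : ∀ q ∈ (P₁ : Subgroup M).map M.subtype, y⁻¹ * q * y ∈ TSub hF := by
    intro q hq
    have h1 := hPG hq
    rw [hy] at h1
    obtain ⟨t, ht, e⟩ := Subgroup.mem_map.mp h1
    have : y⁻¹ * q * y = t := by
      rw [← e]
      simp only [MulEquiv.coe_toMonoidHom, MulAut.conj_apply]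
      group
    rw [this]
    exact ht
  -- an involution of the Sylow subgroup
  have hinv : ∃ v ∈ (P₁ : Subgroup M).map M.subtype, ∃ b₀ : F, b₀ ≠ 0 ∧
      y⁻¹ * v * y = TS hF 0 b₀ := by
    have hne : (P₁ : Subgroup M) ≠ ⊥ := by
      intro e
      apply hcyc
      rw [e]
      infer_instance
    obtain ⟨q', hq'1⟩ := (Subgroup.ne_bot_iff_exists_ne_one).mp hne
    have hqQ : ((q' : M) : Sz F m) ∈ (P₁ : Subgroup M).map M.subtype :=
      Subgroup.mem_map.mpr ⟨(q' : M), q'.2, rfl⟩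
    have hq1 : ((q' : M) : Sz F m) ≠ 1 := by
      intro e
      apply hq'1
      apply Subtype.ext
      apply Subtype.ext
      exact e
    obtain ⟨a, b, e⟩ := (mem_TSub_iff hF _).mp (s1 _ hqQ)
    by_cases ha : a = 0
    · subst ha
      refine ⟨_, hqQ, b, ?_, e⟩
      rintro rfl
      rw [TS_zero] at e
      apply hq1
      have : ((q' : M) : Sz F m) = y * (y⁻¹ * ((q' : M) : Sz F m) * y) * y⁻¹ := by group
      rw [this, e]
      group
    · refine ⟨_, Subgroup.mul_mem _ hqQ hqQ, sg m a * a,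
        mul_ne_zero ((sg_eq_zero_iff m _).not.mpr ha) ha, ?_⟩
      have : y⁻¹ * (((q' : M) : Sz F m) * ((q' : M) : Sz F m)) * y =
          (y⁻¹ * ((q' : M) : Sz F m) * y) * (y⁻¹ * ((q' : M) : Sz F m) * y) := by group
      rw [this, e, Cfsg.Agent.Lib.Helper1.SzSub.TS_sq]
  obtain ⟨v, hvQ, b₀, hb₀, hv⟩ := hinv
  obtain ⟨k, hk⟩ := exists_HS_conj (m := m) hF hb₀
  -- second normalisation: `g₂ = y * (HS k)⁻¹`
  have s2 : ∀ q ∈ (P₁ : Subgroup M).map M.subtype,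
      (y * (HS hF k)⁻¹)⁻¹ * q * (y * (HS hF k)⁻¹) ∈ TSub hF := by
    intro q hq
    obtain ⟨a, b, e⟩ := (mem_TSub_iff hF _).mp (s1 q hq)
    have : (y * (HS hF k)⁻¹)⁻¹ * q * (y * (HS hF k)⁻¹) =
        HS hF k * (y⁻¹ * q * y) * (HS hF k)⁻¹ := by group
    rw [this, e, conj_HS_TS]
    exact (mem_TSub_iff hF _).mpr ⟨_, _, rfl⟩
  have s3 : (y * (HS hF k)⁻¹)⁻¹ * v * (y * (HS hF k)⁻¹) = TS hF 0 1 := by
    have : (y * (HS hF k)⁻¹)⁻¹ * v * (y * (HS hF k)⁻¹) =
        HS hF k * (y⁻¹ * v * y) * (HS hF k)⁻¹ := by group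
    rw [this, hv, hk]
  by_cases hfix : ∀ x ∈ M, x • ((y * (HS hF k)⁻¹) • oinf F m) = (y * (HS hF k)⁻¹) • oinf F m
  · exact concl_of_fix_point hm hF M _ hfix
  simp only [not_forall] at hfix
  obtain ⟨x, hxM, hx⟩ := hfix
  have hp : (y * (HS hF k)⁻¹)⁻¹ • (x • ((y * (HS hF k)⁻¹) • oinf F m)) ≠ oinf F m := by
    intro e
    apply hx
    rw [inv_smul_eq_iff] at e
    exact e
  rcases ovoid_cases ((y * (HS hF k)⁻¹)⁻¹ • (x • ((y * (HS hF k)⁻¹) • oinf F m))) with e | ⟨a, b, e⟩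
  · exact absurd e hp
  -- the conjugating element
  obtain ⟨γ, hγ⟩ : ∃ γ : Sz F m, γ = (y * (HS hF k)⁻¹ * TS hF a b)⁻¹ := ⟨_, rfl⟩
  have s4 : ∀ q ∈ (P₁ : Subgroup M).map M.subtype, γ * q * γ⁻¹ ∈ TSub hF := by
    intro q hq
    have : γ * q * γ⁻¹ = (TS hF a b)⁻¹ *
        ((y * (HS hF k)⁻¹)⁻¹ * q * (y * (HS hF k)⁻¹)) * TS hF a b := by
      rw [hγ]
      group
    rw [this]
    have hT : TS hF a b ∈ TSub hF := (mem_TSub_iff hF _).mpr ⟨a, b, rfl⟩
    exact Subgroup.mul_mem _ (Subgroup.mul_mem _ (Subgroup.inv_mem _ hT) (s2 q hq)) hT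
  have s5 : γ * v * γ⁻¹ = TS hF 0 1 := by
    have : γ * v * γ⁻¹ = (TS hF a b)⁻¹ *
        ((y * (HS hF k)⁻¹)⁻¹ * v * (y * (HS hF k)⁻¹)) * TS hF a b := by
      rw [hγ]
      group
    rw [this, s3, TS_central]
  have s6 : (γ * x * γ⁻¹) • oinf F m = opt m 0 0 := by
    have h1 : γ⁻¹ • oinf F m = (y * (HS hF k)⁻¹) • oinf F m := by
      rw [hγ, inv_inv, mul_smul, TS_oinf]
    have h2 : γ = (TS hF a b)⁻¹ * (y * (HS hF k)⁻¹)⁻¹ := by
      rw [hγ]
      group
    rw [mul_smul, mul_smul, h1, h2, mul_smul, e, inv_smul_eq_iff, TS_opt]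
    simp
  apply concl_conj γ
  apply std_main hm hF
  · intro etop
    apply hM
    rw [eq_top_iff]
    intro g _
    have h1 : γ * g * γ⁻¹ ∈ M.map (MulAut.conj γ).toMonoidHom := by
      rw [etop]
      exact Subgroup.mem_top _
    obtain ⟨g', hg', e'⟩ := exists_of_mem_map_conj M γ h1
    have : g = g' := by
      have h2 := mul_right_cancel e'
      exact mul_left_cancel h2
    rw [this]
    exact hg'
  · refine ⟨?_, ?_, ?_, ?_⟩
    · intro u' hu' hu'1 hu'2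
      obtain ⟨u, hu, rfl⟩ := exists_of_mem_map_conj M γ hu'
      have hu1 : u ≠ 1 := by
        rintro rfl
        apply hu'1
        group
      have hu2 : u * u = 1 := by
        have h1 : γ * u * γ⁻¹ * (γ * u * γ⁻¹) = γ * (u * u) * γ⁻¹ := by group
        rw [h1] at hu'2
        have h2 : u * u = γ⁻¹ * (γ * (u * u) * γ⁻¹) * γ := by group
        rw [h2, hu'2]
        group
      obtain ⟨x₁, hx₁, hx₁Q⟩ := sylow_conj_invol M P₁ u hu hu1 hu2
      refine ⟨γ * x₁ * γ⁻¹, conj_mem_map M γ hx₁, ?_⟩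
      have : (γ * x₁ * γ⁻¹)⁻¹ * (γ * u * γ⁻¹) * (γ * x₁ * γ⁻¹) = γ * (x₁⁻¹ * u * x₁) * γ⁻¹ := by
        group
      rw [this]
      exact s4 _ hx₁Q
    · rw [← s5]
      exact conj_mem_map M γ (hQ₁M hvQ)
    · by_contra hno
      apply hcyc
      have hQT : ((P₁ : Subgroup M).map M.subtype).map (MulAut.conj γ).toMonoidHom ≤ TSub hF := by
        intro q' hq'
        obtain ⟨q, hq, rfl⟩ := exists_of_mem_map_conj _ γ hq'
        exact s4 q hq
      have hcyc' : IsCyclic (((P₁ : Subgroup M).map M.subtype).map (MulAut.conj γ).toMonoidHom) := by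
        apply cyclic_of_unique_invol hF _ hQT
        intro b hb
        obtain ⟨q, hq, e'⟩ := exists_of_mem_map_conj _ γ hb
        have hbM : TS hF 0 b ∈ M.map (MulAut.conj γ).toMonoidHom := by
          rw [e']
          exact conj_mem_map M γ (hQ₁M hq)
        by_cases hb0 : b = 0
        · exact Or.inl hb0
        · exact Or.inr (by
            by_contra hb1
            exact hno ⟨b, hb0, hb1, hbM⟩)
      have e1 := Subgroup.equivMapOfInjective (P₁ : Subgroup M) M.subtype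
        (Subgroup.subtype_injective M)
      have e2 := Subgroup.equivMapOfInjective ((P₁ : Subgroup M).map M.subtype)
        (MulAut.conj γ).toMonoidHom (MulAut.conj γ).injective
      exact (MulEquiv.isCyclic (e1.trans e2)).mpr hcyc'
    · exact ⟨γ * x * γ⁻¹, conj_mem_map M γ hxM, s6⟩

end Cfsg.Agent.Lib.Helper1.SzMax
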