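import Mathlib
import Cfsg.Agent.Lib.Helper1.SzMl

/-!
# Suzuki groups over prime-degree fields: proper subgroups are solvable (helper1)
-/

set_option autoImplicit false
set_option maxHeartbeats 2000000

namespace Cfsg.Agent.Lib.Helper1.SzSol

open Cfsg Cfsg.Agent.Lib.Helper14.Sz Cfsg.Agent.Lib.Helper1.SzTori Cfsg.Agent.Lib.Helper1.SzMax

universe u

section general

variable {G : Type u} [Group G]

/-- a subgroup with a solvable normal subgroup and commutative quotient is solvable -/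
theorem solvable_of_normal_quot (N K : Subgroup G) (hKN : K ≤ N)
    (hnorm : N ≤ Subgroup.normalizer (K : Set G)) [hK : Group.IsSolvable K]
    (hq : ∀ x ∈ N, ∀ y ∈ N, (y * x)⁻¹ * (x * y) ∈ K) : Group.IsSolvable N := by
  haveI : (K.subgroupOf N).Normal := Subgroup.normal_subgroupOf_of_le_normalizer hnorm
  haveI : Group.IsSolvable (K.subgroupOf N) :=
    Group.isSolvable_of_isSolvable_injective (f := (Subgroup.subgroupOfEquivOfLe hKN).toMonoidHom)
      (Subgroup.subgroupOfEquivOfLe hKN).injective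
  haveI : Group.IsSolvable (N ⧸ K.subgroupOf N) := by
    apply Group.isSolvable_of_comm
    intro a b
    obtain ⟨x, rfl⟩ := QuotientGroup.mk_surjective a
    obtain ⟨y, rfl⟩ := QuotientGroup.mk_surjective b
    rw [← QuotientGroup.mk_mul, ← QuotientGroup.mk_mul, eq_comm, QuotientGroup.eq,
      Subgroup.mem_subgroupOf]
    exact hq x x.2 y y.2
  apply Group.isSolvable_of_ker_le_range (K.subgroupOf N).subtype (QuotientGroup.mk' (K.subgroupOf N))
  rw [QuotientGroup.ker_mk', Subgroup.range_subtype]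

end general

variable {F : Type u} [Field F] [Fintype F] [CharP F 2] {m : ℕ}

/-- the Borel subgroup is solvable -/
theorem solvable_BS (hm : 1 ≤ m) (hF : Fintype.card F = 2 ^ (2 * m + 1)) :
    Group.IsSolvable (BS F m) := by
  haveI : Fact (Nat.Prime 2) := ⟨Nat.prime_two⟩
  haveI : Group.IsNilpotent (TSub (m := m) hF) := (isPGroup_TSub hF).isNilpotent
  haveI : Group.IsSolvable (TSub (m := m) hF) := IsNilpotent.to_isSolvable
  have hTB : TSub (m := m) hF ≤ BS F m := by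
    rw [← normalizer_TSub hm hF]
    exact Subgroup.le_normalizer
  apply solvable_of_normal_quot (BS F m) (TSub hF) hTB
  · rw [normalizer_TSub hm hF]
  · intro x hx y hy
    obtain ⟨a, b, k, rfl⟩ := fix_oinf hm hF x (MulAction.mem_stabilizer_iff.mp hx)
    obtain ⟨c, d, l, rfl⟩ := fix_oinf hm hF y (MulAction.mem_stabilizer_iff.mp hy)
    have h1 : InB hF (TS hF a b * HS hF k) k := ⟨a, b, rfl⟩
    have h2 : InB hF (TS hF c d * HS hF l) l := ⟨c, d, rfl⟩
    have h3 := InB_mul hF (InB_inv hF (InB_mul hF h2 h1)) (InB_mul hF h1 h2)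
    have e : (l * k)⁻¹ * (k * l) = 1 := by
      rw [mul_comm l k, inv_mul_cancel]
    rw [e] at h3
    obtain ⟨a', b', e'⟩ := h3
    rw [e', HS_one, mul_one]
    exact (mem_TSub_iff hF _).mpr ⟨a', b', rfl⟩

/-- point stabilizers are solvable -/
theorem solvable_stabilizer (hm : 1 ≤ m) (hF : Fintype.card F = 2 ^ (2 * m + 1))
    (p : suzukiOvoid F m) : Group.IsSolvable (MulAction.stabilizer (Sz F m) p) := by
  obtain ⟨g, rfl⟩ := exists_smul_oinf hF p
  rw [MulAction.stabilizer_smul_eq_stabilizer_map_conj]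
  haveI : Group.IsSolvable (MulAction.stabilizer (Sz F m) (oinf F m)) := solvable_BS hm hF
  exact Group.isSolvable_of_surjective
    (f := ((MulAut.conj g).toMonoidHom.subgroupMap (MulAction.stabilizer (Sz F m) (oinf F m))))
    (MonoidHom.subgroupMap_surjective _ _)

/-- a torus: a cyclic subgroup of one of the three orders -/
def IsTorus (m : ℕ) (U : Subgroup (Sz F m)) : Prop :=
  IsCyclic U ∧ (Nat.card U = 2 ^ (2 * m + 1) - 1 ∨ Nat.card U = 2 ^ (2 * m + 1) + 2 ^ (m + 1) + 1 ∨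
    Nat.card U = 2 ^ (2 * m + 1) - 2 ^ (m + 1) + 1)

theorem torus_odd_card {U : Subgroup (Sz F m)} (hU : IsTorus m U) : Odd (Nat.card U) := by
  have h1 : 2 ≤ 2 ^ (m + 1) := by
    calc 2 = 2 ^ 1 := by norm_num
      _ ≤ 2 ^ (m + 1) := Nat.pow_le_pow_right (by norm_num) (by omega)
  have h2 : 2 ^ (2 * m + 1) = 2 ^ (m + 1) * 2 ^ m := by rw [← pow_add]; congr 1; omega
  have h3 : Even (2 ^ (2 * m + 1)) := Nat.even_pow.mpr ⟨even_two, by omega⟩
  have h4 : Even (2 ^ (m + 1)) := Nat.even_pow.mpr ⟨even_two, by omega⟩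
  have h5 : 2 ^ (m + 1) ≤ 2 ^ (2 * m + 1) := Nat.pow_le_pow_right (by norm_num) (by omega)
  obtain ⟨a, ha⟩ := h3
  obtain ⟨b, hb⟩ := h4
  rcases hU.2 with h | h | h
  · rw [h]
    exact ⟨a - 1, by omega⟩
  · rw [h]
    exact ⟨a + b, by omega⟩
  · rw [h]
    exact ⟨a - b, by omega⟩

theorem torus_three_le {U : Subgroup (Sz F m)} (hm : 1 ≤ m) (hU : IsTorus m U) :
    3 ≤ Nat.card U := by
  have h1 : 4 ≤ 2 ^ (m + 1) := by
    calc 4 = 2 ^ 2 := by norm_num
      _ ≤ 2 ^ (m + 1) := Nat.pow_le_pow_right (by norm_num) (by omega)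
  have h2 : 2 ^ (2 * m + 1) = 2 ^ (m + 1) * 2 ^ m := by rw [← pow_add]; congr 1; omega
  have h3 : 2 ≤ 2 ^ m := by
    calc 2 = 2 ^ 1 := by norm_num
      _ ≤ 2 ^ m := Nat.pow_le_pow_right (by norm_num) hm
  have h4 : 2 * 2 ^ (m + 1) ≤ 2 ^ (2 * m + 1) := by
    rw [h2]
    nlinarith
  rcases hU.2 with h | h | h <;> omega

theorem torus_elem_odd {U : Subgroup (Sz F m)} (hU : IsTorus m U) {g : Sz F m} (hg : g ∈ U) :
    Odd (orderOf g) := by
  have h1 : orderOf g ∣ Nat.card U := by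
    have := orderOf_dvd_natCard (⟨g, hg⟩ : U)
    rwa [Subgroup.orderOf_mk] at this
  exact Odd.of_dvd_nat (torus_odd_card hU) h1

theorem torus_eq_centralizer (hm : 1 ≤ m) (hF : Fintype.card F = 2 ^ (2 * m + 1))
    {U : Subgroup (Sz F m)} (hU : IsTorus m U) {g : Sz F m} (hg : g ∈ U) (hg1 : g ≠ 1) :
    U = Subgroup.centralizer ({g} : Set (Sz F m)) := by
  haveI := hU.1
  exact cyclic_unique hm hF g hg1 U hU.2 hg

theorem isTorus_centralizer (hm : 1 ≤ m) (hF : Fintype.card F = 2 ^ (2 * m + 1))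
    {g : Sz F m} (hg1 : g ≠ 1) (hodd : Odd (orderOf g)) :
    IsTorus m (Subgroup.centralizer ({g} : Set (Sz F m))) := by
  obtain ⟨h1, h2, -⟩ := torus_of_odd hm hF g hg1 hodd
  exact ⟨h1, h2⟩

/-- odd-order elements normalizing a torus lie in it -/
theorem torus_odd_mem (hm : 1 ≤ m) (hF : Fintype.card F = 2 ^ (2 * m + 1))
    {U : Subgroup (Sz F m)} (hU : IsTorus m U) {x : Sz F m}
    (hx : x ∈ Subgroup.normalizer (U : Set (Sz F m))) (hodd : Odd (orderOf x)) : x ∈ U := by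
  haveI : Nontrivial U := by
    rw [← Finite.one_lt_card_iff_nontrivial]
    have := torus_three_le hm hU
    omega
  obtain ⟨g', hg'⟩ := exists_ne (1 : U)
  have hg1 : (g' : Sz F m) ≠ 1 := fun e => hg' (Subtype.ext e)
  have hUc := torus_eq_centralizer hm hF hU g'.2 hg1
  rw [hUc] at hx ⊢
  exact odd_mem_of_mem_normalizer hm hF _ hg1 (torus_elem_odd hU g'.2) x hx hodd

/-- normalizers of tori are solvable -/
theorem solvable_normalizer_torus (hm : 1 ≤ m) (hF : Fintype.card F = 2 ^ (2 * m + 1))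
    {U : Subgroup (Sz F m)} (hU : IsTorus m U) :
    Group.IsSolvable (Subgroup.normalizer (U : Set (Sz F m))) := by
  haveI := hU.1
  obtain ⟨g₀, hg₀⟩ := IsCyclic.exists_generator (α := U)
  have hg₀1 : (g₀ : Sz F m) ≠ 1 := by
    intro e
    have h3 := torus_three_le hm hU
    have : ∀ x : U, x = 1 := by
      intro x
      obtain ⟨k, hk⟩ := Subgroup.mem_zpowers_iff.mp (hg₀ x)
      have e' : g₀ = 1 := Subtype.ext e
      rw [← hk, e', one_zpow]
    have hc : Nat.card U ≤ 1 := by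
      rw [Finite.card_le_one_iff_subsingleton]
      exact ⟨fun a b => (this a).trans (this b).symm⟩
    omega
  have hUc := torus_eq_centralizer hm hF hU g₀.2 hg₀1
  haveI : Group.IsSolvable U := by
    letI : CommGroup U := IsCyclic.commGroup
    exact Group.isSolvable_of_comm (fun a b => mul_comm a b)
  apply solvable_of_normal_quot _ U Subgroup.le_normalizer (le_refl _)
  intro x hx y hy
  have hpow : ∀ z ∈ Subgroup.normalizer (U : Set (Sz F m)), ∃ k : ℤ,
      z * (g₀ : Sz F m) * z⁻¹ = (g₀ : Sz F m) ^ k := by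
    intro z hz
    have h1 : z * (g₀ : Sz F m) * z⁻¹ ∈ U := (Subgroup.mem_normalizer_iff.mp hz _).mp g₀.2
    obtain ⟨k, hk⟩ := Subgroup.mem_zpowers_iff.mp (hg₀ ⟨_, h1⟩)
    refine ⟨k, ?_⟩
    have := congrArg Subtype.val hk
    simpa using this.symm
  obtain ⟨i, hi⟩ := hpow x hx
  obtain ⟨j, hj⟩ := hpow y hy
  have h1 : (x * y) * (g₀ : Sz F m) * (x * y)⁻¹ = (g₀ : Sz F m) ^ (j * i) := by
    have : (x * y) * (g₀ : Sz F m) * (x * y)⁻¹ = x * (y * (g₀ : Sz F m) * y⁻¹) * x⁻¹ := by group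
    rw [this, hj, ← conj_zpow, hi, ← zpow_mul, mul_comm]
  have h2 : (y * x) * (g₀ : Sz F m) * (y * x)⁻¹ = (g₀ : Sz F m) ^ (j * i) := by
    have : (y * x) * (g₀ : Sz F m) * (y * x)⁻¹ = y * (x * (g₀ : Sz F m) * x⁻¹) * y⁻¹ := by group
    rw [this, hi, ← conj_zpow, hj, ← zpow_mul]
  rw [hUc, Subgroup.mem_centralizer_singleton_iff]
  have h3 : (x * y) * (g₀ : Sz F m) * (x * y)⁻¹ = (y * x) * (g₀ : Sz F m) * (y * x)⁻¹ := by
    rw [h1, h2]
  have h4 : (g₀ : Sz F m) * ((y * x)⁻¹ * (x * y)) =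
      (y * x)⁻¹ * ((y * x) * (g₀ : Sz F m) * (y * x)⁻¹) * (x * y) := by group
  rw [h4, ← h3]
  group

end Cfsg.Agent.Lib.Helper1.SzSol
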