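import Mathlib
import Cfsg.Agent.Lib.Helper1.SzNa

/-!
# Suzuki groups over prime-degree fields: the solubilizer as a union of maximal subgroups (helper1)
-/

set_option autoImplicit false
set_option maxHeartbeats 2000000

namespace Cfsg.Agent.Lib.Helper1.SzSol

open Cfsg Cfsg.Agent.Lib.Helper14.Sz Cfsg.Agent.Lib.Helper1.SzTori Cfsg.Agent.Lib.Helper1.SzMax

universe u

variable {F : Type u} [Field F] [Fintype F] [CharP F 2] {m : ℕ}

/-- proper subgroups fix a point or normalize a torus -/
theorem proper_cases (hm : 1 ≤ m) (hp : (2 * m + 1).Prime) (hF : Fintype.card F = 2 ^ (2 * m + 1))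
    (M : Subgroup (Sz F m)) (hM : M ≠ ⊤) :
    (∃ p : suzukiOvoid F m, M ≤ MulAction.stabilizer (Sz F m) p) ∨
    (∃ U : Subgroup (Sz F m), IsTorus m U ∧ M ≤ Subgroup.normalizer (U : Set (Sz F m))) := by
  rcases subgroup_theorem hm hF M hM with ⟨P, hP⟩ | ⟨U, h1, h2, h3⟩ |
    ⟨K, i1, i2, k, h1, h2, h3, h4, -⟩
  · left
    obtain ⟨y, hy⟩ := sylow_std hm hF P
    refine ⟨y • oinf F m, ?_⟩
    rw [MulAction.stabilizer_smul_eq_stabilizer_map_conj]
    have : Subgroup.normalizer ((P : Subgroup (Sz F m)) : Set (Sz F m)) =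
        (MulAction.stabilizer (Sz F m) (oinf F m)).map (MulAut.conj y).toMonoidHom := by
      rw [hy, ← Subgroup.map_equiv_normalizer_eq, normalizer_TSub hm hF]
      rfl
    rw [← this]
    exact hP
  · right
    refine ⟨U, ⟨h1, ?_⟩, h3⟩
    simpa using h2
  · exfalso
    rcases (Nat.Prime.eq_one_or_self_of_dvd hp _ h4) with h | h <;> omega

theorem not_comm (hm : 1 ≤ m) (hF : Fintype.card F = 2 ^ (2 * m + 1)) :
    ¬ ∀ a b : Sz F m, a * b = b * a := by
  intro h
  obtain ⟨k, hk⟩ := exists_unit_ne_one (F := F) hm hF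
  have h1 := h (HS hF k) (TS hF 1 0)
  rw [HS_mul_TS] at h1
  have h2 := mul_right_cancel h1
  have h3 := (TS_injective hF h2).1
  apply hk
  apply Units.ext
  rw [Units.val_one, ← h3, mul_one]

theorem not_solvable (hm : 1 ≤ m) (hF : Fintype.card F = 2 ^ (2 * m + 1)) :
    ¬ Group.IsSolvable (Sz F m) := by
  haveI := simple hm hF
  intro h
  exact not_comm hm hF (IsSimpleGroup.comm_iff_isSolvable.mpr h)

theorem stabilizer_ne_top (hF : Fintype.card F = 2 ^ (2 * m + 1)) (p : suzukiOvoid F m) :
    MulAction.stabilizer (Sz F m) p ≠ ⊤ := by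
  intro h
  have hall : ∀ g : Sz F m, g • p = p := by
    intro g
    have : g ∈ MulAction.stabilizer (Sz F m) p := by
      rw [h]
      exact Subgroup.mem_top g
    exact MulAction.mem_stabilizer_iff.mp this
  obtain ⟨g₁, hg₁⟩ := exists_smul_oinf hF p
  have h1 : oinf F m = p := by
    have := hall g₁⁻¹
    rw [← hg₁, inv_smul_smul] at this
    rw [this, hg₁]
  have h2 := hall (WS hF)
  rw [← h1, WS_oinf] at h2
  exact opt_ne_oinf 0 0 h2

theorem normalizer_torus_ne_top (hm : 1 ≤ m) (hF : Fintype.card F = 2 ^ (2 * m + 1))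
    {U : Subgroup (Sz F m)} (hU : IsTorus m U) :
    Subgroup.normalizer (U : Set (Sz F m)) ≠ ⊤ := by
  haveI := simple hm hF
  intro h
  haveI : U.Normal := Subgroup.normalizer_eq_top_iff.mp h
  rcases Subgroup.Normal.eq_bot_or_eq_top (H := U) inferInstance with e | e
  · have := torus_three_le hm hU
    rw [e, Subgroup.card_bot] at this
    omega
  · apply not_comm hm hF
    intro a b
    haveI := hU.1
    exact comm_of_isCyclic U a b (by rw [e]; exact Subgroup.mem_top a)
      (by rw [e]; exact Subgroup.mem_top b)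

theorem proper_solvable (hm : 1 ≤ m) (hp : (2 * m + 1).Prime)
    (hF : Fintype.card F = 2 ^ (2 * m + 1)) (M : Subgroup (Sz F m)) (hM : M ≠ ⊤) :
    Group.IsSolvable M := by
  rcases proper_cases hm hp hF M hM with ⟨p, hle⟩ | ⟨U, hU, hle⟩
  · haveI := solvable_stabilizer hm hF p
    exact Group.isSolvable_of_isSolvable_injective (f := Subgroup.inclusion hle)
      (Subgroup.inclusion_injective hle)
  · haveI := solvable_normalizer_torus hm hF hU
    exact Group.isSolvable_of_isSolvable_injective (f := Subgroup.inclusion hle)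
      (Subgroup.inclusion_injective hle)

theorem solvable_iff_ne_top (hm : 1 ≤ m) (hp : (2 * m + 1).Prime)
    (hF : Fintype.card F = 2 ^ (2 * m + 1)) (M : Subgroup (Sz F m)) :
    Group.IsSolvable M ↔ M ≠ ⊤ := by
  constructor
  · intro h e
    subst e
    apply not_solvable hm hF
    exact Group.isSolvable_of_surjective (f := (Subgroup.topEquiv (G := Sz F m)).toMonoidHom)
      (Subgroup.topEquiv (G := Sz F m)).surjective
  · exact proper_solvable hm hp hF M

/-- the solubilizer relation -/
theorem sol_iff (hm : 1 ≤ m) (hp : (2 * m + 1).Prime)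
    (hF : Fintype.card F = 2 ^ (2 * m + 1)) (x y : Sz F m) :
    Group.IsSolvable (Subgroup.closure ({x, y} : Set (Sz F m))) ↔
      ((∃ p : suzukiOvoid F m, x • p = p ∧ y • p = p) ∨
        (∃ U : Subgroup (Sz F m), IsTorus m U ∧ x ∈ Subgroup.normalizer (U : Set (Sz F m)) ∧
          y ∈ Subgroup.normalizer (U : Set (Sz F m)))) := by
  rw [solvable_iff_ne_top hm hp hF]
  have hx : x ∈ Subgroup.closure ({x, y} : Set (Sz F m)) :=
    Subgroup.subset_closure (Set.mem_insert _ _)
  have hy : y ∈ Subgroup.closure ({x, y} : Set (Sz F m)) :=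
    Subgroup.subset_closure (Set.mem_insert_of_mem _ rfl)
  constructor
  · intro h
    rcases proper_cases hm hp hF _ h with ⟨p, hle⟩ | ⟨U, hU, hle⟩
    · exact Or.inl ⟨p, MulAction.mem_stabilizer_iff.mp (hle hx),
        MulAction.mem_stabilizer_iff.mp (hle hy)⟩
    · exact Or.inr ⟨U, hU, hle hx, hle hy⟩
  · rintro (⟨p, h1, h2⟩ | ⟨U, hU, h1, h2⟩)
    · intro e
      apply stabilizer_ne_top hF p
      rw [eq_top_iff, ← e, Subgroup.closure_le]
      intro z hz
      rcases hz with rfl | rfl
      · exact MulAction.mem_stabilizer_iff.mpr h1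
      · exact MulAction.mem_stabilizer_iff.mpr h2
    · intro e
      apply normalizer_torus_ne_top hm hF hU
      rw [eq_top_iff, ← e, Subgroup.closure_le]
      intro z hz
      rcases hz with rfl | rfl
      · exact h1
      · exact h2

end Cfsg.Agent.Lib.Helper1.SzSol
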