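import Mathlib
import Cfsg.Agent.Lib.Helper1.SzNb

/-!
# Suzuki groups: the solubilizer count, conjugation invariance, the free case (helper1)
-/

set_option autoImplicit false
set_option maxHeartbeats 2000000

namespace Cfsg.Agent.Lib.Helper1.SzSol

open Cfsg Cfsg.Agent.Lib.Helper14.Sz Cfsg.Agent.Lib.Helper1.SzTori Cfsg.Agent.Lib.Helper1.SzMax

universe u

section general

variable {G : Type u} [Group G]

/-- the solubilizer count -/
noncomputable def solCard (x : G) : ℕ :=
  Nat.card {y : G // Group.IsSolvable (Subgroup.closure ({x, y} : Set G))}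

theorem solvable_closure_map {H : Type*} [Group H] (e : G ≃* H) (x y : G) :
    Group.IsSolvable (Subgroup.closure ({e x, e y} : Set H)) ↔
      Group.IsSolvable (Subgroup.closure ({x, y} : Set G)) := by
  have h1 : Subgroup.closure ({e x, e y} : Set H) =
      (Subgroup.closure ({x, y} : Set G)).map e.toMonoidHom := by
    rw [MonoidHom.map_closure]
    congr 1
    ext z
    simp only [Set.mem_insert_iff, Set.mem_singleton_iff, Set.mem_image, MulEquiv.coe_toMonoidHom]
    constructor
    · rintro (rfl | rfl)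
      · exact ⟨x, Or.inl rfl, rfl⟩
      · exact ⟨y, Or.inr rfl, rfl⟩
    · rintro ⟨w, rfl | rfl, rfl⟩
      · exact Or.inl rfl
      · exact Or.inr rfl
  rw [h1]
  have e' := Subgroup.equivMapOfInjective (Subgroup.closure ({x, y} : Set G)) e.toMonoidHom
    e.injective
  constructor
  · intro h
    exact Group.isSolvable_of_isSolvable_injective (f := e'.toMonoidHom) e'.injective
  · intro h
    exact Group.isSolvable_of_surjective (f := e'.toMonoidHom) e'.surjective

theorem solCard_map {H : Type*} [Group H] (e : G ≃* H) (x : G) : solCard (e x) = solCard x := by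
  unfold solCard
  symm
  apply Nat.card_congr
  refine Equiv.subtypeEquiv e.toEquiv ?_
  intro y
  exact (solvable_closure_map e x y).symm

theorem solCard_conj (h x : G) : solCard (h * x * h⁻¹) = solCard x :=
  solCard_map (MulAut.conj h) x

theorem solCard_inv (x : G) : solCard x⁻¹ = solCard x := by
  unfold solCard
  have : ∀ y : G, Subgroup.closure ({x⁻¹, y} : Set G) = Subgroup.closure ({x, y} : Set G) := by
    intro y
    apply le_antisymm
    · rw [Subgroup.closure_le]
      intro z hz
      rcases hz with rfl | rfl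
      · exact Subgroup.inv_mem _ (Subgroup.subset_closure (Set.mem_insert _ _))
      · exact Subgroup.subset_closure (Set.mem_insert_of_mem _ rfl)
    · rw [Subgroup.closure_le]
      intro z hz
      rcases hz with rfl | rfl
      · have := Subgroup.inv_mem _ (Subgroup.subset_closure
          (Set.mem_insert z⁻¹ ({y} : Set G)) : z⁻¹ ∈ Subgroup.closure ({z⁻¹, y} : Set G))
        rwa [inv_inv] at this
      · exact Subgroup.subset_closure (Set.mem_insert_of_mem _ rfl)
  apply Nat.card_congr
  exact Equiv.subtypeEquivRight (fun y => by rw [this y])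

end general

variable {F : Type u} [Field F] [Fintype F] [CharP F 2] {m : ℕ}

attribute [local instance] fintypeSz fintypeOvoid

/-- the solubilizer as a finite set -/
noncomputable def solSet (x : Sz F m) : Finset (Sz F m) := by
  classical
  exact Finset.univ.filter (fun y =>
    (∃ p : suzukiOvoid F m, x • p = p ∧ y • p = p) ∨
      (∃ U : Subgroup (Sz F m), IsTorus m U ∧ x ∈ Subgroup.normalizer (U : Set (Sz F m)) ∧
        y ∈ Subgroup.normalizer (U : Set (Sz F m))))

theorem mem_solSet (x y : Sz F m) : y ∈ solSet x ↔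
    ((∃ p : suzukiOvoid F m, x • p = p ∧ y • p = p) ∨
      (∃ U : Subgroup (Sz F m), IsTorus m U ∧ x ∈ Subgroup.normalizer (U : Set (Sz F m)) ∧
        y ∈ Subgroup.normalizer (U : Set (Sz F m)))) := by
  classical
  unfold solSet
  rw [Finset.mem_filter]
  exact ⟨fun h => h.2, fun h => ⟨Finset.mem_univ _, h⟩⟩

theorem solCard_eq (hm : 1 ≤ m) (hp : (2 * m + 1).Prime) (hF : Fintype.card F = 2 ^ (2 * m + 1))
    (x : Sz F m) : solCard x = (solSet x).card := by
  classical
  unfold solCard
  rw [Nat.card_eq_fintype_card]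
  apply Fintype.card_of_subtype
  intro y
  rw [mem_solSet, sol_iff hm hp hF]

/-- the order of the Borel subgroup -/
theorem card_BS (hm : 1 ≤ m) (hF : Fintype.card F = 2 ^ (2 * m + 1)) :
    Nat.card (BS F m) = (2 ^ (2 * m + 1)) ^ 2 * (2 ^ (2 * m + 1) - 1) := by
  have h1 := Subgroup.card_mul_index (MulAction.stabilizer (Sz F m) (oinf F m))
  have h2 : MulAction.orbit (Sz F m) (oinf F m) = Set.univ := by
    ext p
    simp only [Set.mem_univ, iff_true]
    obtain ⟨g, hg⟩ := exists_smul_oinf hF p
    exact ⟨g, hg⟩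
  have h3 : (MulAction.stabilizer (Sz F m) (oinf F m)).index = (2 ^ (2 * m + 1)) ^ 2 + 1 := by
    rw [MulAction.index_stabilizer, h2, Set.ncard_univ, card_ovoid hF]
  have h4 : Nat.card (MulAction.stabilizer (Sz F m) (oinf F m)) = Nat.card (BS F m) := rfl
  rw [h3, h4, card_Sz hm hF] at h1
  have hpos : 0 < (2 ^ (2 * m + 1)) ^ 2 + 1 := by positivity
  apply Nat.eq_of_mul_eq_mul_right hpos
  rw [h1]
  ring

/-- free elements: the solubilizer is the normalizer of the torus -/
theorem solSet_free (hm : 1 ≤ m) (hF : Fintype.card F = 2 ^ (2 * m + 1)) {x : Sz F m}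
    (hfree : Free x) (y : Sz F m) : y ∈ solSet x ↔
      y ∈ Subgroup.normalizer
        ((Subgroup.centralizer ({x} : Set (Sz F m)) : Subgroup (Sz F m)) : Set (Sz F m)) := by
  have hx1 : x ≠ 1 := free_ne_one hfree
  obtain ⟨N, hN, hoN, hC, hsyl⟩ := type_of_ne_one hm hF x hx1
  have hNsq : N ≠ (2 ^ (2 * m + 1)) ^ 2 := by
    intro e
    obtain ⟨P, hP⟩ := hsyl e
    obtain ⟨z, hz⟩ := sylow_std hm hF P
    have hx' : x ∈ (TSub (m := m) hF).map (MulAut.conj z).toMonoidHom := by
      rw [← hz]
      exact hP
    obtain ⟨t, ht, e'⟩ := Subgroup.mem_map.mp hx'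
    obtain ⟨a, b, rfl⟩ := (mem_TSub_iff hF t).mp ht
    apply hfree (z • oinf F m)
    rw [← e']
    simp only [MulEquiv.coe_toMonoidHom, MulAut.conj_apply]
    rw [mul_smul, mul_smul, inv_smul_smul, TS_oinf]
  obtain ⟨hcyc, hcard⟩ := hC hNsq
  have hodd : Odd (orderOf x) := by
    have hNodd : Odd N := by
      have hT : IsTorus m (Subgroup.centralizer ({x} : Set (Sz F m))) := by
        refine ⟨hcyc, ?_⟩
        rw [hcard]
        rcases hN with h | h
        · exact absurd h hNsq
        · exact h
      rw [← hcard]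
      exact torus_odd_card hT
    exact Odd.of_dvd_nat hNodd hoN
  have hT : IsTorus m (Subgroup.centralizer ({x} : Set (Sz F m))) :=
    isTorus_centralizer hm hF hx1 hodd
  rw [mem_solSet]
  constructor
  · rintro (⟨p, h1, -⟩ | ⟨U, hU, h1, h2⟩)
    · exact absurd h1 (hfree p)
    · have hxU := torus_odd_mem hm hF hU h1 hodd
      rw [← torus_eq_centralizer hm hF hU hxU hx1]
      exact h2
  · intro h
    right
    exact ⟨_, hT, Subgroup.le_normalizer (self_mem_centralizer x), h⟩

theorem card_solSet_free (hm : 1 ≤ m) (hF : Fintype.card F = 2 ^ (2 * m + 1)) {x : Sz F m}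
    (hfree : Free x) : (solSet x).card =
      4 * Nat.card (Subgroup.centralizer ({x} : Set (Sz F m))) := by
  classical
  have h1 : (solSet x).card = Nat.card (Subgroup.normalizer
      ((Subgroup.centralizer ({x} : Set (Sz F m)) : Subgroup (Sz F m)) : Set (Sz F m))) := by
    rw [Nat.card_eq_fintype_card]
    symm
    apply Fintype.card_of_subtype
    intro y
    exact solSet_free hm hF hfree y
  rw [h1]
  obtain ⟨g₁, g₂, hf₁, hf₂, -, -, hn₁, hn₂, hcover⟩ := tori_final hm hF
  rcases hcover x hfree with hU | hU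
  · rw [card_normalizer_eq_of_inU hm hF g₁ x hf₁ hU, card_eq_of_inU hm hF g₁ x hf₁ hU, hn₁]
  · rw [card_normalizer_eq_of_inU hm hF g₂ x hf₂ hU, card_eq_of_inU hm hF g₂ x hf₂ hU, hn₂]

end Cfsg.Agent.Lib.Helper1.SzSol
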