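import Mathlib
import Cfsg.Agent.Lib.Helper1.SzNc

/-!
# Suzuki groups: the solubilizer of a split-torus element (helper1)
-/

set_option autoImplicit false
set_option maxHeartbeats 2000000

namespace Cfsg.Agent.Lib.Helper1.SzSol

open Cfsg Cfsg.Agent.Lib.Helper14.Sz Cfsg.Agent.Lib.Helper1.SzTori Cfsg.Agent.Lib.Helper1.SzMax

universe u

variable {F : Type u} [Field F] [Fintype F] [CharP F 2] {m : ℕ}

attribute [local instance] fintypeSz fintypeOvoid

theorem isTorus_HSub (hF : Fintype.card F = 2 ^ (2 * m + 1)) : IsTorus m (HSub (m := m) hF) :=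
  ⟨isCyclic_HSub hF, Or.inl (card_HSub hF)⟩

theorem HS_odd (hF : Fintype.card F = 2 ^ (2 * m + 1)) (k : Fˣ) : Odd (orderOf (HS (m := m) hF k)) :=
  torus_elem_odd (isTorus_HSub hF) ((mem_HSub_iff hF _).mpr ⟨k, rfl⟩)

theorem HS_zero (hF : Fintype.card F = 2 ^ (2 * m + 1)) (k : Fˣ) :
    HS hF k • opt m (0 : F) 0 = opt m 0 0 := by
  rw [HS_opt, mul_zero, mul_zero]

/-- the normalizer of the split torus: elements preserving the pair `{∞, 0}` -/
theorem mem_normalizer_HSub (hm : 1 ≤ m) (hF : Fintype.card F = 2 ^ (2 * m + 1)) (y : Sz F m) :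
    y ∈ Subgroup.normalizer ((HSub (m := m) hF : Subgroup (Sz F m)) : Set (Sz F m)) ↔
      ((y • oinf F m = oinf F m ∧ y • opt m (0 : F) 0 = opt m 0 0) ∨
        (y • oinf F m = opt m 0 0 ∧ y • opt m (0 : F) 0 = oinf F m)) := by
  constructor
  · intro hn
    obtain ⟨k, hk⟩ := exists_unit_ne_one (F := F) hm hF
    have h1 : y * HS hF k * y⁻¹ ∈ HSub hF :=
      (Subgroup.mem_normalizer_iff.mp hn _).mp ((mem_HSub_iff hF _).mpr ⟨k, rfl⟩)
    obtain ⟨k', hk'⟩ := (mem_HSub_iff hF _).mp h1
    have hk'1 : k' ≠ 1 := by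
      rintro rfl
      rw [HS_one] at hk'
      apply hk
      apply HS_injective hF
      rw [HS_one]
      have : HS hF k = y⁻¹ * (y * HS hF k * y⁻¹) * y := by group
      rw [this, hk']
      group
    have hfix : ∀ p : suzukiOvoid F m, HS hF k • p = p → HS hF k' • (y • p) = y • p := by
      intro p hp
      rw [← hk', mul_smul, mul_smul, inv_smul_smul, hp]
    have hinf0 := HS_fixed' hF hk'1 _ (hfix (oinf F m) (HS_oinf hF k))
    have hzer0 := HS_fixed' hF hk'1 _ (hfix (opt m 0 0) (HS_zero hF k))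
    have hne : y • oinf F m ≠ y • opt m (0 : F) 0 := by
      intro e
      exact opt_ne_oinf 0 0 ((MulAction.injective y) e).symm
    rcases hinf0 with h | h
    · rcases hzer0 with h' | h'
      · exact absurd (h.trans h'.symm) hne
      · exact Or.inl ⟨h, h'⟩
    · rcases hzer0 with h' | h'
      · exact Or.inr ⟨h, h'⟩
      · exact absurd (h.trans h'.symm) hne
  · rintro (⟨h1, h2⟩ | ⟨h1, h2⟩)
    · obtain ⟨l, rfl⟩ := eq_HS_of_fix hm hF y h1 h2
      exact Subgroup.le_normalizer ((mem_HSub_iff hF _).mpr ⟨l, rfl⟩)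
    · obtain ⟨l, hl⟩ := eq_HS_of_fix hm hF (WS hF * y) (by rw [mul_smul, h1, WS_opt_zero])
        (by rw [mul_smul, h2, WS_oinf])
      have hy : y = WS hF * HS hF l := by
        rw [← hl, ← mul_assoc, WS_mul_self, one_mul]
      have hW : WS hF ∈ Subgroup.normalizer
          ((HSub (m := m) hF : Subgroup (Sz F m)) : Set (Sz F m)) := by
        rw [Subgroup.mem_normalizer_iff]
        intro z
        constructor
        · intro hz
          obtain ⟨c, rfl⟩ := (mem_HSub_iff hF _).mp hz
          rw [WS_inv, WS_HS]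
          exact (mem_HSub_iff hF _).mpr ⟨_, rfl⟩
        · intro hz
          obtain ⟨c, hc⟩ := (mem_HSub_iff hF _).mp hz
          have : z = WS hF * (WS hF * z * (WS hF)⁻¹) * WS hF := by
            rw [WS_inv]
            have h3 : WS hF * (WS hF * z * WS hF) * WS hF =
                (WS hF * WS hF) * z * (WS hF * WS hF) := by group
            rw [h3, WS_mul_self, one_mul, mul_one]
          rw [this, hc, WS_HS]
          exact (mem_HSub_iff hF _).mpr ⟨_, rfl⟩
      rw [hy]
      exact Subgroup.mul_mem _ hW (Subgroup.le_normalizer ((mem_HSub_iff hF _).mpr ⟨l, rfl⟩))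

theorem mem_solSet_HS (hm : 1 ≤ m) (hF : Fintype.card F = 2 ^ (2 * m + 1)) {k : Fˣ} (hk : k ≠ 1)
    (y : Sz F m) : y ∈ solSet (HS hF k) ↔
      (y • oinf F m = oinf F m ∨ y • opt m (0 : F) 0 = opt m 0 0 ∨
        (y • oinf F m = opt m 0 0 ∧ y • opt m (0 : F) 0 = oinf F m)) := by
  have hk1 : HS (m := m) hF k ≠ 1 := by
    intro e
    rw [← HS_one hF] at e
    exact hk (HS_injective hF e)
  rw [mem_solSet]
  constructor
  · rintro (⟨p, h1, h2⟩ | ⟨U, hU, h1, h2⟩)
    · rcases HS_fixed' hF hk p h1 with rfl | rfl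
      · exact Or.inl h2
      · exact Or.inr (Or.inl h2)
    · have hxU := torus_odd_mem hm hF hU h1 (HS_odd hF k)
      have hUc := torus_eq_centralizer hm hF hU hxU hk1
      rw [centralizer_HS_eq hm hF hk] at hUc
      rw [hUc, mem_normalizer_HSub hm hF] at h2
      rcases h2 with ⟨h3, -⟩ | h3
      · exact Or.inl h3
      · exact Or.inr (Or.inr h3)
  · rintro (h | h | h)
    · exact Or.inl ⟨oinf F m, HS_oinf hF k, h⟩
    · exact Or.inl ⟨opt m 0 0, HS_zero hF k, h⟩
    · right
      refine ⟨HSub hF, isTorus_HSub hF, Subgroup.le_normalizer ((mem_HSub_iff hF _).mpr ⟨k, rfl⟩), ?_⟩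
      rw [mem_normalizer_HSub hm hF]
      exact Or.inr h

open Classical in
theorem card_fix_oinf (hm : 1 ≤ m) (hF : Fintype.card F = 2 ^ (2 * m + 1)) :
    (Finset.univ.filter (fun y : Sz F m => y • oinf F m = oinf F m)).card =
      (2 ^ (2 * m + 1)) ^ 2 * (2 ^ (2 * m + 1) - 1) := by
  classical
  rw [← card_BS hm hF, Nat.card_eq_fintype_card]
  symm
  apply Fintype.card_of_subtype
  intro y
  rw [Finset.mem_filter]
  exact ⟨fun h => MulAction.mem_stabilizer_iff.mpr h.2,
    fun h => ⟨Finset.mem_univ _, MulAction.mem_stabilizer_iff.mp h⟩⟩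

theorem card_solSet_HS (hm : 1 ≤ m) (hF : Fintype.card F = 2 ^ (2 * m + 1)) {k : Fˣ} (hk : k ≠ 1) :
    (solSet (HS (m := m) hF k)).card = 2 * (2 ^ (2 * m + 1)) ^ 2 * (2 ^ (2 * m + 1) - 1) := by
  classical
  set A := Finset.univ.filter (fun y : Sz F m => y • oinf F m = oinf F m) with hA
  set B := Finset.univ.filter (fun y : Sz F m => y • opt m (0 : F) 0 = opt m 0 0) with hB
  set C := Finset.univ.filter (fun y : Sz F m => y • oinf F m = opt m 0 0 ∧
    y • opt m (0 : F) 0 = oinf F m) with hC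
  have hsol : solSet (HS (m := m) hF k) = (A ∪ B) ∪ C := by
    ext y
    rw [mem_solSet_HS hm hF hk, Finset.mem_union, Finset.mem_union, hA, hB, hC,
      Finset.mem_filter, Finset.mem_filter, Finset.mem_filter]
    simp only [Finset.mem_univ, true_and]
    tauto
  have hdisj : Disjoint (A ∪ B) C := by
    rw [Finset.disjoint_left]
    intro y hy hyC
    rw [hC, Finset.mem_filter] at hyC
    rw [Finset.mem_union, hA, hB, Finset.mem_filter, Finset.mem_filter] at hy
    rcases hy with h | h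
    · exact opt_ne_oinf 0 0 (hyC.2.1.symm.trans h.2)
    · exact opt_ne_oinf 0 0 (h.2.symm.trans hyC.2.2)
  have hAB : B.card = A.card := by
    apply Finset.card_bij (fun y _ => WS hF * y * WS hF)
    · intro y hy
      rw [hB, Finset.mem_filter] at hy
      rw [hA, Finset.mem_filter]
      refine ⟨Finset.mem_univ _, ?_⟩
      rw [mul_smul, mul_smul, WS_oinf, hy.2, WS_opt_zero]
    · intro a _ b _ e
      have h1 := mul_right_cancel e
      exact mul_left_cancel h1
    · intro y hy
      rw [hA, Finset.mem_filter] at hy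
      refine ⟨WS hF * y * WS hF, ?_, ?_⟩
      · rw [hB, Finset.mem_filter]
        refine ⟨Finset.mem_univ _, ?_⟩
        rw [mul_smul, mul_smul, WS_opt_zero, hy.2, WS_oinf]
      · have h3 : WS hF * (WS hF * y * WS hF) * WS hF =
            (WS hF * WS hF) * y * (WS hF * WS hF) := by group
        rw [h3, WS_mul_self, one_mul, mul_one]
  have hCI : C.card = (A ∩ B).card := by
    apply Finset.card_bij (fun y _ => WS hF * y)
    · intro y hy
      rw [hC, Finset.mem_filter] at hy
      rw [Finset.mem_inter, hA, hB, Finset.mem_filter, Finset.mem_filter]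
      refine ⟨⟨Finset.mem_univ _, ?_⟩, ⟨Finset.mem_univ _, ?_⟩⟩
      · rw [mul_smul, hy.2.1, WS_opt_zero]
      · rw [mul_smul, hy.2.2, WS_oinf]
    · intro a _ b _ e
      exact mul_left_cancel e
    · intro y hy
      rw [Finset.mem_inter, hA, hB, Finset.mem_filter, Finset.mem_filter] at hy
      refine ⟨WS hF * y, ?_, ?_⟩
      · rw [hC, Finset.mem_filter]
        refine ⟨Finset.mem_univ _, ?_, ?_⟩
        · rw [mul_smul, hy.1.2, WS_oinf]
        · rw [mul_smul, hy.2.2, WS_opt_zero]
      · rw [← mul_assoc, WS_mul_self, one_mul]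
  have hAcard : A.card = (2 ^ (2 * m + 1)) ^ 2 * (2 ^ (2 * m + 1) - 1) := card_fix_oinf hm hF
  rw [hsol, Finset.card_union_of_disjoint hdisj, hCI, Finset.card_union_add_card_inter, hAB, hAcard]
  ring

end Cfsg.Agent.Lib.Helper1.SzSol
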