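import Mathlib
import Cfsg.Agent.Lib.Helper1.SzNd

/-!
# Suzuki groups: involutions, their number, products of two involutions (helper1)
-/

set_option autoImplicit false
set_option maxHeartbeats 2000000

namespace Cfsg.Agent.Lib.Helper1.SzSol

open Cfsg Cfsg.Agent.Lib.Helper14.Sz Cfsg.Agent.Lib.Helper1.SzTori Cfsg.Agent.Lib.Helper1.SzMax

universe u

variable {F : Type u} [Field F] [Fintype F] [CharP F 2] {m : ℕ}

attribute [local instance] fintypeSz fintypeOvoid

theorem odd_three (m : ℕ) : Odd (2 ^ (2 * m + 1) - 1) ∧ Odd (2 ^ (2 * m + 1) + 2 ^ (m + 1) + 1) ∧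
    Odd (2 ^ (2 * m + 1) - 2 ^ (m + 1) + 1) := by
  have h3 : Even (2 ^ (2 * m + 1)) := Nat.even_pow.mpr ⟨even_two, by omega⟩
  have h4 : Even (2 ^ (m + 1)) := Nat.even_pow.mpr ⟨even_two, by omega⟩
  have h5 : 2 ^ (m + 1) ≤ 2 ^ (2 * m + 1) := Nat.pow_le_pow_right (by norm_num) (by omega)
  have h6 : 1 ≤ 2 ^ (m + 1) := Nat.one_le_two_pow
  obtain ⟨a, ha⟩ := h3
  obtain ⟨b, hb⟩ := h4
  exact ⟨⟨a - 1, by omega⟩, ⟨a + b, by omega⟩, ⟨a - b, by omega⟩⟩

/-- nonidentity elements of even order are conjugate into `T` -/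
theorem two_elt_conj (hm : 1 ≤ m) (hF : Fintype.card F = 2 ^ (2 * m + 1)) (x : Sz F m)
    (hx1 : x ≠ 1) (heven : Even (orderOf x)) :
    ∃ (z : Sz F m) (a b : F), x = z * TS hF a b * z⁻¹ := by
  obtain ⟨N, hN, hoN, -, hsyl⟩ := type_of_ne_one hm hF x hx1
  obtain ⟨o1, o2, o3⟩ := odd_three m
  have hNeven : Even N := by
    obtain ⟨c, hc⟩ := hoN
    obtain ⟨d, hd⟩ := heven
    exact ⟨d * c, by rw [hc, hd]; ring⟩
  have hNsq : N = (2 ^ (2 * m + 1)) ^ 2 := by
    rcases hN with h | h | h | h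
    · exact h
    · rw [h] at hNeven
      exact absurd hNeven (Nat.not_even_iff_odd.mpr o1)
    · rw [h] at hNeven
      exact absurd hNeven (Nat.not_even_iff_odd.mpr o2)
    · rw [h] at hNeven
      exact absurd hNeven (Nat.not_even_iff_odd.mpr o3)
  obtain ⟨P, hP⟩ := hsyl hNsq
  obtain ⟨z, hz⟩ := sylow_std hm hF P
  have hx' : x ∈ (TSub (m := m) hF).map (MulAut.conj z).toMonoidHom := by
    rw [← hz]
    exact hP
  obtain ⟨t, ht, e'⟩ := Subgroup.mem_map.mp hx'
  obtain ⟨a, b, rfl⟩ := (mem_TSub_iff hF t).mp ht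
  exact ⟨z, a, b, by rw [← e']; simp [MulAut.conj_apply]⟩

theorem invol_conj (hm : 1 ≤ m) (hF : Fintype.card F = 2 ^ (2 * m + 1)) (v : Sz F m)
    (hv1 : v ≠ 1) (hv2 : v * v = 1) :
    ∃ (z : Sz F m) (b : F), b ≠ 0 ∧ v = z * TS hF 0 b * z⁻¹ := by
  haveI : Fact (Nat.Prime 2) := ⟨Nat.prime_two⟩
  have hord : orderOf v = 2 := orderOf_eq_prime (by rw [pow_two]; exact hv2) hv1
  obtain ⟨z, a, b, e⟩ := two_elt_conj hm hF v hv1 (by rw [hord]; exact even_two)
  have h1 : TS hF a b * TS hF a b = 1 := by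
    have : TS hF a b = z⁻¹ * v * z := by rw [e]; group
    rw [this]
    have h2 : z⁻¹ * v * z * (z⁻¹ * v * z) = z⁻¹ * (v * v) * z := by group
    rw [h2, hv2]
    group
  have ha : a = 0 := (Cfsg.Agent.Lib.Helper1.SzSub.TS_sq_eq_one_iff hF a b).mp h1
  subst ha
  refine ⟨z, b, ?_, e⟩
  rintro rfl
  apply hv1
  rw [e, TS_zero]
  group

/-- the count hypotheses for the whole group -/
theorem countHyp_top (hm : 1 ≤ m) (hF : Fintype.card F = 2 ^ (2 * m + 1)) :
    CountHyp (⊤ : Subgroup (Sz F m)) (TSub hF) (oinf F m) := by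
  apply countHyp_Sz hm hF
  intro v _ hv1 hv2
  obtain ⟨z, b, -, e⟩ := invol_conj hm hF v hv1 hv2
  refine ⟨z, Subgroup.mem_top _, ?_⟩
  rw [e]
  have : z⁻¹ * (z * TS hF 0 b * z⁻¹) * z = TS hF 0 b := by group
  rw [this]
  exact (mem_TSub_iff hF _).mpr ⟨0, b, rfl⟩

/-- the involutions not fixing `∞` -/
noncomputable def Iset (F : Type u) [Field F] [Fintype F] [CharP F 2] (m : ℕ) :
    Finset (Sz F m) := by
  classical
  exact Finset.univ.filter (fun v => v ≠ 1 ∧ v * v = 1 ∧ v • oinf F m ≠ oinf F m)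

theorem mem_Iset (v : Sz F m) : v ∈ Iset F m ↔ v ≠ 1 ∧ v * v = 1 ∧ v • oinf F m ≠ oinf F m := by
  classical
  unfold Iset
  rw [Finset.mem_filter]
  exact ⟨fun h => h.2, fun h => ⟨Finset.mem_univ _, h⟩⟩

theorem card_Vf_top (hF : Fintype.card F = 2 ^ (2 * m + 1)) :
    (Vf (⊤ : Subgroup (Sz F m)) (TSub hF)).card = 2 ^ (2 * m + 1) - 1 := by
  have h1 := card_Zgrp hF (⊤ : Subgroup (Sz F m))
  have h2 : Zgrp hF (⊤ : Subgroup (Sz F m)) = ⊤ := by
    ext b
    simp only [AddSubgroup.mem_top, iff_true]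
    exact (mem_Zgrp hF _ b).mpr (Subgroup.mem_top _)
  rw [h2, Nat.card_congr (AddSubgroup.topEquiv (G := F)).toEquiv, Nat.card_eq_fintype_card, hF] at h1
  omega

theorem card_Iset (hm : 1 ≤ m) (hF : Fintype.card F = 2 ^ (2 * m + 1)) :
    (Iset F m).card = (2 ^ (2 * m + 1)) ^ 2 * (2 ^ (2 * m + 1) - 1) := by
  classical
  have H := countHyp_top hm hF
  have h1 := card_Jf H
  have h2 : Jf (⊤ : Subgroup (Sz F m)) (oinf F m) = Iset F m := by
    ext v
    rw [mem_Jf, mem_Iset]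
    simp only [Subgroup.mem_top, true_and]
  have h3 : Df (⊤ : Subgroup (Sz F m)) (oinf F m) = Finset.univ.erase (oinf F m) := by
    ext p
    rw [mem_Df, Finset.mem_erase]
    constructor
    · intro h
      exact ⟨h.1, Finset.mem_univ _⟩
    · intro h
      obtain ⟨g, hg⟩ := exists_smul_oinf hF p
      exact ⟨h.1, g, Subgroup.mem_top _, hg⟩
  have h4 : (Finset.univ.erase (oinf F m)).card = (2 ^ (2 * m + 1)) ^ 2 := by
    rw [Finset.card_erase_of_mem (Finset.mem_univ _), Finset.card_univ, ← Nat.card_eq_fintype_card,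
      card_ovoid hF]
    omega
  rw [h2, h3, h4, card_Vf_top hF] at h1
  exact h1

theorem conj_TS_fix (hF : Fintype.card F = 2 ^ (2 * m + 1)) (z : Sz F m) {a b : F}
    (hne : TS hF a b ≠ 1) (p : suzukiOvoid F m) (hp : (z * TS hF a b * z⁻¹) • p = p) :
    p = z • oinf F m := by
  have h1 : TS hF a b • (z⁻¹ • p) = z⁻¹ • p := by
    have := congrArg (fun r => z⁻¹ • r) hp
    simp only [mul_smul, inv_smul_smul] at this
    exact this
  have h2 := TS_fix_only hF hne _ h1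
  rw [← h2, smul_inv_smul]

/-- the product of an involution fixing `∞` with an involution not fixing `∞` -/
theorem prod_invol (hm : 1 ≤ m) (hF : Fintype.card F = 2 ^ (2 * m + 1)) {x : Sz F m}
    (hx1 : x ≠ 1) (hx : x • oinf F m = oinf F m) (hx2 : x * x = 1)
    {v : Sz F m} (hv : v ∈ Iset F m) :
    x * v ≠ 1 ∧ Odd (orderOf (x * v)) ∧ x * (x * v) * x⁻¹ = (x * v)⁻¹ := by
  obtain ⟨hv1, hv2, hvo⟩ := (mem_Iset v).mp hv
  have hxinv : x⁻¹ = x := inv_eq_of_mul_eq_one_left hx2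
  have hvinv : v⁻¹ = v := inv_eq_of_mul_eq_one_left hv2
  have hne : x * v ≠ 1 := by
    intro e
    apply hvo
    have : v = x⁻¹ := (inv_eq_of_mul_eq_one_right e).symm
    rw [this, hxinv, hx]
  have hinv : x * (x * v) * x⁻¹ = (x * v)⁻¹ := by
    rw [mul_inv_rev, hvinv, hxinv, ← mul_assoc, hx2, one_mul]
  refine ⟨hne, ?_, hinv⟩
  obtain ⟨N, hN, hoN, -, hsyl⟩ := type_of_ne_one hm hF (x * v) hne
  obtain ⟨o1, o2, o3⟩ := odd_three m
  rcases hN with h | h | h | h
  · exfalso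
    obtain ⟨P, hP⟩ := hsyl h
    obtain ⟨z, hz⟩ := sylow_std hm hF P
    have hx' : x * v ∈ (TSub (m := m) hF).map (MulAut.conj z).toMonoidHom := by
      rw [← hz]
      exact hP
    obtain ⟨t, ht, e'⟩ := Subgroup.mem_map.mp hx'
    obtain ⟨a, b, rfl⟩ := (mem_TSub_iff hF t).mp ht
    have e : x * v = z * TS hF a b * z⁻¹ := by rw [← e']; simp [MulAut.conj_apply]
    have htne : TS hF a b ≠ 1 := by
      intro e1
      apply hne
      rw [e, e1]
      group
    have hfix : (x * v) • (z • oinf F m) = z • oinf F m := by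
      rw [e, mul_smul, mul_smul, inv_smul_smul, TS_oinf]
    -- `x` fixes the fixed point of `x * v`
    have hfix2 : (x * v) • (x • (z • oinf F m)) = x • (z • oinf F m) := by
      have h1 : (x * v)⁻¹ • (z • oinf F m) = z • oinf F m := by
        rw [inv_smul_eq_iff, hfix]
      rw [← hinv, hxinv, mul_smul, mul_smul] at h1
      have h2 : x • (x • ((x * v) • (x • (z • oinf F m)))) = x • (z • oinf F m) := by rw [h1]
      rw [← mul_smul x x, hx2, one_smul] at h2
      exact h2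
    have h3 : x • (z • oinf F m) = z • oinf F m := by
      rw [e] at hfix2
      exact conj_TS_fix hF z htne _ hfix2
    have h4 : z • oinf F m = oinf F m :=
      invol_unique (countHyp_top hm hF) (Subgroup.mem_top x) hx1 hx2 h3 hx
    apply hvo
    have h5 : v = x * (x * v) := by rw [← mul_assoc, hx2, one_mul]
    rw [h5, mul_smul]
    rw [h4] at hfix
    rw [hfix, hx]
  · rw [h] at hoN
    exact Odd.of_dvd_nat o1 hoN
  · rw [h] at hoN
    exact Odd.of_dvd_nat o2 hoN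
  · rw [h] at hoN
    exact Odd.of_dvd_nat o3 hoN

/-- an involution normalizing a torus inverts it -/
theorem invol_inverts (hm : 1 ≤ m) (hF : Fintype.card F = 2 ^ (2 * m + 1))
    {U : Subgroup (Sz F m)} (hU : IsTorus m U) {x : Sz F m} (hx1 : x ≠ 1) (hx2 : x * x = 1)
    (hxN : x ∈ Subgroup.normalizer (U : Set (Sz F m))) {a : Sz F m} (ha : a ∈ U) :
    x * a * x⁻¹ = a⁻¹ := by
  haveI := hU.1
  have hxinv : x⁻¹ = x := inv_eq_of_mul_eq_one_left hx2
  have hb : x * a * x⁻¹ ∈ U := (Subgroup.mem_normalizer_iff.mp hxN a).mp ha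
  have hcomm : a * (x * a * x⁻¹) = (x * a * x⁻¹) * a := comm_of_isCyclic U _ _ ha hb
  -- `a * (x a x⁻¹)` commutes with `x`
  have h1 : x * (a * (x * a * x⁻¹)) * x⁻¹ = a * (x * a * x⁻¹) := by
    have : x * (a * (x * a * x⁻¹)) * x⁻¹ = (x * a * x⁻¹) * (x * x * a * (x⁻¹ * x⁻¹)) := by group
    have e2 : x * x * a * (x⁻¹ * x⁻¹) = a := by
      rw [hx2, one_mul, ← mul_inv_rev, hx2, inv_one, mul_one]
    rw [this, e2, ← hcomm]
  obtain ⟨z, b, hb0, ex⟩ := invol_conj hm hF x hx1 hx2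
  -- so it lies in the centralizer of `x`, a 2-group
  have h2 : z⁻¹ * (a * (x * a * x⁻¹)) * z ∈ TSub hF := by
    apply centralizer_TS hm hF (TS_zero_ne_one hF hb0)
    rw [Subgroup.mem_centralizer_singleton_iff]
    have e1 : TS hF 0 b = z⁻¹ * x * z := by rw [ex]; group
    rw [e1]
    have h3 : x * (a * (x * a * x⁻¹)) = (a * (x * a * x⁻¹)) * x := by
      have := congrArg (fun r => r * x) h1
      simp only [inv_mul_cancel_right] at this
      exact this
    have : z⁻¹ * x * z * (z⁻¹ * (a * (x * a * x⁻¹)) * z) = z⁻¹ * (x * (a * (x * a * x⁻¹))) * z := by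
      group
    rw [this, h3]
    group
  obtain ⟨a', b', e'⟩ := (mem_TSub_iff hF _).mp h2
  have h4 : (a * (x * a * x⁻¹)) ^ 4 = 1 := by
    have : a * (x * a * x⁻¹) = z * TS hF a' b' * z⁻¹ := by rw [← e']; group
    rw [this, conj_pow, Cfsg.Agent.Lib.Helper1.SzSub.TS_pow_four]
    group
  have h5 : orderOf (a * (x * a * x⁻¹)) ∣ 4 := orderOf_dvd_of_pow_eq_one h4
  have h6 : Odd (orderOf (a * (x * a * x⁻¹))) := torus_elem_odd hU (U.mul_mem ha hb)
  have h7 : orderOf (a * (x * a * x⁻¹)) = 1 := by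
    have h8 : orderOf (a * (x * a * x⁻¹)) ∣ 2 ^ 2 := by norm_num; exact h5
    obtain ⟨j, -, hj⟩ := (Nat.dvd_prime_pow Nat.prime_two).mp h8
    rw [hj] at h6
    have := ne_one_of_odd_pow_two h6
    rw [hj, this, pow_zero]
  have h9 : a * (x * a * x⁻¹) = 1 := orderOf_eq_one_iff.mp h7
  exact (inv_eq_of_mul_eq_one_right h9).symm

end Cfsg.Agent.Lib.Helper1.SzSol
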