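import Mathlib
import Cfsg.Agent.Lib.Helper1.SzNe

/-!
# Suzuki groups: the solubilizer of an involution, fibred over involutions (helper1)
-/

set_option autoImplicit false
set_option maxHeartbeats 2000000

namespace Cfsg.Agent.Lib.Helper1.SzSol

open Cfsg Cfsg.Agent.Lib.Helper14.Sz Cfsg.Agent.Lib.Helper1.SzTori Cfsg.Agent.Lib.Helper1.SzMax

universe u

variable {F : Type u} [Field F] [Fintype F] [CharP F 2] {m : ℕ}

attribute [local instance] fintypeSz fintypeOvoid

/-- square roots in a torus -/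
theorem exists_sqrt {U : Subgroup (Sz F m)} (hU : IsTorus m U) {c : Sz F m} (hc : c ∈ U) :
    ∃ a ∈ U, a * a = c := by
  obtain ⟨e, he⟩ := torus_odd_card hU
  refine ⟨c ^ (e + 1), U.pow_mem hc _, ?_⟩
  have h1 : c ^ Nat.card U = 1 := by
    have : orderOf c ∣ Nat.card U := by
      have := orderOf_dvd_natCard (⟨c, hc⟩ : U)
      rwa [Subgroup.orderOf_mk] at this
    exact orderOf_dvd_iff_pow_eq_one.mp this
  rw [← pow_add]
  have : e + 1 + (e + 1) = Nat.card U + 1 := by omega
  rw [this, pow_succ, h1, one_mul]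

theorem sq_eq_one_torus {U : Subgroup (Sz F m)} (hU : IsTorus m U) {c : Sz F m} (hc : c ∈ U)
    (h : c * c = 1) : c = 1 := by
  have h1 : orderOf c ∣ 2 := orderOf_dvd_of_pow_eq_one (by rw [pow_two]; exact h)
  have h2 : Odd (orderOf c) := torus_elem_odd hU hc
  have h3 : orderOf c = 1 := by
    rcases (Nat.dvd_prime Nat.prime_two).mp h1 with h | h
    · exact h
    · rw [h] at h2
      exact absurd h2 (by decide)
  exact orderOf_eq_one_iff.mp h3

section invol

variable {x : Sz F m}

/-- conjugating an inverting involution by a torus element -/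
theorem conj_by_torus (hm : 1 ≤ m) (hF : Fintype.card F = 2 ^ (2 * m + 1)) {U : Subgroup (Sz F m)} (hU : IsTorus m U)
    (hx1 : x ≠ 1) (hx2 : x * x = 1) (hxN : x ∈ Subgroup.normalizer (U : Set (Sz F m)))
    {a : Sz F m} (ha : a ∈ U) : a * x * a⁻¹ = x * (a⁻¹ * a⁻¹) := by
  have h1 := invol_inverts hm hF hU hx1 hx2 hxN ha
  have hxinv : x⁻¹ = x := inv_eq_of_mul_eq_one_left hx2
  have h2 : a * x = x * a⁻¹ := by
    have : a * x = x⁻¹ * (x * a * x⁻¹)⁻¹⁻¹ * x * x := by
      rw [inv_inv, hxinv]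
      have : x * (x * a * x) * x * x = (x * x) * a * (x * x) * x := by group
      rw [this, hx2, one_mul, mul_one]
    rw [this, h1, inv_inv, hxinv, mul_assoc, mul_assoc, hx2, mul_one]
  rw [h2, mul_assoc]

/-- the elements of the normalizer of a torus commuting with the involution -/
noncomputable def NC (x : Sz F m) (U : Subgroup (Sz F m)) : Finset (Sz F m) := by
  classical
  exact Finset.univ.filter (fun y => y ∈ Subgroup.normalizer (U : Set (Sz F m)) ∧ y * x = x * y)

theorem mem_NC (x : Sz F m) (U : Subgroup (Sz F m)) (y : Sz F m) :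
    y ∈ NC x U ↔ y ∈ Subgroup.normalizer (U : Set (Sz F m)) ∧ y * x = x * y := by
  classical
  unfold NC
  rw [Finset.mem_filter]
  exact ⟨fun h => h.2, fun h => ⟨Finset.mem_univ _, h⟩⟩

/-- every conjugate of `x` in the normalizer of the torus is conjugate to it under the torus -/
theorem exists_torus_conj (hm : 1 ≤ m) (hF : Fintype.card F = 2 ^ (2 * m + 1)) {U : Subgroup (Sz F m)} (hU : IsTorus m U)
    (hx1 : x ≠ 1) (hx2 : x * x = 1) (hxN : x ∈ Subgroup.normalizer (U : Set (Sz F m)))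
    {x' : Sz F m} (hx'1 : x' ≠ 1) (hx'2 : x' * x' = 1)
    (hx'N : x' ∈ Subgroup.normalizer (U : Set (Sz F m))) :
    ∃ a ∈ U, a * x * a⁻¹ = x' := by
  have hxinv : x⁻¹ = x := inv_eq_of_mul_eq_one_left hx2
  have hx'inv : x'⁻¹ = x' := inv_eq_of_mul_eq_one_left hx'2
  -- `x * x'` centralizes the torus
  haveI : Nontrivial U := by
    rw [← Finite.one_lt_card_iff_nontrivial]
    have := torus_three_le hm hU
    omega
  obtain ⟨g', hg'⟩ := exists_ne (1 : U)
  have hg1 : (g' : Sz F m) ≠ 1 := fun e => hg' (Subtype.ext e)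
  have hUc := torus_eq_centralizer hm hF hU g'.2 hg1
  have hc : x * x' ∈ U := by
    rw [hUc, Subgroup.mem_centralizer_singleton_iff]
    have h1 := invol_inverts hm hF hU hx1 hx2 hxN g'.2
    have h2 := invol_inverts hm hF hU hx'1 hx'2 hx'N g'.2
    have h3 : x * x' * (g' : Sz F m) * (x * x')⁻¹ = (g' : Sz F m) := by
      have : x * x' * (g' : Sz F m) * (x * x')⁻¹ = x * (x' * (g' : Sz F m) * x'⁻¹) * x⁻¹ := by
        group
      rw [this, h2]
      have h4 := invol_inverts hm hF hU hx1 hx2 hxN (U.inv_mem g'.2)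
      rw [h4, inv_inv]
    have h5 : x * x' * (g' : Sz F m) = (g' : Sz F m) * (x * x') := by
      have := congrArg (fun r => r * (x * x')) h3
      simp only [inv_mul_cancel_right] at this
      exact this
    exact h5
  obtain ⟨a, ha, haa⟩ := exists_sqrt hU (U.inv_mem hc)
  refine ⟨a, ha, ?_⟩
  rw [conj_by_torus hm hF hU hx1 hx2 hxN ha, ← mul_inv_rev, haa, inv_inv, ← mul_assoc, hx2,
    one_mul]

/-- the order of the normalizer of a torus -/
theorem card_normalizer_eq (hm : 1 ≤ m) (hF : Fintype.card F = 2 ^ (2 * m + 1)) {U : Subgroup (Sz F m)} (hU : IsTorus m U)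
    (hx1 : x ≠ 1) (hx2 : x * x = 1) (hxN : x ∈ Subgroup.normalizer (U : Set (Sz F m))) :
    Nat.card (Subgroup.normalizer (U : Set (Sz F m))) = Nat.card U * (NC x U).card := by
  classical
  have hxinv : x⁻¹ = x := inv_eq_of_mul_eq_one_left hx2
  have h1 : Nat.card (Subgroup.normalizer (U : Set (Sz F m))) =
      (Finset.univ.filter (fun y : Sz F m => y ∈ Subgroup.normalizer (U : Set (Sz F m)))).card := by
    rw [Nat.card_eq_fintype_card, Fintype.card_subtype]
  have h2 : Nat.card U = (Finset.univ.filter (fun y : Sz F m => y ∈ U)).card := by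
    rw [Nat.card_eq_fintype_card, Fintype.card_subtype]
  rw [h1, h2, ← Finset.card_product]
  symm
  apply Finset.card_bij (fun as _ => as.1 * as.2)
  · intro as has
    obtain ⟨h3, h4⟩ := Finset.mem_product.mp has
    rw [Finset.mem_filter] at h3 ⊢
    exact ⟨Finset.mem_univ _, Subgroup.mul_mem _ (Subgroup.le_normalizer h3.2)
      ((mem_NC x U _).mp h4).1⟩
  · intro as has as' has' e
    obtain ⟨h3, h4⟩ := Finset.mem_product.mp has
    obtain ⟨h3', h4'⟩ := Finset.mem_product.mp has'
    rw [Finset.mem_filter] at h3 h3'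
    obtain ⟨-, k4⟩ := (mem_NC x U _).mp h4
    obtain ⟨-, k4'⟩ := (mem_NC x U _).mp h4'
    -- `c = as'.1⁻¹ * as.1 = as'.2 * as.2⁻¹` lies in `U` and commutes with `x`
    have hc : as'.1⁻¹ * as.1 ∈ U := U.mul_mem (U.inv_mem h3'.2) h3.2
    have hce : as'.1⁻¹ * as.1 = as'.2 * as.2⁻¹ := by
      have : as'.1⁻¹ * as.1 = as'.1⁻¹ * (as.1 * as.2) * as.2⁻¹ := by group
      rw [this, e]
      group
    have hcx : (as'.1⁻¹ * as.1) * x = x * (as'.1⁻¹ * as.1) := by
      rw [hce]
      have k5 : as.2⁻¹ * x = x * as.2⁻¹ := by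
        have : as.2⁻¹ * x = as.2⁻¹ * (x * as.2) * as.2⁻¹ := by group
        rw [this, ← k4]
        group
      rw [mul_assoc, k5, ← mul_assoc, k4', mul_assoc]
    have hinv := invol_inverts hm hF hU hx1 hx2 hxN hc
    have hc1 : as'.1⁻¹ * as.1 = 1 := by
      apply sq_eq_one_torus hU hc
      have : x * (as'.1⁻¹ * as.1) * x⁻¹ = as'.1⁻¹ * as.1 := by
        rw [← hcx, mul_assoc, hxinv, hx2, mul_one]
      rw [this] at hinv
      have := congrArg (fun r => r * (as'.1⁻¹ * as.1)) hinv
      simp only [inv_mul_cancel] at this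
      exact this
    have e1 : as.1 = as'.1 := by
      have : as.1 = as'.1 * (as'.1⁻¹ * as.1) := by group
      rw [this, hc1, mul_one]
    have e2 : as.2 = as'.2 := by
      rw [e1] at e
      exact mul_left_cancel e
    exact Prod.ext e1 e2
  · intro y hy
    rw [Finset.mem_filter] at hy
    have hyN := hy.2
    have hx'N : y * x * y⁻¹ ∈ Subgroup.normalizer (U : Set (Sz F m)) :=
      Subgroup.mul_mem _ (Subgroup.mul_mem _ hyN hxN) (Subgroup.inv_mem _ hyN)
    have hx'1 : y * x * y⁻¹ ≠ 1 := by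
      intro e
      apply hx1
      have : x = y⁻¹ * (y * x * y⁻¹) * y := by group
      rw [this, e]
      group
    have hx'2 : y * x * y⁻¹ * (y * x * y⁻¹) = 1 := by
      have : y * x * y⁻¹ * (y * x * y⁻¹) = y * (x * x) * y⁻¹ := by group
      rw [this, hx2]
      group
    obtain ⟨a, ha, hax⟩ := exists_torus_conj hm hF hU hx1 hx2 hxN hx'1 hx'2 hx'N
    refine ⟨(a, a⁻¹ * y), Finset.mem_product.mpr ⟨?_, ?_⟩, by simp⟩
    · rw [Finset.mem_filter]
      exact ⟨Finset.mem_univ _, ha⟩
    · rw [mem_NC]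
      refine ⟨Subgroup.mul_mem _ (Subgroup.inv_mem _ (Subgroup.le_normalizer ha)) hyN, ?_⟩
      have : a⁻¹ * y * x = a⁻¹ * (y * x * y⁻¹) * y := by group
      rw [this, ← hax]
      group

end invol

end Cfsg.Agent.Lib.Helper1.SzSol
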