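import Mathlib
import Cfsg.Agent.Lib.Helper1.SzNf

/-!
# Suzuki groups: orders of the normalizers of tori; fibres of the solubilizer (helper1)
-/

set_option autoImplicit false
set_option maxHeartbeats 2000000

namespace Cfsg.Agent.Lib.Helper1.SzSol

open Cfsg Cfsg.Agent.Lib.Helper14.Sz Cfsg.Agent.Lib.Helper1.SzTori Cfsg.Agent.Lib.Helper1.SzMax

universe u

variable {F : Type u} [Field F] [Fintype F] [CharP F 2] {m : ℕ}

attribute [local instance] fintypeSz fintypeOvoid

theorem card_normalizer_HSub (hm : 1 ≤ m) (hF : Fintype.card F = 2 ^ (2 * m + 1)) :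
    Nat.card (Subgroup.normalizer ((HSub (m := m) hF : Subgroup (Sz F m)) : Set (Sz F m))) =
      2 * Nat.card (HSub (m := m) hF) := by
  classical
  set A := Finset.univ.filter (fun y : Sz F m => y • oinf F m = oinf F m ∧
    y • opt m (0 : F) 0 = opt m 0 0) with hA
  set C := Finset.univ.filter (fun y : Sz F m => y • oinf F m = opt m 0 0 ∧
    y • opt m (0 : F) 0 = oinf F m) with hC
  have h1 : Nat.card (Subgroup.normalizer ((HSub (m := m) hF : Subgroup (Sz F m)) : Set (Sz F m))) =
      (A ∪ C).card := by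
    rw [Nat.card_eq_fintype_card]
    apply Fintype.card_of_subtype
    intro y
    rw [mem_normalizer_HSub hm hF, Finset.mem_union, hA, hC, Finset.mem_filter, Finset.mem_filter]
    simp only [Finset.mem_univ, true_and]
  have h2 : Nat.card (HSub (m := m) hF) = A.card := by
    rw [Nat.card_eq_fintype_card]
    apply Fintype.card_of_subtype
    intro y
    rw [hA, Finset.mem_filter, mem_HSub_iff]
    constructor
    · rintro ⟨-, h3, h4⟩
      exact eq_HS_of_fix hm hF y h3 h4
    · rintro ⟨k, rfl⟩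
      exact ⟨Finset.mem_univ _, HS_oinf hF k, HS_zero hF k⟩
  have hdisj : Disjoint A C := by
    rw [Finset.disjoint_left]
    intro y hy hyC
    rw [hA, Finset.mem_filter] at hy
    rw [hC, Finset.mem_filter] at hyC
    exact opt_ne_oinf 0 0 (hyC.2.1.symm.trans hy.2.1)
  have hCA : C.card = A.card := by
    apply Finset.card_bij (fun y _ => WS hF * y)
    · intro y hy
      rw [hC, Finset.mem_filter] at hy
      rw [hA, Finset.mem_filter]
      refine ⟨Finset.mem_univ _, ?_, ?_⟩
      · rw [mul_smul, hy.2.1, WS_opt_zero]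
      · rw [mul_smul, hy.2.2, WS_oinf]
    · intro a _ b _ e
      exact mul_left_cancel e
    · intro y hy
      rw [hA, Finset.mem_filter] at hy
      refine ⟨WS hF * y, ?_, ?_⟩
      · rw [hC, Finset.mem_filter]
        refine ⟨Finset.mem_univ _, ?_, ?_⟩
        · rw [mul_smul, hy.2.1, WS_oinf]
        · rw [mul_smul, hy.2.2, WS_opt_zero]
      · rw [← mul_assoc, WS_mul_self, one_mul]
  rw [h1, Finset.card_union_of_disjoint hdisj, hCA, h2]
  ring

/-- the normalizer of the torus of a nonidentity element of odd order fixing a point -/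
theorem card_normalizer_fixes (hm : 1 ≤ m) (hF : Fintype.card F = 2 ^ (2 * m + 1)) {h : Sz F m}
    (hh1 : h ≠ 1) (hodd : Odd (orderOf h)) (hfix : Fixes h) :
    Nat.card (Subgroup.normalizer
      ((Subgroup.centralizer ({h} : Set (Sz F m)) : Subgroup (Sz F m)) : Set (Sz F m))) =
      2 * Nat.card (Subgroup.centralizer ({h} : Set (Sz F m))) := by
  obtain ⟨h₀, ⟨a, b, e⟩ | ⟨k, hk, e⟩⟩ := exists_conj_std hm hF h hh1 hfix
  · exfalso
    have h4 : h ^ 4 = 1 := by
      have : h = h₀⁻¹ * TS hF a b * h₀⁻¹⁻¹ := by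
        rw [← e]
        group
      rw [this, conj_pow, Cfsg.Agent.Lib.Helper1.SzSub.TS_pow_four]
      group
    have h5 : orderOf h ∣ 4 := orderOf_dvd_of_pow_eq_one h4
    have h6 : orderOf h ∣ 2 ^ 2 := by
      norm_num
      exact h5
    obtain ⟨j, -, hj⟩ := (Nat.dvd_prime_pow Nat.prime_two).mp h6
    rw [hj] at hodd
    have := ne_one_of_odd_pow_two hodd
    rw [this, pow_zero] at hj
    exact hh1 (orderOf_eq_one_iff.mp hj)
  · have hg' : h = h₀⁻¹ * HS hF k * h₀⁻¹⁻¹ := by
      rw [← e]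
      group
    have hC : Subgroup.centralizer ({h} : Set (Sz F m)) =
        (HSub hF).map (MulAut.conj h₀⁻¹).toMonoidHom := by
      rw [hg', centralizer_conj, centralizer_HS_eq hm hF hk]
    rw [hC, card_normalizer_map_conj, card_map_conj, card_normalizer_HSub hm hF]

/-- the normalizer of the torus of a free element -/
theorem card_normalizer_free (hm : 1 ≤ m) (hF : Fintype.card F = 2 ^ (2 * m + 1)) {h : Sz F m}
    (hfree : Free h) :
    Nat.card (Subgroup.normalizer
      ((Subgroup.centralizer ({h} : Set (Sz F m)) : Subgroup (Sz F m)) : Set (Sz F m))) =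
      4 * Nat.card (Subgroup.centralizer ({h} : Set (Sz F m))) := by
  obtain ⟨g₁, g₂, hf₁, hf₂, -, -, hn₁, hn₂, hcover⟩ := tori_final hm hF
  rcases hcover h hfree with hU | hU
  · rw [card_normalizer_eq_of_inU hm hF g₁ h hf₁ hU, card_eq_of_inU hm hF g₁ h hf₁ hU, hn₁]
  · rw [card_normalizer_eq_of_inU hm hF g₂ h hf₂ hU, card_eq_of_inU hm hF g₂ h hf₂ hU, hn₂]

section invol

variable {x : Sz F m}

/-- both involutions normalize the torus of their product -/
theorem mem_normalizer_prod (hm : 1 ≤ m) (hF : Fintype.card F = 2 ^ (2 * m + 1))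
    (hx1 : x ≠ 1) (hx : x • oinf F m = oinf F m) (hx2 : x * x = 1)
    {v : Sz F m} (hv : v ∈ Iset F m) :
    IsTorus m (Subgroup.centralizer ({x * v} : Set (Sz F m))) ∧
    x ∈ Subgroup.normalizer
      ((Subgroup.centralizer ({x * v} : Set (Sz F m)) : Subgroup (Sz F m)) : Set (Sz F m)) ∧
    v ∈ Subgroup.normalizer
      ((Subgroup.centralizer ({x * v} : Set (Sz F m)) : Subgroup (Sz F m)) : Set (Sz F m)) := by
  obtain ⟨hne, hodd, hinv⟩ := prod_invol hm hF hx1 hx hx2 hv
  obtain ⟨hv1, hv2, hvo⟩ := (mem_Iset v).mp hv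
  have hT := isTorus_centralizer hm hF hne hodd
  obtain ⟨-, -, hsame⟩ := torus_of_odd hm hF (x * v) hne hodd
  have hinvmem : (x * v)⁻¹ ∈ Subgroup.centralizer ({x * v} : Set (Sz F m)) :=
    Subgroup.inv_mem _ (self_mem_centralizer _)
  have hinvne : (x * v)⁻¹ ≠ 1 := by
    intro e
    apply hne
    rw [← inv_inv (x * v), e, inv_one]
  have hxN : x ∈ Subgroup.normalizer
      ((Subgroup.centralizer ({x * v} : Set (Sz F m)) : Subgroup (Sz F m)) : Set (Sz F m)) := by
    apply mem_normalizer_centralizer_of_conj_mem (x * v) hsame x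
    · rw [hinv]
      exact hinvmem
    · rw [hinv]
      exact hinvne
  refine ⟨hT, hxN, ?_⟩
  have h3 := Subgroup.mul_mem _ (Subgroup.inv_mem _ hxN)
    (Subgroup.le_normalizer (self_mem_centralizer (x * v)))
  rwa [inv_mul_cancel_left] at h3

/-- the fibre of the solubilizer over an involution not fixing `∞` -/
theorem card_fibre (hm : 1 ≤ m) (hF : Fintype.card F = 2 ^ (2 * m + 1))
    (hx1 : x ≠ 1) (hx : x • oinf F m = oinf F m) (hx2 : x * x = 1)
    {v : Sz F m} (hv : v ∈ Iset F m) [DecidableEq (Sz F m)] :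
    ((solSet x).filter (fun y => y * x * y⁻¹ = v)).card =
      (NC x (Subgroup.centralizer ({x * v} : Set (Sz F m)))).card := by
  obtain ⟨hne, hodd, hinv⟩ := prod_invol hm hF hx1 hx hx2 hv
  obtain ⟨hv1, hv2, hvo⟩ := (mem_Iset v).mp hv
  obtain ⟨hT, hxN, hvN⟩ := mem_normalizer_prod hm hF hx1 hx hx2 hv
  obtain ⟨a₀, ha₀, ha₀x⟩ := exists_torus_conj hm hF hT hx1 hx2 hxN hv1 hv2 hvN
  symm
  apply Finset.card_bij (fun s _ => a₀ * s)
  · intro s hs
    obtain ⟨hsN, hsx⟩ := (mem_NC x _ s).mp hs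
    rw [Finset.mem_filter, mem_solSet]
    refine ⟨Or.inr ⟨_, hT, hxN, Subgroup.mul_mem _ (Subgroup.le_normalizer ha₀) hsN⟩, ?_⟩
    have : a₀ * s * x * (a₀ * s)⁻¹ = a₀ * (s * x * s⁻¹) * a₀⁻¹ := by group
    rw [this, hsx, mul_inv_cancel_right, ha₀x]
  · intro a _ b _ e
    exact mul_left_cancel e
  · intro y hy
    rw [Finset.mem_filter, mem_solSet] at hy
    obtain ⟨hysol, hyv⟩ := hy
    have hyN : y ∈ Subgroup.normalizer
        ((Subgroup.centralizer ({x * v} : Set (Sz F m)) : Subgroup (Sz F m)) : Set (Sz F m)) := by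
      rcases hysol with ⟨p, h1, h2⟩ | ⟨U', hU', h1, h2⟩
      · exfalso
        have hp : p = oinf F m :=
          invol_unique (countHyp_top hm hF) (Subgroup.mem_top x) hx1 hx2 h1 hx
        apply hvo
        rw [← hyv, mul_smul, mul_smul]
        rw [hp] at h2
        have : y⁻¹ • oinf F m = oinf F m := by rw [inv_smul_eq_iff, h2]
        rw [this, hx, h2]
      · have hvU' : v ∈ Subgroup.normalizer (U' : Set (Sz F m)) := by
          rw [← hyv]
          exact Subgroup.mul_mem _ (Subgroup.mul_mem _ h2 h1) (Subgroup.inv_mem _ h2)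
        have hhU' := torus_odd_mem hm hF hU' (Subgroup.mul_mem _ h1 hvU') hodd
        rw [← torus_eq_centralizer hm hF hU' hhU' hne]
        exact h2
    refine ⟨a₀⁻¹ * y, ?_, by group⟩
    rw [mem_NC]
    refine ⟨Subgroup.mul_mem _ (Subgroup.inv_mem _ (Subgroup.le_normalizer ha₀)) hyN, ?_⟩
    have : a₀⁻¹ * y * x = a₀⁻¹ * (y * x * y⁻¹) * y := by group
    rw [this, hyv, ← ha₀x]
    group

open Classical in
/-- the fibre sizes -/
theorem card_NC_prod (hm : 1 ≤ m) (hF : Fintype.card F = 2 ^ (2 * m + 1))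
    (hx1 : x ≠ 1) (hx : x • oinf F m = oinf F m) (hx2 : x * x = 1)
    {v : Sz F m} (hv : v ∈ Iset F m) :
    (NC x (Subgroup.centralizer ({x * v} : Set (Sz F m)))).card =
      if Fixes (x * v) then 2 else 4 := by
  obtain ⟨hne, hodd, hinv⟩ := prod_invol hm hF hx1 hx hx2 hv
  obtain ⟨hT, hxN, hvN⟩ := mem_normalizer_prod hm hF hx1 hx hx2 hv
  have h1 := card_normalizer_eq hm hF hT hx1 hx2 hxN
  have hpos : 0 < Nat.card (Subgroup.centralizer ({x * v} : Set (Sz F m))) := Nat.card_pos
  by_cases hfix : Fixes (x * v)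
  · rw [if_pos hfix]
    rw [card_normalizer_fixes hm hF hne hodd hfix, mul_comm] at h1
    exact (Nat.eq_of_mul_eq_mul_left hpos h1).symm
  · rw [if_neg hfix]
    rw [card_normalizer_free hm hF ((free_iff_not_fixes _).mpr hfix), mul_comm] at h1
    exact (Nat.eq_of_mul_eq_mul_left hpos h1).symm

end invol

end Cfsg.Agent.Lib.Helper1.SzSol
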