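import Mathlib
import Cfsg.Agent.Lib.Helper1.SzNg

/-!
# Suzuki groups: counting the pairs of involutions whose product fixes a point (helper1)
-/

set_option autoImplicit false
set_option maxHeartbeats 2000000

namespace Cfsg.Agent.Lib.Helper1.SzSol

open Cfsg Cfsg.Agent.Lib.Helper14.Sz Cfsg.Agent.Lib.Helper1.SzTori Cfsg.Agent.Lib.Helper1.SzMax

universe u

variable {F : Type u} [Field F] [Fintype F] [CharP F 2] {m : ℕ}

attribute [local instance] fintypeSz fintypeOvoid

/-- the elements swapping the two standard points -/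
theorem swap_std_eq (hm : 1 ≤ m) (hF : Fintype.card F = 2 ^ (2 * m + 1)) {y : Sz F m}
    (h1 : y • oinf F m = opt m 0 0) (h2 : y • opt m (0 : F) 0 = oinf F m) :
    ∃ l : Fˣ, y = WS hF * HS hF l := by
  have h3 : (WS hF * y) • oinf F m = oinf F m := by rw [mul_smul, h1, WS_opt_zero]
  have h4 : (WS hF * y) • opt m (0 : F) 0 = opt m 0 0 := by rw [mul_smul, h2, WS_oinf]
  obtain ⟨l, hl⟩ := eq_HS_of_fix hm hF _ h3 h4
  refine ⟨l, ?_⟩
  rw [← hl, ← mul_assoc, WS_mul_self, one_mul]

theorem swap_std_mem (hF : Fintype.card F = 2 ^ (2 * m + 1)) (l : Fˣ) :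
    (WS hF * HS hF l) • oinf F m = opt m 0 0 ∧
      (WS hF * HS hF l) • opt m (0 : F) 0 = oinf F m := by
  constructor
  · rw [mul_smul, HS_oinf, WS_oinf]
  · rw [mul_smul, HS_zero, WS_opt_zero]

theorem swap_std_sq (hF : Fintype.card F = 2 ^ (2 * m + 1)) (l : Fˣ) :
    (WS hF * HS hF l) * (WS hF * HS (m := m) hF l) = 1 := by
  have : (WS hF * HS hF l) * (WS hF * HS (m := m) hF l) =
      (WS hF * HS hF l * WS hF) * HS hF l := by group
  rw [this, WS_HS, ← HS_mul, inv_mul_cancel, HS_one]

open Classical in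
theorem card_swap_std (hm : 1 ≤ m) (hF : Fintype.card F = 2 ^ (2 * m + 1)) :
    (Finset.univ.filter (fun y : Sz F m => y • oinf F m = opt m 0 0 ∧
      y • opt m (0 : F) 0 = oinf F m)).card = 2 ^ (2 * m + 1) - 1 := by
  have h0 : (Finset.univ : Finset Fˣ).card = 2 ^ (2 * m + 1) - 1 := by
    rw [Finset.card_univ, Fintype.card_units, hF]
  rw [← h0]
  symm
  apply Finset.card_bij (fun (l : Fˣ) _ => WS hF * HS (m := m) hF l)
  · intro l _
    rw [Finset.mem_filter]
    exact ⟨Finset.mem_univ _, swap_std_mem hF l⟩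
  · intro a _ b _ e
    exact HS_injective hF (mul_left_cancel e)
  · intro y hy
    rw [Finset.mem_filter] at hy
    obtain ⟨l, hl⟩ := swap_std_eq hm hF hy.2.1 hy.2.2
    exact ⟨l, Finset.mem_univ _, hl.symm⟩

/-- an element swapping two points is an involution -/
theorem swap_sq (hm : 1 ≤ m) (hF : Fintype.card F = 2 ^ (2 * m + 1)) {p p' : suzukiOvoid F m}
    (hpp : p ≠ p') {g : Sz F m} (h1 : g • p = p') (h2 : g • p' = p) : g * g = 1 := by
  obtain ⟨z, hz1, hz2⟩ := to_std hF p p' hpp
  have hp : z⁻¹ • oinf F m = p := by rw [← hz1, inv_smul_smul]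
  have hp' : z⁻¹ • opt m (0 : F) 0 = p' := by rw [← hz2, inv_smul_smul]
  have h3 : (z * g * z⁻¹) • oinf F m = opt m 0 0 := by
    rw [mul_smul, mul_smul, hp, h1, hz2]
  have h4 : (z * g * z⁻¹) • opt m (0 : F) 0 = oinf F m := by
    rw [mul_smul, mul_smul, hp', h2, hz1]
  obtain ⟨l, hl⟩ := swap_std_eq hm hF h3 h4
  have h5 := swap_std_sq (m := m) hF l
  rw [← hl] at h5
  have : g * g = z⁻¹ * ((z * g * z⁻¹) * (z * g * z⁻¹)) * z := by group
  rw [this, h5]
  group

open Classical in
theorem card_swap (hm : 1 ≤ m) (hF : Fintype.card F = 2 ^ (2 * m + 1)) {p p' : suzukiOvoid F m}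
    (hpp : p ≠ p') :
    (Finset.univ.filter (fun g : Sz F m => g • p = p' ∧ g • p' = p)).card =
      2 ^ (2 * m + 1) - 1 := by
  obtain ⟨z, hz1, hz2⟩ := to_std hF p p' hpp
  have hp : z⁻¹ • oinf F m = p := by rw [← hz1, inv_smul_smul]
  have hp' : z⁻¹ • opt m (0 : F) 0 = p' := by rw [← hz2, inv_smul_smul]
  rw [← card_swap_std hm hF]
  apply Finset.card_bij (fun (g : Sz F m) _ => z * g * z⁻¹)
  · intro g hg
    rw [Finset.mem_filter] at hg
    rw [Finset.mem_filter]
    refine ⟨Finset.mem_univ _, ?_, ?_⟩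
    · rw [mul_smul, mul_smul, hp, hg.2.1, hz2]
    · rw [mul_smul, mul_smul, hp', hg.2.2, hz1]
  · intro a _ b _ e
    exact mul_left_cancel (mul_right_cancel e)
  · intro y hy
    rw [Finset.mem_filter] at hy
    refine ⟨z⁻¹ * y * z, ?_, by group⟩
    rw [Finset.mem_filter]
    refine ⟨Finset.mem_univ _, ?_, ?_⟩
    · rw [mul_smul, mul_smul, hz1, hy.2.1, hp']
    · rw [mul_smul, mul_smul, hz2, hy.2.2, hp]

/-- an element fixing three points is trivial -/
theorem three_fix (hm : 1 ≤ m) (hF : Fintype.card F = 2 ^ (2 * m + 1)) {g : Sz F m}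
    {p p' : suzukiOvoid F m} (h0 : g • oinf F m = oinf F m) (hp : p ≠ oinf F m)
    (hp' : p' ≠ oinf F m) (hpp : p ≠ p') (h1 : g • p = p) (h2 : g • p' = p') : g = 1 := by
  by_contra hne
  have H := countHyp_top hm hF
  by_cases hT : g ∈ TSub hF
  · exact hp (H.onlyT g hT hne p h1)
  · exact hpp (H.two g h0 hT p p' hp hp' h1 h2)

section invol

variable {x : Sz F m}

theorem invol_moves (hm : 1 ≤ m) (hF : Fintype.card F = 2 ^ (2 * m + 1))
    (hx1 : x ≠ 1) (hx : x • oinf F m = oinf F m) (hx2 : x * x = 1)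
    {p : suzukiOvoid F m} (hp : p ≠ oinf F m) : x • p ≠ p ∧ x • p ≠ oinf F m := by
  constructor
  · intro e
    exact hp (invol_unique (countHyp_top hm hF) (Subgroup.mem_top x) hx1 hx2 e hx)
  · intro e
    apply hp
    have h1 : x • (x • p) = p := by rw [← mul_smul, hx2, one_smul]
    rw [← h1, e, hx]

open Classical in
/-- the involutions not fixing `∞` which agree with `x` at a given point -/
theorem card_Iset_swap (hm : 1 ≤ m) (hF : Fintype.card F = 2 ^ (2 * m + 1))
    (hx1 : x ≠ 1) (hx : x • oinf F m = oinf F m) (hx2 : x * x = 1)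
    {p : suzukiOvoid F m} (hp : p ≠ oinf F m) :
    ((Iset F m).filter (fun v => v • p = x • p)).card = 2 ^ (2 * m + 1) - 2 := by
  obtain ⟨hxp, hxpo⟩ := invol_moves hm hF hx1 hx hx2 hp
  have hxx : x • (x • p) = p := by rw [← mul_smul, hx2, one_smul]
  have hS := card_swap hm hF (p := p) (p' := x • p) (Ne.symm hxp)
  have hnot : x ∉ (Iset F m).filter (fun v => v • p = x • p) := by
    intro h
    rw [Finset.mem_filter, mem_Iset] at h
    exact h.1.2.2 hx
  have heq : Finset.univ.filter (fun g : Sz F m => g • p = x • p ∧ g • (x • p) = p) =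
      insert x ((Iset F m).filter (fun v => v • p = x • p)) := by
    ext g
    rw [Finset.mem_filter, Finset.mem_insert, Finset.mem_filter, mem_Iset]
    constructor
    · rintro ⟨-, h1, h2⟩
      by_cases hgx : g = x
      · exact Or.inl hgx
      · right
        refine ⟨⟨?_, swap_sq hm hF (Ne.symm hxp) h1 h2, ?_⟩, h1⟩
        · rintro rfl
          rw [one_smul] at h1
          exact hxp h1.symm
        · intro hg
          apply hgx
          have h3 : x * g = 1 := by
            apply three_fix hm hF (p := p) (p' := x • p) _ hp hxpo (Ne.symm hxp)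
            · rw [mul_smul, h1, hxx]
            · rw [mul_smul, h2]
            · rw [mul_smul, hg, hx]
          have h4 : x⁻¹ = x := inv_eq_of_mul_eq_one_left hx2
          rw [← h4]
          exact (inv_eq_of_mul_eq_one_right h3).symm
    · rintro (rfl | ⟨⟨-, hv2, -⟩, h1⟩)
      · exact ⟨Finset.mem_univ _, rfl, hxx⟩
      · refine ⟨Finset.mem_univ _, h1, ?_⟩
        rw [← h1, ← mul_smul, hv2, one_smul]
  rw [heq, Finset.card_insert_of_notMem hnot] at hS
  omega

open Classical in
/-- the fixed points of the product, seen from the involution `v` -/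
theorem card_fixed_prod (hm : 1 ≤ m) (hF : Fintype.card F = 2 ^ (2 * m + 1))
    (hx1 : x ≠ 1) (hx : x • oinf F m = oinf F m) (hx2 : x * x = 1)
    {v : Sz F m} (hv : v ∈ Iset F m) :
    ((Finset.univ.erase (oinf F m)).filter (fun p => v • p = x • p)).card =
      if Fixes (x * v) then 2 else 0 := by
  obtain ⟨hne, hodd, hinv⟩ := prod_invol hm hF hx1 hx hx2 hv
  obtain ⟨hv1, hv2, hvo⟩ := (mem_Iset v).mp hv
  have hxinv : x⁻¹ = x := inv_eq_of_mul_eq_one_left hx2
  have hiff : ∀ p : suzukiOvoid F m, v • p = x • p ↔ (x * v) • p = p := by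
    intro p
    rw [mul_smul]
    constructor
    · intro h
      rw [h, ← mul_smul, hx2, one_smul]
    · intro h
      have h' : x • (x • v • p) = x • p := by rw [h]
      rwa [← mul_smul, hx2, one_smul] at h'
  by_cases hfix : Fixes (x * v)
  · rw [if_pos hfix]
    obtain ⟨h₀, ⟨a, b, e⟩ | ⟨k, hk, e⟩⟩ := exists_conj_std hm hF (x * v) hne hfix
    · exfalso
      have h4 : (x * v) ^ 4 = 1 := by
        have : x * v = h₀⁻¹ * TS hF a b * h₀⁻¹⁻¹ := by
          rw [← e]
          group
        rw [this, conj_pow, Cfsg.Agent.Lib.Helper1.SzSub.TS_pow_four]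
        group
      have h5 : orderOf (x * v) ∣ 4 := orderOf_dvd_of_pow_eq_one h4
      have h6 : orderOf (x * v) ∣ 2 ^ 2 := by
        norm_num
        exact h5
      obtain ⟨j, -, hj⟩ := (Nat.dvd_prime_pow Nat.prime_two).mp h6
      rw [hj] at hodd
      have := ne_one_of_odd_pow_two hodd
      rw [this, pow_zero] at hj
      exact hne (orderOf_eq_one_iff.mp hj)
    · have hg' : x * v = h₀⁻¹ * HS hF k * h₀ := by
        rw [← e]
        group
      have hne2 : h₀⁻¹ • oinf F m ≠ h₀⁻¹ • opt m (0 : F) 0 := by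
        intro h
        exact opt_ne_oinf (m := m) (0 : F) 0 ((smul_left_cancel _ h).symm)
      have hset : (Finset.univ.erase (oinf F m)).filter (fun p => v • p = x • p) =
          {h₀⁻¹ • oinf F m, h₀⁻¹ • opt m (0 : F) 0} := by
        ext p
        rw [Finset.mem_filter, Finset.mem_erase, Finset.mem_insert, Finset.mem_singleton, hiff]
        constructor
        · rintro ⟨-, h⟩
          rw [hg', mul_smul, mul_smul, inv_smul_eq_iff] at h
          rcases HS_fixed' hF hk _ h with h' | h'
          · left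
            rw [← h', inv_smul_smul]
          · right
            rw [← h', inv_smul_smul]
        · intro h
          have hfp : (x * v) • p = p := by
            rcases h with rfl | rfl
            · rw [hg', mul_smul, mul_smul, smul_inv_smul, HS_oinf]
            · rw [hg', mul_smul, mul_smul, smul_inv_smul, HS_zero]
          refine ⟨⟨?_, Finset.mem_univ _⟩, hfp⟩
          intro hpo
          apply hvo
          rw [hpo, mul_smul] at hfp
          have : x • (x • v • oinf F m) = x • oinf F m := by rw [hfp]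
          rw [← mul_smul, hx2, one_smul, hx] at this
          exact this
      rw [hset, Finset.card_pair hne2]
  · rw [if_neg hfix, Finset.card_eq_zero, Finset.filter_eq_empty_iff]
    intro p _ h
    exact hfix ⟨p, (hiff p).mp h⟩

open Classical in
/-- the double count -/
theorem card_Iset_fixes (hm : 1 ≤ m) (hF : Fintype.card F = 2 ^ (2 * m + 1))
    (hx1 : x ≠ 1) (hx : x • oinf F m = oinf F m) (hx2 : x * x = 1) :
    (∑ v ∈ Iset F m, if Fixes (x * v) then 2 else 0) =
      (2 ^ (2 * m + 1)) ^ 2 * (2 ^ (2 * m + 1) - 2) := by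
  have h1 := Finset.sum_card_bipartiteAbove_eq_sum_card_bipartiteBelow
    (s := Iset F m) (t := Finset.univ.erase (oinf F m))
    (fun (v : Sz F m) (p : suzukiOvoid F m) => v • p = x • p)
  have h4 : (Finset.univ.erase (oinf F m)).card = (2 ^ (2 * m + 1)) ^ 2 := by
    rw [Finset.card_erase_of_mem (Finset.mem_univ _), Finset.card_univ, ← Nat.card_eq_fintype_card,
      card_ovoid hF]
    omega
  have h2 : ∑ v ∈ Iset F m, (Finset.bipartiteAbove
      (fun (v : Sz F m) (p : suzukiOvoid F m) => v • p = x • p)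
      (Finset.univ.erase (oinf F m)) v).card = ∑ v ∈ Iset F m, if Fixes (x * v) then 2 else 0 := by
    apply Finset.sum_congr rfl
    intro v hv
    exact card_fixed_prod hm hF hx1 hx hx2 hv
  have h3 : ∑ p ∈ Finset.univ.erase (oinf F m), (Finset.bipartiteBelow
      (fun (v : Sz F m) (p : suzukiOvoid F m) => v • p = x • p) (Iset F m) p).card =
      ∑ p ∈ Finset.univ.erase (oinf F m), (2 ^ (2 * m + 1) - 2) := by
    apply Finset.sum_congr rfl
    intro p hp
    exact card_Iset_swap hm hF hx1 hx hx2 (Finset.ne_of_mem_erase hp)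
  rw [h2, h3, Finset.sum_const, h4, smul_eq_mul] at h1
  exact h1

end invol

end Cfsg.Agent.Lib.Helper1.SzSol
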