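import Mathlib
import Cfsg.Agent.Lib.Helper1.SzNh

/-!
# Suzuki groups: the solubilizer of an involution (helper1)
-/

set_option autoImplicit false
set_option maxHeartbeats 2000000

namespace Cfsg.Agent.Lib.Helper1.SzSol

open Cfsg Cfsg.Agent.Lib.Helper14.Sz Cfsg.Agent.Lib.Helper1.SzTori Cfsg.Agent.Lib.Helper1.SzMax

universe u

variable {F : Type u} [Field F] [Fintype F] [CharP F 2] {m : ℕ}

attribute [local instance] fintypeSz fintypeOvoid

theorem invol_arith (Q a b s1 s2 i : ℕ) (hQ : 2 ≤ Q) (ha : a = Q ^ 2 * (Q - 1))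
    (hi : i = Q ^ 2 * (Q - 1)) (hb : b = s1) (hs : s1 + s2 = 4 * i) (h2 : s2 = Q ^ 2 * (Q - 2)) :
    a + b = Q ^ 2 * (4 * Q - 3) := by
  obtain ⟨r, rfl⟩ := Nat.exists_eq_add_of_le hQ
  have e1 : 2 + r - 1 = r + 1 := by omega
  have e2 : 2 + r - 2 = r := by omega
  have e3 : 4 * (2 + r) - 3 = 4 * r + 5 := by omega
  rw [e1] at ha hi
  rw [e2] at h2
  rw [e3]
  subst ha hi hb h2
  nlinarith [hs]

section invol

variable {x : Sz F m}

/-- conjugates of `x` by elements not fixing `∞` do not fix `∞` -/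
theorem conj_mem_Iset (hm : 1 ≤ m) (hF : Fintype.card F = 2 ^ (2 * m + 1))
    (hx1 : x ≠ 1) (hx : x • oinf F m = oinf F m) (hx2 : x * x = 1)
    {y : Sz F m} (hy : ¬ y • oinf F m = oinf F m) : y * x * y⁻¹ ∈ Iset F m := by
  rw [mem_Iset]
  refine ⟨?_, ?_, ?_⟩
  · intro e
    apply hx1
    have : x = y⁻¹ * (y * x * y⁻¹) * y := by group
    rw [this, e]
    group
  · have : y * x * y⁻¹ * (y * x * y⁻¹) = y * (x * x) * y⁻¹ := by group
    rw [this, hx2]
    group
  · intro e
    apply hy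
    have h1 : x • (y⁻¹ • oinf F m) = y⁻¹ • oinf F m := by
      have := congrArg (fun r => y⁻¹ • r) e
      simp only [mul_smul, inv_smul_smul] at this
      exact this
    have h2 : y⁻¹ • oinf F m = oinf F m :=
      invol_unique (countHyp_top hm hF) (Subgroup.mem_top x) hx1 hx2 h1 hx
    rw [inv_smul_eq_iff] at h2
    exact h2.symm

/-- the solubilizer of an involution -/
theorem card_solSet_invol (hm : 1 ≤ m) (hF : Fintype.card F = 2 ^ (2 * m + 1))
    (hx1 : x ≠ 1) (hx : x • oinf F m = oinf F m) (hx2 : x * x = 1) :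
    (solSet x).card = (2 ^ (2 * m + 1)) ^ 2 * (4 * 2 ^ (2 * m + 1) - 3) := by
  classical
  set A := (solSet x).filter (fun y => y • oinf F m = oinf F m) with hA
  set B := (solSet x).filter (fun y => ¬ y • oinf F m = oinf F m) with hB
  have hAB : A.card + B.card = (solSet x).card :=
    Finset.card_filter_add_card_filter_not _
  have hAcard : A.card = (2 ^ (2 * m + 1)) ^ 2 * (2 ^ (2 * m + 1) - 1) := by
    rw [← card_fix_oinf hm hF]
    congr 1
    ext y
    rw [hA, Finset.mem_filter, Finset.mem_filter, mem_solSet]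
    constructor
    · rintro ⟨-, h⟩
      exact ⟨Finset.mem_univ _, h⟩
    · rintro ⟨-, h⟩
      exact ⟨Or.inl ⟨oinf F m, hx, h⟩, h⟩
  have hmaps : ∀ y ∈ B, y * x * y⁻¹ ∈ Iset F m := by
    intro y hy
    rw [hB, Finset.mem_filter] at hy
    exact conj_mem_Iset hm hF hx1 hx hx2 hy.2
  have hB1 := Finset.card_eq_sum_card_fiberwise hmaps
  have hfib : ∀ v ∈ Iset F m, (B.filter (fun y => y * x * y⁻¹ = v)).card =
      if Fixes (x * v) then 2 else 4 := by
    intro v hv
    rw [← card_NC_prod hm hF hx1 hx hx2 hv, ← card_fibre hm hF hx1 hx hx2 hv]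
    congr 1
    ext y
    rw [hB, Finset.mem_filter, Finset.mem_filter, Finset.mem_filter]
    constructor
    · rintro ⟨⟨h1, -⟩, h2⟩
      exact ⟨h1, h2⟩
    · rintro ⟨h1, h2⟩
      refine ⟨⟨h1, ?_⟩, h2⟩
      intro hy
      obtain ⟨-, -, hvo⟩ := (mem_Iset v).mp hv
      apply hvo
      have hy' : y⁻¹ • oinf F m = oinf F m := by rw [inv_smul_eq_iff, hy]
      rw [← h2, mul_smul, mul_smul, hy', hx, hy]
  rw [Finset.sum_congr rfl hfib] at hB1
  have hsum : (∑ v ∈ Iset F m, if Fixes (x * v) then 2 else 4) +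
      (∑ v ∈ Iset F m, if Fixes (x * v) then 2 else 0) = 4 * (Iset F m).card := by
    rw [← Finset.sum_add_distrib, Finset.sum_congr rfl (g := fun _ => 4), Finset.sum_const,
      smul_eq_mul, mul_comm]
    intro v _
    split_ifs <;> rfl
  have hQ : 2 ≤ 2 ^ (2 * m + 1) := by
    calc 2 = 2 ^ 1 := by norm_num
      _ ≤ 2 ^ (2 * m + 1) := Nat.pow_le_pow_right (by norm_num) (by omega)
  rw [← hAB]
  exact invol_arith _ _ _ _ _ _ hQ hAcard (card_Iset hm hF) hB1 hsum
    (card_Iset_fixes hm hF hx1 hx hx2)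

end invol

end Cfsg.Agent.Lib.Helper1.SzSol
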