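import Mathlib
import Cfsg.Agent.Lib.Helper1.SzNi

/-!
# Suzuki groups: the solubilizer of an element of order four, general part (helper1)
-/

set_option autoImplicit false
set_option maxHeartbeats 2000000

namespace Cfsg.Agent.Lib.Helper1.SzSol

open Cfsg Cfsg.Agent.Lib.Helper14.Sz Cfsg.Agent.Lib.Helper1.SzTori Cfsg.Agent.Lib.Helper1.SzMax

universe u

variable {F : Type u} [Field F] [Fintype F] [CharP F 2] {m : ℕ}

attribute [local instance] fintypeSz fintypeOvoid

/-- an element of odd order with `h ^ 4 = 1` is trivial -/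
theorem eq_one_of_odd_pow_four {h : Sz F m} (hodd : Odd (orderOf h)) (h4 : h ^ 4 = 1) : h = 1 := by
  have h5 : orderOf h ∣ 4 := orderOf_dvd_of_pow_eq_one h4
  have h6 : orderOf h ∣ 2 ^ 2 := by
    norm_num
    exact h5
  obtain ⟨j, -, hj⟩ := (Nat.dvd_prime_pow Nat.prime_two).mp h6
  rw [hj] at hodd
  have := ne_one_of_odd_pow_two hodd
  rw [this, pow_zero] at hj
  exact orderOf_eq_one_iff.mp hj

section invol

variable {x : Sz F m}

/-- no square root of an involution normalizes the torus of an element fixing a point -/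
theorem no_root_of_fixes (hm : 1 ≤ m) (hF : Fintype.card F = 2 ^ (2 * m + 1))
    (hx1 : x ≠ 1) (hx2 : x * x = 1) {h : Sz F m} (hh1 : h ≠ 1) (hodd : Odd (orderOf h))
    (hfix : Fixes h) {w : Sz F m} (hw : w * w = x) :
    w ∉ Subgroup.normalizer
      ((Subgroup.centralizer ({h} : Set (Sz F m)) : Subgroup (Sz F m)) : Set (Sz F m)) := by
  intro hwN
  obtain ⟨h₀, ⟨a, b, e⟩ | ⟨k, hk, e⟩⟩ := exists_conj_std hm hF h hh1 hfix
  · apply hh1
    apply eq_one_of_odd_pow_four hodd
    have : h = h₀⁻¹ * TS hF a b * h₀⁻¹⁻¹ := by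
      rw [← e]
      group
    rw [this, conj_pow, Cfsg.Agent.Lib.Helper1.SzSub.TS_pow_four]
    group
  · have hg' : h = h₀⁻¹ * HS hF k * h₀⁻¹⁻¹ := by
      rw [← e]
      group
    have hC : Subgroup.centralizer ({h} : Set (Sz F m)) =
        (HSub hF).map (MulAut.conj h₀⁻¹).toMonoidHom := by
      rw [hg', centralizer_conj, centralizer_HS_eq hm hF hk]
    rw [hC, ← Subgroup.map_equiv_normalizer_eq] at hwN
    obtain ⟨y, hy, ey⟩ := Subgroup.mem_map.mp hwN
    have ey' : w = h₀⁻¹ * y * h₀ := by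
      rw [← ey]
      simp [MulAut.conj_apply]
    have hyy : (y * y) • oinf F m = oinf F m ∧ (y * y) • opt m (0 : F) 0 = opt m 0 0 := by
      rcases (mem_normalizer_HSub hm hF y).mp hy with ⟨h1, h2⟩ | ⟨h1, h2⟩
      · exact ⟨by rw [mul_smul, h1, h1], by rw [mul_smul, h2, h2]⟩
      · exact ⟨by rw [mul_smul, h1, h2], by rw [mul_smul, h2, h1]⟩
    have hx' : x = h₀⁻¹ * (y * y) * h₀ := by
      rw [← hw, ey']
      group
    have f1 : x • (h₀⁻¹ • oinf F m) = h₀⁻¹ • oinf F m := by
      rw [hx', mul_smul, mul_smul, smul_inv_smul, hyy.1]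
    have f2 : x • (h₀⁻¹ • opt m (0 : F) 0) = h₀⁻¹ • opt m (0 : F) 0 := by
      rw [hx', mul_smul, mul_smul, smul_inv_smul, hyy.2]
    have := invol_unique (countHyp_top hm hF) (Subgroup.mem_top x) hx1 hx2 f1 f2
    exact opt_ne_oinf (m := m) (0 : F) 0 ((smul_left_cancel _ this).symm)

/-- the only involution in the normalizer of a torus commuting with `x` is `x` -/
theorem invol_NC_unique (hm : 1 ≤ m) (hF : Fintype.card F = 2 ^ (2 * m + 1))
    {U : Subgroup (Sz F m)} (hU : IsTorus m U) (hx1 : x ≠ 1) (hx2 : x * x = 1)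
    (hxN : x ∈ Subgroup.normalizer (U : Set (Sz F m)))
    {s : Sz F m} (hs1 : s ≠ 1) (hs2 : s * s = 1)
    (hsN : s ∈ Subgroup.normalizer (U : Set (Sz F m))) (hsx : s * x = x * s) : s = x := by
  haveI : Nontrivial U := by
    rw [← Finite.one_lt_card_iff_nontrivial]
    have := torus_three_le hm hU
    omega
  obtain ⟨g', hg'⟩ := exists_ne (1 : U)
  have hg1 : (g' : Sz F m) ≠ 1 := fun e => hg' (Subtype.ext e)
  have hUC := torus_eq_centralizer hm hF hU g'.2 hg1
  have hxinv : x⁻¹ = x := inv_eq_of_mul_eq_one_left hx2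
  have hsinv : s⁻¹ = s := inv_eq_of_mul_eq_one_left hs2
  have h1 := invol_inverts hm hF hU hx1 hx2 hxN g'.2
  have h2 := invol_inverts hm hF hU hs1 hs2 hsN (U.inv_mem g'.2)
  -- `s * x` centralizes `g'`
  have h3 : s * x ∈ U := by
    rw [hUC, Subgroup.mem_centralizer_singleton_iff]
    have e1 : s * x * (g' : Sz F m) * (s * x)⁻¹ = (g' : Sz F m) := by
      have : s * x * (g' : Sz F m) * (s * x)⁻¹ = s * (x * (g' : Sz F m) * x⁻¹) * s⁻¹ := by group
      rw [this, h1, h2, inv_inv]
    have := congrArg (fun r => r * (s * x)) e1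
    simp only [inv_mul_cancel_right] at this
    exact this
  have h4 : (s * x) * (s * x) = 1 := by
    have : (s * x) * (s * x) = s * (x * s) * x := by group
    rw [this, ← hsx]
    have : s * (s * x) * x = (s * s) * (x * x) := by group
    rw [this, hs2, hx2, one_mul]
  have h5 := sq_eq_one_torus hU h3 h4
  have : s = x⁻¹ := eq_inv_of_mul_eq_one_left h5
  rw [this, hxinv]

/-- membership in the fibre forces membership in the normalizer of the torus of the product -/
theorem mem_normalizer_of_fibre (hm : 1 ≤ m) (hF : Fintype.card F = 2 ^ (2 * m + 1))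
    (hx1 : x ≠ 1) (hx : x • oinf F m = oinf F m) (hx2 : x * x = 1)
    {v : Sz F m} (hv : v ∈ Iset F m) {y : Sz F m} (hysol : y ∈ solSet x)
    (hyv : y * x * y⁻¹ = v) :
    y ∈ Subgroup.normalizer
      ((Subgroup.centralizer ({x * v} : Set (Sz F m)) : Subgroup (Sz F m)) : Set (Sz F m)) := by
  obtain ⟨hne, hodd, hinv⟩ := prod_invol hm hF hx1 hx hx2 hv
  obtain ⟨hv1, hv2, hvo⟩ := (mem_Iset v).mp hv
  rw [mem_solSet] at hysol
  rcases hysol with ⟨p, h1, h2⟩ | ⟨U', hU', h1, h2⟩
  · exfalso
    have hp : p = oinf F m :=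
      invol_unique (countHyp_top hm hF) (Subgroup.mem_top x) hx1 hx2 h1 hx
    apply hvo
    rw [← hyv, mul_smul, mul_smul]
    rw [hp] at h2
    have : y⁻¹ • oinf F m = oinf F m := by rw [inv_smul_eq_iff, h2]
    rw [this, hx, h2]
  · have hvU' : v ∈ Subgroup.normalizer (U' : Set (Sz F m)) := by
      rw [← hyv]
      exact Subgroup.mul_mem _ (Subgroup.mul_mem _ h2 h1) (Subgroup.inv_mem _ h2)
    have hhU' := torus_odd_mem hm hF hU' (Subgroup.mul_mem _ h1 hvU') hodd
    rw [← torus_eq_centralizer hm hF hU' hhU' hne]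
    exact h2

open Classical in
/-- the square roots of `x` normalizing the torus of a free product -/
theorem card_roots (hm : 1 ≤ m) (hF : Fintype.card F = 2 ^ (2 * m + 1))
    (hx1 : x ≠ 1) (hx : x • oinf F m = oinf F m) (hx2 : x * x = 1)
    {v : Sz F m} (hv : v ∈ Iset F m) :
    (Finset.univ.filter (fun w : Sz F m => w * w = x ∧ w ∈ Subgroup.normalizer
      ((Subgroup.centralizer ({x * v} : Set (Sz F m)) : Subgroup (Sz F m)) : Set (Sz F m)))).card =
      if Fixes (x * v) then 0 else 2 := by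
  obtain ⟨hne, hodd, hinv⟩ := prod_invol hm hF hx1 hx hx2 hv
  obtain ⟨hT, hxN, hvN⟩ := mem_normalizer_prod hm hF hx1 hx hx2 hv
  by_cases hfix : Fixes (x * v)
  · rw [if_pos hfix, Finset.card_eq_zero, Finset.filter_eq_empty_iff]
    intro w _ hw
    exact no_root_of_fixes hm hF hx1 hx2 hne hodd hfix hw.1 hw.2
  · rw [if_neg hfix]
    have h4 := card_NC_prod hm hF hx1 hx hx2 hv
    rw [if_neg hfix] at h4
    set U := Subgroup.centralizer ({x * v} : Set (Sz F m)) with hUdef
    -- the subgroup `K`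
    set K : Subgroup (Sz F m) :=
      Subgroup.normalizer (U : Set (Sz F m)) ⊓ Subgroup.centralizer ({x} : Set (Sz F m)) with hK
    have hKmem : ∀ y : Sz F m, y ∈ K ↔ y ∈ NC x U := by
      intro y
      rw [hK, Subgroup.mem_inf, Subgroup.mem_centralizer_singleton_iff, mem_NC]
    have hKcard : Nat.card K = 4 := by
      have h5 : Fintype.card K = (NC x U).card :=
        Fintype.card_of_subtype _ (fun y => (hKmem y).symm)
      rw [Nat.card_eq_fintype_card, h5, h4]
    have hpow : ∀ y ∈ K, y ^ 4 = 1 := by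
      intro y hy
      have := pow_card_eq_one' (G := K) (x := ⟨y, hy⟩)
      rw [hKcard] at this
      have h2 := congrArg Subtype.val this
      simpa using h2
    have hset : Finset.univ.filter (fun w : Sz F m => w * w = x ∧ w ∈ Subgroup.normalizer
        (U : Set (Sz F m))) = ((NC x U).erase 1).erase x := by
      ext w
      rw [Finset.mem_filter, Finset.mem_erase, Finset.mem_erase, mem_NC]
      constructor
      · rintro ⟨-, hw, hwN⟩
        refine ⟨?_, ?_, hwN, ?_⟩
        · rintro rfl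
          rw [hx2] at hw
          exact hx1 hw.symm
        · rintro rfl
          rw [one_mul] at hw
          exact hx1 hw.symm
        · rw [← hw, mul_assoc]
      · rintro ⟨hwx, hw1, hwN, hwc⟩
        refine ⟨Finset.mem_univ _, ?_, hwN⟩
        have hwK : w ∈ K := (hKmem w).mpr ((mem_NC x U w).mpr ⟨hwN, hwc⟩)
        have hw4 := hpow w hwK
        have hs2 : (w * w) * (w * w) = 1 := by
          rw [← pow_two, ← pow_two, ← pow_mul]
          exact hw4
        have hsN : w * w ∈ Subgroup.normalizer (U : Set (Sz F m)) := Subgroup.mul_mem _ hwN hwN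
        have hsx : (w * w) * x = x * (w * w) := by
          rw [mul_assoc, hwc, ← mul_assoc, hwc, mul_assoc]
        by_cases hs1 : w * w = 1
        · exfalso
          exact hwx (invol_NC_unique hm hF hT hx1 hx2 hxN hw1 hs1 hwN hwc)
        · exact invol_NC_unique hm hF hT hx1 hx2 hxN hs1 hs2 hsN hsx
    rw [hset]
    have hone : (1 : Sz F m) ∈ NC x U := by
      rw [mem_NC]
      exact ⟨Subgroup.one_mem _, by rw [one_mul, mul_one]⟩
    have hxmem : x ∈ (NC x U).erase 1 := by
      rw [Finset.mem_erase, mem_NC]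
      exact ⟨hx1, hxN, rfl⟩
    rw [Finset.card_erase_of_mem hxmem, Finset.card_erase_of_mem hone, h4]

end invol

end Cfsg.Agent.Lib.Helper1.SzSol
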