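import Mathlib
import Cfsg.Agent.Lib.Helper1.SzNj

/-!
# Suzuki groups: the solubilizer of an element of order four, the double count (helper1)
-/

set_option autoImplicit false
set_option maxHeartbeats 2000000

namespace Cfsg.Agent.Lib.Helper1.SzSol

open Cfsg Cfsg.Agent.Lib.Helper14.Sz Cfsg.Agent.Lib.Helper1.SzTori Cfsg.Agent.Lib.Helper1.SzMax

universe u

variable {F : Type u} [Field F] [Fintype F] [CharP F 2] {m : ℕ}

attribute [local instance] fintypeSz fintypeOvoid

theorem four_arith (Q s1 s2 i : ℕ) (hQ : 2 ≤ Q) (hi : i = Q ^ 2 * (Q - 1))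
    (hs : s1 + s2 = 2 * i) (h2 : s2 = Q ^ 2 * (Q - 2)) : s1 = Q ^ 3 := by
  obtain ⟨r, rfl⟩ := Nat.exists_eq_add_of_le hQ
  have e1 : 2 + r - 1 = r + 1 := by omega
  have e2 : 2 + r - 2 = r := by omega
  rw [e1] at hi
  rw [e2] at h2
  subst hi h2
  nlinarith [hs]

section invol

variable {x : Sz F m}

/-- a square root of `x` fixes `∞` -/
theorem root_fix (hm : 1 ≤ m) (hF : Fintype.card F = 2 ^ (2 * m + 1))
    (hx1 : x ≠ 1) (hx : x • oinf F m = oinf F m) (hx2 : x * x = 1)
    {w : Sz F m} (hw : w * w = x) : w • oinf F m = oinf F m := by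
  have hc : x * w = w * x := by rw [← hw, mul_assoc]
  have h1 : x • (w • oinf F m) = w • oinf F m := by
    rw [← mul_smul, hc, mul_smul, hx]
  exact invol_unique (countHyp_top hm hF) (Subgroup.mem_top x) hx1 hx2 h1 hx

theorem root_fix_only (hm : 1 ≤ m) (hF : Fintype.card F = 2 ^ (2 * m + 1))
    (hx1 : x ≠ 1) (hx : x • oinf F m = oinf F m) (hx2 : x * x = 1)
    {w : Sz F m} (hw : w * w = x) {p : suzukiOvoid F m} (hp : w • p = p) : p = oinf F m := by
  have h1 : x • p = p := by rw [← hw, mul_smul, hp, hp]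
  exact invol_unique (countHyp_top hm hF) (Subgroup.mem_top x) hx1 hx2 h1 hx

/-- the solubilizer of a square root of `x` -/
theorem card_solSet_four (hm : 1 ≤ m) (hF : Fintype.card F = 2 ^ (2 * m + 1))
    (hx1 : x ≠ 1) (hx : x • oinf F m = oinf F m) (hx2 : x * x = 1)
    {w : Sz F m} (hw : w * w = x) [DecidablePred (fun v : Sz F m => w ∈ Subgroup.normalizer
      ((Subgroup.centralizer ({x * v} : Set (Sz F m)) : Subgroup (Sz F m)) : Set (Sz F m)))] :
    (solSet w).card = (2 ^ (2 * m + 1)) ^ 2 * (2 ^ (2 * m + 1) - 1) +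
      4 * ((Iset F m).filter (fun v => w ∈ Subgroup.normalizer
      ((Subgroup.centralizer ({x * v} : Set (Sz F m)) : Subgroup (Sz F m)) : Set (Sz F m)))).card := by
  classical
  have hwfix := root_fix hm hF hx1 hx hx2 hw
  set A := (solSet w).filter (fun y => y • oinf F m = oinf F m) with hA
  set B := (solSet w).filter (fun y => ¬ y • oinf F m = oinf F m) with hB
  have hAB : A.card + B.card = (solSet w).card :=
    Finset.card_filter_add_card_filter_not _
  have hAcard : A.card = (2 ^ (2 * m + 1)) ^ 2 * (2 ^ (2 * m + 1) - 1) := by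
    rw [← card_fix_oinf hm hF]
    congr 1
    ext y
    rw [hA, Finset.mem_filter, Finset.mem_filter, mem_solSet]
    constructor
    · rintro ⟨-, h⟩
      exact ⟨Finset.mem_univ _, h⟩
    · rintro ⟨-, h⟩
      exact ⟨Or.inl ⟨oinf F m, hwfix, h⟩, h⟩
  have hmaps : ∀ y ∈ B, y * x * y⁻¹ ∈ Iset F m := by
    intro y hy
    rw [hB, Finset.mem_filter] at hy
    exact conj_mem_Iset hm hF hx1 hx hx2 hy.2
  have hB1 := Finset.card_eq_sum_card_fiberwise hmaps
  have hxw : ∀ U : Subgroup (Sz F m), w ∈ Subgroup.normalizer (U : Set (Sz F m)) →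
      x ∈ Subgroup.normalizer (U : Set (Sz F m)) := by
    intro U h
    rw [← hw]
    exact Subgroup.mul_mem _ h h
  have hfib : ∀ v ∈ Iset F m, (B.filter (fun y => y * x * y⁻¹ = v)).card =
      if w ∈ Subgroup.normalizer
        ((Subgroup.centralizer ({x * v} : Set (Sz F m)) : Subgroup (Sz F m)) : Set (Sz F m))
      then 4 else 0 := by
    intro v hv
    obtain ⟨hne, hodd, hinv⟩ := prod_invol hm hF hx1 hx hx2 hv
    obtain ⟨hT, hxN, hvN⟩ := mem_normalizer_prod hm hF hx1 hx hx2 hv
    obtain ⟨hv1, hv2, hvo⟩ := (mem_Iset v).mp hv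
    by_cases hwN : w ∈ Subgroup.normalizer
        ((Subgroup.centralizer ({x * v} : Set (Sz F m)) : Subgroup (Sz F m)) : Set (Sz F m))
    · rw [if_pos hwN]
      have hnf : ¬ Fixes (x * v) := fun hfix =>
        no_root_of_fixes hm hF hx1 hx2 hne hodd hfix hw hwN
      have h4 := card_NC_prod hm hF hx1 hx hx2 hv
      rw [if_neg hnf] at h4
      have h5 : ((solSet x).filter (fun y => y * x * y⁻¹ = v)).card = 4 := by
        rw [card_fibre hm hF hx1 hx hx2 hv, h4]
      refine Eq.trans ?_ h5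
      congr 1
      ext y
      rw [hB, Finset.mem_filter, Finset.mem_filter, Finset.mem_filter]
      constructor
      · rintro ⟨⟨h1, -⟩, h2⟩
        refine ⟨?_, h2⟩
        rw [mem_solSet] at h1 ⊢
        rcases h1 with ⟨p, hp1, hp2⟩ | ⟨U', hU', hw', hy'⟩
        · left
          refine ⟨p, ?_, hp2⟩
          rw [← hw, mul_smul, hp1, hp1]
        · right
          exact ⟨U', hU', hxw U' hw', hy'⟩
      · rintro ⟨h1, h2⟩
        refine ⟨⟨?_, ?_⟩, h2⟩
        · rw [mem_solSet]
          right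
          exact ⟨_, hT, hwN, mem_normalizer_of_fibre hm hF hx1 hx hx2 hv h1 h2⟩
        · intro hy
          apply hvo
          have hy' : y⁻¹ • oinf F m = oinf F m := by rw [inv_smul_eq_iff, hy]
          rw [← h2, mul_smul, mul_smul, hy', hx, hy]
    · rw [if_neg hwN, Finset.card_eq_zero, Finset.filter_eq_empty_iff]
      intro y hy hyv
      apply hwN
      rw [hB, Finset.mem_filter, mem_solSet] at hy
      obtain ⟨hy1, hy2⟩ := hy
      rcases hy1 with ⟨p, hp1, hp2⟩ | ⟨U', hU', hw', hy'⟩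
      · exfalso
        apply hy2
        rw [root_fix_only hm hF hx1 hx hx2 hw hp1] at hp2
        exact hp2
      · have hvU' : v ∈ Subgroup.normalizer (U' : Set (Sz F m)) := by
          rw [← hyv]
          exact Subgroup.mul_mem _ (Subgroup.mul_mem _ hy' (hxw U' hw')) (Subgroup.inv_mem _ hy')
        have hhU' := torus_odd_mem hm hF hU' (Subgroup.mul_mem _ (hxw U' hw') hvU') hodd
        rw [← torus_eq_centralizer hm hF hU' hhU' hne]
        exact hw'
  rw [Finset.sum_congr rfl hfib, ← Finset.sum_filter, Finset.sum_const, smul_eq_mul, mul_comm]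
    at hB1
  rw [← hAB, hAcard, hB1]

open Classical in
/-- the double count over the square roots of `x` -/
theorem sum_Iw (hm : 1 ≤ m) (hF : Fintype.card F = 2 ^ (2 * m + 1))
    (hx1 : x ≠ 1) (hx : x • oinf F m = oinf F m) (hx2 : x * x = 1) :
    (∑ w ∈ Finset.univ.filter (fun w : Sz F m => w * w = x),
      ((Iset F m).filter (fun v => w ∈ Subgroup.normalizer
        ((Subgroup.centralizer ({x * v} : Set (Sz F m)) : Subgroup (Sz F m)) :
          Set (Sz F m)))).card) = (2 ^ (2 * m + 1)) ^ 3 := by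
  have h1 := Finset.sum_card_bipartiteAbove_eq_sum_card_bipartiteBelow
    (s := Finset.univ.filter (fun w : Sz F m => w * w = x)) (t := Iset F m)
    (fun (w : Sz F m) (v : Sz F m) => w ∈ Subgroup.normalizer
        ((Subgroup.centralizer ({x * v} : Set (Sz F m)) : Subgroup (Sz F m)) : Set (Sz F m)))
  have h3 : ∑ v ∈ Iset F m, (Finset.bipartiteBelow
      (fun (w : Sz F m) (v : Sz F m) => w ∈ Subgroup.normalizer
        ((Subgroup.centralizer ({x * v} : Set (Sz F m)) : Subgroup (Sz F m)) : Set (Sz F m)))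
      (Finset.univ.filter (fun w : Sz F m => w * w = x)) v).card =
      ∑ v ∈ Iset F m, if Fixes (x * v) then 0 else 2 := by
    apply Finset.sum_congr rfl
    intro v hv
    rw [← card_roots hm hF hx1 hx hx2 hv]
    congr 1
    ext w
    simp only [Finset.bipartiteBelow, Finset.mem_filter, Finset.mem_univ, true_and]
  have hsum : (∑ v ∈ Iset F m, if Fixes (x * v) then 0 else 2) +
      (∑ v ∈ Iset F m, if Fixes (x * v) then 2 else 0) = 2 * (Iset F m).card := by
    rw [← Finset.sum_add_distrib, Finset.sum_congr rfl (g := fun _ => 2), Finset.sum_const,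
      smul_eq_mul, mul_comm]
    intro v _
    split_ifs <;> rfl
  have hQ : 2 ≤ 2 ^ (2 * m + 1) := by
    calc 2 = 2 ^ 1 := by norm_num
      _ ≤ 2 ^ (2 * m + 1) := Nat.pow_le_pow_right (by norm_num) (by omega)
  have h5 := four_arith _ _ _ _ hQ (card_Iset hm hF) hsum (card_Iset_fixes hm hF hx1 hx hx2)
  rw [← h5, ← h3, ← h1]
  rfl

end invol

end Cfsg.Agent.Lib.Helper1.SzSol
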