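import Mathlib
import Cfsg.Agent.Lib.Helper1.SzNk

/-!
# Suzuki groups: the solubilizer of an element of order four, conclusion (helper1)
-/

set_option autoImplicit false
set_option maxHeartbeats 2000000

namespace Cfsg.Agent.Lib.Helper1.SzSol

open Cfsg Cfsg.Agent.Lib.Helper14.Sz Cfsg.Agent.Lib.Helper1.SzTori Cfsg.Agent.Lib.Helper1.SzMax

universe u

variable {F : Type u} [Field F] [Fintype F] [CharP F 2] {m : ℕ}

attribute [local instance] fintypeSz fintypeOvoid

theorem wp_kernel (hF : Fintype.card F = 2 ^ (2 * m + 1)) {d e : F} (he : sg m e = e)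
    (h : d + sg m d = e) : d = 0 ∨ d = 1 := by
  have h1 : sg m d = e + d := by
    calc sg m d = (d + sg m d) + d := by
          rw [add_comm d, add_assoc, CharTwo.add_self_eq_zero, add_zero]
      _ = e + d := by rw [h]
  have h2 : d ^ 2 = d := by
    rw [← sg_sg hF, h1, sg_add, he, h1, ← add_assoc, CharTwo.add_self_eq_zero, zero_add]
  have h3 : d * (d - 1) = 0 := by rw [mul_sub, mul_one, ← pow_two, h2, sub_self]
  rcases mul_eq_zero.mp h3 with h | h
  · exact Or.inl h
  · exact Or.inr (sub_eq_zero.mp h)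

theorem wp_cover (hF : Fintype.card F = 2 ^ (2 * m + 1)) (t : F) :
    (∃ c : F, t = c + sg m c) ∨ (∃ c : F, t = c + sg m c + 1) := by
  classical
  set f : F → F := fun c => c + sg m c with hf
  have fadd : ∀ a b, f (a + b) = f a + f b := by
    intro a b
    simp only [hf, sg_add]
    ring
  set S := Finset.univ.image f with hS
  set S' := S.image (fun t => t + 1) with hS'
  have h1 : (Finset.univ : Finset F).card ≤ 2 * S.card := by
    apply Finset.card_le_mul_card_image
    intro a ha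
    obtain ⟨c₀, -, hc₀⟩ := Finset.mem_image.mp ha
    have hsub : Finset.univ.filter (fun c => f c = a) ⊆ {c₀, c₀ + 1} := by
      intro c hc
      rw [Finset.mem_filter] at hc
      have h2 : f (c + c₀) = 0 := by rw [fadd, hc.2, hc₀, CharTwo.add_self_eq_zero]
      have hcc : c = (c + c₀) + c₀ := by
        rw [add_assoc, CharTwo.add_self_eq_zero, add_zero]
      rw [Finset.mem_insert, Finset.mem_singleton]
      rcases wp_kernel hF (sg_zero m) h2 with h | h
      · left
        rw [hcc, h, zero_add]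
      · right
        rw [hcc, h, add_comm]
    calc _ ≤ ({c₀, c₀ + 1} : Finset F).card := Finset.card_le_card hsub
      _ ≤ 2 := Finset.card_le_two
  have h2 : S'.card = S.card := Finset.card_image_of_injective _ (add_left_injective 1)
  have hdisj : Disjoint S S' := by
    rw [Finset.disjoint_left]
    intro t ht ht'
    obtain ⟨c, -, hc⟩ := Finset.mem_image.mp ht
    obtain ⟨t', ht'', e⟩ := Finset.mem_image.mp ht'
    obtain ⟨c', -, hc'⟩ := Finset.mem_image.mp ht''
    have h3 : f (c + c') = 1 := by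
      rw [fadd, hc, hc', ← e, add_comm t' 1, add_assoc, CharTwo.add_self_eq_zero, add_zero]
    have h4 : f (c + c') = 0 := by
      rcases wp_kernel hF (sg_one m) h3 with h | h
      · rw [h]
        simp only [hf, sg_zero, add_zero]
      · rw [h]
        simp only [hf, sg_one]
        exact CharTwo.add_self_eq_zero 1
    rw [h3] at h4
    exact one_ne_zero h4
  have h3 : (S ∪ S').card = 2 * S.card := by
    rw [Finset.card_union_of_disjoint hdisj, h2]
    ring
  have h4 : S ∪ S' = Finset.univ := by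
    apply Finset.eq_univ_of_card
    have := Finset.card_le_univ (S ∪ S')
    rw [Finset.card_univ] at h1
    omega
  have ht : t ∈ S ∪ S' := by
    rw [h4]
    exact Finset.mem_univ _
  rcases Finset.mem_union.mp ht with h | h
  · obtain ⟨c, -, hc⟩ := Finset.mem_image.mp h
    exact Or.inl ⟨c, hc.symm⟩
  · obtain ⟨t', ht'', e⟩ := Finset.mem_image.mp h
    obtain ⟨c', -, hc'⟩ := Finset.mem_image.mp ht''
    right
    refine ⟨c', ?_⟩
    rw [← e, ← hc']

theorem conj_TS_one (hF : Fintype.card F = 2 ^ (2 * m + 1)) (c b : F) :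
    TS hF c 0 * TS hF 1 b * (TS hF c 0)⁻¹ = TS (m := m) hF 1 (b + (c + sg m c)) := by
  have h2 : (2 : F) = 0 := CharTwo.two_eq_zero
  rw [TS_inv, TS_mul, TS_mul]
  congr 1
  · linear_combination c * h2
  · rw [sg_add, sg_one]
    linear_combination (sg m c * c) * h2

theorem TS_one_inv (hF : Fintype.card F = 2 ^ (2 * m + 1)) (b : F) :
    (TS hF 1 b)⁻¹ = TS (m := m) hF 1 (b + 1) := by
  rw [TS_inv, sg_one, mul_one]

theorem solCard_TS_one (hF : Fintype.card F = 2 ^ (2 * m + 1)) (b b' : F) :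
    solCard (TS hF 1 b') = solCard (TS (m := m) hF 1 b) := by
  have hb : b' = (b' + b) + b := by rw [add_assoc, CharTwo.add_self_eq_zero, add_zero]
  rcases wp_cover (m := m) hF (b' + b) with ⟨c, hc⟩ | ⟨c, hc⟩
  · have e : TS hF 1 b' = TS hF c 0 * TS hF 1 b * (TS hF c 0)⁻¹ := by
      rw [conj_TS_one, ← hc, add_comm b, ← hb]
    rw [e, solCard_conj]
  · have e : TS hF 1 b' = TS hF c 0 * (TS hF 1 b)⁻¹ * (TS hF c 0)⁻¹ := by
      rw [TS_one_inv, conj_TS_one]
      congr 1
      rw [hb, hc]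
      ring
    rw [e, solCard_conj, solCard_inv]

theorem std_invol (hF : Fintype.card F = 2 ^ (2 * m + 1)) :
    TS (m := m) hF 0 1 ≠ 1 ∧ TS hF 0 1 • oinf F m = oinf F m ∧
      TS (m := m) hF 0 1 * TS hF 0 1 = 1 := by
  refine ⟨TS_zero_ne_one hF one_ne_zero, TS_oinf hF 0 1, ?_⟩
  rw [Cfsg.Agent.Lib.Helper1.SzSub.TS_sq, sg_zero, zero_mul, TS_zero]

theorem TS_one_sq (hF : Fintype.card F = 2 ^ (2 * m + 1)) (b : F) :
    TS (m := m) hF 1 b * TS hF 1 b = TS hF 0 1 := by
  rw [Cfsg.Agent.Lib.Helper1.SzSub.TS_sq, sg_one, mul_one]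

/-- the square roots of the standard involution -/
theorem root_std (hm : 1 ≤ m) (hF : Fintype.card F = 2 ^ (2 * m + 1)) {w : Sz F m}
    (hw : w * w = TS hF 0 1) : ∃ b : F, w = TS hF 1 b := by
  obtain ⟨hx1, hx, hx2⟩ := std_invol (m := m) hF
  have h1 : w ∈ Subgroup.centralizer ({TS hF 0 1} : Set (Sz F m)) := by
    rw [Subgroup.mem_centralizer_singleton_iff, ← hw, mul_assoc]
  obtain ⟨a, b, rfl⟩ := (mem_TSub_iff hF w).mp (centralizer_TS hm hF hx1 h1)
  rw [Cfsg.Agent.Lib.Helper1.SzSub.TS_sq] at hw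
  have h2 := (TS_injective hF hw).2
  have h3 : a = 1 := by
    apply sg_mul_self_injective (m := m) hF
    simp only
    rw [h2, sg_one, mul_one]
  exact ⟨b, by rw [h3]⟩

theorem four_final_arith (Q n c : ℕ) (hQ : 1 ≤ Q) (h1 : Q * n = Q ^ 3)
    (h2 : c = Q ^ 2 * (Q - 1) + 4 * n) : c = Q ^ 2 * (Q + 3) := by
  have hn : n = Q ^ 2 := by
    apply Nat.eq_of_mul_eq_mul_left (by omega : 0 < Q)
    rw [h1]
    ring
  obtain ⟨r, rfl⟩ := Nat.exists_eq_add_of_le hQ
  have e1 : 1 + r - 1 = r := by omega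
  rw [e1, hn] at h2
  rw [h2]
  ring

/-- the solubilizer of an element of order four -/
theorem card_solSet_TS_one (hm : 1 ≤ m) (hp : (2 * m + 1).Prime)
    (hF : Fintype.card F = 2 ^ (2 * m + 1)) (b : F) :
    (solSet (TS (m := m) hF 1 b)).card = (2 ^ (2 * m + 1)) ^ 2 * (2 ^ (2 * m + 1) + 3) := by
  classical
  obtain ⟨hx1, hx, hx2⟩ := std_invol (m := m) hF
  set I : Sz F m → ℕ := fun w => ((Iset F m).filter (fun v => w ∈ Subgroup.normalizer
        ((Subgroup.centralizer ({TS hF 0 1 * v} : Set (Sz F m)) : Subgroup (Sz F m)) :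
          Set (Sz F m)))).card with hI
  have hsum := sum_Iw hm hF hx1 hx hx2
  have hW : Finset.univ.filter (fun w : Sz F m => w * w = TS hF 0 1) =
      Finset.univ.image (fun b : F => TS (m := m) hF 1 b) := by
    ext w
    rw [Finset.mem_filter, Finset.mem_image]
    constructor
    · rintro ⟨-, hw⟩
      obtain ⟨b', rfl⟩ := root_std hm hF hw
      exact ⟨b', Finset.mem_univ _, rfl⟩
    · rintro ⟨b', -, rfl⟩
      exact ⟨Finset.mem_univ _, TS_one_sq hF b'⟩
  have hWcard : (Finset.univ.filter (fun w : Sz F m => w * w = TS hF 0 1)).card =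
      2 ^ (2 * m + 1) := by
    rw [hW, Finset.card_image_of_injective, Finset.card_univ, hF]
    intro b₁ b₂ e
    exact (TS_injective hF e).2
  have hconst : ∀ w ∈ Finset.univ.filter (fun w : Sz F m => w * w = TS hF 0 1),
      I w = I (TS hF 1 b) := by
    intro w hw
    rw [Finset.mem_filter] at hw
    obtain ⟨b', rfl⟩ := root_std hm hF hw.2
    have e1 := card_solSet_four hm hF hx1 hx hx2 (TS_one_sq (m := m) hF b')
    have e2 := card_solSet_four hm hF hx1 hx hx2 (TS_one_sq (m := m) hF b)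
    have e3 : (solSet (TS (m := m) hF 1 b')).card = (solSet (TS (m := m) hF 1 b)).card := by
      rw [← solCard_eq hm hp hF, ← solCard_eq hm hp hF, solCard_TS_one]
    rw [e1, e2] at e3
    simp only [hI]
    omega
  have hsum' : (∑ w ∈ Finset.univ.filter (fun w : Sz F m => w * w = TS hF 0 1), I w) =
      2 ^ (2 * m + 1) * I (TS hF 1 b) := by
    rw [Finset.sum_congr rfl hconst, Finset.sum_const, hWcard, smul_eq_mul]
  have hQ : 1 ≤ 2 ^ (2 * m + 1) := Nat.one_le_two_pow
  have e2 := card_solSet_four hm hF hx1 hx hx2 (TS_one_sq (m := m) hF b)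
  refine four_final_arith _ (I (TS hF 1 b)) _ hQ ?_ e2
  rw [← hsum', ← hsum]

end Cfsg.Agent.Lib.Helper1.SzSol
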