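import Mathlib
import Cfsg.Agent.Lib.Helper1.SzNl

/-!
# Suzuki groups: the solubilizer counts, assembly (helper1)
-/

set_option autoImplicit false
set_option maxHeartbeats 2000000

namespace Cfsg.Agent.Lib.Helper1.SzSol

open Cfsg Cfsg.Agent.Lib.Helper14.Sz Cfsg.Agent.Lib.Helper1.SzTori Cfsg.Agent.Lib.Helper1.SzMax

universe u

variable {F : Type u} [Field F] [Fintype F] [CharP F 2] {m : ℕ}

attribute [local instance] fintypeSz fintypeOvoid

/-- case 1: involutions -/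
theorem solCard_two (hm : 1 ≤ m) (hp : (2 * m + 1).Prime) (hF : Fintype.card F = 2 ^ (2 * m + 1))
    (x : Sz F m) (hx : orderOf x = 2) :
    solCard x = (2 ^ (2 * m + 1)) ^ 2 * (4 * 2 ^ (2 * m + 1) - 3) := by
  have hx1 : x ≠ 1 := by
    intro e
    rw [e, orderOf_one] at hx
    omega
  have hx2 : x * x = 1 := by
    rw [← pow_two, ← hx]
    exact pow_orderOf_eq_one x
  obtain ⟨z, b, hb, e⟩ := invol_conj hm hF x hx1 hx2
  rw [e, solCard_conj, solCard_eq hm hp hF]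
  apply card_solSet_invol hm hF (TS_zero_ne_one hF hb) (TS_oinf hF 0 b)
  rw [Cfsg.Agent.Lib.Helper1.SzSub.TS_sq, sg_zero, zero_mul, TS_zero]

/-- case 2: elements of order four -/
theorem solCard_four (hm : 1 ≤ m) (hp : (2 * m + 1).Prime) (hF : Fintype.card F = 2 ^ (2 * m + 1))
    (x : Sz F m) (hx : orderOf x = 4) :
    solCard x = (2 ^ (2 * m + 1)) ^ 2 * (2 ^ (2 * m + 1) + 3) := by
  have hx1 : x ≠ 1 := by
    intro e
    rw [e, orderOf_one] at hx
    omega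
  obtain ⟨z, a, b, e⟩ := two_elt_conj hm hF x hx1 (by rw [hx]; decide)
  have ha : a ≠ 0 := by
    rintro rfl
    have h1 : x * x = 1 := by
      rw [e]
      have : z * TS hF 0 b * z⁻¹ * (z * TS hF 0 b * z⁻¹) = z * (TS hF 0 b * TS hF 0 b) * z⁻¹ := by
        group
      rw [this, Cfsg.Agent.Lib.Helper1.SzSub.TS_sq, sg_zero, zero_mul, TS_zero]
      group
    have h2 : orderOf x ∣ 2 := orderOf_dvd_of_pow_eq_one (by rw [pow_two]; exact h1)
    rw [hx] at h2
    omega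
  set k : Fˣ := (Units.mk0 a ha)⁻¹ with hk
  have hka : (k : F) * a = 1 := by
    rw [hk, Units.val_inv_eq_inv_val, Units.val_mk0, inv_mul_cancel₀ ha]
  have e2 := conj_HS_TS (m := m) hF k a b
  rw [hka] at e2
  have e3 : x = (z * (HS hF k)⁻¹) * TS hF 1 (sg m (k : F) * (k : F) * b) * (z * (HS hF k)⁻¹)⁻¹ := by
    rw [← e2, e]
    group
  rw [e3, solCard_conj, solCard_eq hm hp hF]
  exact card_solSet_TS_one hm hp hF _

/-- the order of the centralizer of a free element -/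
theorem free_card (hm : 1 ≤ m) (hF : Fintype.card F = 2 ^ (2 * m + 1)) {x : Sz F m}
    (hfree : Free x) :
    Nat.card (Subgroup.centralizer ({x} : Set (Sz F m))) = 2 ^ (2 * m + 1) + 2 ^ (m + 1) + 1 ∨
    Nat.card (Subgroup.centralizer ({x} : Set (Sz F m))) = 2 ^ (2 * m + 1) - 2 ^ (m + 1) + 1 := by
  obtain ⟨g₁, g₂, hf₁, hf₂, hc₁, hc₂, -, -, hcover⟩ := tori_final hm hF
  rcases hcover x hfree with hU | hU
  · left
    rw [card_eq_of_inU hm hF g₁ x hf₁ hU, hc₁]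
  · right
    rw [card_eq_of_inU hm hF g₂ x hf₂ hU, hc₂]

theorem order_dvd_centralizer (x : Sz F m) :
    orderOf x ∣ Nat.card (Subgroup.centralizer ({x} : Set (Sz F m))) :=
  Subgroup.orderOf_dvd_natCard _ (self_mem_centralizer x)

theorem order_ne_one {x : Sz F m} (hx1 : x ≠ 1) : orderOf x ≠ 1 :=
  fun e => hx1 (orderOf_eq_one_iff.mp e)

/-- nonidentity elements fixing a point, of odd order, are conjugate to a diagonal element -/
theorem fixes_odd_conj (hm : 1 ≤ m) (hF : Fintype.card F = 2 ^ (2 * m + 1)) {x : Sz F m}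
    (hx1 : x ≠ 1) (hodd : Odd (orderOf x)) (hfix : Fixes x) :
    ∃ (h : Sz F m) (k : Fˣ), k ≠ 1 ∧ x = h * HS hF k * h⁻¹ := by
  obtain ⟨h₀, ⟨a, b, e⟩ | ⟨k, hk, e⟩⟩ := exists_conj_std hm hF x hx1 hfix
  · exfalso
    apply hx1
    apply eq_one_of_odd_pow_four hodd
    have : x = h₀⁻¹ * TS hF a b * h₀⁻¹⁻¹ := by
      rw [← e]
      group
    rw [this, conj_pow, Cfsg.Agent.Lib.Helper1.SzSub.TS_pow_four]
    group
  · refine ⟨h₀⁻¹, k, hk, ?_⟩
    rw [← e]
    group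

/-- elements fixing a point, of odd order, have order dividing `q - 1` -/
theorem fixes_odd_order (hm : 1 ≤ m) (hF : Fintype.card F = 2 ^ (2 * m + 1)) {x : Sz F m}
    (hx1 : x ≠ 1) (hodd : Odd (orderOf x)) (hfix : Fixes x) :
    orderOf x ∣ 2 ^ (2 * m + 1) - 1 := by
  classical
  obtain ⟨h, k, -, e⟩ := fixes_odd_conj hm hF hx1 hodd hfix
  apply orderOf_dvd_of_pow_eq_one
  have hk : k ^ (2 ^ (2 * m + 1) - 1) = 1 := by
    have := pow_card_eq_one (G := Fˣ) (x := k)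
    rwa [Fintype.card_units, hF] at this
  rw [e, conj_pow, Cfsg.Agent.Lib.Helper1.SzSub.HS_pow, hk, HS_one]
  group

/-- case 3 -/
theorem solCard_split (hm : 1 ≤ m) (hp : (2 * m + 1).Prime) (hF : Fintype.card F = 2 ^ (2 * m + 1))
    (x : Sz F m) (hx1 : x ≠ 1) (hx : orderOf x ∣ 2 ^ (2 * m + 1) - 1) :
    solCard x = 2 * (2 ^ (2 * m + 1)) ^ 2 * (2 ^ (2 * m + 1) - 1) := by
  obtain ⟨o1, o2, o3⟩ := odd_three m
  obtain ⟨c1, c2, c3, c4, c5, c6⟩ := four_coprime m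
  have hodd : Odd (orderOf x) := Odd.of_dvd_nat o1 hx
  have hfix : Fixes x := by
    by_contra hnf
    have hfree : Free x := (free_iff_not_fixes x).mpr hnf
    have hd := order_dvd_centralizer x
    rcases free_card hm hF hfree with h | h
    · rw [h] at hd
      exact order_ne_one hx1 (Nat.eq_one_of_dvd_coprimes c4 hx hd)
    · rw [h] at hd
      exact order_ne_one hx1 (Nat.eq_one_of_dvd_coprimes c5 hx hd)
  obtain ⟨h, k, hk, e⟩ := fixes_odd_conj hm hF hx1 hodd hfix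
  rw [e, solCard_conj, solCard_eq hm hp hF]
  exact card_solSet_HS hm hF hk

/-- cases 4 and 5 -/
theorem solCard_nonsplit (hm : 1 ≤ m) (hp : (2 * m + 1).Prime)
    (hF : Fintype.card F = 2 ^ (2 * m + 1)) (x : Sz F m) (hx1 : x ≠ 1) :
    (orderOf x ∣ 2 ^ (2 * m + 1) + 2 ^ (m + 1) + 1 →
      solCard x = 4 * (2 ^ (2 * m + 1) + 2 ^ (m + 1) + 1)) ∧
    (orderOf x ∣ 2 ^ (2 * m + 1) - 2 ^ (m + 1) + 1 →
      solCard x = 4 * (2 ^ (2 * m + 1) - 2 ^ (m + 1) + 1)) := by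
  obtain ⟨o1, o2, o3⟩ := odd_three m
  obtain ⟨c1, c2, c3, c4, c5, c6⟩ := four_coprime m
  have hd := order_dvd_centralizer x
  have key : ∀ N : ℕ, Odd N → Nat.Coprime (2 ^ (2 * m + 1) - 1) N → orderOf x ∣ N → Free x := by
    intro N hN hco hx
    rw [free_iff_not_fixes]
    intro hfix
    have h1 := fixes_odd_order hm hF hx1 (Odd.of_dvd_nat hN hx) hfix
    exact order_ne_one hx1 (Nat.eq_one_of_dvd_coprimes hco h1 hx)
  constructor
  · intro hx
    have hfree := key _ o2 c4 hx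
    rw [solCard_eq hm hp hF, card_solSet_free hm hF hfree]
    rcases free_card hm hF hfree with h | h
    · rw [h]
    · exfalso
      rw [h] at hd
      exact order_ne_one hx1 (Nat.eq_one_of_dvd_coprimes c6 hx hd)
  · intro hx
    have hfree := key _ o3 c5 hx
    rw [solCard_eq hm hp hF, card_solSet_free hm hF hfree]
    rcases free_card hm hF hfree with h | h
    · exfalso
      rw [h] at hd
      exact order_ne_one hx1 (Nat.eq_one_of_dvd_coprimes c6 hd hx)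
    · rw [h]

/-- the solubilizer counts in the matrix model -/
theorem solCard_main (hm : 1 ≤ m) (hp : (2 * m + 1).Prime)
    (hF : Fintype.card F = 2 ^ (2 * m + 1)) (x : Sz F m) :
    (orderOf x = 2 → solCard x = (2 ^ (2 * m + 1)) ^ 2 * (4 * 2 ^ (2 * m + 1) - 3)) ∧
    (orderOf x = 4 → solCard x = (2 ^ (2 * m + 1)) ^ 2 * (2 ^ (2 * m + 1) + 3)) ∧
    (x ≠ 1 → orderOf x ∣ 2 ^ (2 * m + 1) - 1 →
      solCard x = 2 * (2 ^ (2 * m + 1)) ^ 2 * (2 ^ (2 * m + 1) - 1)) ∧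
    (x ≠ 1 → orderOf x ∣ 2 ^ (2 * m + 1) + 2 ^ (m + 1) + 1 →
      solCard x = 4 * (2 ^ (2 * m + 1) + 2 ^ (m + 1) + 1)) ∧
    (x ≠ 1 → orderOf x ∣ 2 ^ (2 * m + 1) - 2 ^ (m + 1) + 1 →
      solCard x = 4 * (2 ^ (2 * m + 1) - 2 ^ (m + 1) + 1)) :=
  ⟨solCard_two hm hp hF x, solCard_four hm hp hF x, solCard_split hm hp hF x,
    fun h1 => (solCard_nonsplit hm hp hF x h1).1, fun h1 => (solCard_nonsplit hm hp hF x h1).2⟩

end Cfsg.Agent.Lib.Helper1.SzSol
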