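import Mathlib
import Cfsg.Agent.Lib.Helper1.SzPa
import Cfsg.Agent.Lib.Helper1.SzPb
import Cfsg.Agent.Lib.Helper14.SzL

/-!
# Central extensions of the Suzuki group: lifts of the centre of a Sylow 2-subgroup (helper1)
-/

set_option autoImplicit false
set_option maxHeartbeats 2000000

namespace Cfsg.Agent.Lib.Helper1.SzMult

open Cfsg Cfsg.Agent.Lib.Helper14.Sz

open scoped commutatorElement

universe u

variable {F : Type u} [Field F] [Fintype F] [CharP F 2] {m : ℕ}

section basic

variable (hF : Fintype.card F = 2 ^ (2 * m + 1))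

theorem s_comm_center (a b c : F) : TS hF a b * TS hF 0 c = TS (m := m) hF 0 c * TS hF a b := by
  rw [TS_mul, TS_mul, sg_zero, zero_mul, mul_zero, add_zero, add_zero, zero_add]
  congr 1
  ring

theorem s_add_center (b b' : F) : TS (m := m) hF 0 (b + b') = TS hF 0 b * TS hF 0 b' := by
  rw [TS_mul, sg_zero, zero_mul, add_zero, add_zero]

theorem s_split (a b : F) : TS (m := m) hF a b = TS hF a 0 * TS hF 0 b := by
  rw [TS_mul, mul_zero, add_zero, add_zero, zero_add]

theorem s_add_first (a a' : F) :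
    TS (m := m) hF (a + a') 0 = TS hF a 0 * TS hF a' 0 * TS hF 0 (sg m a * a') := by
  rw [TS_mul, TS_mul, mul_zero, add_zero, add_zero, add_zero, zero_add,
    CharTwo.add_self_eq_zero]

theorem s_comm (a b c d : F) :
    ⁅TS hF a b, TS hF c d⁆ = TS (m := m) hF 0 (sg m a * c + sg m c * a) := by
  have htwo : (2 : F) = 0 := CharTwo.two_eq_zero
  rw [commutatorElement_def, TS_inv, TS_inv, TS_mul, TS_mul, TS_mul]
  congr 1
  · linear_combination (a + c) * htwo
  · rw [sg_add, sg_add, sg_add]
    linear_combination (b + d + sg m a * a + sg m c * c + sg m a * c) * htwo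

theorem s_conj (k : F) (hk : k ≠ 0) (a b : F) :
    HS hF (Units.mk0 k hk) * TS hF a b * (HS hF (Units.mk0 k hk))⁻¹ =
      TS (m := m) hF (k * a) (sg m k * k * b) := by
  rw [conj_HS_TS]
  rfl

end basic

section ext

variable {Γ : Type*} [Group Γ] (σ : Γ →* Sz F m)

/-- a chosen lift -/
noncomputable def lift (hsurj : Function.Surjective σ) (g : Sz F m) : Γ :=
  Classical.choose (hsurj g)

theorem lift_spec (hsurj : Function.Surjective σ) (g : Sz F m) : σ (lift σ hsurj g) = g :=
  Classical.choose_spec (hsurj g)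

variable (hsurj : Function.Surjective σ) (hc : σ.ker ≤ Subgroup.center Γ)

theorem card_ge_eight (hm : 1 ≤ m) (hF : Fintype.card F = 2 ^ (2 * m + 1)) :
    8 ≤ Fintype.card F := by
  rw [hF]
  calc 8 = 2 ^ 3 := by norm_num
    _ ≤ 2 ^ (2 * m + 1) := Nat.pow_le_pow_right (by norm_num) (by omega)

/-- lifts of elements of the centre of the Sylow 2-subgroup commute -/
theorem claimA (hm : 1 ≤ m) (hF : Fintype.card F = 2 ^ (2 * m + 1))
    (hsurj : Function.Surjective σ) (hc : σ.ker ≤ Subgroup.center Γ)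
    {x y : Γ} {b c : F} (hx : σ x = TS hF 0 b) (hy : σ y = TS hF 0 c) : x * y = y * x := by
  set L := lift σ hsurj with hL
  have hLs : ∀ g, σ (L g) = g := lift_spec σ hsurj
  set B : F → F → Γ := fun b c => ⁅L (TS hF 0 b), L (TS hF 0 c)⁆ with hB
  have hcen : ∀ b c, B b c ∈ Subgroup.center Γ := by
    intro b c
    apply hc
    apply cm_mem_ker
    rw [hLs, hLs, s_comm_center]
  have h1 : ∀ b b' c, B (b + b') c = B b c * B b' c := by
    intro b b' c
    have e : σ (L (TS hF 0 (b + b'))) = σ (L (TS hF 0 b) * L (TS hF 0 b')) := by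
      rw [map_mul, hLs, hLs, hLs, s_add_center]
    simp only [hB]
    rw [cm_congr σ hc e rfl, cm_mul_left (Subgroup.mem_center_iff.mp (hcen b' c) _)]
    exact Subgroup.mem_center_iff.mp (hcen b c) _
  have h2 : ∀ b c c', B b (c + c') = B b c * B b c' := by
    intro b c c'
    have e : σ (L (TS hF 0 (c + c'))) = σ (L (TS hF 0 c) * L (TS hF 0 c')) := by
      rw [map_mul, hLs, hLs, hLs, s_add_center]
    simp only [hB]
    rw [cm_congr σ hc rfl e, cm_mul_right (Subgroup.mem_center_iff.mp (hcen b c') _)]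
  have hinv : ∀ k b c : F, k ≠ 0 → B (k * b) (k * c) = B b c := by
    intro k b c hk
    obtain ⟨k', hk'⟩ := sg_mul_self_surjective (m := m) hF k
    simp only at hk'
    have hk0 : k' ≠ 0 := by
      rintro rfl
      rw [mul_zero] at hk'
      exact hk hk'.symm
    set n := L (HS hF (Units.mk0 k' hk0)) with hn
    have h3 := cm_conj_central n (hcen b c)
    simp only [hB] at h3 ⊢
    rw [← h3]
    apply cm_congr σ hc
    · rw [map_mul, map_mul, map_inv, hLs, hLs, hLs, s_conj, mul_zero, hk']
    · rw [map_mul, map_mul, map_inv, hLs, hLs, hLs, s_conj, mul_zero, hk']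
  have hone := form_one_one (card_ge_eight hm hF) B h1 h2 hinv b c
  have e : ⁅x, y⁆ = B b c := by
    simp only [hB]
    apply cm_congr σ hc
    · rw [hx, hLs]
    · rw [hy, hLs]
  rw [hone] at e
  exact commutatorElement_eq_one_iff_mul_comm.mp e

/-- lifts of elements of the centre of the Sylow 2-subgroup commute with lifts of the
Sylow 2-subgroup -/
theorem claimB (hm : 2 ≤ m) (hF : Fintype.card F = 2 ^ (2 * m + 1))
    (hsurj : Function.Surjective σ) (hc : σ.ker ≤ Subgroup.center Γ)
    {x y : Γ} {a b c : F} (hx : σ x = TS hF a b) (hy : σ y = TS hF 0 c) : x * y = y * x := by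
  have hm1 : 1 ≤ m := by omega
  set L := lift σ hsurj with hL
  have hLs : ∀ g, σ (L g) = g := lift_spec σ hsurj
  have hA : ∀ b c : F, ⁅L (TS hF 0 b), L (TS hF 0 c)⁆ = 1 := by
    intro b c
    rw [commutatorElement_eq_one_iff_mul_comm]
    exact claimA σ hm1 hF hsurj hc (hLs _) (hLs _)
  set D : F → F → Γ := fun a c => ⁅L (TS hF a 0), L (TS hF 0 c)⁆ with hD
  have hcen : ∀ a c, D a c ∈ Subgroup.center Γ := by
    intro a c
    apply hc
    apply cm_mem_ker
    rw [hLs, hLs, s_comm_center]
  have h1 : ∀ a a' c, D (a + a') c = D a c * D a' c := by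
    intro a a' c
    have e : σ (L (TS hF (a + a') 0)) =
        σ (L (TS hF a 0) * L (TS hF a' 0) * L (TS hF 0 (sg m a * a'))) := by
      rw [map_mul, map_mul, hLs, hLs, hLs, hLs, s_add_first]
    simp only [hD]
    rw [cm_congr σ hc e rfl, cm_mul_left (by rw [hA, mul_one, one_mul]), hA, one_mul,
      cm_mul_left (Subgroup.mem_center_iff.mp (hcen a' c) _)]
    exact Subgroup.mem_center_iff.mp (hcen a c) _
  have h2 : ∀ a c c', D a (c + c') = D a c * D a c' := by
    intro a c c'
    have e : σ (L (TS hF 0 (c + c'))) = σ (L (TS hF 0 c) * L (TS hF 0 c')) := by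
      rw [map_mul, hLs, hLs, hLs, s_add_center]
    simp only [hD]
    rw [cm_congr σ hc rfl e, cm_mul_right (Subgroup.mem_center_iff.mp (hcen a c') _)]
  have hinv : ∀ k a c : F, k ≠ 0 → D (k * a) (sg m k * k * c) = D a c := by
    intro k a c hk
    set n := L (HS hF (Units.mk0 k hk)) with hn
    have h3 := cm_conj_central n (hcen a c)
    simp only [hD] at h3 ⊢
    rw [← h3]
    apply cm_congr σ hc
    · rw [map_mul, map_mul, map_inv, hLs, hLs, hLs, s_conj, mul_zero]
    · rw [map_mul, map_mul, map_inv, hLs, hLs, hLs, s_conj, mul_zero]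
  have hone := form_one_lam hm hF D h1 h2 hinv a c
  have e : ⁅x, y⁆ = ⁅L (TS hF a 0) * L (TS hF 0 b), L (TS hF 0 c)⁆ := by
    apply cm_congr σ hc
    · rw [hx, map_mul, hLs, hLs, ← s_split]
    · rw [hy, hLs]
  rw [cm_mul_left (by rw [hA, mul_one, one_mul]), hA, one_mul] at e
  simp only [hD] at hone
  rw [hone] at e
  exact commutatorElement_eq_one_iff_mul_comm.mp e

end ext

end Cfsg.Agent.Lib.Helper1.SzMult
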