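import Mathlib
import Cfsg.Agent.Lib.Helper1.SzPc
import Cfsg.Agent.Lib.Helper14.SzP

/-!
# Central extensions of the Suzuki group: the commutator subgroup of the lifted Sylow
2-subgroup meets the kernel in a group of odd exponent (helper1)
-/

set_option autoImplicit false
set_option maxHeartbeats 4000000

namespace Cfsg.Agent.Lib.Helper1.SzMult

open Cfsg Cfsg.Agent.Lib.Helper14.Sz

open scoped commutatorElement

universe u

variable {F : Type u} [Field F] [Fintype F] [CharP F 2] {m : ℕ}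

/-- the centre of the standard Sylow 2-subgroup -/
def ZTS (hF : Fintype.card F = 2 ^ (2 * m + 1)) : Subgroup (Sz F m) where
  carrier := {g | ∃ e : F, g = TS hF 0 e}
  one_mem' := ⟨0, (TS_zero hF).symm⟩
  mul_mem' := by
    rintro _ _ ⟨e, rfl⟩ ⟨e', rfl⟩
    exact ⟨e + e', (s_add_center hF e e').symm⟩
  inv_mem' := by
    rintro _ ⟨e, rfl⟩
    exact ⟨e, by rw [TS_inv, sg_zero, zero_mul, add_zero]⟩

theorem mem_ZTS (hF : Fintype.card F = 2 ^ (2 * m + 1)) (g : Sz F m) :
    g ∈ ZTS hF ↔ ∃ e : F, g = TS hF 0 e := Iff.rfl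

variable {Γ : Type*} [Group Γ] (σ : Γ →* Sz F m)

theorem claimC (hm : 2 ≤ m) (hF : Fintype.card F = 2 ^ (2 * m + 1))
    (hsurj : Function.Surjective σ) (hc : σ.ker ≤ Subgroup.center Γ) {z : Γ} (hz : z ∈ σ.ker)
    (hz' : z ∈ ⁅(TSub hF).comap σ, (TSub hF).comap σ⁆) : z ^ (2 ^ (2 * m + 1) - 1) = 1 := by
  classical
  have hm1 : 1 ≤ m := by omega
  set L := lift σ hsurj with hL
  have hLs : ∀ g, σ (L g) = g := lift_spec σ hsurj
  set Zh : Subgroup Γ := (ZTS hF).comap σ with hZh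
  have hZmem : ∀ y : Γ, y ∈ Zh ↔ ∃ e : F, σ y = TS hF 0 e := fun y => Iff.rfl
  have hZcomm : ∀ a b : Γ, a ∈ Zh → b ∈ Zh → a * b = b * a := by
    intro a b ha hb
    obtain ⟨e, he⟩ := (hZmem a).mp ha
    obtain ⟨e', he'⟩ := (hZmem b).mp hb
    exact claimA σ hm1 hF hsurj hc he he'
  letI : CommGroup ↥Zh := { (inferInstance : Group ↥Zh) with
    mul_comm := fun a b => Subtype.ext (hZcomm a.1 b.1 a.2 b.2) }
  have hB : ∀ {x y : Γ} {a b : F}, σ x = TS hF a b → y ∈ Zh → x * y = y * x := by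
    intro x y a b hx hy
    obtain ⟨e, he⟩ := (hZmem y).mp hy
    exact claimB σ hm hF hsurj hc hx he
  have hcmZ : ∀ {x y : Γ} {a b c d : F}, σ x = TS hF a b → σ y = TS hF c d → ⁅x, y⁆ ∈ Zh := by
    intro x y a b c d hx hy
    rw [hZmem]
    exact ⟨_, by rw [map_commutatorElement, hx, hy, s_comm]⟩
  have hLZ : ∀ e : F, L (TS hF 0 e) ∈ Zh := fun e => (hZmem _).mpr ⟨e, hLs _⟩
  set Ev : F → F → Γ := fun a c => ⁅L (TS hF a 0), L (TS hF c 0)⁆ with hEv
  have hEvZ : ∀ a c, Ev a c ∈ Zh := fun a c => hcmZ (hLs _) (hLs _)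
  -- reduction of arbitrary commutators
  have hred : ∀ {x y : Γ} {a b c d : F}, σ x = TS hF a b → σ y = TS hF c d →
      ⁅x, y⁆ = Ev a c := by
    intro x y a b c d hx hy
    have e1 : ⁅x, y⁆ = ⁅L (TS hF a 0) * L (TS hF 0 b), L (TS hF c 0) * L (TS hF 0 d)⁆ := by
      apply cm_congr σ hc
      · rw [hx, map_mul, hLs, hLs, ← s_split]
      · rw [hy, map_mul, hLs, hLs, ← s_split]
    have hY : σ (L (TS hF c 0) * L (TS hF 0 d)) = TS hF c d := by
      rw [map_mul, hLs, hLs, ← s_split]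
    have e2 : ⁅L (TS hF 0 b), L (TS hF c 0) * L (TS hF 0 d)⁆ = 1 := by
      rw [commutatorElement_eq_one_iff_mul_comm]
      exact (hB hY (hLZ b)).symm
    have e3 : ⁅L (TS hF a 0), L (TS hF 0 d)⁆ = 1 := by
      rw [commutatorElement_eq_one_iff_mul_comm]
      exact hB (hLs _) (hLZ d)
    rw [e1, cm_mul_left (by rw [e2, mul_one, one_mul]), e2, one_mul,
      cm_mul_right (by rw [e3, mul_one, one_mul]), e3, mul_one]
  have hE1 : ∀ a a' c, Ev (a + a') c = Ev a c * Ev a' c := by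
    intro a a' c
    have e : σ (L (TS hF (a + a') 0)) =
        σ (L (TS hF a 0) * L (TS hF a' 0) * L (TS hF 0 (sg m a * a'))) := by
      rw [map_mul, map_mul, hLs, hLs, hLs, hLs, s_add_first]
    have e2 : ⁅L (TS hF 0 (sg m a * a')), L (TS hF c 0)⁆ = 1 := by
      rw [commutatorElement_eq_one_iff_mul_comm]
      exact (hB (hLs _) (hLZ _)).symm
    simp only [hEv]
    rw [cm_congr σ hc e rfl, cm_mul_left (by rw [e2, mul_one, one_mul]), e2, one_mul,
      cm_mul_left (hB (hLs _) (hEvZ a' c))]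
    exact hZcomm _ _ (hEvZ a' c) (hEvZ a c)
  have hE2 : ∀ a c c', Ev a (c + c') = Ev a c * Ev a c' := by
    intro a c c'
    have e : σ (L (TS hF (c + c') 0)) =
        σ (L (TS hF c 0) * L (TS hF c' 0) * L (TS hF 0 (sg m c * c'))) := by
      rw [map_mul, map_mul, hLs, hLs, hLs, hLs, s_add_first]
    have e2 : ⁅L (TS hF a 0), L (TS hF 0 (sg m c * c'))⁆ = 1 := by
      rw [commutatorElement_eq_one_iff_mul_comm]
      exact hB (hLs _) (hLZ _)
    simp only [hEv]
    rw [cm_congr σ hc rfl e, cm_mul_right (by rw [e2, mul_one, one_mul]), e2, mul_one,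
      cm_mul_right (hB (hLs _) (hEvZ a c'))]
  have hEconj : ∀ (u : Fˣ) (a c : F),
      L (HS hF u) * Ev a c * (L (HS hF u))⁻¹ = Ev ((u : F) * a) ((u : F) * c) := by
    intro u a c
    simp only [hEv]
    rw [cm_conj]
    apply cm_congr σ hc
    · rw [map_mul, map_mul, map_inv, hLs, hLs, hLs, conj_HS_TS, mul_zero]
    · rw [map_mul, map_mul, map_inv, hLs, hLs, hLs, conj_HS_TS, mul_zero]
  set E : F → F → ↥Zh := fun a c => ⟨Ev a c, hEvZ a c⟩ with hE
  set Bav : F → F → ↥Zh := fun a c => ∏ u : Fˣ, E ((u : F) * a) ((u : F) * c) with hBav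
  have hone : ∀ a c, Bav a c = 1 := by
    apply form_one_one (card_ge_eight hm1 hF)
    · intro a a' c
      simp only [hBav]
      rw [← Finset.prod_mul_distrib]
      apply Finset.prod_congr rfl
      intro u _
      rw [mul_add]
      exact Subtype.ext (hE1 _ _ _)
    · intro a c c'
      simp only [hBav]
      rw [← Finset.prod_mul_distrib]
      apply Finset.prod_congr rfl
      intro u _
      rw [mul_add]
      exact Subtype.ext (hE2 _ _ _)
    · intro k a c hk
      simp only [hBav]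
      apply Fintype.prod_equiv (Equiv.mulRight (Units.mk0 k hk))
      intro u
      simp only [Equiv.coe_mulRight, Units.val_mul, Units.val_mk0, mul_assoc]
  -- the conjugation homomorphisms
  have hcjmem : ∀ (u : Fˣ) (y : ↥Zh), L (HS hF u) * y.1 * (L (HS hF u))⁻¹ ∈ Zh := by
    intro u y
    obtain ⟨e, he⟩ := (hZmem y.1).mp y.2
    rw [hZmem]
    exact ⟨_, by rw [map_mul, map_mul, map_inv, hLs, he, conj_HS_TS, mul_zero]⟩
  set cj : Fˣ → (↥Zh →* ↥Zh) := fun u =>
    { toFun := fun y => ⟨L (HS hF u) * y.1 * (L (HS hF u))⁻¹, hcjmem u y⟩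
      map_one' := by
        apply Subtype.ext
        simp
      map_mul' := by
        intro y y'
        apply Subtype.ext
        simp only [Subgroup.coe_mul]
        group } with hcj
  set Θ : ↥Zh →* ↥Zh := ∏ u : Fˣ, cj u with hΘ
  have hΘE : ∀ a c, Θ (E a c) = 1 := by
    intro a c
    rw [hΘ, MonoidHom.finset_prod_apply, ← hone a c]
    simp only [hBav]
    apply Finset.prod_congr rfl
    intro u _
    exact Subtype.ext (hEconj u a c)
  have hΘz : ∀ w : ↥Zh, w.1 ∈ σ.ker → Θ w = w ^ Fintype.card Fˣ := by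
    intro w hw
    rw [hΘ, MonoidHom.finset_prod_apply]
    have : ∀ u ∈ (Finset.univ : Finset Fˣ), cj u w = w := by
      intro u _
      apply Subtype.ext
      simp only [hcj, MonoidHom.coe_mk, OneHom.coe_mk]
      rw [Subgroup.mem_center_iff.mp (hc hw) _, mul_inv_cancel_right]
    rw [Finset.prod_congr rfl this, Finset.prod_const, Finset.card_univ]
  have hle : ⁅(TSub hF).comap σ, (TSub hF).comap σ⁆ ≤ Θ.ker.map Zh.subtype := by
    rw [Subgroup.commutator_le]
    intro x hx y hy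
    obtain ⟨a, b, hx'⟩ := (mem_TSub_iff hF _).mp (Subgroup.mem_comap.mp hx)
    obtain ⟨c, d, hy'⟩ := (mem_TSub_iff hF _).mp (Subgroup.mem_comap.mp hy)
    rw [hred hx' hy']
    exact ⟨E a c, hΘE a c, rfl⟩
  obtain ⟨w, hw, hwz⟩ := hle hz'
  have hwz' : w.1 = z := hwz
  have h1 := hΘz w (by rw [hwz']; exact hz)
  rw [MonoidHom.mem_ker.mp hw] at h1
  have h2 := congrArg Subtype.val h1
  rw [Subgroup.coe_pow, hwz', Fintype.card_units, hF] at h2
  exact h2.symm

end Cfsg.Agent.Lib.Helper1.SzMult
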