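import Mathlib
import Cfsg.Agent.Lib.Helper1.SzPd
import Cfsg.Agent.Lib.Helper1.SzMb

/-!
# Stem extensions of the Suzuki groups `Sz(q)`, `q ≥ 32`, are trivial (helper1)
-/

set_option autoImplicit false
set_option maxHeartbeats 2000000

namespace Cfsg.Agent.Lib.Helper1.SzMult

open Cfsg Cfsg.Agent.Lib.Helper14.Sz Cfsg.Agent.Lib.Helper1.SzMax

open scoped commutatorElement

universe u

variable {F : Type u} [Field F] [Fintype F] [CharP F 2] {m : ℕ}

theorem index_TSub (hm : 1 ≤ m) (hF : Fintype.card F = 2 ^ (2 * m + 1)) :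
    (TSub (m := m) hF).index = ((2 ^ (2 * m + 1)) ^ 2 + 1) * (2 ^ (2 * m + 1) - 1) := by
  have h1 := Subgroup.index_mul_card (TSub (m := m) hF)
  rw [card_TSub hF, card_Sz hm hF] at h1
  have hpos : 0 < (2 ^ (2 * m + 1)) ^ 2 := by positivity
  apply Nat.eq_of_mul_eq_mul_right hpos
  rw [h1]
  ring

theorem odd_index_TSub (hm : 1 ≤ m) (hF : Fintype.card F = 2 ^ (2 * m + 1)) :
    Odd ((TSub (m := m) hF).index * (2 ^ (2 * m + 1) - 1)) := by
  rw [index_TSub hm hF]
  have h1 : Even (2 ^ (2 * m + 1)) := Nat.even_pow.mpr ⟨even_two, by omega⟩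
  have h2 : 1 ≤ 2 ^ (2 * m + 1) := Nat.one_le_two_pow
  have h3 : Odd (2 ^ (2 * m + 1) - 1) := Nat.Even.sub_odd h2 h1 odd_one
  have h4 : Odd ((2 ^ (2 * m + 1)) ^ 2 + 1) := (Even.pow_of_ne_zero h1 (by norm_num)).add_one
  exact (h4.mul h3).mul h3

variable {Γ : Type*} [Group Γ] [Finite Γ] (σ : Γ →* Sz F m)

/-- every element of the kernel has odd order -/
theorem ker_odd (hm : 2 ≤ m) (hF : Fintype.card F = 2 ^ (2 * m + 1))
    (hsurj : Function.Surjective σ) (hc : σ.ker ≤ Subgroup.center Γ)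
    (hd : σ.ker ≤ commutator Γ) {z : Γ} (hz : z ∈ σ.ker) :
    z ^ ((TSub (m := m) hF).index * (2 ^ (2 * m + 1) - 1)) = 1 := by
  have h1 := transfer_central ((TSub hF).comap σ) (hc hz) (hd hz)
  rw [Subgroup.index_comap_of_surjective _ hsurj] at h1
  have h2 : z ^ (TSub (m := m) hF).index ∈ σ.ker := Subgroup.pow_mem _ hz _
  have h3 := claimC σ hm hF hsurj hc h2 h1
  rw [pow_mul]
  exact h3

/-- Sylow subgroups for odd primes of a central extension are abelian -/
theorem sylow_odd_comm (hm : 1 ≤ m) (hF : Fintype.card F = 2 ^ (2 * m + 1))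
    (hsurj : Function.Surjective σ) (hc : σ.ker ≤ Subgroup.center Γ)
    {p : ℕ} [Fact p.Prime] (hp : Odd p) (P : Sylow p Γ) {x y : Γ}
    (hx : x ∈ (P : Subgroup Γ)) (hy : y ∈ (P : Subgroup Γ)) : x * y = y * x := by
  set R : Subgroup (Sz F m) := (P : Subgroup Γ).map σ with hR
  have hRp : IsPGroup p R := P.2.map σ
  obtain ⟨j, hj⟩ := IsPGroup.iff_card.mp hRp
  have hodd : Odd (Nat.card R) := by
    rw [hj]
    exact hp.pow
  by_cases hbot : R = ⊥
  · have hxk : x ∈ σ.ker := by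
      rw [MonoidHom.mem_ker]
      have : σ x ∈ R := Subgroup.mem_map_of_mem σ hx
      rw [hbot] at this
      exact Subgroup.mem_bot.mp this
    exact (Subgroup.mem_center_iff.mp (hc hxk) y).symm
  · obtain ⟨g, hgR, hg1, hle⟩ := odd_subgroup_le_torus hm hF R hodd hbot
    have hgodd : Odd (orderOf g) :=
      Odd.of_dvd_nat hodd (Subgroup.orderOf_dvd_natCard R hgR)
    obtain ⟨hcyc, -, -⟩ := torus_of_odd hm hF g hg1 hgodd
    haveI := hcyc
    obtain ⟨c₀, hc₀⟩ := IsCyclic.exists_generator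
      (α := Subgroup.centralizer ({g} : Set (Sz F m)))
    set ĉ := lift σ hsurj c₀.1 with hĉ
    have hĉs : σ ĉ = c₀.1 := lift_spec σ hsurj _
    have key : ∀ w ∈ (P : Subgroup Γ), ∃ i : ℤ, σ w = σ (ĉ ^ i) := by
      intro w hw
      have h1 : σ w ∈ Subgroup.centralizer ({g} : Set (Sz F m)) :=
        hle (Subgroup.mem_map_of_mem σ hw)
      obtain ⟨i, hi⟩ := Subgroup.mem_zpowers_iff.mp (hc₀ ⟨σ w, h1⟩)
      refine ⟨i, ?_⟩
      rw [map_zpow, hĉs]
      have := congrArg Subtype.val hi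
      rw [Subgroup.coe_zpow] at this
      exact this.symm
    obtain ⟨i, hi⟩ := key x hx
    obtain ⟨j', hj'⟩ := key y hy
    have e := cm_congr σ hc hi hj'
    have e2 : ⁅ĉ ^ i, ĉ ^ j'⁆ = 1 := by
      rw [commutatorElement_eq_one_iff_mul_comm]
      exact ((Commute.refl ĉ).zpow_zpow i j').eq
    rw [e2] at e
    exact commutatorElement_eq_one_iff_mul_comm.mp e

/-- stem extensions of `Sz(q)`, `q ≥ 32`, are trivial -/
theorem stem_trivial (hm : 2 ≤ m) (hF : Fintype.card F = 2 ^ (2 * m + 1))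
    (hsurj : Function.Surjective σ) (hc : σ.ker ≤ Subgroup.center Γ)
    (hd : σ.ker ≤ commutator Γ) : σ.ker = ⊥ := by
  have hm1 : 1 ≤ m := by omega
  rw [Subgroup.eq_bot_iff_forall]
  intro z hz
  by_contra hz1
  have hN := ker_odd σ hm hF hsurj hc hd hz
  have hNodd := odd_index_TSub (m := m) hm1 hF
  have hord : orderOf z ∣ (TSub (m := m) hF).index * (2 ^ (2 * m + 1) - 1) :=
    orderOf_dvd_of_pow_eq_one hN
  have hord1 : orderOf z ≠ 1 := fun e => hz1 (orderOf_eq_one_iff.mp e)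
  obtain ⟨p, hp, hpd⟩ := Nat.exists_prime_and_dvd hord1
  haveI : Fact p.Prime := ⟨hp⟩
  have hpodd : Odd p := Odd.of_dvd_nat hNodd (hpd.trans hord)
  have hord0 : orderOf z ≠ 0 := (orderOf_pos z).ne'
  set z' := z ^ (orderOf z / p) with hz'
  have hz'ord : orderOf z' = p := orderOf_pow_orderOf_div hord0 hpd
  have hz'ker : z' ∈ σ.ker := Subgroup.pow_mem _ hz _
  have hpg : IsPGroup p (Subgroup.zpowers z') := by
    apply IsPGroup.of_card (n := 1)
    rw [Nat.card_zpowers, hz'ord, pow_one]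
  obtain ⟨P, hP⟩ := hpg.exists_le_sylow
  have hz'P : z' ∈ (P : Subgroup Γ) := hP (Subgroup.mem_zpowers z')
  have h1 := transfer_central (P : Subgroup Γ) (hc hz'ker) (hd hz'ker)
  have h2 : ⁅(P : Subgroup Γ), (P : Subgroup Γ)⁆ ≤ ⊥ := by
    rw [Subgroup.commutator_le]
    intro x hx y hy
    rw [Subgroup.mem_bot, commutatorElement_eq_one_iff_mul_comm]
    exact sylow_odd_comm σ hm1 hF hsurj hc hpodd P hx hy
  have h3 : z' ^ (P : Subgroup Γ).index = 1 := Subgroup.mem_bot.mp (h2 h1)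
  have h4 : orderOf z' ∣ (P : Subgroup Γ).index := orderOf_dvd_of_pow_eq_one h3
  rw [hz'ord] at h4
  exact P.not_dvd_index h4

end Cfsg.Agent.Lib.Helper1.SzMult
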