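import Mathlib
import Cfsg.Agent.Lib.Lead.ZJFunctor
import Cfsg.Agent.Lib.Lead.FunctorNPC
import Cfsg.Agent.Lib.Helper13.ThompsonMin

/-!
# Thompson's normal `p`-complement theorem, abelian version of `J`: the reduction (helper1)

The hypothesis is `N_G(J_a(P))` and `C_G(Z(P))` have normal `p`-complements, `J_a(P)` the subgroup
generated by the abelian subgroups of `P` of largest order.  The minimal counterexample reduction is
the one of helper13 (`ThompsonMin`), carried out for the functor `J_a` and carrying along a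
property `Φ` of groups inherited by subgroups and quotients.
-/

set_option autoImplicit false

universe u

namespace Cfsg.Agent.Lib.Helper1.ThompsonA

open Subgroup
open Cfsg.Agent.Lib.Helper13 Cfsg.Agent.Lib.Lead.GlaubermanRepl Cfsg.Agent.Lib.Lead.FunctorNPC
open Cfsg.Agent.Lib.Lead.ZJFunctor

/-- the functor `P ↦ J_a(P)` -/
def WJ : ∀ (H : Type u) [Group H], Subgroup H → Subgroup H := fun _ _ P => JA P

theorem WJ_good (p : ℕ) [hp : Fact p.Prime] : IsGoodFunctor.{u} p WJ where
  le := fun _ _ P => JA_le P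
  map := fun _ _ _ _ f P hinj => JA_map_of_injOn f hinj
  ne_bot := by
    intro H _ _ P hP hne h
    apply (WZ_good p).ne_bot H P hP hne
    show ZJ P = ⊥
    rw [eq_bot_iff]
    unfold ZJ
    have h' : JA P = ⊥ := h
    rw [h']
    exact inf_le_left

/-- the hypothesis on `C_G(Z(P))` -/
def ZHyp (p : ℕ) (G : Type u) [Group G] (P : Subgroup G) : Prop :=
  NPC p ↥(centralizer ((P ⊓ centralizer (P : Set G) : Subgroup G) : Set G))

section inj

variable {G H : Type u} [Group G] [Finite G] [Group H] [Finite H] {p : ℕ} [hp : Fact p.Prime]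

theorem ZHyp.of_injective (f : H →* G) (hf : Function.Injective f) (R₀ : Subgroup H)
    (h2 : ZHyp p G (R₀.map f)) : ZHyp p H R₀ := by
  unfold ZHyp at h2 ⊢
  have h3 : (centralizer ((R₀ ⊓ centralizer (R₀ : Set H) : Subgroup H) : Set H)).map f ≤
      centralizer (((R₀.map f) ⊓ centralizer ((R₀.map f : Subgroup G) : Set G) : Subgroup G)
        : Set G) := by
    rintro _ ⟨x, hx, rfl⟩
    rw [Subgroup.mem_centralizer_iff]
    intro z hz
    obtain ⟨hz1, hz2⟩ := Subgroup.mem_inf.mp hz
    obtain ⟨z', hz', rfl⟩ := Subgroup.mem_map.mp hz1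
    have hz'c : z' ∈ centralizer (R₀ : Set H) := by
      rw [Subgroup.mem_centralizer_iff]
      intro r hr
      apply hf
      rw [map_mul, map_mul]
      exact (Subgroup.mem_centralizer_iff.mp hz2) _ (Subgroup.mem_map_of_mem f hr)
    have := (Subgroup.mem_centralizer_iff.mp hx) z' (Subgroup.mem_inf.mpr ⟨hz', hz'c⟩)
    rw [← map_mul, ← map_mul, this]
  have h4 := NPC.of_le h3 h2
  exact NPC.of_equiv (Subgroup.equivMapOfInjective _ f hf).symm h4

theorem ZHyp.subgroup (M : Subgroup G) (R₀ : Subgroup M) (h : ZHyp p G (R₀.map M.subtype)) :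
    ZHyp p M R₀ :=
  ZHyp.of_injective M.subtype M.subtype_injective R₀ h

theorem ZHyp.conj (g : G) (P : Subgroup G) (h : ZHyp p G P) :
    ZHyp p G (P.map (MulAut.conj g).toMonoidHom) := by
  apply ZHyp.of_injective (MulAut.conj g⁻¹).toMonoidHom (MulAut.conj g⁻¹).injective
  have : (P.map (MulAut.conj g).toMonoidHom).map (MulAut.conj g⁻¹).toMonoidHom = P := by
    ext x
    simp only [Subgroup.mem_map, MulEquiv.coe_toMonoidHom, MulAut.conj_apply, inv_inv,
      exists_exists_and_eq_and]
    constructor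
    · rintro ⟨a, ha, rfl⟩
      have : g⁻¹ * (g * a * g⁻¹) * g = a := by group
      rwa [this]
    · intro hx
      exact ⟨x, hx, by group⟩
  rw [this]
  exact h

end inj

section pprime

variable {G : Type u} [Group G] [Finite G] {p : ℕ} [hp : Fact p.Prime]

theorem ZHyp.quotient_of_coprime (K₀ : Subgroup G) [K₀.Normal]
    (hK₀ : (Nat.card K₀).Coprime p) (P : Subgroup G) (hP : IsPGroup p P) (h : ZHyp p G P) :
    ZHyp p (G ⧸ K₀) (P.map (QuotientGroup.mk' K₀)) := by
  have hinj := injOn_of_coprime K₀ hK₀ P hP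
  have hZ : (P.map (QuotientGroup.mk' K₀)) ⊓
      centralizer ((P.map (QuotientGroup.mk' K₀) : Subgroup (G ⧸ K₀)) : Set (G ⧸ K₀)) =
      (P ⊓ centralizer (P : Set G)).map (QuotientGroup.mk' K₀) := by
    ext y
    constructor
    · intro hy
      obtain ⟨hy1, hy2⟩ := Subgroup.mem_inf.mp hy
      obtain ⟨x, hx, rfl⟩ := Subgroup.mem_map.mp hy1
      refine Subgroup.mem_map.mpr ⟨x, Subgroup.mem_inf.mpr ⟨hx, ?_⟩, rfl⟩
      rw [Subgroup.mem_centralizer_iff]
      intro r hr
      apply Cfsg.Agent.Lib.Helper17.eq_of_map_eq_of_injOn _ hinj (P.mul_mem hr hx) (P.mul_mem hx hr)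
      rw [map_mul, map_mul]
      exact (Subgroup.mem_centralizer_iff.mp hy2) _ (Subgroup.mem_map_of_mem _ hr)
    · rintro ⟨x, hx, rfl⟩
      obtain ⟨hx1, hx2⟩ := Subgroup.mem_inf.mp hx
      refine Subgroup.mem_inf.mpr ⟨Subgroup.mem_map_of_mem _ hx1, ?_⟩
      rw [Subgroup.mem_centralizer_iff]
      rintro _ ⟨r, hr, rfl⟩
      rw [← map_mul, ← map_mul, (Subgroup.mem_centralizer_iff.mp hx2) r hr]
  unfold ZHyp at h ⊢
  rw [hZ]
  exact NPC.of_le (centralizer_map_le_of_coprime K₀ hK₀ _ (hP.to_le inf_le_left))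
    (NPC.map _ _ h)

theorem ZHyp.quotient_of_normalizers (Q : Subgroup G) [Q.Normal] (P : Subgroup G) (hQP : Q ≤ P)
    (hP : IsPGroup p P)
    (h : ∀ K : Subgroup G, Q ≤ K → K ≤ P → P ≤ normalizer (K : Set G) → K ≠ Q →
      NPC p ↥(normalizer (K : Set G)))
    (hne : P.map (QuotientGroup.mk' Q) ≠ ⊥) :
    ZHyp p (G ⧸ Q) (P.map (QuotientGroup.mk' Q)) := by
  have hsurj := QuotientGroup.mk'_surjective Q
  have hPbar : IsPGroup p (P.map (QuotientGroup.mk' Q)) := hP.map _
  have hcm : (P.map (QuotientGroup.mk' Q)).comap (QuotientGroup.mk' Q) = P := by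
    rw [Subgroup.comap_map_eq, QuotientGroup.ker_mk', sup_eq_left.mpr hQP]
  have key : ∀ X : Subgroup (G ⧸ Q), X ≤ P.map (QuotientGroup.mk' Q) → X ≠ ⊥ →
      P.map (QuotientGroup.mk' Q) ≤ normalizer (X : Set (G ⧸ Q)) →
      NPC p ↥(normalizer ((X.comap (QuotientGroup.mk' Q) : Subgroup G) : Set G)) := by
    intro X hXP hX hPX
    apply h
    · intro q hq
      rw [Subgroup.mem_comap]
      have : QuotientGroup.mk' Q q = 1 := by
        rw [← MonoidHom.mem_ker, QuotientGroup.ker_mk']; exact hq
      rw [this]; exact X.one_mem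
    · rw [← hcm]; exact Subgroup.comap_mono hXP
    · rw [← Subgroup.comap_normalizer_eq_of_surjective X hsurj, ← hcm]
      exact Subgroup.comap_mono hPX
    · intro hKQ
      apply hX
      rw [← Subgroup.map_comap_eq_self_of_surjective hsurj X, hKQ, eq_bot_iff]
      rintro _ ⟨q, hq, rfl⟩
      rw [Subgroup.mem_bot, ← MonoidHom.mem_ker, QuotientGroup.ker_mk']; exact hq
  unfold ZHyp
  apply NPC.of_comap_normalizer (QuotientGroup.mk' Q) hsurj _ _
    (Subgroup.centralizer_le_normalizer _)
  apply key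
  · exact inf_le_left
  · exact inf_centralizer_ne_bot_of_isPGroup _ hPbar hne
  · intro y hy
    apply mem_normalizer_of_conj_mem
    intro z hz
    obtain ⟨hz1, hz2⟩ := Subgroup.mem_inf.mp hz
    have : y * z * y⁻¹ = z := by
      rw [(Subgroup.mem_centralizer_iff.mp hz2) y hy, mul_inv_cancel_right]
    rw [this]; exact hz

end pprime

section induction

variable {p : ℕ} [hp : Fact p.Prime]

/-- **The reduction.**  `Φ` is a property of groups inherited by subgroups and quotients; if the
final configuration of a minimal counterexample is contradictory, the theorem holds. -/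
theorem thompsonA_aux (Φ : ∀ (H : Type u) [Group H], Prop)
    (hΦsub : ∀ (H : Type u) [Group H] (M : Subgroup H), Φ H → Φ ↥M)
    (hΦquot : ∀ (H : Type u) [Group H] (K : Subgroup H) [K.Normal], Φ H → Φ (H ⧸ K))
    (hfinal : ∀ (G : Type u) [Group G] [Finite G] (P : Sylow p G) (Q : Subgroup G) [Q.Normal],
      Φ G → Q ≤ (P : Subgroup G) →
      (∀ R : Subgroup G, R.Normal → IsPGroup p R → R ≤ Q) →
      (∀ K : Subgroup G, K.Normal → (Nat.card K).Coprime p → K = ⊥) →
      NPC p (G ⧸ Q) →
      (∀ M : Subgroup G, (P : Subgroup G) ≤ M → M ≠ ⊤ → NPC p ↥M) →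
      FHyp WJ p G (P : Subgroup G) → ZHyp p G (P : Subgroup G) → ¬ NPC p G → False) :
    ∀ n : ℕ, ∀ (G : Type u) [Group G] [Finite G],
    Nat.card G = n → Φ G → ∀ P : Sylow p G, FHyp WJ p G (P : Subgroup G) →
      ZHyp p G (P : Subgroup G) → NPC p G := by
  have hW := WJ_good.{u} p
  intro n
  induction n using Nat.strong_induction_on with
  | _ n ih =>
  intro G _ _ hn hΦ P₀ hP₀ hP₀Z
  by_contra hG
  have hall : ∀ P : Sylow p G, FHyp WJ p G (P : Subgroup G) ∧ ZHyp p G (P : Subgroup G) := by
    intro P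
    obtain ⟨g, hg⟩ := MulAction.exists_smul_eq G P₀ P
    rw [← hg, Cfsg.Agent.Lib.Helper17.coe_smul_sylow_eq_map]
    exact ⟨FHyp.conj hW g _ hP₀, ZHyp.conj g _ hP₀Z⟩
  have hOp' : ∀ K : Subgroup G, K.Normal → (Nat.card K).Coprime p → K = ⊥ := by
    intro K hK hcop
    by_contra hne
    have h1 : Nat.card (G ⧸ K) < n := by
      have h2 := Subgroup.card_eq_card_quotient_mul_card_subgroup K
      have h3 : 1 < Nat.card K := by
        rcases Nat.lt_or_ge 1 (Nat.card K) with h | h
        · exact h
        · exfalso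
          apply hne
          have hpos : 0 < Nat.card K := Nat.card_pos
          exact Subgroup.card_eq_one.mp (by omega)
      have hpos : 0 < Nat.card (G ⧸ K) := Nat.card_pos
      rw [← hn, h2]
      nlinarith
    have h2 := ih _ h1 (G ⧸ K) rfl (hΦquot G K hΦ)
      (P₀.mapSurjective (QuotientGroup.mk'_surjective K))
      (by rw [Sylow.coe_mapSurjective]
          exact FHyp.quotient_of_coprime hW K hcop P₀ P₀.isPGroup' hP₀)
      (by rw [Sylow.coe_mapSurjective]
          exact ZHyp.quotient_of_coprime K hcop P₀ P₀.isPGroup' hP₀Z)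
    exact hG (NPC.of_quotient K hcop h2)
  have hex : ∃ Q : Subgroup G, IsPGroup p Q ∧ Q ≠ ⊥ ∧ ¬ NPC p ↥(normalizer (Q : Set G)) := by
    by_contra hno
    push Not at hno
    apply hG
    rw [← npc_iff, Cfsg.Agent.S0072.result p]
    intro Q hQ hne
    rw [npc_iff]
    exact hno Q hQ hne
  obtain ⟨Q, hQmem, hQmax⟩ := Set.exists_max_image
    {Q : Subgroup G | IsPGroup p Q ∧ Q ≠ ⊥ ∧ ¬ NPC p ↥(normalizer (Q : Set G))}
    (fun Q => (Nat.card (normalizer (Q : Set G))).factorization p * (n + 1) + Nat.card Q)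
    (Set.toFinite _) hex
  obtain ⟨hQp, hQne, hQnpc⟩ := hQmem
  have hcardle : ∀ H : Subgroup G, Nat.card H ≤ n := by
    intro H; rw [← hn]; exact Subgroup.card_le_card_group H
  have hM1 : ∀ Q' : Subgroup G, IsPGroup p Q' → Q' ≠ ⊥ → ¬ NPC p ↥(normalizer (Q' : Set G)) →
      (Nat.card (normalizer (Q' : Set G))).factorization p ≤
        (Nat.card (normalizer (Q : Set G))).factorization p := by
    intro Q' h1 h2 h3
    have h4 := hQmax Q' ⟨h1, h2, h3⟩
    beta_reduce at h4
    by_contra hlt
    push Not at hlt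
    have h5 : ((Nat.card (normalizer (Q : Set G))).factorization p + 1) * (n + 1) ≤
        (Nat.card (normalizer (Q' : Set G))).factorization p * (n + 1) :=
      Nat.mul_le_mul_right _ hlt
    rw [Nat.add_mul] at h5
    have h6 := hcardle Q
    omega
  have hM2 : ∀ Q' : Subgroup G, IsPGroup p Q' → Q' ≠ ⊥ → ¬ NPC p ↥(normalizer (Q' : Set G)) →
      (Nat.card (normalizer (Q : Set G))).factorization p ≤
        (Nat.card (normalizer (Q' : Set G))).factorization p → Nat.card Q' ≤ Nat.card Q := by
    intro Q' h1 h2 h3 hle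
    have h4 := hQmax Q' ⟨h1, h2, h3⟩
    beta_reduce at h4
    have h5 : (Nat.card (normalizer (Q : Set G))).factorization p * (n + 1) ≤
        (Nat.card (normalizer (Q' : Set G))).factorization p * (n + 1) :=
      Nat.mul_le_mul_right _ hle
    omega
  -- Claim 1
  have hQn : Q.Normal := by
    rw [← Subgroup.normalizer_eq_top_iff]
    by_contra hN
    obtain ⟨N, hNdef⟩ : ∃ N : Subgroup G, N = normalizer (Q : Set G) := ⟨_, rfl⟩
    rw [← hNdef] at hN hQnpc
    have hQN : Q ≤ N := by rw [hNdef]; exact Subgroup.le_normalizer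
    obtain ⟨R₀, hR₀⟩ := (hQp.comap_subtype (K := N) : IsPGroup p (Q.subgroupOf N)).exists_le_sylow
    obtain ⟨R, hRdef⟩ : ∃ R : Subgroup G, R = (R₀ : Subgroup N).map N.subtype := ⟨_, rfl⟩
    have hRp : IsPGroup p R := by rw [hRdef]; exact R₀.isPGroup'.map _
    have hRN : R ≤ N := by rw [hRdef]; exact Subgroup.map_subtype_le _
    have hQR : Q ≤ R := by
      intro x hx
      rw [hRdef]
      exact Subgroup.mem_map.mpr ⟨⟨x, hQN hx⟩, hR₀ (Subgroup.mem_subgroupOf.mpr hx), rfl⟩
    have hRne : R ≠ ⊥ := by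
      intro h; apply hQne; rw [eq_bot_iff, ← h]; exact hQR
    have hRcard : Nat.card R = p ^ (Nat.card N).factorization p := by
      rw [hRdef, Subgroup.card_map_of_injective N.subtype_injective]
      exact R₀.card_eq_multiplicity
    obtain ⟨P, hRP⟩ := hRp.exists_le_sylow
    have hbig : ∀ X : Subgroup G, IsPGroup p X → X ≠ ⊥ → ∀ S : Subgroup G, IsPGroup p S →
        S ≤ normalizer (X : Set G) → Nat.card R < Nat.card S →
        NPC p ↥(normalizer (X : Set G)) := by
      intro X hX hXne S hS hSX hlt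
      by_contra hnpc
      have h1 := hM1 X hX hXne hnpc
      rw [← hNdef] at h1
      have h2 := card_le_pow_factorization (normalizer (X : Set G)) S hS hSX
      have h3 : p ^ (Nat.card (normalizer (X : Set G))).factorization p ≤
          p ^ (Nat.card N).factorization p := Nat.pow_le_pow_right hp.out.pos h1
      rw [← hRcard] at h3
      omega
    have hThR : FHyp WJ p G R ∧ ZHyp p G R := by
      by_cases hRPeq : R = (P : Subgroup G)
      · rw [hRPeq]; exact hall P
      · have hlt : R < (P : Subgroup G) := lt_of_le_of_ne hRP hRPeq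
        have hlt2 := Cfsg.Agent.Lib.Helper15.lt_inf_normalizer_of_lt (P : Subgroup G) R P.isPGroup' hlt
        have hSp : IsPGroup p ↥((P : Subgroup G) ⊓ normalizer (R : Set G)) :=
          P.isPGroup'.to_le inf_le_left
        have hcardlt : Nat.card R < Nat.card ↥((P : Subgroup G) ⊓ normalizer (R : Set G)) := by
          by_contra hge
          push Not at hge
          exact hlt2.ne (Subgroup.eq_of_le_of_card_ge hlt2.le hge)
        constructor
        · exact hbig _ (hRp.to_le (hW.le G R)) (hW.ne_bot G R hRp hRne) _ hSp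
            (inf_le_right.trans (hW.normalizer_le R)) hcardlt
        · refine NPC.of_le (Subgroup.centralizer_le_normalizer _) ?_
          exact hbig _ (hRp.to_le inf_le_left) (inf_centralizer_ne_bot_of_isPGroup R hRp hRne) _ hSp
            (inf_le_right.trans (normalizer_le_normalizer_zsub R)) hcardlt
    have hThN : FHyp WJ p ↥N (R₀ : Subgroup N) := by
      apply FHyp.subgroup hW N
      rw [← hRdef]; exact hThR.1
    have hThNZ : ZHyp p ↥N (R₀ : Subgroup N) := by
      apply ZHyp.subgroup N
      rw [← hRdef]; exact hThR.2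
    have hNlt : Nat.card N < n := by
      rw [← hn]
      rcases lt_or_eq_of_le (Subgroup.card_le_card_group N) with h | h
      · exact h
      · exact absurd ((Subgroup.card_eq_iff_eq_top N).mp h) hN
    exact hQnpc (ih _ hNlt ↥N rfl (hΦsub G N hΦ) R₀ hThN hThNZ)
  have hNtop : normalizer (Q : Set G) = ⊤ := Subgroup.normalizer_eq_top Q
  obtain ⟨P, hQP⟩ := hQp.exists_le_sylow
  have hTh := hall P
  have hOp : ∀ R : Subgroup G, R.Normal → IsPGroup p R → R ≤ Q := by
    intro R hRn hRp
    have hRQp : IsPGroup p ↥(R ⊔ Q) := IsPGroup.to_sup_of_normal_right hRp hQp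
    have hRQn : (R ⊔ Q).Normal := inferInstance
    have hRQne : R ⊔ Q ≠ ⊥ := by
      intro h; apply hQne; rw [eq_bot_iff, ← h]; exact le_sup_right
    have hNtop' : normalizer ((R ⊔ Q : Subgroup G) : Set G) = ⊤ := Subgroup.normalizer_eq_top _
    have h1 : Nat.card ↥(R ⊔ Q) ≤ Nat.card Q := by
      apply hM2 _ hRQp hRQne
      · rw [hNtop']; rw [hNtop] at hQnpc; exact hQnpc
      · rw [hNtop', hNtop]
    have h2 : Q = R ⊔ Q := Subgroup.eq_of_le_of_card_ge le_sup_right h1
    rw [h2]; exact le_sup_left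
  have hPcard : Nat.card (P : Subgroup G) = p ^ (Nat.card G).factorization p :=
    P.card_eq_multiplicity
  have hquot : NPC p (G ⧸ Q) := by
    by_cases hPbar : (P : Subgroup G).map (QuotientGroup.mk' Q) = ⊥
    · apply NPC.of_coprime
      have h1 : (P : Subgroup G) ≤ Q := by
        rw [← QuotientGroup.ker_mk' Q]
        exact (Subgroup.map_eq_bot_iff _).mp hPbar
      have h2 : Q = (P : Subgroup G) := le_antisymm hQP h1
      have h3 : ¬ p ∣ Q.index := by rw [h2]; exact P.not_dvd_index
      rw [← Subgroup.index_eq_card]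
      exact ((Nat.Prime.coprime_iff_not_dvd hp.out).mpr h3).symm
    · have hlt : Nat.card (G ⧸ Q) < n := by
        have h2 := Subgroup.card_eq_card_quotient_mul_card_subgroup Q
        have h3 : 1 < Nat.card Q := by
          rcases Nat.lt_or_ge 1 (Nat.card Q) with h | h
          · exact h
          · exfalso
            apply hQne
            have hpos : 0 < Nat.card Q := Nat.card_pos
            exact Subgroup.card_eq_one.mp (by omega)
        have hpos : 0 < Nat.card (G ⧸ Q) := Nat.card_pos
        rw [← hn, h2]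
        nlinarith
      have hkey : ∀ K : Subgroup G, Q ≤ K → K ≤ (P : Subgroup G) →
          (P : Subgroup G) ≤ normalizer (K : Set G) → K ≠ Q →
          NPC p ↥(normalizer (K : Set G)) := by
        intro K hQK hKP hPK hKQ
        by_contra hnpc
        have hKp : IsPGroup p K := P.isPGroup'.to_le hKP
        have hKne : K ≠ ⊥ := by
          intro h; apply hQne; rw [eq_bot_iff, ← h]; exact hQK
        have h1 : Nat.card K ≤ Nat.card Q := by
          apply hM2 K hKp hKne hnpc
          rw [hNtop, Subgroup.card_top]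
          have h2 := card_le_pow_factorization (normalizer (K : Set G)) (P : Subgroup G)
            P.isPGroup' hPK
          rw [hPcard] at h2
          exact (Nat.pow_le_pow_iff_right hp.out.one_lt).mp h2
        exact hKQ (Subgroup.eq_of_le_of_card_ge hQK h1).symm
      refine ih _ hlt (G ⧸ Q) rfl (hΦquot G Q hΦ)
        (P.mapSurjective (QuotientGroup.mk'_surjective Q)) ?_ ?_
      · rw [Sylow.coe_mapSurjective]
        exact FHyp.quotient_of_normalizers hW Q (P : Subgroup G) hQP P.isPGroup' hkey hPbar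
      · rw [Sylow.coe_mapSurjective]
        exact ZHyp.quotient_of_normalizers Q (P : Subgroup G) hQP P.isPGroup' hkey hPbar
  have hmaxNPC : ∀ M : Subgroup G, (P : Subgroup G) ≤ M → M ≠ ⊤ → NPC p ↥M := by
    intro M hPM hM
    have hMlt : Nat.card M < n := by
      rw [← hn]
      rcases lt_or_eq_of_le (Subgroup.card_le_card_group M) with h | h
      · exact h
      · exact absurd ((Subgroup.card_eq_iff_eq_top M).mp h) hM
    refine ih _ hMlt ↥M rfl (hΦsub G M hΦ) (P.subtype hPM) ?_ ?_
    · apply FHyp.subgroup hW M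
      rw [Sylow.coe_subtype, Subgroup.map_subgroupOf_eq_of_le hPM]
      exact hTh.1
    · apply ZHyp.subgroup M
      rw [Sylow.coe_subtype, Subgroup.map_subgroupOf_eq_of_le hPM]
      exact hTh.2
  haveI := hQn
  exact hfinal G P Q hΦ hQP hOp hOp' hquot hmaxNPC hTh.1 hTh.2 hG

end induction

end Cfsg.Agent.Lib.Helper1.ThompsonA
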