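import Mathlib
import Cfsg.Agent.Lib.Helper1.ThompsonA1
import Cfsg.Agent.Lib.Lead.QuadStable

/-!
# Thompson's normal `p`-complement theorem, abelian version of `J`: the final configuration
(helper1)

* `false_of_JA_le`: in the final configuration `J_a(P) ≤ Q` is contradictory.
* `final_odd`: the final configuration is contradictory for odd `p` (via `Z(J(P)) ⊴ G`).
-/

set_option autoImplicit false

universe u

namespace Cfsg.Agent.Lib.Helper1.ThompsonA

open Subgroup
open Cfsg.Agent.Lib.Helper13 Cfsg.Agent.Lib.Lead.GlaubermanRepl Cfsg.Agent.Lib.Lead.FunctorNPC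
open Cfsg.Agent.Lib.Lead.ZJFunctor

section final

variable {G : Type u} [Group G] [Finite G] {p : ℕ} [hp : Fact p.Prime]

omit hp in
/-- `J_a(P) ≤ Q ≤ P` implies `J_a(Q) = J_a(P)` -/
theorem JA_eq_of_le {P Q : Subgroup G} (hQP : Q ≤ P) (hJ : JA P ≤ Q) : JA Q = JA P := by
  obtain ⟨A₀, hA₀⟩ := maxAbIn_nonempty P
  have hA₀Q : A₀ ≤ Q := (le_JA hA₀).trans hJ
  obtain ⟨-, hsub⟩ := maxAbIn_mono hA₀ hA₀Q hQP
  apply le_antisymm
  · exact sSup_le (fun A hA => le_JA (hsub hA))
  · apply sSup_le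
    intro A hA
    exact le_JA (maxAbIn_mono hA ((le_JA hA).trans hJ) hQP).1

/-- in the final configuration, `J_a(P) ≤ Q` is impossible -/
theorem false_of_JA_le (P : Sylow p G) (Q : Subgroup G) [hQn : Q.Normal]
    (hQP : Q ≤ (P : Subgroup G)) (hJ : JA (P : Subgroup G) ≤ Q)
    (hN : FHyp WJ p G (P : Subgroup G)) (hG : ¬ NPC p G) : False := by
  have hW := WJ_good.{u} p
  have h1 : normalizer (Q : Set G) ≤ normalizer (WJ G Q : Set G) := hW.normalizer_le Q
  rw [Subgroup.normalizer_eq_top] at h1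
  have h2 : WJ G Q = WJ G (P : Subgroup G) := JA_eq_of_le hQP hJ
  rw [h2] at h1
  have h3 : normalizer (WJ G (P : Subgroup G) : Set G) = ⊤ := top_le_iff.mp h1
  unfold FHyp at hN
  rw [h3] at hN
  exact hG (NPC.of_top hN)

/-- the final configuration for odd `p` -/
theorem final_odd (hp2 : p ≠ 2) (P : Sylow p G) (Q : Subgroup G) [hQn : Q.Normal]
    (hQP : Q ≤ (P : Subgroup G))
    (hOp : ∀ R : Subgroup G, R.Normal → IsPGroup p R → R ≤ Q)
    (hOp' : ∀ K : Subgroup G, K.Normal → (Nat.card K).Coprime p → K = ⊥)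
    (hquot : NPC p (G ⧸ Q))
    (hmaxNPC : ∀ M : Subgroup G, (P : Subgroup G) ≤ M → M ≠ ⊤ → NPC p ↥M)
    (hN : FHyp WJ p G (P : Subgroup G)) (hZ : ZHyp p G (P : Subgroup G)) (hG : ¬ NPC p G) :
    False := by
  have hcent := centralizer_le_of_config Q hOp hOp' hquot
  have hmax : ∀ M : Subgroup G, (P : Subgroup G) ≤ M → M ≠ ⊤ → M = P :=
    fun M h1 h2 => eq_sylow_of_le_of_npc P Q hQP hcent M h1 (hmaxNPC M h1 h2)
  have hPtop : (P : Subgroup G) ≠ ⊤ := by
    intro h
    apply hG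
    apply NPC.of_isPGroup
    have h1 : IsPGroup p ↥(⊤ : Subgroup G) := h ▸ P.isPGroup'
    exact h1.of_equiv Subgroup.topEquiv
  have hcoatom : IsCoatom (P : Subgroup G) := by
    refine ⟨hPtop, ?_⟩
    intro M hlt
    by_contra hM
    exact hlt.ne (hmax M hlt.le hM).symm
  haveI hZJn : (ZJ (P : Subgroup G)).Normal :=
    Cfsg.Agent.Lib.Lead.QuadStable.ZJ_normal_of_coatom hp2 P Q hQP hOp hcent hquot hcoatom
  haveI hCn : (centralizer (ZJ (P : Subgroup G) : Set G)).Normal := Subgroup.normal_centralizer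
  have hCle : centralizer (ZJ (P : Subgroup G) : Set G) ≤
      centralizer ((((P : Subgroup G) ⊓ centralizer ((P : Subgroup G) : Set G) : Subgroup G)) : Set G) :=
    Subgroup.centralizer_le (center_le_ZJ (P : Subgroup G))
  have hCnpc : NPC p ↥(centralizer (ZJ (P : Subgroup G) : Set G)) := NPC.of_le hCle hZ
  have hCp := isPGroup_of_normal_of_npc _ hCnpc hOp'
  have hCQ : centralizer (ZJ (P : Subgroup G) : Set G) ≤ Q := hOp _ hCn hCp
  have hJC : JA (P : Subgroup G) ≤ centralizer (ZJ (P : Subgroup G) : Set G) := by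
    intro x hx
    rw [Subgroup.mem_centralizer_iff]
    intro z hz
    have hz2 : z ∈ centralizer (JA (P : Subgroup G) : Set G) := (Subgroup.mem_inf.mp hz).2
    exact ((Subgroup.mem_centralizer_iff.mp hz2) x hx).symm
  exact false_of_JA_le P Q hQP (hJC.trans hCQ) hN hG

end final

end Cfsg.Agent.Lib.Helper1.ThompsonA
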