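import Mathlib
import Cfsg.Agent.Lib.Helper1.ThompsonA1
import Cfsg.Agent.Lib.Lead.ThompsonRepl
import Cfsg.Agent.S0598

/-!
# From an abelian subgroup of maximal order to a quadratic best offender (helper1)

`V ⊴ G` elementary abelian `2`-group inside the `2`-group `P`, `A` an abelian subgroup of `P` of
maximal order not centralizing `V`.  Then `A* = C_A([V, A])` is a best offender on `V` (in the
sense of `Cfsg.IsBestOffenderOn`) which does not centralize `V`.
-/

set_option autoImplicit false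

namespace Cfsg.Agent.Lib.Helper1.ThompsonA

open Subgroup
open scoped commutatorElement
open Cfsg.Agent.S0598 (cv mm)
open Cfsg.Agent.Lib.Lead.GlaubermanRepl

variable {G : Type*} [Group G] [Finite G]

/-- the Thompson product is maximal at an abelian subgroup of maximal order -/
theorem mm_le_of_maxAbIn (V P A : Subgroup G) (hVc : ∀ x ∈ V, ∀ y ∈ V, x * y = y * x)
    (hVP : V ≤ P) (hA : A ∈ maxAbIn P) (B : Subgroup G) (hBA : B ≤ A) : mm V B ≤ mm V A := by
  obtain ⟨hAP, hAc, hAmax⟩ := hA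
  have hBc : ∀ a ∈ B, ∀ b ∈ B, a * b = b * a := fun a ha b hb => hAc a (hBA ha) b (hBA hb)
  have hCc : ∀ a ∈ cv V B, ∀ b ∈ cv V B, a * b = b * a :=
    fun a ha b hb => hVc a (Subgroup.mem_inf.mp ha).1 b (Subgroup.mem_inf.mp hb).1
  have hBC : ∀ a ∈ B, ∀ b ∈ cv V B, a * b = b * a := by
    intro a ha b hb
    exact (Subgroup.mem_centralizer_iff.mp (Subgroup.mem_inf.mp hb).2 a ha)
  have hsupc := comm_sup hBc hCc hBC
  have hsupP : B ⊔ cv V B ≤ P := sup_le (hBA.trans hAP) (inf_le_left.trans hVP)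
  have h1 : Nat.card (B ⊔ cv V B : Subgroup G) ≤ Nat.card A := hAmax _ hsupP hsupc
  have h2 := Cfsg.Agent.S0598.card_mul_card_le B (cv V B)
  have h3 : B ⊓ cv V B ≤ cv V A := by
    intro x hx
    obtain ⟨hxB, hxC⟩ := Subgroup.mem_inf.mp hx
    refine Subgroup.mem_inf.mpr ⟨(Subgroup.mem_inf.mp hxC).1, ?_⟩
    rw [Subgroup.mem_centralizer_iff]
    intro a ha
    exact hAc a ha x (hBA hxB)
  have h4 : Nat.card (B ⊓ cv V B : Subgroup G) ≤ Nat.card (cv V A) := Subgroup.card_le_of_le h3
  unfold mm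
  calc Nat.card B * Nat.card (cv V B)
      ≤ Nat.card (B ⊓ cv V B : Subgroup G) * Nat.card (B ⊔ cv V B : Subgroup G) := h2
    _ ≤ Nat.card (cv V A) * Nat.card A := Nat.mul_le_mul h4 h1
    _ = Nat.card A * Nat.card (cv V A) := mul_comm _ _

/-- **Replacement**: a quadratic best offender inside an abelian subgroup of maximal order. -/
theorem exists_bestOffender (V P A : Subgroup G) [hVn : V.Normal]
    (hV : Cfsg.IsElementaryAbelian 2 V) (hP : IsPGroup 2 P) (hVP : V ≤ P) (hA : A ∈ maxAbIn P)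
    (hAV : ¬ A ≤ centralizer (V : Set G)) :
    ∃ B : Subgroup G, B ≤ A ∧ Cfsg.IsBestOffenderOn 2 V B ∧ ¬ B ≤ centralizer (V : Set G) := by
  haveI : Fact (Nat.Prime 2) := ⟨Nat.prime_two⟩
  have hVc := Cfsg.Agent.Lib.Lead.ThompsonRepl.comm_of_elementaryAbelian hV
  have hVp : IsPGroup 2 V := hP.to_le hVP
  have hAp : IsPGroup 2 A := hP.to_le hA.1
  have hAn : A ≤ normalizer (V : Set G) := by rw [Subgroup.normalizer_eq_top]; exact le_top
  have hAA : ⁅A, A⁆ = ⊥ := by
    rw [Subgroup.commutator_eq_bot_iff_le_centralizer]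
    intro a ha
    rw [Subgroup.mem_centralizer_iff]
    intro b hb
    exact hA.2.1 b hb a ha
  have hab : ⁅A, A⁆ ≤ centralizer (V : Set G) := by rw [hAA]; exact bot_le
  have hmax := mm_le_of_maxAbIn V P A hVc hVP hA
  obtain ⟨hmm, hcv⟩ := Cfsg.Agent.S0598.replacement V A V hVc hAn hab le_rfl hmax
  refine ⟨A ⊓ centralizer ((⁅V, A⁆ : Subgroup G) : Set G), inf_le_left, ⟨?_, ?_, ?_⟩, ?_⟩
  · intro C hC
    have := hmax C (hC.trans inf_le_left)
    unfold mm cv at this hmm
    rw [hmm]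
    exact this
  · refine le_trans (Subgroup.commutator_mono inf_le_left inf_le_left) hab
  · intro a ha
    obtain ⟨haA, haC⟩ := Subgroup.mem_inf.mp ha
    rw [Subgroup.mem_centralizer_iff]
    intro v hv
    obtain ⟨c, hc⟩ : ∃ c : G, c = ⁅v, a⁆ := ⟨_, rfl⟩
    have hcV : c ∈ V := by
      rw [hc, commutatorElement_def]
      have e : v * a * v⁻¹ * a⁻¹ = v * (a * v⁻¹ * a⁻¹) := by group
      rw [e]
      exact V.mul_mem hv (hVn.conj_mem _ (V.inv_mem hv) a)
    have hcA : c * a = a * c := by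
      rw [hc]
      exact Subgroup.mem_centralizer_iff.mp haC _ (Subgroup.commutator_mem_commutator hv haA)
    have hc2 : c * c = 1 := by rw [← pow_two]; exact hV.2 _ hcV
    have h1 : v * a = a * c * v := by
      rw [← hcA, hc, commutatorElement_def]; group
    calc v * a ^ 2 = (v * a) * a := by rw [pow_two, mul_assoc]
      _ = a * c * v * a := by rw [h1]
      _ = a * c * (v * a) := by simp only [mul_assoc]
      _ = a * c * (a * c * v) := by rw [h1]
      _ = a * (c * a) * c * v := by simp only [mul_assoc]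
      _ = a * (a * c) * c * v := by rw [hcA]
      _ = a * a * (c * c) * v := by simp only [mul_assoc]
      _ = a ^ 2 * v := by rw [hc2, mul_one, pow_two]
  · intro hB
    apply hAV
    have hcvB : cv V (A ⊓ centralizer ((⁅V, A⁆ : Subgroup G) : Set G)) = V := by
      apply le_antisymm inf_le_left
      exact le_inf le_rfl (Subgroup.le_centralizer_iff.mp hB)
    rw [hcvB] at hcv
    obtain ⟨h1, h2⟩ := Cfsg.Agent.Lib.Lead.ThompsonRepl.commutator_le_commutator_of_eq_sup V A
      ⁅V, A⁆ hVc hAn le_rfl hcv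
    have h3 := Cfsg.Agent.Lib.Lead.ThompsonRepl.eq_bot_of_le_commutator V A ⁅V, A⁆ hVp hAp hAn h2 h1
    rw [Subgroup.commutator_eq_bot_iff_le_centralizer] at h3
    exact Subgroup.le_centralizer_iff.mp h3

end Cfsg.Agent.Lib.Helper1.ThompsonA
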