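import Mathlib
import Cfsg.Agent.Lib.Helper1.ThompsonA2
import Cfsg.Agent.Lib.Helper1.ThompsonA4
import Cfsg.Agent.Lib.Helper1.ThompsonA6
import Cfsg.Agent.Lib.Helper11.QuadFree2

/-!
# Thompson's normal `p`-complement theorem, abelian version of `J` (helper1)

The final configuration for `p = 2` in an `S₄`-free group, and the theorem.
-/

set_option autoImplicit false

universe u

namespace Cfsg.Agent.Lib.Helper1.ThompsonA

open Subgroup
open scoped commutatorElement
open Cfsg.Agent.Lib.Helper13 Cfsg.Agent.Lib.Lead.GlaubermanRepl Cfsg.Agent.Lib.Lead.FunctorNPC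
open Cfsg.Agent.Lib.Lead.ZJFunctor

section aux

variable {G : Type*} [Group G] [Finite G] {p : ℕ} [hp : Fact p.Prime]

/-- a chain `1 ≤ Q ≤ T ≤ G` with factors `p`, `p'`, `p` -/
theorem isPSolvable_of_chain3 (Q T : Subgroup G) (hQn : Q.Normal) (hTn : T.Normal) (hQT : Q ≤ T)
    (hQ : IsPGroup p Q) (hTQ : (Q.relIndex T).Coprime p) (hT : ∃ m : ℕ, T.index = p ^ m) :
    Cfsg.IsPSolvable p G := by
  refine ⟨3, ![⊥, Q, T, ⊤], rfl, rfl, ?_, ?_, ?_⟩
  · rw [Fin.monotone_iff_le_succ]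
    intro i
    fin_cases i
    · exact bot_le
    · exact hQT
    · exact le_top
  · intro i
    fin_cases i
    · exact Subgroup.normal_bot
    · exact hQn
    · exact hTn
    · exact Subgroup.normal_top
  · intro i
    fin_cases i
    · left
      obtain ⟨k, hk⟩ := IsPGroup.iff_card.mp hQ
      refine ⟨k, ?_⟩
      show (⊥ : Subgroup G).relIndex Q = p ^ k
      rw [Subgroup.relIndex_bot_left, hk]
    · right
      exact hTQ
    · left
      obtain ⟨m, hm⟩ := hT
      refine ⟨m, ?_⟩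
      show T.relIndex ⊤ = p ^ m
      rw [Subgroup.relIndex_top_right, hm]

/-- `T / Q` of exponent prime to `p` has order prime to `p` -/
theorem relIndex_coprime_of_exponent (Q T : Subgroup G) [hQn : Q.Normal] (m : ℕ) (hm : m.Coprime p)
    (hTm : ∀ y ∈ T, y ^ m ∈ Q) : (Q.relIndex T).Coprime p := by
  rw [Nat.coprime_comm, Nat.Prime.coprime_iff_not_dvd hp.out]
  intro hdvd
  haveI : (Q.subgroupOf T).Normal := hQn.subgroupOf T
  have h1 : p ∣ Nat.card (↥T ⧸ Q.subgroupOf T) := by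
    rw [← Subgroup.index_eq_card]; exact hdvd
  obtain ⟨x, hx⟩ := exists_prime_orderOf_dvd_card' p h1
  obtain ⟨y, rfl⟩ := QuotientGroup.mk'_surjective (Q.subgroupOf T) x
  have h2 : (QuotientGroup.mk' (Q.subgroupOf T) y) ^ m = 1 := by
    rw [← map_pow, ← MonoidHom.mem_ker, QuotientGroup.ker_mk', Subgroup.mem_subgroupOf]
    exact hTm y y.2
  have h3 : p ∣ m := by
    rw [← hx]; exact orderOf_dvd_of_pow_eq_one h2
  have h4 : p ∣ Nat.gcd m p := Nat.dvd_gcd h3 dvd_rfl
  rw [hm] at h4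
  exact hp.out.one_lt.ne' (Nat.dvd_one.mp h4)

/-- `G = T P` with `T ⊴ G` and `P` a `p`-group: `|G : T|` is a power of `p` -/
theorem index_eq_pow_of_sup (T P : Subgroup G) [hTn : T.Normal] (hP : IsPGroup p P)
    (hsup : T ⊔ P = ⊤) : ∃ m : ℕ, T.index = p ^ m := by
  have h1 : T.relIndex (T ⊔ P) = T.relIndex P := Subgroup.relIndex_sup_left P T
  rw [hsup, Subgroup.relIndex_top_right] at h1
  obtain ⟨n, hn⟩ := IsPGroup.iff_card.mp hP
  have h2 : T.relIndex P ∣ Nat.card P := Subgroup.relIndex_dvd_card _ _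
  rw [hn, ← h1] at h2
  obtain ⟨j, -, hj⟩ := (Nat.dvd_prime_pow hp.out).mp h2
  exact ⟨j, hj⟩

/-- if every normal `p`-subgroup lies in the normal `p`-subgroup `N`, then `O_p(G / N) = 1` -/
theorem pCore_quotient_eq_bot (N : Subgroup G) [hNn : N.Normal] (hNp : IsPGroup p N)
    (hOp : ∀ R : Subgroup G, R.Normal → IsPGroup p R → R ≤ N) : Cfsg.pCore p (G ⧸ N) = ⊥ := by
  have hXn := Cfsg.Agent.Lib.Helper16.pCore_normal p (G ⧸ N)
  have hXp := Cfsg.Agent.Lib.Helper16.pCore_isPGroup p (G ⧸ N)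
  have hYn : ((Cfsg.pCore p (G ⧸ N)).comap (QuotientGroup.mk' N)).Normal := hXn.comap _
  have hYp : IsPGroup p ↥((Cfsg.pCore p (G ⧸ N)).comap (QuotientGroup.mk' N)) := by
    apply hXp.comap_of_ker_isPGroup
    rw [QuotientGroup.ker_mk']
    exact hNp
  have hY := hOp _ hYn hYp
  rw [eq_bot_iff]
  intro x hx
  obtain ⟨g, rfl⟩ := QuotientGroup.mk'_surjective N x
  have hg : g ∈ N := hY (Subgroup.mem_comap.mpr hx)
  rw [Subgroup.mem_bot, ← MonoidHom.mem_ker, QuotientGroup.ker_mk']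
  exact hg

end aux

section final

variable {G : Type u} [Group G] [Finite G]

/-- the final configuration for `p = 2` in an `S₄`-free group -/
theorem final_two [Fact (Nat.Prime 2)] (P : Sylow 2 G) (Q : Subgroup G) [hQn : Q.Normal]
    (hfree : ¬ Cfsg.Involves (Equiv.Perm (Fin 4)) G)
    (hQP : Q ≤ (P : Subgroup G))
    (hOp : ∀ R : Subgroup G, R.Normal → IsPGroup 2 R → R ≤ Q)
    (hOp' : ∀ K : Subgroup G, K.Normal → (Nat.card K).Coprime 2 → K = ⊥)
    (hquot : NPC 2 (G ⧸ Q))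
    (hmaxNPC : ∀ M : Subgroup G, (P : Subgroup G) ≤ M → M ≠ ⊤ → NPC 2 ↥M)
    (hN : FHyp WJ 2 G (P : Subgroup G)) (hZ : ZHyp 2 G (P : Subgroup G)) (hG : ¬ NPC 2 G) :
    False := by
  have hcent := centralizer_le_of_config Q hOp hOp' hquot
  have hmax : ∀ M : Subgroup G, (P : Subgroup G) ≤ M → M ≠ ⊤ → M = P :=
    fun M h1 h2 => eq_sylow_of_le_of_npc P Q hQP hcent M h1 (hmaxNPC M h1 h2)
  obtain ⟨T, hTn, hQT, hsup, hTcomm, m, hm, hTm⟩ := exists_T P Q hQP hquot hG hmax
  have hQp : IsPGroup 2 Q := P.isPGroup'.to_le hQP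
  obtain ⟨V, hVdef⟩ : ∃ V : Subgroup G, V = omegaZ 2 Q := ⟨_, rfl⟩
  haveI hVn : V.Normal := by rw [hVdef]; exact omegaZ_normal Q
  have hVc : IsMulCommutative V := by rw [hVdef]; exact omegaZ_comm Q
  have hVp : ∀ a ∈ V, a ^ 2 = 1 := by
    intro a ha; rw [hVdef] at ha; exact ((mem_omegaZ Q a).mp ha).2
  have hQCV : Q ≤ centralizer (V : Set G) := by rw [hVdef]; exact le_centralizer_omegaZ Q
  have hCVQ : centralizer (V : Set G) ≤ Q := by
    rw [hVdef]; exact centralizer_omegaZ_le P Q hQP hOp hOp' hcent hZ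
  have hCeq : centralizer (V : Set G) = Q := le_antisymm hCVQ hQCV
  have hVQ : V ≤ Q := by
    intro v hv; rw [hVdef] at hv
    exact (Subgroup.mem_inf.mp ((mem_omegaZ Q v).mp hv).1).1
  have hVea : Cfsg.IsElementaryAbelian 2 V := ⟨hVc, hVp⟩
  have hVab : V ≤ centralizer (V : Set G) := hVQ.trans hQCV
  -- an abelian subgroup of maximal order outside `Q`
  obtain ⟨A, hA, hAQ⟩ : ∃ A ∈ maxAbIn (P : Subgroup G), ¬ A ≤ Q := by
    by_contra hno
    push Not at hno
    have hJQ : JA (P : Subgroup G) ≤ Q := sSup_le hno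
    exact false_of_JA_le P Q hQP hJQ hN hG
  have hAV : ¬ A ≤ centralizer (V : Set G) := by rw [hCeq]; exact hAQ
  obtain ⟨B, -, hBbo, hBV⟩ :=
    exists_bestOffender V (P : Subgroup G) A hVea P.isPGroup' (hVQ.trans hQP) hA hAV
  -- `G` is `2`-soluble
  have hsep : Cfsg.IsPSolvable 2 G :=
    isPSolvable_of_chain3 Q T hQn hTn hQT hQp (relIndex_coprime_of_exponent Q T m hm hTm)
      (index_eq_pow_of_sup T (P : Subgroup G) P.isPGroup' hsup)
  have hO : Cfsg.pCore 2 (G ⧸ centralizer (V : Set G)) = ⊥ := by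
    haveI : (centralizer (V : Set G)).Normal := Subgroup.normal_centralizer
    apply pCore_quotient_eq_bot
    · rw [hCeq]; exact hQp
    · intro R hRn hRp
      rw [hCeq]; exact hOp R hRn hRp
  obtain ⟨E, hEH, hE6, hW4, hbot, hWV, hEW⟩ := exists_S3_plane V hVea hsep hO B hBbo hBV
  have hQ2 : IsPGroup 2 ↥(centralizer (V : Set G)) := by rw [hCeq]; exact hQp
  exact hfree (involves_perm4_of_plane V hVab hQ2 E hEH hE6 hW4 hbot hWV hEW)

end final

section main

/-- **Thompson's normal `p`-complement theorem**, abelian version of `J`, for `p` odd or `G`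
`S₄`-free. -/
theorem thompsonA {G : Type u} [Group G] [Finite G] {p : ℕ} [hp : Fact p.Prime] (S : Sylow p G)
    (h : p ≠ 2 ∨ ¬ Cfsg.Involves (Equiv.Perm (Fin 4)) G)
    (hN : NPC p ↥(normalizer (JA (S : Subgroup G) : Set G)))
    (hZ : NPC p ↥(centralizer ((((S : Subgroup G) ⊓ centralizer ((S : Subgroup G) : Set G) :
      Subgroup G)) : Set G))) : NPC p G := by
  by_cases hp2 : p = 2
  · subst hp2
    have hfree : ¬ Cfsg.Involves (Equiv.Perm (Fin 4)) G := by
      rcases h with h | h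
      · exact absurd rfl h
      · exact h
    refine thompsonA_aux (p := 2) (fun H _ => ¬ Cfsg.Involves (Equiv.Perm (Fin 4)) H) ?_ ?_ ?_
      _ G rfl hfree S hN hZ
    · intro H _ M hH hM
      exact hH (Cfsg.Agent.Lib.Helper11.QuadFree.involves_of_subgroup M hM)
    · intro H _ K _ hH hK
      exact hH (Cfsg.Agent.Lib.Helper11.QuadFree.involves_of_surjective_hom (QuotientGroup.mk' K)
        (QuotientGroup.mk'_surjective K) hK)
    · intro G' _ _ P Q _ hΦ hQP hOp hOp' hquot hmaxNPC hN' hZ' hG'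
      exact final_two P Q hΦ hQP hOp hOp' hquot hmaxNPC hN' hZ' hG'
  · refine thompsonA_aux (p := p) (fun _ _ => True) ?_ ?_ ?_ _ G rfl trivial S hN hZ
    · intro H _ M _
      trivial
    · intro H _ K _ _
      trivial
    · intro G' _ _ P Q _ _ hQP hOp hOp' hquot hmaxNPC hN' hZ' hG'
      exact final_odd hp2 P Q hQP hOp hOp' hquot hmaxNPC hN' hZ' hG'

end main

end Cfsg.Agent.Lib.Helper1.ThompsonA
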